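import Groth.Agent.EtSite.Points
import Groth.Agent.Weighting.Local
import Mathlib.CategoryTheory.CofilteredSystem
import Mathlib.AlgebraicGeometry.Morphisms.QuasiFinite

/-!
# Every point of the small étale site is geometric
-/

set_option autoImplicit false
universe u

open CategoryTheory CategoryTheory.Limits AlgebraicGeometry Opposite Groth.Agent.Weighting

namespace Groth.Agent.EtSite.AllPoints

variable {S : Scheme.{u}}

/-- Lift through an open subscheme. -/
noncomputable def openLift {T X : Scheme.{u}} (W : X.Opens) (f : T ⟶ X)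
    (h : Set.range f.base ⊆ (W : Set X)) : T ⟶ W :=
  IsOpenImmersion.lift W.ι f (by rw [Scheme.Opens.range_ι]; exact h)

theorem openLift_ι {T X : Scheme.{u}} (W : X.Opens) (f : T ⟶ X)
    (h : Set.range f.base ⊆ (W : Set X)) : openLift W f h ≫ W.ι = f :=
  IsOpenImmersion.lift_fac _ _ _

theorem openLift_ι_assoc {T X Y : Scheme.{u}} (W : X.Opens) (f : T ⟶ X)
    (h : Set.range f.base ⊆ (W : Set X)) (g : X ⟶ Y) : openLift W f h ≫ W.ι ≫ g = f ≫ g := by
  rw [← Category.assoc, openLift_ι]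

/-- An open subscheme as an object of the small étale site. -/
noncomputable def res (U : S.Etale) (W : U.left.Opens) : S.Etale :=
  MorphismProperty.Over.mk ⊤ (W.ι ≫ U.hom) inferInstance

noncomputable def resι (U : S.Etale) (W : U.left.Opens) : res U W ⟶ U :=
  MorphismProperty.Over.homMk W.ι rfl trivial

theorem range_resι (U : S.Etale) (W : U.left.Opens) :
    Set.range (resι U W).left.base = (W : Set U.left) := W.range_ι

noncomputable def resLift {Z U : S.Etale} (f : Z ⟶ U) (W : U.left.Opens)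
    (h : Set.range f.left.base ⊆ (W : Set U.left)) : Z ⟶ res U W :=
  MorphismProperty.Over.homMk (openLift W f.left h)
    ((openLift_ι_assoc W f.left h U.hom).trans (Over.w f.toCommaMorphism)) trivial

theorem resLift_ι {Z U : S.Etale} (f : Z ⟶ U) (W : U.left.Opens)
    (h : Set.range f.left.base ⊆ (W : Set U.left)) : resLift f W h ≫ resι U W = f :=
  MorphismProperty.Over.Hom.ext (openLift_ι W f.left h)

/-- The locus where two morphisms of the small étale site agree. -/
theorem exists_eqLocus {V U : S.Etale} (a b : V ⟶ U) :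
    ∃ E : V.left.Opens, E.ι ≫ a.left = E.ι ≫ b.left ∧
      (IsSeparated U.hom → IsClosed (E : Set V.left)) ∧
      ∀ {T : Scheme.{u}} (t : T ⟶ V.left), t ≫ a.left = t ≫ b.left →
        Set.range t.base ⊆ (E : Set V.left) := by
  have hw : a.left ≫ U.hom = b.left ≫ U.hom :=
    (Over.w a.toCommaMorphism).trans (Over.w b.toCommaMorphism).symm
  let d := pullback.diagonal U.hom
  let m : V.left ⟶ pullback U.hom U.hom := pullback.lift a.left b.left hw
  let π := pullback.fst m d
  have : Etale U.hom := U.prop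
  have : IsOpenImmersion π := inferInstance
  have e : π ≫ a.left = π ≫ b.left := by
    have h1 : π ≫ m = pullback.snd m d ≫ d := pullback.condition
    have ha := congrArg (· ≫ pullback.fst U.hom U.hom) h1
    have hb := congrArg (· ≫ pullback.snd U.hom U.hom) h1
    simp only [m, d, Category.assoc, pullback.lift_fst, pullback.lift_snd, pullback.diagonal_fst,
      pullback.diagonal_snd, Category.comp_id] at ha hb
    exact ha.trans hb.symm
  refine ⟨π.opensRange, ?_, fun hs => ?_, fun {T} t ht => ?_⟩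
  · rw [← π.isoOpensRange_inv_comp, Category.assoc, Category.assoc, e]
  · have : IsClosedImmersion π := inferInstance
    exact π.isClosedEmbedding.isClosed_range
  · let t' : T ⟶ pullback m d := pullback.lift t (t ≫ a.left) (by
      refine pullback.hom_ext ?_ ?_
      · rw [Category.assoc, Category.assoc, pullback.lift_fst, pullback.diagonal_fst, Category.comp_id]
      · rw [Category.assoc, Category.assoc, pullback.lift_snd, pullback.diagonal_snd, Category.comp_id]
        exact ht.symm)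
    have : t' ≫ π = t := pullback.lift_fst _ _ _
    rw [← this]
    rintro _ ⟨y, rfl⟩
    exact ⟨t'.base y, (Scheme.Hom.comp_apply t' π y).symm⟩

theorem eq_of_pt_mem {V U : S.Etale} {a b : V ⟶ U} {E : V.left.Opens}
    (hE : E.ι ≫ a.left = E.ι ≫ b.left) {Ω : Type u} [Field Ω]
    (t : Spec (CommRingCat.of Ω) ⟶ V.left) (ht : pt t ∈ E) : t ≫ a.left = t ≫ b.left := by
  have h := openLift_ι E t (by rw [range_eq_pt]; exact Set.singleton_subset_iff.2 ht)
  rw [← h, Category.assoc, Category.assoc, hE]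

section Point

variable (p : GrothendieckTopology.Point.{u} S.smallEtaleTopology)

theorem exists_equalize {Z U : S.Etale} (a b : Z ⟶ U) (c : p.fiber.obj Z)
    (h : p.fiber.map a c = p.fiber.map b c) :
    ∃ (Z' : S.Etale) (g : Z' ⟶ Z) (c' : p.fiber.obj Z'), p.fiber.map g c' = c ∧ g ≫ a = g ≫ b := by
  obtain ⟨⟨Z', c'⟩, g, hg⟩ := IsCofilteredOrEmpty.cone_maps (C := p.fiber.Elements)
    (X := ⟨Z, c⟩) (Y := ⟨U, p.fiber.map a c⟩) (CategoryOfElements.homMk _ _ a rfl)
    (CategoryOfElements.homMk _ _ b h.symm)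
  exact ⟨Z', g.1, c', g.2, congrArg Subtype.val hg⟩

/-- `v` comes from the open `W`. -/
def Mem {U : S.Etale} (v : p.fiber.obj U) (W : U.left.Opens) : Prop :=
  ∃ a : p.fiber.obj (res U W), p.fiber.map (resι U W) a = v

theorem mem_of_factor {Z U : S.Etale} (g : Z ⟶ U) (c : p.fiber.obj Z) (W : U.left.Opens)
    (h : Set.range g.left.base ⊆ (W : Set U.left)) : Mem p (p.fiber.map g c) W :=
  ⟨p.fiber.map (resLift g W h) c, by rw [← Functor.map_comp_apply, resLift_ι]⟩

theorem mem_mono {U : S.Etale} {v : p.fiber.obj U} {W W' : U.left.Opens} (hWW : W ≤ W')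
    (h : Mem p v W) : Mem p v W' := by
  obtain ⟨a, rfl⟩ := h
  exact mem_of_factor p _ a W' ((range_resι U W).le.trans hWW)

theorem mem_top {U : S.Etale} (v : p.fiber.obj U) : Mem p v ⊤ := by
  have := mem_of_factor p (𝟙 U) v ⊤ (by simp)
  rwa [Functor.map_id_apply] at this

theorem mem_inf {U : S.Etale} {v : p.fiber.obj U} {W W' : U.left.Opens}
    (h : Mem p v W) (h' : Mem p v W') : Mem p v (W ⊓ W') := by
  obtain ⟨a, rfl⟩ := h
  obtain ⟨a', ha'⟩ := h'
  obtain ⟨⟨Z, c⟩, g, g', -⟩ := IsCofilteredOrEmpty.cone_objs (C := p.fiber.Elements)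
    ⟨res U W, a⟩ ⟨res U W', a'⟩
  have hc : p.fiber.map (g.1 ≫ resι U W) c = p.fiber.map (g'.1 ≫ resι U W') c := by
    rw [Functor.map_comp_apply, Functor.map_comp_apply, g.2, g'.2]
    exact ha'.symm
  obtain ⟨Z', k, c', hk, hkk⟩ := exists_equalize p _ _ c hc
  have key := mem_of_factor p (k ≫ g.1 ≫ resι U W) c' (W ⊓ W') (by
    rintro _ ⟨z, rfl⟩
    refine ⟨?_, ?_⟩
    · rw [← Category.assoc]
      exact (range_resι U W).le ⟨_, (Scheme.Hom.comp_apply (k ≫ g.1).left (resι U W).left z).symm⟩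
    · rw [hkk, ← Category.assoc]
      exact (range_resι U W').le ⟨_, (Scheme.Hom.comp_apply (k ≫ g'.1).left (resι U W').left z).symm⟩)
  rwa [Functor.map_comp_apply, hk, Functor.map_comp_apply, g.2] at key

theorem mem_sSup {U : S.Etale} {v : p.fiber.obj U} {𝒲 : Set U.left.Opens}
    (h : Mem p v (sSup 𝒲)) : ∃ W ∈ 𝒲, Mem p v W := by
  obtain ⟨a, rfl⟩ := h
  let R : Sieve (res U (sSup 𝒲)) :=
    { arrows := fun Y g => ∃ W ∈ 𝒲, Set.range (g ≫ resι U _).left.base ⊆ (W : Set U.left)
      downward_closed := by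
        rintro Y Z g ⟨W, hW, hg⟩ k
        refine ⟨W, hW, ?_⟩
        rintro _ ⟨z, rfl⟩
        rw [Category.assoc]
        exact hg ⟨_, (Scheme.Hom.comp_apply k.left (g ≫ resι U _).left z).symm⟩ }
  have hR : R ∈ S.smallEtaleTopology _ := by
    refine mem_smallEtaleTopology_of_points _ _ fun x => ?_
    have hx : (resι U (sSup 𝒲)).left.base x ∈ sSup 𝒲 := (range_resι U _).le ⟨x, rfl⟩
    obtain ⟨W, hW, hxW⟩ := TopologicalSpace.Opens.mem_sSup.1 hx
    have hle : Set.range (resι U W).left.base ⊆ ((sSup 𝒲 : U.left.Opens) : Set U.left) :=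
      (range_resι U W).le.trans fun y hy => TopologicalSpace.Opens.mem_sSup.2 ⟨W, hW, hy⟩
    obtain ⟨y, hy⟩ := (range_resι U W).ge hxW
    refine ⟨_, resLift (resι U W) _ hle, y, ⟨W, hW, by rw [resLift_ι]; exact (range_resι U W).le⟩,
      ?_⟩
    refine (sSup 𝒲 : U.left.Opens).ι.isOpenEmbedding.injective ?_
    change _ = (resι U (sSup 𝒲)).left.base x
    rw [← hy]
    conv_rhs => rw [← resLift_ι (resι U W) _ hle]
    exact (Scheme.Hom.comp_apply (resLift (resι U W) _ hle).left (resι U _).left y).symm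
  obtain ⟨Z, g, ⟨W, hW, hg⟩, c, hc⟩ := p.jointly_surjective R hR a
  refine ⟨W, hW, ?_⟩
  have := mem_of_factor p (g ≫ resι U _) c W hg
  rwa [Functor.map_comp_apply, hc] at this

theorem exists_upt {U : S.Etale} (v : p.fiber.obj U) :
    ∃ x : U.left, ∀ W : U.left.Opens, Mem p v W ↔ x ∈ W := by
  let W₀ : U.left.Opens := sSup {W | ¬ Mem p v W}
  have h0 : ∀ W : U.left.Opens, Mem p v W ↔ ¬ W ≤ W₀ := by
    refine fun W => ⟨fun h hle => ?_, fun h => by_contra fun h' => h (le_sSup h')⟩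
    obtain ⟨W', hW', hm⟩ := mem_sSup p (mem_mono p hle h)
    exact hW' hm
  have hmeet : ∀ W : U.left.Opens, Mem p v W ↔
      ((W₀ : Set U.left)ᶜ ∩ (W : Set U.left)).Nonempty := by
    intro W
    rw [h0, ← SetLike.coe_subset_coe, Set.not_subset]
    exact ⟨fun ⟨x, a, b⟩ => ⟨x, b, a⟩, fun ⟨x, b, a⟩ => ⟨x, a, b⟩⟩
  have hirr : IsIrreducible ((W₀ : Set U.left)ᶜ) := by
    refine ⟨((hmeet ⊤).1 (mem_top p v)).mono Set.inter_subset_left, fun A B hA hB hAZ hBZ => ?_⟩
    have := mem_inf p ((hmeet ⟨A, hA⟩).2 hAZ) ((hmeet ⟨B, hB⟩).2 hBZ)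
    exact (hmeet _).1 this
  obtain ⟨x, hx⟩ := QuasiSober.sober hirr W₀.isOpen.isClosed_compl
  exact ⟨x, fun W => (hmeet W).trans (hx.mem_open_set_iff W.isOpen).symm⟩

/-- The point of `U` determined by an element of the fibre. -/
noncomputable def upt {U : S.Etale} (v : p.fiber.obj U) : U.left := (exists_upt p v).choose

theorem mem_iff {U : S.Etale} (v : p.fiber.obj U) (W : U.left.Opens) :
    Mem p v W ↔ upt p v ∈ W := (exists_upt p v).choose_spec W

theorem upt_map {U U' : S.Etale} (f : U ⟶ U') (v : p.fiber.obj U) :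
    upt p (p.fiber.map f v) = f.left.base (upt p v) := by
  refine Inseparable.eq (inseparable_iff_forall_isOpen.2 fun W hW => ?_)
  refine (mem_iff p (p.fiber.map f v) ⟨W, hW⟩).symm.trans ?_
  refine Iff.trans ?_ (mem_iff p v (f.left ⁻¹ᵁ ⟨W, hW⟩))
  constructor
  · rintro ⟨a, ha⟩
    obtain ⟨⟨Z, c⟩, g, g', -⟩ := IsCofilteredOrEmpty.cone_objs (C := p.fiber.Elements)
      ⟨U, v⟩ ⟨res U' ⟨W, hW⟩, a⟩
    have hc : p.fiber.map (g.1 ≫ f) c = p.fiber.map (g'.1 ≫ resι _ _) c := by
      rw [Functor.map_comp_apply, Functor.map_comp_apply, g.2, g'.2]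
      exact ha.symm
    obtain ⟨Z', k, c', hk, hkk⟩ := exists_equalize p _ _ c hc
    have key := mem_of_factor p (k ≫ g.1) c' (f.left ⁻¹ᵁ ⟨W, hW⟩) (by
      rintro _ ⟨z, rfl⟩
      have e : (k ≫ g.1) ≫ f = (k ≫ g'.1) ≫ resι U' ⟨W, hW⟩ :=
        (Category.assoc _ _ _).trans (hkk.trans (Category.assoc _ _ _).symm)
      have h2 : f.left.base ((k ≫ g.1).left.base z) =
          (resι U' ⟨W, hW⟩).left.base ((k ≫ g'.1).left.base z) :=
        (Scheme.Hom.comp_apply (k ≫ g.1).left f.left z).symm.trans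
          ((congrArg (fun m => m.left.base z) e).trans
            (Scheme.Hom.comp_apply (k ≫ g'.1).left (resι U' ⟨W, hW⟩).left z))
      exact (congrArg (· ∈ W) h2).mpr ((range_resι U' ⟨W, hW⟩).le ⟨_, rfl⟩))
    rwa [Functor.map_comp_apply, hk, g.2] at key
  · rintro ⟨a, rfl⟩
    rw [← Functor.map_comp_apply]
    refine mem_of_factor p _ a _ ?_
    rintro _ ⟨z, rfl⟩
    have : (resι U (f.left ⁻¹ᵁ ⟨W, hW⟩)).left.base z ∈ f.left ⁻¹ᵁ ⟨W, hW⟩ :=
      (range_resι _ _).le ⟨z, rfl⟩
    exact (congrArg (· ∈ W) (Scheme.Hom.comp_apply (resι U _).left f.left z)).mpr this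

/-- The terminal object. -/
noncomputable def topObj (S : Scheme.{u}) : S.Etale := MorphismProperty.Over.mk ⊤ (𝟙 S) inferInstance

noncomputable def toTop (U : S.Etale) : U ⟶ topObj S :=
  MorphismProperty.Over.homMk U.hom (Category.comp_id _) trivial

theorem hom_top_ext {U : S.Etale} (f g : U ⟶ topObj S) : f = g := by
  refine MorphismProperty.Over.Hom.ext ?_
  have hf : f.left ≫ 𝟙 S = U.hom := Over.w f.toCommaMorphism
  have hg : g.left ≫ 𝟙 S = U.hom := Over.w g.toCommaMorphism
  exact ((Category.comp_id _).symm.trans hf).trans ((Category.comp_id _).symm.trans hg).symm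

theorem exists_topElt : Nonempty (p.fiber.obj (topObj S)) := by
  obtain ⟨⟨Z, c⟩⟩ := IsCofiltered.nonempty (C := p.fiber.Elements)
  exact ⟨p.fiber.map (toTop Z) c⟩

theorem topElt_unique (a b : p.fiber.obj (topObj S)) : a = b := by
  obtain ⟨⟨Z, c⟩, g, g', -⟩ := IsCofilteredOrEmpty.cone_objs (C := p.fiber.Elements)
    ⟨topObj S, a⟩ ⟨topObj S, b⟩
  have hga : p.fiber.map g.1 c = a := g.2
  have hgb : p.fiber.map g'.1 c = b := g'.2
  rw [← hga, ← hgb, hom_top_ext g.1 g'.1]

/-- The point of `S` under `p`. -/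
noncomputable def basePt : S := upt p (exists_topElt p).some

theorem hom_upt {U : S.Etale} (v : p.fiber.obj U) : U.hom.base (upt p v) = basePt p := by
  have h := upt_map p (toTop U) v
  rw [topElt_unique p (p.fiber.map (toTop U) v) (exists_topElt p).some] at h
  exact h.symm

/-- The geometric point attached to `p`. -/
noncomputable abbrev geom :
    Spec (CommRingCat.of (AlgebraicClosure (S.residueField (basePt p)))) ⟶ S :=
  geoPt S (basePt p)

/-- Lifts of the geometric point at the points determined by the elements of the fibre. -/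
noncomputable def liftsFunctor : p.fiber.Elements ⥤ Type u where
  obj e := geoFib e.1.hom (geom p) {upt p e.2}
  map {e e'} f := ↾fun φ => ⟨φ.1 ≫ f.1.left, by
    refine ⟨?_, ?_⟩
    · have hw : f.1.left ≫ e'.1.hom = e.1.hom := Over.w f.1.toCommaMorphism
      rw [Category.assoc, hw]
      exact φ.2.1
    · change pt (φ.1 ≫ f.1.left) = upt p e'.2
      rw [pt_comp, show pt φ.1 = upt p e.2 from φ.2.2, ← upt_map p f.1 e.2, f.2]⟩
  map_id e := by ext φ; exact Category.comp_id _
  map_comp f g := by ext φ; exact (Category.assoc _ _ _).symm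

theorem exists_section : (liftsFunctor p).sections.Nonempty := by
  have : ∀ e : p.fiber.Elements, Etale e.1.hom := fun e => e.1.prop
  have h : ∀ e : p.fiber.Elements, (geoFib e.1.hom (geom p) {upt p e.2}).Finite ∧
      (geoFib e.1.hom (geom p) {upt p e.2}).Nonempty := fun e =>
    have h := finite_geoFib_singleton e.1.hom (geom p) (upt p e.2)
      ((hom_upt p e.2).trans (pt_geoPt S _).symm)
    ⟨h.1, h.2.1⟩
  have : ∀ e, Finite ((liftsFunctor p).obj e) := fun e => (h e).1.to_subtype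
  have : ∀ e, Nonempty ((liftsFunctor p).obj e) := fun e => (h e).2.to_subtype
  exact nonempty_sections_of_finite_cofiltered_system _

variable (s : (liftsFunctor p).sections)

/-- The comparison map with the geometric fibre. -/
noncomputable def toGeom (U : S.Etale) (v : p.fiber.obj U) :
    (Scheme.pointSmallEtale (geom p)).fiber.obj U :=
  Over.homMk (s.1 ⟨U, v⟩).1 (s.1 ⟨U, v⟩).2.1

theorem toGeom_map {U U' : S.Etale} (f : U ⟶ U') (v : p.fiber.obj U) :
    toGeom p s U' (p.fiber.map f v) = (Scheme.pointSmallEtale (geom p)).fiber.map f (toGeom p s U v) := by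
  have := s.2 (CategoryOfElements.homMk (⟨U, v⟩ : p.fiber.Elements) ⟨U', p.fiber.map f v⟩ f rfl)
  exact Over.OverMorphism.ext (congrArg Subtype.val this).symm

theorem toGeom_injective (U : S.Etale) : Function.Injective (toGeom p s U) := by
  intro v₁ v₂ h
  obtain ⟨⟨Z, c⟩, ⟨g₁, hg₁⟩, ⟨g₂, hg₂⟩, -⟩ := IsCofilteredOrEmpty.cone_objs (C := p.fiber.Elements)
    ⟨U, v₁⟩ ⟨U, v₂⟩
  dsimp only at g₁ g₂ hg₁ hg₂
  rw [← hg₁, ← hg₂, toGeom_map, toGeom_map] at h
  obtain ⟨E, hE, -, hE'⟩ := exists_eqLocus g₁ g₂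
  have hφ : pt (s.1 ⟨Z, c⟩).1 ∈ E :=
    hE' (s.1 ⟨Z, c⟩).1 (congrArg CommaMorphism.left h) ⟨_, rfl⟩
  rw [show pt (s.1 ⟨Z, c⟩).1 = upt p c from (s.1 ⟨Z, c⟩).2.2] at hφ
  obtain ⟨c', hc'⟩ := (mem_iff p c E).2 hφ
  rw [← hg₁, ← hg₂]
  rw [← hc', ← Functor.map_comp_apply, ← Functor.map_comp_apply]
  exact congrArg (fun m => p.fiber.map m c') (MorphismProperty.Over.Hom.ext hE)

theorem toGeom_surjective (U : S.Etale) : Function.Surjective (toGeom p s U) := by
  intro l
  classical
  have : Etale U.hom := U.prop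
  set u₀ : U.left := pt l.left with hu₀
  have hu₀x : U.hom.base u₀ = basePt p := by
    rw [hu₀, ← pt_comp]
    exact (congrArg pt (Over.w l : l.left ≫ U.hom = geom p)).trans (pt_geoPt S _)
  obtain ⟨U₁, haff, hu₁, honly⟩ : ∃ W : U.left.Opens, IsAffineOpen W ∧ u₀ ∈ W ∧
      ∀ y ∈ W, U.hom.base y = basePt p → y = u₀ := by
    have hd := U.hom.isDiscrete_preimage_singleton (basePt p)
    obtain ⟨T, hT, hTeq⟩ := isDiscrete_iff_forall_mem_exists_isOpen.1 hd u₀ hu₀x
    have hu₀T : u₀ ∈ T := (hTeq.ge (Set.mem_singleton u₀)).1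
    obtain ⟨W, hW, hu₀W, hWT⟩ := exists_isAffineOpen_mem_and_subset (U := ⟨T, hT⟩) hu₀T
    exact ⟨W, hW, hu₀W, fun y hy hyx => hTeq.le ⟨hWT hy, hyx⟩⟩
  let U' := res U U₁
  have : IsAffine U'.left := haff
  have hsep : IsSeparated U'.hom := by
    have : IsSeparated (U'.hom ≫ terminal.from S) := by
      rw [Subsingleton.elim (U'.hom ≫ terminal.from S) (terminal.from _)]
      have : IsAffine (U₁ : Scheme.{u}) := haff
      exact inferInstanceAs (IsSeparated (terminal.from (U₁ : Scheme.{u})))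
    exact IsSeparated.of_comp U'.hom (terminal.from S)
  let L := {φ : Spec (CommRingCat.of (AlgebraicClosure (S.residueField (basePt p)))) ⟶ U'.left //
    φ ≫ U'.hom = geom p}
  have hLu : ∀ φ : L, pt (φ.1 ≫ (resι U U₁).left) = u₀ := by
    intro φ
    refine honly _ ?_ ?_
    · rw [pt_comp]
      exact (range_resι U U₁).le ⟨_, rfl⟩
    · rw [← pt_comp, Category.assoc]
      change pt (φ.1 ≫ U'.hom) = _
      rw [φ.2]
      exact pt_geoPt S _
  have : Finite L := by
    have hf := (finite_geoFib_singleton U.hom (geom p) u₀ (hu₀x.trans (pt_geoPt S _).symm)).1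
    have := hf.to_subtype
    refine Finite.of_injective (fun φ : L =>
      (⟨φ.1 ≫ (resι U U₁).left, by exact (Category.assoc _ _ _).trans φ.2, hLu φ⟩ :
        geoFib U.hom (geom p) {u₀})) fun φ ψ h => Subtype.ext ?_
    have : Mono (resι U U₁).left := inferInstanceAs (Mono U₁.ι)
    exact (cancel_mono (resι U U₁).left).1 (congrArg Subtype.val h)
  have : Fintype L := Fintype.ofFinite L
  let l₁ : L := ⟨openLift U₁ l.left (by
      rw [range_eq_pt]; exact Set.singleton_subset_iff.2 hu₁),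
    (openLift_ι_assoc U₁ l.left _ U.hom).trans (Over.w l)⟩
  let obj : L → (Scheme.pointSmallEtale (geom p)).fiber.Elements :=
    fun φ => ⟨U', Over.homMk φ.1 φ.2⟩
  obtain ⟨⟨V, lam⟩, hV⟩ := IsCofiltered.inf_objs_exists (Finset.univ.image obj)
  let a' : ∀ φ : L, (Functor.elementsMk (Scheme.pointSmallEtale (geom p)).fiber V lam) ⟶ obj φ :=
    fun φ => (hV (Finset.mem_image_of_mem obj (Finset.mem_univ φ))).some
  let a : L → (V ⟶ U') := fun φ => (a' φ).1
  have ha : ∀ φ : L, lam.left ≫ (a φ).left = φ.1 := fun φ =>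
    congrArg CommaMorphism.left (a' φ).2
  choose E hE hEc hE' using fun q : L × L => exists_eqLocus (a q.1) (a q.2)
  let T : Set V.left := ⋃ q : {q : L × L // q.1 ≠ q.2}, (E q.1 : Set V.left)
  have hTc : IsClosed T := isClosed_iUnion_of_finite fun q => hEc q.1 hsep
  let V₁ : V.left.Opens := ⟨Tᶜ, hTc.isOpen_compl⟩
  have hlam : pt lam.left ∈ V₁ := by
    intro hmem
    obtain ⟨q, hq⟩ := Set.mem_iUnion.1 hmem
    refine q.2 (Subtype.ext ?_)
    rw [← ha q.1.1, ← ha q.1.2]
    exact eq_of_pt_mem (hE q.1) _ hq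
  let V' := res V V₁
  have : Etale V'.hom := V'.prop
  let W : (topObj S).left.Opens :=
    ⟨Set.range V'.hom.base, V'.hom.isOpenMap.isOpen_range⟩
  have hbase : upt p (exists_topElt p).some ∈ W := by
    obtain ⟨z, hz⟩ := (range_resι V V₁).ge hlam
    refine ⟨z, ?_⟩
    change ((resι V V₁).left ≫ V.hom).base z = _
    rw [Scheme.Hom.comp_apply, hz]
    exact (pt_comp lam.left V.hom).symm.trans
      ((congrArg pt (Over.w lam : lam.left ≫ V.hom = geom p)).trans (pt_geoPt S _))
  obtain ⟨e, -⟩ := (mem_iff p (exists_topElt p).some W).2 hbase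
  let j : V' ⟶ res (topObj S) W := resLift (toTop V') W (le_refl _)
  have hj : Sieve.generate (Presieve.singleton j) ∈ S.smallEtaleTopology _ := by
    refine mem_smallEtaleTopology_of_points _ _ fun x => ?_
    have hx : (resι (topObj S) W).left.base x ∈ W := (range_resι _ W).le ⟨x, rfl⟩
    obtain ⟨z, hz⟩ := hx
    refine ⟨V', j, z, Sieve.le_generate _ _ _ ⟨⟩, W.ι.isOpenEmbedding.injective ?_⟩
    refine ((Scheme.Hom.comp_apply j.left (resι (topObj S) W).left z).symm.trans ?_).trans hz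
    exact congrArg (fun m : V' ⟶ topObj S => m.left.base z) (resLift_ι _ W _)
  obtain ⟨Z, g, ⟨_, k, _, ⟨⟩, -⟩, c, -⟩ := p.jointly_surjective _ hj e
  let z : p.fiber.obj V' := p.fiber.map k c
  let μ := (s.1 ⟨V', z⟩).1
  let b : L → L := fun φ => ⟨μ ≫ (resι V V₁).left ≫ (a φ).left, by
    rw [Category.assoc, Category.assoc, show (a φ).left ≫ U'.hom = V.hom from Over.w (a φ).toCommaMorphism]
    exact (s.1 ⟨V', z⟩).2.1⟩
  have hb : Function.Injective b := by
    intro φ ψ h
    by_contra hne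
    have h1 : (μ ≫ (resι V V₁).left) ≫ (a φ).left = (μ ≫ (resι V V₁).left) ≫ (a ψ).left := by
      simpa [Category.assoc] using congrArg Subtype.val h
    have h2 := hE' (φ, ψ) _ h1 ⟨IsLocalRing.closedPoint _, rfl⟩
    have h3 : pt (μ ≫ (resι V V₁).left) ∈ V₁ := by
      rw [pt_comp]; exact (range_resι V V₁).le ⟨_, rfl⟩
    exact h3 (Set.mem_iUnion.2 ⟨⟨(φ, ψ), hne⟩, h2⟩)
  obtain ⟨φ, hφ⟩ := (Finite.injective_iff_surjective.1 hb) l₁
  refine ⟨p.fiber.map (resι V V₁ ≫ a φ ≫ resι U U₁) z, ?_⟩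
  rw [toGeom_map]
  refine Over.OverMorphism.ext ?_
  change μ ≫ (resι V V₁).left ≫ (a φ).left ≫ U₁.ι = l.left
  have : μ ≫ (resι V V₁).left ≫ (a φ).left = l₁.1 := congrArg Subtype.val hφ
  rw [← Category.assoc (resι V V₁).left, ← Category.assoc μ, this]
  exact openLift_ι U₁ l.left (by rw [range_eq_pt]; exact Set.singleton_subset_iff.2 hu₁)

/-- Every point of the small étale site comes from a geometric point. -/
theorem exists_fiber_iso :
    ∃ (Ω : Type u) (_ : Field Ω) (_ : IsSepClosed Ω) (ξ : Spec (CommRingCat.of Ω) ⟶ S),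
      Nonempty (p.fiber ≅ (Scheme.pointSmallEtale ξ).fiber) := by
  obtain ⟨s, hs⟩ := exists_section p
  exact ⟨_, inferInstance, inferInstance, geom p,
    ⟨NatIso.ofComponents (fun U => (Equiv.ofBijective (toGeom p ⟨s, hs⟩ U)
      ⟨toGeom_injective p _ U, toGeom_surjective p _ U⟩).toIso)
      fun f => by ext v; exact toGeom_map p ⟨s, hs⟩ f v⟩⟩

end Point

end Groth.Agent.EtSite.AllPoints
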