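import Groth.Agent.EtSite.Points
import Mathlib.CategoryTheory.Sites.Point.Comap
import Mathlib.CategoryTheory.Sites.Point.Category

/-!
# Stalks of inverse images; inverse image is exact
-/

set_option autoImplicit false
universe w v u

open CategoryTheory CategoryTheory.Limits AlgebraicGeometry Opposite

namespace Groth.Agent.EtSite

section general

variable {C D : Type*} [Category C] [Category D] {K : GrothendieckTopology D}
  (Φ : GrothendieckTopology.Point.{w} K) (F : C ⥤ D) [RepresentablyFlat F]
  {J : GrothendieckTopology C} (hF : CoverPreserving J K F)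
  [InitiallySmall (F ⋙ Φ.fiber).Elements] (A : Type*) [Category.{v} A] [HasProducts.{w} A]
  [Functor.IsContinuous F J K] [(F.sheafPushforwardContinuous A J K).IsRightAdjoint]
  [HasColimitsOfSize.{w, w} A]

/-- Formula for the comparison between the fibre at `Φ.comap F` and the fibre of the inverse
image at `Φ`. -/
theorem toPresheafFiber_sheafFiberComapIso_hom (G : Sheaf J A) (V : C)
    (x : Φ.fiber.obj (F.obj V)) :
    (Φ.comap F hF).toPresheafFiber V x G.obj ≫ (Φ.sheafFiberComapIso F hF A).hom.app G =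
      ((F.sheafAdjunctionContinuous A J K).unit.app G).hom.app (op V) ≫
        Φ.toPresheafFiber (F.obj V) x ((F.sheafPullback A J K).obj G).obj := by
  let adj₁ := (F.sheafAdjunctionContinuous A J K).comp (Φ.skyscraperSheafAdjunction (A := A))
  let adj₂ := (Φ.comap F hF).skyscraperSheafAdjunction (A := A)
  let β := (Φ.skyscraperSheafFunctorCompSheafPushforwardContinuous F hF A).hom
  have key : adj₂.homEquiv _ _ ((Φ.sheafFiberComapIso F hF A).hom.app G) =
      adj₁.unit.app G ≫ β.app _ := by
    rw [Adjunction.homEquiv_unit]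
    exact (unit_conjugateEquiv_symm adj₁ adj₂ β G).symm
  have key2 : (Φ.comap F hF).skyscraperPresheafHomEquiv ((Φ.sheafFiberComapIso F hF A).hom.app G) =
      (adj₁.unit.app G).hom := by
    rw [← GrothendieckTopology.Point.skyscraperSheafAdjunction_homEquiv_apply_hom]
    exact (congrArg InducedCategory.Hom.hom key).trans (Category.comp_id _)
  rw [← GrothendieckTopology.Point.skyscraperPresheafHomEquiv_app_π, key2]
  simp only [adj₁, Adjunction.comp_unit_app]
  refine (Category.assoc _ _ _).trans ?_
  congr 1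
  have hu : (Φ.skyscraperSheafAdjunction.unit.app ((F.sheafPullback A J K).obj G)).hom =
      Φ.skyscraperPresheafHomEquiv (𝟙 (Φ.presheafFiber.obj ((F.sheafPullback A J K).obj G).obj)) := by
    rw [← GrothendieckTopology.Point.skyscraperSheafAdjunction_homEquiv_apply_hom]
    exact congrArg InducedCategory.Hom.hom (Adjunction.homEquiv_id _ _).symm
  exact ((congrArg (fun a : ((F.sheafPullback A J K).obj G).obj ⟶ _ => a.app (op (F.obj V)) ≫
    Pi.π (fun _ : Φ.fiber.obj (F.obj V) => _) x) hu).trans
      (Φ.skyscraperPresheafHomEquiv_app_π _ _ x)).trans (Category.comp_id _)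

/-- Transport of `InitiallySmall` along an isomorphism of functors to types. -/
theorem initiallySmall_elements_of_iso {G G' : C ⥤ Type w} (e : G ≅ G')
    [InitiallySmall.{w} G.Elements] : InitiallySmall.{w} G'.Elements := by
  have : (CategoryOfElements.map e.hom).Initial := by
    let E : G.Elements ≌ G'.Elements :=
      CategoryTheory.Equivalence.mk (CategoryOfElements.map e.hom) (CategoryOfElements.map e.inv)
        (NatIso.ofComponents (fun p => CategoryOfElements.isoMk _ _ (Iso.refl _) (by
            erw [CategoryTheory.Functor.map_id]; exact (e.hom_inv_id_app_apply p.1 p.2).symm))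
          (fun f => Subtype.ext ((Category.comp_id _).trans (Category.id_comp _).symm)))
        (NatIso.ofComponents (fun p => CategoryOfElements.isoMk _ _ (Iso.refl _) (by
            erw [CategoryTheory.Functor.map_id]; exact e.inv_hom_id_app_apply p.1 p.2))
          (fun f => Subtype.ext ((Category.comp_id _).trans (Category.id_comp _).symm)))
    exact inferInstanceAs E.functor.Initial
  exact initiallySmall_of_initial_of_initiallySmall (CategoryOfElements.map e.hom)

theorem toPresheafFiber_pointHom {C : Type*} [Category C] {J : GrothendieckTopology C}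
    {Φ₁ Φ₂ : GrothendieckTopology.Point.{w} J} {A : Type*} [Category.{v} A]
    [HasColimitsOfSize.{w, w} A] (h : Φ₁ ⟶ Φ₂) (V : C) (t : Φ₂.fiber.obj V) (P : Cᵒᵖ ⥤ A) :
    Φ₂.toPresheafFiber V t P ≫ h.presheafFiber.app P = Φ₁.toPresheafFiber V (h.hom.app V t) P := by
  simp

end general

variable {X Y : Scheme.{u}} (f : X ⟶ Y) {Ω : Type u} [Field Ω] [IsSepClosed Ω]
  (ξ : Spec (CommRingCat.of Ω) ⟶ X)

/-- The lift to `V ×_Y X` of an element of the fibre of `V` at `ξ ≫ f`. -/
noncomputable def bcPt (V : Y.Etale) (t : (Scheme.pointSmallEtale (ξ ≫ f)).fiber.obj V) :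
    (Scheme.pointSmallEtale ξ).fiber.obj ((EtCoh.bc f).obj V) :=
  Over.homMk (pullback.lift t.left ξ (Over.w t)) (pullback.lift_snd _ _ _)

theorem bcPt_left_fst (V : Y.Etale) (t : (Scheme.pointSmallEtale (ξ ≫ f)).fiber.obj V) :
    (bcPt f ξ V t).left ≫ pullback.fst V.hom f = t.left :=
  pullback.lift_fst _ _ _

theorem bcPt_left_snd (V : Y.Etale) (t : (Scheme.pointSmallEtale (ξ ≫ f)).fiber.obj V) :
    (bcPt f ξ V t).left ≫ pullback.snd V.hom f = ξ :=
  pullback.lift_snd _ _ _

theorem bc_map_left_fst {V W : Y.Etale} (g : V ⟶ W) :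
    ((EtCoh.bc f).map g).left ≫ pullback.fst W.hom f = pullback.fst V.hom f ≫ g.left :=
  (EtCoh.isPullback_bc_map f g).w

theorem bc_map_left_snd {V W : Y.Etale} (g : V ⟶ W) :
    ((EtCoh.bc f).map g).left ≫ pullback.snd W.hom f = pullback.snd V.hom f := by
  exact Over.w ((EtCoh.bc f).map g).hom

theorem bc_map_bcPt {V W : Y.Etale} (g : V ⟶ W)
    (t : (Scheme.pointSmallEtale (ξ ≫ f)).fiber.obj V) :
    (Scheme.pointSmallEtale ξ).fiber.map ((EtCoh.bc f).map g) (bcPt f ξ V t) =
      bcPt f ξ W ((Scheme.pointSmallEtale (ξ ≫ f)).fiber.map g t) := by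
  apply Over.OverMorphism.ext
  apply pullback.hom_ext
  · exact (Category.assoc _ _ _).trans
      ((congrArg (CategoryStruct.comp (bcPt f ξ V t).left) (bc_map_left_fst f g)).trans
        ((Category.assoc _ _ _).symm.trans
          ((congrArg (· ≫ g.left) (bcPt_left_fst f ξ V t)).trans (bcPt_left_fst f ξ W ((Scheme.pointSmallEtale (ξ ≫ f)).fiber.map g t)).symm)))
  · exact (Category.assoc _ _ _).trans
      ((congrArg (CategoryStruct.comp (bcPt f ξ V t).left) (bc_map_left_snd f g)).trans
        ((bcPt_left_snd f ξ V t).trans (bcPt_left_snd f ξ W _).symm))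

/-- The element of the fibre of `V` below one of `V ×_Y X`. -/
noncomputable def unbcPt (V : Y.Etale)
    (s : (Scheme.pointSmallEtale ξ).fiber.obj ((EtCoh.bc f).obj V)) :
    (Scheme.pointSmallEtale (ξ ≫ f)).fiber.obj V :=
  Over.homMk (s.left ≫ pullback.fst V.hom f) ((Category.assoc _ _ _).trans
    ((congrArg (CategoryStruct.comp s.left) pullback.condition).trans
      ((Category.assoc _ _ _).symm.trans (congrArg (· ≫ f) (Over.w s)))))

theorem bcPt_unbcPt (V : Y.Etale)
    (s : (Scheme.pointSmallEtale ξ).fiber.obj ((EtCoh.bc f).obj V)) :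
    bcPt f ξ V (unbcPt f ξ V s) = s :=
  Over.OverMorphism.ext (pullback.hom_ext (bcPt_left_fst f ξ V (unbcPt f ξ V s))
    ((bcPt_left_snd f ξ V (unbcPt f ξ V s)).trans (Over.w s).symm))

theorem bcPt_injective (V : Y.Etale) : Function.Injective (bcPt f ξ V) := fun t t' h =>
  Over.OverMorphism.ext ((bcPt_left_fst f ξ V t).symm.trans
    ((congrArg (fun s : (Scheme.pointSmallEtale ξ).fiber.obj ((EtCoh.bc f).obj V) =>
      s.left ≫ pullback.fst V.hom f) h).trans (bcPt_left_fst f ξ V t')))

/-- The fibre functor of `ξ ≫ f` is that of `ξ` composed with base change. -/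
noncomputable def fiberBcIso :
    (Scheme.pointSmallEtale (ξ ≫ f)).fiber ≅ EtCoh.bc f ⋙ (Scheme.pointSmallEtale ξ).fiber :=
  NatIso.ofComponents
    (fun V => Equiv.toIso
      { toFun := bcPt f ξ V
        invFun := fun s => Over.homMk (s.left ≫ pullback.fst V.hom f) (by
          exact (Category.assoc _ _ _).trans ((congrArg (CategoryStruct.comp s.left)
            pullback.condition).trans ((Category.assoc _ _ _).symm.trans
              (congrArg (· ≫ f) (Over.w s)))))
        left_inv := fun t => Over.OverMorphism.ext (bcPt_left_fst f ξ V t)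
        right_inv := fun s => Over.OverMorphism.ext (pullback.hom_ext
          (bcPt_left_fst f ξ V _) ((bcPt_left_snd f ξ V _).trans (Over.w s).symm)) })
    (fun g => by
      ext t
      exact (bc_map_bcPt f ξ g t).symm)

instance : InitiallySmall.{u} (EtCoh.bc f ⋙ (Scheme.pointSmallEtale ξ).fiber).Elements :=
  initiallySmall_elements_of_iso (fiberBcIso f ξ)

/-- The image of the point `ξ` on the small étale site of `Y`. -/
noncomputable abbrev comapPt : GrothendieckTopology.Point.{u} Y.smallEtaleTopology :=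
  (Scheme.pointSmallEtale ξ).comap (EtCoh.bc f) (EtCoh.coverPreserving_bc f)

/-- `ξ ≫ f` is the image of the point `ξ`. -/
noncomputable def comapPtIso : Scheme.pointSmallEtale (ξ ≫ f) ≅ comapPt f ξ where
  hom := ⟨(fiberBcIso f ξ).inv⟩
  inv := ⟨(fiberBcIso f ξ).hom⟩
  hom_inv_id := GrothendieckTopology.Point.hom_ext (fiberBcIso f ξ).hom_inv_id
  inv_hom_id := GrothendieckTopology.Point.hom_ext (fiberBcIso f ξ).inv_hom_id

/-- The stalk of `f⁻¹ G` at `ξ` is the stalk of `G` at `ξ ≫ f`. -/
noncomputable def stalkPullIso :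
    EtCoh.stalk (ξ ≫ f) ≅ EtCoh.pull f ⋙ EtCoh.stalk ξ where
  hom := (comapPtIso f ξ).inv.sheafFiber ≫
    ((Scheme.pointSmallEtale ξ).sheafFiberComapIso (EtCoh.bc f) (EtCoh.coverPreserving_bc f)
      AddCommGrpCat.{u + 1}).hom
  inv := ((Scheme.pointSmallEtale ξ).sheafFiberComapIso (EtCoh.bc f) (EtCoh.coverPreserving_bc f)
      AddCommGrpCat.{u + 1}).inv ≫ (comapPtIso f ξ).hom.sheafFiber
  hom_inv_id := by
    rw [Category.assoc, Iso.hom_inv_id_assoc, ← GrothendieckTopology.Point.Hom.sheafFiber_comp,
      Iso.hom_inv_id, GrothendieckTopology.Point.Hom.sheafFiber_id]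
  inv_hom_id := by
    rw [Category.assoc, ← GrothendieckTopology.Point.Hom.sheafFiber_comp_assoc, Iso.inv_hom_id,
      GrothendieckTopology.Point.Hom.sheafFiber_id, Category.id_comp, Iso.inv_hom_id]

/-- The formula for `stalkPullIso` on germs. -/
theorem toPresheafFiber_stalkPullIso_hom (G : EtCoh.Ab Y) (V : Y.Etale)
    (t : (Scheme.pointSmallEtale (ξ ≫ f)).fiber.obj V) :
    (Scheme.pointSmallEtale (ξ ≫ f)).toPresheafFiber V t G.obj ≫ (stalkPullIso f ξ).hom.app G =
      ((EtCoh.pullPushAdj f).unit.app G).hom.app (op V) ≫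
        (Scheme.pointSmallEtale ξ).toPresheafFiber ((EtCoh.bc f).obj V) (bcPt f ξ V t)
          ((EtCoh.pull f).obj G).obj := by
  have h2 : (Scheme.pointSmallEtale (ξ ≫ f)).toPresheafFiber V t G.obj ≫
      (comapPtIso f ξ).inv.presheafFiber.app G.obj =
        (comapPt f ξ).toPresheafFiber V (bcPt f ξ V t) G.obj :=
    toPresheafFiber_pointHom (comapPtIso f ξ).inv V t G.obj
  refine Eq.trans ?_ (toPresheafFiber_sheafFiberComapIso_hom (Scheme.pointSmallEtale ξ) (EtCoh.bc f)
    (EtCoh.coverPreserving_bc f) AddCommGrpCat.{u + 1} G V (bcPt f ξ V t))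
  rw [← h2]
  exact (Category.assoc _ _ _).symm

instance pull_additive : (EtCoh.pull f).Additive :=
  (EtCoh.pullPushAdj f).left_adjoint_additive

instance pull_preservesFiniteColimits : PreservesFiniteColimits (EtCoh.pull f) :=
  have : PreservesColimitsOfSize.{0, 0} (EtCoh.pull f) :=
    (EtCoh.pullPushAdj f).leftAdjoint_preservesColimits
  PreservesColimitsOfSize.preservesFiniteColimits _

theorem pull_mono {G G' : EtCoh.Ab Y} (a : G ⟶ G') [Mono a] : Mono ((EtCoh.pull f).map a) := by
  refine mono_of_stalks _ fun Ω _ _ η => (AddCommGrpCat.mono_iff_injective _).1 ?_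
  have := Functor.PreservesMonomorphisms.of_iso (stalkPullIso f η)
  exact (inferInstance : Mono ((EtCoh.pull f ⋙ EtCoh.stalk η).map a))

instance pull_preservesFiniteLimits : PreservesFiniteLimits (EtCoh.pull f) := by
  rw [Functor.preservesFiniteLimits_iff_forall_exact_map_and_mono]
  intro S hS
  have := hS.mono_f
  refine ⟨(exact_iff_stalks _).2 fun Ω _ _ η => ?_, pull_mono f S.f⟩
  exact ShortComplex.exact_of_iso (S.mapNatIso (stalkPullIso f η))
    (hS.exact.map (EtCoh.stalk (η ≫ f)))

/-- The unit of `f⁻¹ ⊣ f_*` is injective on stalks at points coming from `X`. -/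
theorem stalk_unit_injective (G : EtCoh.Ab Y) :
    Function.Injective ((EtCoh.stalk (ξ ≫ f)).map ((EtCoh.pullPushAdj f).unit.app G)) := by
  refine (AddCommGrpCat.mono_iff_injective _).1 ?_
  have : IsSplitMono ((EtCoh.pull f).map ((EtCoh.pullPushAdj f).unit.app G)) :=
    IsSplitMono.mk' ⟨(EtCoh.pullPushAdj f).counit.app _,
      (EtCoh.pullPushAdj f).left_triangle_components G⟩
  have h2 : Mono ((stalkPullIso f ξ).hom.app G ≫
      (EtCoh.stalk ξ).map ((EtCoh.pull f).map ((EtCoh.pullPushAdj f).unit.app G))) := inferInstance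
  have e := (stalkPullIso f ξ).hom.naturality ((EtCoh.pullPushAdj f).unit.app G)
  rw [Functor.comp_map] at e
  exact mono_of_mono_fac e

end Groth.Agent.EtSite
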