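import Groth.Prelude.Def_EtBaseX
import Groth.Agent.EtSite.AllPoints
import Mathlib.RingTheory.Etale.StandardEtale
import Mathlib.AlgebraicGeometry.AffineScheme
import Mathlib.Algebra.Polynomial.Lifts

/-!
# The étale local ring at a geometric point is strictly henselian
-/

set_option autoImplicit false
universe u

open CategoryTheory CategoryTheory.Limits AlgebraicGeometry Opposite Polynomial

namespace Groth.Agent.EtSite.LocalRing

variable {X : Scheme.{u}} {Ω : Type u} [Field Ω] [IsSepClosed Ω]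
  (ξ : Spec (CommRingCat.of Ω) ⟶ X)

/-- The germ of a function at a point of an étale neighbourhood. -/
noncomputable def germ (U : X.Etale) (t : (Scheme.pointSmallEtale ξ).fiber.obj U) :
    Γ(U.left, ⊤) →+* (EtBase.etaleLocalRing ξ : CommRingCat.{u}) :=
  ((Scheme.pointSmallEtale ξ).toPresheafFiber U t (EtBase.OO X)).hom

theorem germ_map {U V : X.Etale} (f : U ⟶ V) (t : (Scheme.pointSmallEtale ξ).fiber.obj U)
    (s : Γ(V.left, ⊤)) :
    germ ξ U t (f.left.appTop s) = germ ξ V ((Scheme.pointSmallEtale ξ).fiber.map f t) s :=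
  (Scheme.pointSmallEtale ξ).toPresheafFiber_w_apply f t (EtBase.OO X) s

theorem exists_germ_eq (r : (EtBase.etaleLocalRing ξ : CommRingCat.{u})) :
    ∃ (U : X.Etale) (t : (Scheme.pointSmallEtale ξ).fiber.obj U) (s : Γ(U.left, ⊤)),
      germ ξ U t s = r :=
  (Scheme.pointSmallEtale ξ).toPresheafFiber_jointly_surjective (P := EtBase.OO X) r

/-- Evaluation at the geometric point. -/
noncomputable def eval : EtBase.etaleLocalRing ξ ⟶ CommRingCat.of Ω :=
  (Scheme.pointSmallEtale ξ).presheafFiberDesc (P := EtBase.OO X)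
    (fun U t => Scheme.Γ.map t.left.op ≫ (Scheme.ΓSpecIso (CommRingCat.of Ω)).hom)
    (fun U V f t => by
      rw [← Category.assoc]
      refine congrArg (· ≫ (Scheme.ΓSpecIso (CommRingCat.of Ω)).hom) ?_
      exact (Scheme.Γ.map_comp _ _).symm)

theorem eval_germ (U : X.Etale) (t : (Scheme.pointSmallEtale ξ).fiber.obj U) (s : Γ(U.left, ⊤)) :
    (eval ξ).hom (germ ξ U t s) = (Scheme.ΓSpecIso (CommRingCat.of Ω)).hom (t.left.appTop s) :=
  ConcreteCategory.congr_hom ((Scheme.pointSmallEtale ξ).toPresheafFiber_presheafFiberDesc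
    (P := EtBase.OO X) _ _ U t) s

theorem isUnit_iff (r : (EtBase.etaleLocalRing ξ : CommRingCat.{u})) :
    IsUnit r ↔ (eval ξ).hom r ≠ 0 := by
  refine ⟨fun h => (h.map (eval ξ).hom).ne_zero, fun h => ?_⟩
  obtain ⟨U, t, s, rfl⟩ := exists_germ_eq ξ r
  rw [eval_germ] at h
  let W : U.left.Opens := U.left.basicOpen s
  let tl : Spec (CommRingCat.of Ω) ⟶ U.left := t.left
  have hW : Set.range tl.base ⊆ (W : Set U.left) := by
    rintro _ ⟨p, rfl⟩
    change p ∈ tl ⁻¹ᵁ U.left.basicOpen s
    rw [Scheme.preimage_basicOpen_top]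
    have hu : IsUnit (tl.appTop s) := by
      have h1 := (isUnit_iff_ne_zero.2 h).map (Scheme.ΓSpecIso (CommRingCat.of Ω)).inv.hom
      rwa [← RingHom.comp_apply, ← CommRingCat.hom_comp, Iso.hom_inv_id] at h1
    rw [Scheme.basicOpen_of_isUnit _ hu]
    trivial
  let l := AllPoints.openLift W t.left hW
  let t' : (Scheme.pointSmallEtale ξ).fiber.obj (AllPoints.res U W) :=
    Over.homMk l ((AllPoints.openLift_ι_assoc W t.left hW U.hom).trans (Over.w t))
  have e : (Scheme.pointSmallEtale ξ).fiber.map (AllPoints.resι U W) t' = t :=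
    Over.OverMorphism.ext (AllPoints.openLift_ι W t.left hW)
  rw [← e, ← germ_map]
  refine IsUnit.map (germ ξ (AllPoints.res U W) t') ?_
  change IsUnit (W.ι.appTop s)
  rw [Scheme.Opens.ι_appTop]
  have hu := RingedSpace.isUnit_res_basicOpen U.left.toLocallyRingedSpace.toRingedSpace s
  have hu' : IsUnit ((U.left.presheaf.map (homOfLE (U.left.basicOpen_le s)).op).hom s) := hu
  have h2 := hu'.map (U.left.presheaf.map (eqToHom (congrArg op W.ι_image_top.symm))).hom
  rw [← RingHom.comp_apply, ← CommRingCat.hom_comp, ← Functor.map_comp] at h2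
  exact h2

instance : IsLocalRing (EtBase.etaleLocalRing ξ : CommRingCat.{u}) := by
  have : Nontrivial (EtBase.etaleLocalRing ξ : CommRingCat.{u}) := (eval ξ).hom.domain_nontrivial
  refine IsLocalRing.of_isUnit_or_isUnit_one_sub_self fun a => ?_
  by_cases h : (eval ξ).hom a = 0
  · exact Or.inr ((isUnit_iff ξ _).2 (by rw [map_sub, map_one, h, sub_zero]; exact one_ne_zero))
  · exact Or.inl ((isUnit_iff ξ a).2 h)

theorem mem_maximalIdeal_iff (r : (EtBase.etaleLocalRing ξ : CommRingCat.{u})) :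
    r ∈ IsLocalRing.maximalIdeal (EtBase.etaleLocalRing ξ : CommRingCat.{u}) ↔
      (eval ξ).hom r = 0 := by
  rw [IsLocalRing.mem_maximalIdeal, mem_nonunits_iff, isUnit_iff, not_not]

theorem exists_common (T : Finset (EtBase.etaleLocalRing ξ : CommRingCat.{u})) :
    ∃ (U : X.Etale) (t : (Scheme.pointSmallEtale ξ).fiber.obj U),
      ∀ r ∈ T, r ∈ Set.range (germ ξ U t) := by
  classical
  induction T using Finset.induction with
  | empty => exact ⟨EtCoh.top X, Over.homMk ξ (Category.comp_id _), fun r hr => by simp at hr⟩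
  | @insert a T _ ih =>
    obtain ⟨U, t, hT⟩ := ih
    obtain ⟨V, v, s, rfl⟩ := exists_germ_eq ξ a
    obtain ⟨⟨W, w⟩, ⟨g, hg⟩, ⟨g', hg'⟩, -⟩ := IsCofilteredOrEmpty.cone_objs
      (C := (Scheme.pointSmallEtale ξ).fiber.Elements) ⟨U, t⟩ ⟨V, v⟩
    dsimp only at g g' hg hg'
    refine ⟨W, w, fun r hr => ?_⟩
    rcases Finset.mem_insert.1 hr with rfl | hr
    · exact ⟨g'.left.appTop s, (germ_map ξ g' w s).trans (by rw [hg'])⟩
    · obtain ⟨q, rfl⟩ := hT r hr
      exact ⟨g.left.appTop q, (germ_map ξ g w q).trans (by rw [hg])⟩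

/-- Simple roots at the geometric point lift to the étale local ring. -/
theorem exists_root (f : Polynomial (EtBase.etaleLocalRing ξ : CommRingCat.{u})) (hf : f.Monic)
    (α : Ω) (h0 : (f.map (eval ξ).hom).eval α = 0)
    (h1 : (f.map (eval ξ).hom).derivative.eval α ≠ 0) :
    ∃ a : (EtBase.etaleLocalRing ξ : CommRingCat.{u}), f.IsRoot a ∧ (eval ξ).hom a = α := by
  classical
  obtain ⟨U, t, hU⟩ := exists_common ξ (f.support.image f.coeff)
  have hl : f ∈ Polynomial.lifts (germ ξ U t) := by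
    refine (Polynomial.lifts_iff_coeff_lifts f).2 fun n => ?_
    by_cases hn : n ∈ f.support
    · exact hU _ (Finset.mem_image_of_mem _ hn)
    · exact ⟨0, by rw [map_zero, Polynomial.notMem_support_iff.1 hn]⟩
  obtain ⟨q, hqf, -, hqm⟩ := Polynomial.lifts_and_degree_eq_and_monic hl hf
  let A := Γ(U.left, ⊤)
  let P : StandardEtalePair A :=
    { f := q, monic_f := hqm, g := derivative q, cond := ⟨1, 0, 1, by simp⟩ }
  let ev : A →+* Ω := (eval ξ).hom.comp (germ ξ U t)
  let _ : Algebra A Ω := ev.toAlgebra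
  have hev : ∀ p : Polynomial A, aeval α p = ((p.map (germ ξ U t)).map (eval ξ).hom).eval α := by
    intro p
    rw [Polynomial.map_map, Polynomial.eval_map]
    rfl
  have hmap : P.HasMap α := by
    refine ⟨?_, ?_⟩
    · rw [hev, hqf, h0]
    · rw [hev, ← Polynomial.derivative_map, hqf, ← Polynomial.derivative_map]
      exact isUnit_iff_ne_zero.2 h1
  let σ : P.Ring →ₐ[A] Ω := P.lift α hmap
  let π : Spec (CommRingCat.of P.Ring) ⟶ Spec A :=
    Spec.map (CommRingCat.ofHom (algebraMap A P.Ring))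
  have hπ : Etale π := (HasRingHomProperty.Spec_iff (P := @Etale)).2 <| by
    change (algebraMap A P.Ring).Etale
    rw [RingHom.etale_algebraMap]
    infer_instance
  let V₀ : Scheme.{u} := pullback U.left.toSpecΓ π
  have het : Etale (pullback.fst U.left.toSpecΓ π) := MorphismProperty.pullback_fst _ _ hπ
  let V : X.Etale := @Scheme.Etale.mk X V₀ (pullback.fst U.left.toSpecΓ π ≫ U.hom)
    (MorphismProperty.comp_mem (W := EtCoh.etaleMP) _ _ het U.prop)
  let pr : V ⟶ U := MorphismProperty.Over.homMk (pullback.fst U.left.toSpecΓ π) rfl trivial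
  let τ : Spec (CommRingCat.of Ω) ⟶ Spec (CommRingCat.of P.Ring) :=
    Spec.map (CommRingCat.ofHom σ.toRingHom)
  have hev' : Spec.map (CommRingCat.ofHom ev) = t.left ≫ U.left.toSpecΓ := by
    apply ext_of_isAffine
    rw [Scheme.Hom.comp_appTop, Scheme.toSpecΓ_appTop]
    refine (Iso.cancel_iso_inv_left (Scheme.ΓSpecIso A) _ _).1 ?_
    ext s
    have hn := ConcreteCategory.congr_hom (Scheme.ΓSpecIso_inv_naturality (CommRingCat.ofHom ev)) s
    refine hn.symm.trans ?_
    have h2 : ev s = (Scheme.ΓSpecIso (CommRingCat.of Ω)).hom (t.left.appTop s) := eval_germ ξ U t s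
    change (Scheme.ΓSpecIso (CommRingCat.of Ω)).inv (ev s) = _
    rw [h2]
    simp [A]
    exact congrArg _ (ConcreteCategory.congr_hom ((Scheme.ΓSpecIso A).inv_hom_id) s).symm
  have hcomm : t.left ≫ U.left.toSpecΓ = τ ≫ π := by
    rw [← Spec.map_comp, ← hev']
    congr 1
    ext s
    exact (σ.commutes s).symm
  let v : (Scheme.pointSmallEtale ξ).fiber.obj V := Over.homMk (pullback.lift t.left τ hcomm)
    ((Category.assoc _ _ _).symm.trans ((congrArg (· ≫ U.hom) (pullback.lift_fst _ _ _)).trans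
      (Over.w t)))
  have hpr : (Scheme.pointSmallEtale ξ).fiber.map pr v = t :=
    Over.OverMorphism.ext (pullback.lift_fst _ _ _)
  let ψ : CommRingCat.of P.Ring ⟶ Γ(V.left, ⊤) :=
    (Scheme.ΓSpecIso (CommRingCat.of P.Ring)).inv ≫ (pullback.snd U.left.toSpecΓ π).appTop
  have hψ : CommRingCat.ofHom (algebraMap A P.Ring) ≫ ψ = pr.left.appTop := by
    let p1 : V₀ ⟶ U.left := pullback.fst U.left.toSpecΓ π
    let p2 : V₀ ⟶ Spec (CommRingCat.of P.Ring) := pullback.snd U.left.toSpecΓ π
    have h : U.left.toSpecΓ.appTop ≫ p1.appTop = π.appTop ≫ p2.appTop := by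
      rw [← Scheme.Hom.comp_appTop, ← Scheme.Hom.comp_appTop]
      exact congrArg Scheme.Hom.appTop pullback.condition
    have h3 : U.left.toSpecΓ.appTop = (Scheme.ΓSpecIso A).hom := Scheme.toSpecΓ_appTop _
    have h4 : CommRingCat.ofHom (algebraMap A P.Ring) ≫ (Scheme.ΓSpecIso (CommRingCat.of P.Ring)).inv ≫ p2.appTop
        = p1.appTop :=
      ((Category.assoc _ _ _).symm.trans ((congrArg (· ≫ p2.appTop)
        (Scheme.ΓSpecIso_inv_naturality (CommRingCat.ofHom (algebraMap A P.Ring)))).trans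
        ((Category.assoc _ _ _).trans (by
          rw [← h, h3]
          exact (Scheme.ΓSpecIso A).inv_hom_id_assoc _))))
    exact h4
  have hvψ : ∀ x, (eval ξ).hom (germ ξ V v (ψ x)) = σ x := by
    intro x
    rw [eval_germ]
    have hx : v.left.appTop (ψ x) = (Scheme.ΓSpecIso (CommRingCat.of Ω)).inv (σ x) := by
      have h := congrArg Scheme.Hom.appTop (pullback.lift_snd t.left τ hcomm)
      rw [Scheme.Hom.comp_appTop] at h
      exact (ConcreteCategory.congr_hom h ((Scheme.ΓSpecIso (CommRingCat.of P.Ring)).inv x)).trans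
        (ConcreteCategory.congr_hom
          (Scheme.ΓSpecIso_inv_naturality (CommRingCat.ofHom σ.toRingHom)) x).symm
    rw [hx]
    simp
  refine ⟨germ ξ V v (ψ P.X), ?_, ?_⟩
  · have hroot : q.eval₂ ((ψ.hom).comp (algebraMap A P.Ring)) (ψ P.X) = 0 := by
      rw [← Polynomial.hom_eval₂]
      have : q.eval₂ (algebraMap A P.Ring) P.X = 0 := StandardEtalePair.hasMap_X.1
      rw [this, map_zero]
    have hgm : (germ ξ V v).comp ((ψ.hom).comp (algebraMap A P.Ring)) = germ ξ U t := by
      ext s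
      have h2 := congrArg (fun m => germ ξ V v (m.hom s)) hψ
      exact h2.trans ((germ_map ξ pr v s).trans (by rw [hpr]))
    rw [Polynomial.IsRoot.def, ← hqf, Polynomial.eval_map, ← hgm, ← Polynomial.hom_eval₂, hroot,
      map_zero]
  · rw [hvψ]
    exact P.lift_X α hmap

theorem isStrictlyHenselian :
    EtCoh.IsStrictlyHenselianLocalRing (EtBase.etaleLocalRing ξ : CommRingCat.{u}) := by
  let R : Type u := (EtBase.etaleLocalRing ξ : CommRingCat.{u})
  let φ : R →+* Ω := (eval ξ).hom
  let k := IsLocalRing.ResidueField R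
  let ι : k →+* Ω := Ideal.Quotient.lift _ φ fun a ha => (mem_maximalIdeal_iff ξ a).1 ha
  have hι : ι.comp (IsLocalRing.residue R) = φ := RingHom.ext fun a => rfl
  refine ⟨⟨fun f hf a₀ h0 h1 => ?_⟩, IsSepClosed.of_exists_root _ fun p hp hirr hsep => ?_⟩
  · have e0 : (f.map φ).eval (φ a₀) = 0 := by
      rw [Polynomial.eval_map, Polynomial.eval₂_hom]
      exact (mem_maximalIdeal_iff ξ _).1 h0
    have e1 : (f.map φ).derivative.eval (φ a₀) ≠ 0 := by
      rw [Polynomial.derivative_map, Polynomial.eval_map, Polynomial.eval₂_hom]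
      exact (isUnit_iff ξ _).1 h1
    obtain ⟨a, ha, hφa⟩ := exists_root ξ f hf (φ a₀) e0 e1
    exact ⟨a, ha, (mem_maximalIdeal_iff ξ _).2 (by rw [map_sub, hφa, sub_self])⟩
  · have hl : p ∈ Polynomial.lifts (IsLocalRing.residue R) := (Polynomial.lifts_iff_coeff_lifts p).2
      fun n => Ideal.Quotient.mk_surjective _
    obtain ⟨F, hF, -, hFm⟩ := Polynomial.lifts_and_degree_eq_and_monic hl hp
    have hFι : F.map φ = p.map ι := by rw [← hF, Polynomial.map_map, hι]
    have hdeg : (p.map ι).degree ≠ 0 := by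
      rw [Polynomial.degree_map]
      exact (Polynomial.degree_pos_of_irreducible hirr).ne'
    obtain ⟨α, hα⟩ := IsSepClosed.exists_root (p.map ι) hdeg hsep.map
    have hd : (p.map ι).derivative.eval α ≠ 0 := by
      have := (hsep.map (f := ι)).aeval_derivative_ne_zero (x := α) (by rwa [Polynomial.coe_aeval_eq_eval])
      rwa [Polynomial.coe_aeval_eq_eval] at this
    obtain ⟨a, ha, -⟩ := exists_root ξ F hFm α (by rwa [hFι]) (by rwa [hFι])
    refine ⟨IsLocalRing.residue R a, ?_⟩
    rw [← hF, Polynomial.eval_map, Polynomial.eval₂_hom, show F.eval a = 0 from ha, map_zero]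

end Groth.Agent.EtSite.LocalRing
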