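import Groth.Agent.EtSite.PushFinite

/-!
# The degree zero base change map on stalks
-/

set_option autoImplicit false
universe u

open CategoryTheory CategoryTheory.Limits AlgebraicGeometry Opposite

namespace Groth.Agent.EtSite

section

variable {P M X : Scheme.{u}}

theorem pullbackComp_hom_left_fst (a : P ⟶ M) (b : M ⟶ X) (V : X.Etale) :
    ((MorphismProperty.Over.pullbackComp (P := EtCoh.etaleMP) (Q := ⊤) a b).hom.app V).left ≫
        pullback.fst ((EtCoh.bc b).obj V).hom a ≫ pullback.fst V.hom b = pullback.fst V.hom (a ≫ b) :=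
  MorphismProperty.Over.pullbackComp_left_fst_fst a b V

theorem pullbackComp_inv_left_fst (a : P ⟶ M) (b : M ⟶ X) (V : X.Etale) :
    ((MorphismProperty.Over.pullbackComp (P := EtCoh.etaleMP) (Q := ⊤) a b).inv.app V).left ≫
        pullback.fst V.hom (a ≫ b) = pullback.fst ((EtCoh.bc b).obj V).hom a ≫ pullback.fst V.hom b := by
  rw [← pullbackComp_hom_left_fst a b V]
  refine (Category.assoc _ _ _).symm.trans ?_
  have h : ((MorphismProperty.Over.pullbackComp (P := EtCoh.etaleMP) (Q := ⊤) a b).inv.app V).left ≫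
      ((MorphismProperty.Over.pullbackComp (P := EtCoh.etaleMP) (Q := ⊤) a b).hom.app V).left = 𝟙 _ :=
    congrArg (fun m => CommaMorphism.left m.toCommaMorphism)
      ((MorphismProperty.Over.pullbackComp (P := EtCoh.etaleMP) (Q := ⊤) a b).inv_hom_id_app V)
  exact (congrArg (· ≫ (pullback.fst ((EtCoh.bc b).obj V).hom a ≫ pullback.fst V.hom b)) h).trans
    (Category.id_comp _)

theorem pullbackCongr_inv_left_fst {a b : P ⟶ X} (h : a = b) (V : X.Etale) :
    ((MorphismProperty.Over.pullbackCongr (P := EtCoh.etaleMP) (Q := ⊤) h).inv.app V).left ≫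
        pullback.fst V.hom a = pullback.fst V.hom b := by
  subst h
  simp [MorphismProperty.Over.pullbackCongr]
  exact Category.id_comp _

end

variable {X Y X' Y' : Scheme.{u}} (f : X ⟶ Y) (g : Y' ⟶ Y) (f' : X' ⟶ Y') (g' : X' ⟶ X)
  (w : g' ≫ f = f' ≫ g)

/-- The exchange of the two iterated base changes of `V`. -/
noncomputable def bcSwap (V : Y.Etale) :
    (EtCoh.bc f').obj ((EtCoh.bc g).obj V) ⟶ (EtCoh.bc g').obj ((EtCoh.bc f).obj V) :=
  (MorphismProperty.Over.pullbackComp (P := EtCoh.etaleMP) (Q := ⊤) f' g).inv.app V ≫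
    (MorphismProperty.Over.pullbackCongr (P := EtCoh.etaleMP) (Q := ⊤) w).inv.app V ≫
      (MorphismProperty.Over.pullbackComp (P := EtCoh.etaleMP) (Q := ⊤) g' f).hom.app V

theorem bcSwap_left_fst (V : Y.Etale) :
    (bcSwap f g f' g' w V).left ≫ pullback.fst ((EtCoh.bc f).obj V).hom g' ≫ pullback.fst V.hom f =
      pullback.fst ((EtCoh.bc g).obj V).hom f' ≫ pullback.fst V.hom g := by
  refine (Category.assoc _ _ _).trans ?_
  refine (congrArg (_ ≫ ·) ((Category.assoc _ _ _).trans ?_)).trans (pullbackComp_inv_left_fst f' g V)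
  exact (congrArg (_ ≫ ·) (pullbackComp_hom_left_fst g' f V)).trans (pullbackCongr_inv_left_fst w V)

/-- The adjunct of the base change map evaluated on a section. -/
theorem unit_baseChange0_app (F : EtCoh.Ab X) (V : Y.Etale)
    (z : EtCoh.sect ((EtCoh.push f).obj F) V) :
    (EtCoh.baseChange0 f g f' g' w F).hom.app (op ((EtCoh.bc g).obj V))
        (((EtCoh.pullPushAdj g).unit.app ((EtCoh.push f).obj F)).hom.app (op V) z) =
      ((EtCoh.pull g').obj F).obj.map (bcSwap f g f' g' w V).op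
        (((EtCoh.pullPushAdj g').unit.app F).hom.app (op ((EtCoh.bc f).obj V)) z) := by
  have h : (EtCoh.pullPushAdj g).unit.app ((EtCoh.push f).obj F) ≫
      (EtCoh.push g).map (EtCoh.baseChange0 f g f' g' w F) =
        (EtCoh.push f).map ((EtCoh.pullPushAdj g').unit.app F) ≫ (EtCoh.pushComp f g').hom.app _ ≫
          (EtCoh.pushCongr w).hom.app _ ≫ (EtCoh.pushComp g f').inv.app _ := by
    exact (Adjunction.homEquiv_unit _ _ _ _).symm.trans (Equiv.apply_symm_apply _ _)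
  have h2 := congrArg (fun m => (ConcreteCategory.hom (m.hom.app (op V))) z) h
  refine Eq.trans h2 ?_
  simp only [bcSwap, op_comp, Functor.map_comp]
  rfl

variable {Ω : Type u} [Field Ω] [IsSepClosed Ω] (ξ : Spec (CommRingCat.of Ω) ⟶ X')

omit [IsSepClosed Ω] in
theorem comp_w (w : g' ≫ f = f' ≫ g) : (ξ ≫ g') ≫ f = (ξ ≫ f') ≫ g := by simp [w]

/-- The base change map on stalks. -/
theorem stalk_baseChange0 (F : EtCoh.Ab X) (p : (EtCoh.stalk ((ξ ≫ f') ≫ g)).obj ((EtCoh.push f).obj F)) :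
    (pushStalkMap f' ξ).app ((EtCoh.pull g').obj F)
        ((EtCoh.stalk (ξ ≫ f')).map (EtCoh.baseChange0 f g f' g' w F)
          ((stalkPullIso g (ξ ≫ f')).hom.app ((EtCoh.push f).obj F) p)) =
      (stalkPullIso g' ξ).hom.app F
        ((germMap f ((ξ ≫ f') ≫ g) (ξ ≫ g') (comp_w f g f' g' ξ w)).app F p) := by
  obtain ⟨V, t, z, rfl⟩ := (Scheme.pointSmallEtale ((ξ ≫ f') ≫ g)).toPresheafFiber_jointly_surjective
    (P := ((EtCoh.push f).obj F).obj) p
  have h1 := ConcreteCategory.congr_hom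
    (toPresheafFiber_stalkPullIso_hom g (ξ ≫ f') ((EtCoh.push f).obj F) V t) z
  refine (congrArg (fun q => (pushStalkMap f' ξ).app ((EtCoh.pull g').obj F)
    ((EtCoh.stalk (ξ ≫ f')).map (EtCoh.baseChange0 f g f' g' w F) q)) h1).trans ?_
  have h2 := (Scheme.pointSmallEtale (ξ ≫ f')).toPresheafFiber_naturality_apply
    (EtCoh.baseChange0 f g f' g' w F).hom ((EtCoh.bc g).obj V) (bcPt g (ξ ≫ f') V t)
    (((EtCoh.pullPushAdj g).unit.app ((EtCoh.push f).obj F)).hom.app (op V) z)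
  refine (congrArg ((pushStalkMap f' ξ).app ((EtCoh.pull g').obj F)) h2).trans ?_
  refine (pushStalkMap_germ f' ξ ((EtCoh.pull g').obj F) ((EtCoh.bc g).obj V) (bcPt g (ξ ≫ f') V t) _).trans ?_
  rw [germMap_germ]
  have h3 := ConcreteCategory.congr_hom (toPresheafFiber_stalkPullIso_hom g' ξ F ((EtCoh.bc f).obj V)
    (liftPt f ((ξ ≫ f') ≫ g) (ξ ≫ g') (comp_w f g f' g' ξ w) V t)) z
  refine Eq.trans ?_ h3.symm
  rw [unit_baseChange0_app]
  refine ((Scheme.pointSmallEtale ξ).toPresheafFiber_w_apply _ _ _ _).trans ?_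
  refine congrArg (fun q => (Scheme.pointSmallEtale ξ).toPresheafFiber _ q ((EtCoh.pull g').obj F).obj _) ?_
  refine Over.OverMorphism.ext (pullback.hom_ext (pullback.hom_ext ?_ ?_) ?_)
  · refine Eq.trans ?_ ((congrArg (· ≫ pullback.fst V.hom f) (bcPt_left_fst g' ξ _ _)).trans
      (pullback.lift_fst _ _ _)).symm
    refine (Category.assoc _ _ _).trans ((Category.assoc _ _ _).trans ?_)
    refine (congrArg (_ ≫ ·) (bcSwap_left_fst f g f' g' w V)).trans ?_
    refine (Category.assoc _ _ _).symm.trans ?_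
    exact (congrArg (· ≫ pullback.fst V.hom g) (bcPt_left_fst f' ξ _ _)).trans (bcPt_left_fst g _ V t)
  · refine Eq.trans ?_ ((congrArg (· ≫ pullback.snd V.hom f) (bcPt_left_fst g' ξ _ _)).trans
      (pullback.lift_snd _ _ _)).symm
    refine (Category.assoc _ _ _).trans ((congrArg (_ ≫ ·) pullback.condition).trans ?_)
    exact (Category.assoc _ _ _).symm.trans (congrArg (· ≫ g') (Over.w _))
  · exact (Over.w _).trans (Over.w _).symm

end Groth.Agent.EtSite

namespace Groth.Agent.EtSite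

variable {X Y X' Y' : Scheme.{u}} (f : X ⟶ Y) (g : Y' ⟶ Y) (f' : X' ⟶ Y') (g' : X' ⟶ X)

theorem germMap_baseChange0 (w : g' ≫ f = f' ≫ g) {Ω : Type u} [Field Ω] [IsSepClosed Ω]
    (η : Spec (CommRingCat.of Ω) ⟶ Y') (ξ : Spec (CommRingCat.of Ω) ⟶ X') (h : ξ ≫ f' = η)
    (hh : (ξ ≫ g') ≫ f = η ≫ g) (F : EtCoh.Ab X)
    (p : (EtCoh.stalk (η ≫ g)).obj ((EtCoh.push f).obj F)) :
    (germMap f' η ξ h).app ((EtCoh.pull g').obj F)
        ((EtCoh.stalk η).map (EtCoh.baseChange0 f g f' g' w F)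
          ((stalkPullIso g η).hom.app ((EtCoh.push f).obj F) p)) =
      (stalkPullIso g' ξ).hom.app F ((germMap f (η ≫ g) (ξ ≫ g') hh).app F p) := by
  subst h
  have e : germMap f' (ξ ≫ f') ξ rfl = pushStalkMap f' ξ := by simp [germMap]
  rw [e]
  exact stalk_baseChange0 f g f' g' w ξ F p

/-- Base change along a finite morphism is bijective on stalks at algebraically closed points. -/
theorem isIso_stalk_baseChange0_of_finite [IsFinite f] [IsFinite f'] (h : IsPullback g' f' f g)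
    {Ω : Type u} [Field Ω] [IsAlgClosed Ω] (η : Spec (CommRingCat.of Ω) ⟶ Y') (F : EtCoh.Ab X) :
    IsIso ((EtCoh.stalk η).map (EtCoh.baseChange0 f g f' g' h.w F)) := by
  suffices IsIso ((stalkPullIso g η).hom.app ((EtCoh.push f).obj F) ≫
      (EtCoh.stalk η).map (EtCoh.baseChange0 f g f' g' h.w F)) from
    IsIso.of_isIso_comp_left ((stalkPullIso g η).hom.app ((EtCoh.push f).obj F)) _
  rw [ConcreteCategory.isIso_iff_bijective]
  let H := fun (ξ : Spec (CommRingCat.of Ω) ⟶ X') =>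
    ((ConcreteCategory.isIso_iff_bijective ((stalkPullIso g' ξ).hom.app F)).1 inferInstance)
  refine ⟨(injective_iff_map_eq_zero _).2 fun p hp => ?_, fun q => ?_⟩
  · refine germMap_jointly_injective f (η ≫ g) F p fun ξ hξ => ?_
    obtain ⟨ξ', rfl, hξ'⟩ : ∃ ξ', ξ' ≫ g' = ξ ∧ ξ' ≫ f' = η :=
      ⟨h.lift ξ η hξ, h.lift_fst _ _ _, h.lift_snd _ _ _⟩
    refine (H ξ').1 ?_
    rw [map_zero, ← germMap_baseChange0 f g f' g' h.w η ξ' hξ' hξ F p]
    exact (congrArg _ hp).trans (map_zero _)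
  · have hz : ∀ ξ : {ξ : Spec (CommRingCat.of Ω) ⟶ X // ξ ≫ f = η ≫ g},
        ∃ z : (EtCoh.stalk ξ.1).obj F, ∀ (ξ' : Spec (CommRingCat.of Ω) ⟶ X') (h' : ξ' ≫ f' = η)
          (e : ξ' ≫ g' = ξ.1), (stalkPullIso g' ξ').hom.app F (e ▸ z) =
            (germMap f' η ξ' h').app ((EtCoh.pull g').obj F) q := by
      rintro ⟨ξ, hξ⟩
      obtain ⟨ξ₀, rfl, h₀⟩ : ∃ ξ', ξ' ≫ g' = ξ ∧ ξ' ≫ f' = η :=
        ⟨h.lift ξ η hξ, h.lift_fst _ _ _, h.lift_snd _ _ _⟩
      obtain ⟨z, hz⟩ := (H ξ₀).2 ((germMap f' η ξ₀ h₀).app ((EtCoh.pull g').obj F) q)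
      refine ⟨z, fun ξ' h' e => ?_⟩
      obtain rfl : ξ' = ξ₀ := h.hom_ext e (h'.trans h₀.symm)
      exact hz
    choose z hz using hz
    obtain ⟨p, hp⟩ := germMap_jointly_surjective f (η ≫ g) F z
    refine ⟨p, sub_eq_zero.1 (germMap_jointly_injective f' η _ _ fun ξ' h' => ?_)⟩
    rw [map_sub, sub_eq_zero]
    have hh : (ξ' ≫ g') ≫ f = η ≫ g := by rw [Category.assoc, h.w, reassoc_of% h']
    refine (germMap_baseChange0 f g f' g' h.w η ξ' h' hh F p).trans ?_
    rw [hp ⟨ξ' ≫ g', hh⟩]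
    exact hz ⟨ξ' ≫ g', hh⟩ ξ' h' rfl

end Groth.Agent.EtSite
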