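import Groth.Agent.EtSite.SpecConstr
import Groth.Agent.BMCoh.Basic
import Groth.Agent.HenselLib.EtaleNormal

/-!
# Finite local constancy along reduced schemes and open covers
-/

set_option autoImplicit false
universe u

open CategoryTheory CategoryTheory.Limits AlgebraicGeometry Opposite Topology TopologicalSpace

namespace Groth.Agent.EtSite.ReducedFLC

open LocConst FLCBasic FLCOps Strata SpecFLC SpecConstr

variable {X : Scheme.{u}}

theorem isFLC_of_open_cover {F : EtCoh.Ab X}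
    (h : ∀ x : X, ∃ O : X.Opens, x ∈ O ∧ EtCoh.IsFiniteLocallyConstant ((EtCoh.pull O.ι).obj F)) :
    EtCoh.IsFiniteLocallyConstant F := by
  refine isFLC_of_forall_point fun x => ?_
  obtain ⟨O, hxO, hO⟩ := h x
  obtain ⟨ξ₁, hξ₁⟩ := StrataACC.exists_lift_immersion O.ι (gpt x)
    ⟨⟨x, hxO⟩, (gpt_apply x _).symm⟩
  obtain ⟨U, t, M, _, _, φ, hφ⟩ := localData_of_isFLC hO _ ξ₁
  have hfin₁ : Finite ((EtCoh.stalk ξ₁).obj ((EtCoh.pull O.ι).obj F)) :=
    Finite.of_surjective _ (gm_bijective hφ ξ₁ t).2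
  have : Finite ((EtCoh.stalk (gpt x)).obj F) := by
    rw [← hξ₁]
    exact @Finite.of_injective _ _ hfin₁ ((stalkPullIso O.ι ξ₁).app F).hom
      ((ConcreteCategory.isIso_iff_bijective _).1 inferInstance).1
  obtain ⟨W, -, s, φ₀, hs, hb⟩ := exists_candidate F (gpt x)
  let O₁ : W.left.Opens := W.hom ⁻¹ᵁ O
  let G := (EtCoh.pull W.hom).obj F
  have hG : EtCoh.IsFiniteLocallyConstant ((EtCoh.pull O₁.ι).obj G) :=
    isFLC_of_iso ((EtCore.pullComp O₁.ι W.hom).app F)
      (isFLC_pull_of_eq_comp (W.hom.resLE O O₁ le_rfl) O.ι _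
        (Scheme.Hom.resLE_comp_ι W.hom le_rfl).symm hO)
  have hopen : IsOpen (O₁.ι ⁻¹' bijLocus G (toW F W φ₀)) := by
    rw [preimage_bijLocus]
    exact (isClopen_bijSet hG _ (fun Ω _ _ ξ => ⟨bcPt O₁.ι ξ _ (topElt (ξ ≫ O₁.ι))⟩)
      (fun Ω _ _ ξ => ⟨fun a b => (bcPt_unbcPt O₁.ι ξ _ a).symm.trans ((congrArg _
        ((topElt_unique _).trans (topElt_unique _).symm)).trans (bcPt_unbcPt O₁.ι ξ _ b))⟩)).2
  have hsO : s default ∈ O₁ := by
    show W.hom (s default) ∈ O
    have : W.hom (s default) = x := (Scheme.Hom.comp_apply _ _ _).symm.trans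
      ((congrArg (fun m : Spec (CommRingCat.of (SeparableClosure (X.residueField x))) ⟶ X => m default)
        hs).trans (gpt_apply x _))
    rw [this]
    exact hxO
  have hbl : s default ∈ bijLocus G (toW F W φ₀) := by
    obtain ⟨s₁, rfl⟩ := StrataACC.exists_lift_immersion O₁.ι s ⟨⟨_, hsO⟩, rfl⟩
    intro Ω _ _ s' hs'
    obtain ⟨s₂, rfl⟩ := StrataACC.exists_lift_immersion O₁.ι s' ⟨s₁ default, by
      rw [← Scheme.Hom.comp_apply]; exact hs'.symm⟩
    have hpt : s₂ default = s₁ default := O₁.ι.isOpenEmbedding.injective (by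
      rw [← Scheme.Hom.comp_apply, ← Scheme.Hom.comp_apply]; exact hs')
    obtain ⟨ψ⟩ := Specialize.nonempty_pointHom (ξ := s₁) s₂ (hpt ▸ specializes_rfl)
    obtain ⟨U', t', M', _, _, χ, hχ⟩ := localData_of_isFLC hG _ s₁
    exact (bijAt_iff G _ (Specialize.pushHom O₁.ι ψ) (pushHom_bijective hχ t' ψ)).1 hb
  let E : W.left.Opens := ⟨O₁.ι '' (O₁.ι ⁻¹' bijLocus G (toW F W φ₀)),
    O₁.ι.isOpenEmbedding.isOpenMap _ hopen⟩
  refine ⟨AllPoints.res W E, (⟨s default, ⟨⟨_, hsO⟩, hbl, rfl⟩⟩ : E.toScheme),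
    _, inferInstance, inferInstance, _, ?_, germBij_of_subset E (Set.image_preimage_subset _ _)⟩
  change (E.ι ≫ W.hom) _ = x
  rw [Scheme.Hom.comp_apply]
  exact (Scheme.Hom.comp_apply _ _ _).symm.trans
    ((congrArg (fun m : Spec (CommRingCat.of (SeparableClosure (X.residueField x))) ⟶ X => m default)
      hs).trans (gpt_apply x _))
where
  pushHom_bijective {T S : Scheme.{u}} {j : T ⟶ S} {G : EtCoh.Ab S} {U : T.Etale} {M : Type (u + 1)}
      [AddCommGroup M] {χ : M →+ EtCoh.sect ((EtCoh.pull j).obj G) U}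
      (hχ : GermBij ((EtCoh.pull j).obj G) U χ) {Ω Ω' : Type u} [Field Ω] [IsSepClosed Ω] [Field Ω']
      [IsSepClosed Ω'] {η : Spec (CommRingCat.of Ω) ⟶ T} {η' : Spec (CommRingCat.of Ω') ⟶ T}
      (t : (Scheme.pointSmallEtale η).fiber.obj U)
      (ψ : Scheme.pointSmallEtale η' ⟶ Scheme.pointSmallEtale η) :
      Function.Bijective (spMap (Specialize.pushHom j ψ) G) := by
    have h := spMap_bijective_of_germBij hχ t ψ
    let a := ((stalkPullIso j η').app G)
    let b := ((stalkPullIso j η).app G)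
    have h2 : Function.Bijective (b.hom ≫ spMap ψ ((EtCoh.pull j).obj G)) :=
      h.comp ((ConcreteCategory.isIso_iff_bijective b.hom).1 inferInstance)
    rw [Specialize.sheafFiber_pull_comm j G ψ] at h2
    exact (Function.Bijective.of_comp_iff' ((ConcreteCategory.isIso_iff_bijective a.hom).1 inferInstance) _).1 h2

theorem isFLC_pull_of_flcOn {F : EtCoh.Ab X} {Z : Set X} (hZ : FLCOn F Z) {T : Scheme.{u}}
    [AlgebraicGeometry.IsReduced T] (h : T ⟶ X) (hr : Set.range h ⊆ Z) :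
    EtCoh.IsFiniteLocallyConstant ((EtCoh.pull h).obj F) := by
  obtain ⟨T₁, g, hg, hZg, hF⟩ := hZ
  let p := pullback.fst h g
  have hp : Set.range p = Set.univ := by
    rw [Scheme.Pullback.range_fst]
    exact Set.eq_univ_of_forall fun z => hZg (hr ⟨z, rfl⟩)
  have : IsImmersion p := inferInstanceAs (IsImmersion (pullback.fst h g))
  have : Surjective p := ⟨fun z => hp.ge (Set.mem_univ z)⟩
  have : IsClosedImmersion p := IsClosedImmersion.of_isPreimmersion _ (hp ▸ isClosed_univ)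
  have : IsIso p := isIso_of_isClosedImmersion_of_surjective p
  exact isFLC_pull_of_eq_comp (inv p ≫ pullback.snd h g) g h (by
    rw [Category.assoc, ← pullback.condition, IsIso.inv_hom_id_assoc]) hF

theorem isReduced_of_etale {T T' : Scheme.{u}} (f : T' ⟶ T) [Etale f] [AlgebraicGeometry.IsReduced T] :
    AlgebraicGeometry.IsReduced T' := by
  have : ∀ x : T', _root_.IsReduced (T'.presheaf.stalk x) := fun x => by
    obtain ⟨A, hA, hxA, -⟩ := exists_isAffineOpen_mem_and_subset (x := f x) (U := ⊤) trivial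
    obtain ⟨B, hB, hxB, hBA⟩ := exists_isAffineOpen_mem_and_subset (x := x) (U := f ⁻¹ᵁ A) hxA
    have he : (f.appLE A B hBA).hom.Etale := HasRingHomProperty.appLE @Etale f inferInstance ⟨A, hA⟩ ⟨B, hB⟩ hBA
    algebraize [(f.appLE A B hBA).hom]
    have : _root_.IsReduced Γ(T', B) := HenselLib.isReduced_of_etale Γ(T, A) Γ(T', B)
    let _ := TopCat.Presheaf.algebra_section_stalk T'.presheaf ⟨x, hxB⟩
    have : IsLocalization.AtPrime (T'.presheaf.stalk x) (hB.primeIdealOf ⟨x, hxB⟩).asIdeal :=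
      hB.isLocalization_stalk ⟨x, hxB⟩
    exact isReduced_localizationPreserves (hB.primeIdealOf ⟨x, hxB⟩).asIdeal.primeCompl _ inferInstance
  exact isReduced_of_isReduced_stalk T'

theorem exists_reduced_immersion {L : Set X} (hL : IsLocallyClosed L) :
    ∃ (T : Scheme.{u}) (g : T ⟶ X),
      IsImmersion g ∧ AlgebraicGeometry.IsReduced T ∧ Set.range g = L := by
  obtain ⟨O, K, hO, hK, rfl⟩ := hL
  let U : X.Opens := ⟨O, hO⟩
  let Z : TopologicalSpace.Closeds U := ⟨U.ι ⁻¹' K, hK.preimage U.ι.continuous⟩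
  let I := Scheme.IdealSheafData.vanishingIdeal Z
  refine ⟨I.subscheme, I.subschemeι ≫ U.ι, inferInstance,
    BMCoh.isReduced_vanishingIdeal_subscheme Z, ?_⟩
  rw [Scheme.Hom.comp_base, TopCat.coe_comp, Set.range_comp, Scheme.IdealSheafData.range_subschemeι,
    Scheme.IdealSheafData.coe_support_vanishingIdeal]
  ext x
  simp only [Set.mem_image, Set.mem_inter_iff]
  constructor
  · rintro ⟨y, hy, rfl⟩
    exact ⟨y.2, hy⟩
  · rintro ⟨hxO, hxK⟩
    exact ⟨⟨x, hxO⟩, hxK, rfl⟩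

end Groth.Agent.EtSite.ReducedFLC
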