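import Groth.Agent.EtSite.SubmersiveSections
import Groth.Agent.EtSite.BaseChangeStalk
import Groth.Agent.EtSite.ReducedFLC
import Groth.Agent.FieldExtConn.Conn
import Groth.Agent.S7566
import Groth.Prelude.Def_EtCore

/-!
# Sections on a product over a separably closed field
-/

set_option autoImplicit false
set_option backward.isDefEq.respectTransparency.types false

universe u

open CategoryTheory CategoryTheory.Limits AlgebraicGeometry Opposite

namespace Groth.Agent.EtSite.ProductSections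

open FLCOps SubmersiveSections

theorem geometricallyConnected_of_isSepClosed {k : Type u} [Field k] [IsSepClosed k] {X : Scheme.{u}}
    [ConnectedSpace X] (f : X ⟶ Spec (CommRingCat.of k)) : GeometricallyConnected f := by
  obtain ⟨x⟩ := (inferInstance : Nonempty X)
  obtain ⟨φ, hφ⟩ := Spec.map_surjective (X.fromSpecResidueField x ≫ f)
  let _ := φ.hom.toAlgebra
  have := FieldExtConn.geometricallyConnected_ext_of_primary (k := k) (X.residueField x)
    (IntermediateField.eq_bot_of_isSepClosed_of_isSeparable _)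
  have : Nonempty (Spec (X.residueField x) : Scheme.{u}) := ⟨IsLocalRing.closedPoint (X.residueField x)⟩
  exact FieldExtConn.geometricallyConnected_of_hom f (X.fromSpecResidueField x)
    (g := FieldExtConn.ext k (X.residueField x)) hφ.symm

/-- The inverse image of the final object is final. -/
theorem hom_ext_bc_top {P M : Scheme.{u}} (a : P ⟶ M) {Z : P.Etale}
    (p q : Z ⟶ (EtCoh.bc a).obj (EtCoh.top M)) : p = q := by
  have : IsIso ((EtCoh.bc a).obj (EtCoh.top M)).hom :=
    inferInstanceAs (IsIso (pullback.snd (𝟙 M) a))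
  exact MorphismProperty.Over.Hom.ext ((cancel_mono ((EtCoh.bc a).obj (EtCoh.top M)).hom).1
    ((Over.w p.toCommaMorphism).trans (Over.w q.toCommaMorphism).symm))

theorem hom_ext_bc_bc_top {P M X : Scheme.{u}} (a : P ⟶ M) (b : M ⟶ X) {Z : P.Etale}
    (p q : Z ⟶ (EtCoh.bc a).obj ((EtCoh.bc b).obj (EtCoh.top X))) : p = q := by
  have : IsIso ((EtCoh.bc b).obj (EtCoh.top X)).hom := inferInstanceAs (IsIso (pullback.snd (𝟙 X) b))
  have : IsIso ((EtCoh.bc a).obj ((EtCoh.bc b).obj (EtCoh.top X))).hom :=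
    inferInstanceAs (IsIso (pullback.snd ((EtCoh.bc b).obj (EtCoh.top X)).hom a))
  exact MorphismProperty.Over.Hom.ext ((cancel_mono ((EtCoh.bc a).obj ((EtCoh.bc b).obj (EtCoh.top X))).hom).1
    ((Over.w p.toCommaMorphism).trans (Over.w q.toCommaMorphism).symm))

/-- Pullbacks of sections compose. -/
theorem pullComp_eta {P M X : Scheme.{u}} (a : P ⟶ M) (b : M ⟶ X) (F : EtCoh.Ab X) (V : X.Etale)
    (x : EtCoh.sect F V) :
    ((EtCore.pullComp a b).hom.app F).hom.app (op ((EtCoh.bc (a ≫ b)).obj V)) (eta (a ≫ b) F V x) =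
      ((EtCoh.pull a).obj ((EtCoh.pull b).obj F)).obj.map
        ((MorphismProperty.Over.pullbackComp (P := EtCoh.etaleMP) (Q := ⊤) a b).hom.app V).op
        (eta a ((EtCoh.pull b).obj F) ((EtCoh.bc b).obj V) (eta b F V x)) := by
  have h := Adjunction.unit_leftAdjointUniq_hom_app (EtCoh.pullPushAdj (a ≫ b))
    (((EtCoh.pullPushAdj b).comp (EtCoh.pullPushAdj a)).ofNatIsoRight (EtCoh.pushComp b a)) F
  exact congrArg (fun m => (ConcreteCategory.hom (m.hom.app (op V))) x) h

variable {k : Type u} [Field k] [IsSepClosed k] {X Y T : Scheme.{u}} {f : X ⟶ Spec (CommRingCat.of k)}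
  {g : T ⟶ Spec (CommRingCat.of k)} {h : Y ⟶ X} {e : Y ⟶ T}

/-- Near a point of `U` a section over `U × T` comes from `T`. -/
theorem exists_const [QuasiCompact g] (hc : IsPullback e h g f) (F : EtCoh.Ab T) (U : X.Etale)
    [CompactSpace U.left] [QuasiSeparatedSpace U.left]
    (s : EtCoh.sect ((EtCoh.pull e).obj F) ((EtCoh.bc h).obj U)) (x₀ : U.left) :
    ∃ (V : X.Etale) (i : V ⟶ U) (w : (EtCoh.bc h).obj V ⟶ (EtCoh.bc e).obj (EtCoh.top T))
      (a : EtCoh.sect F (EtCoh.top T)), x₀ ∈ Set.range i.left.base ∧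
      ((EtCoh.pull e).obj F).obj.map ((EtCoh.bc h).map i).op s =
        ((EtCoh.pull e).obj F).obj.map w.op (eta e F (EtCoh.top T) a) := by
  obtain ⟨C, ic, hic, -, hr⟩ := ReducedFLC.exists_reduced_immersion (X := U.left) (L := connectedComponent x₀)
    ⟨Set.univ, _, isOpen_univ, isClosed_connectedComponent, (Set.univ_inter _).symm⟩
  have : ConnectedSpace C :=
    { toPreconnectedSpace := ⟨ic.isEmbedding.isInducing.isPreconnected_image.1 (by
          rw [Set.image_univ, hr]; exact isPreconnected_connectedComponent)⟩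
      toNonempty := by
        obtain ⟨c, -⟩ := hr.ge mem_connectedComponent
        exact ⟨c⟩ }
  have := geometricallyConnected_of_isSepClosed (ic ≫ U.hom ≫ f)
  let P := pullback (ic ≫ U.hom ≫ f) g
  let j : P ⟶ Y := hc.lift (pullback.snd _ _) (pullback.fst _ _ ≫ ic ≫ U.hom) (by
    rw [Category.assoc, Category.assoc, pullback.condition])
  have hje : j ≫ e = pullback.snd _ _ := hc.lift_fst _ _ _
  have hjh : j ≫ h = pullback.fst _ _ ≫ ic ≫ U.hom := hc.lift_snd _ _ _
  let j' : P ⟶ pullback U.hom h :=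
    pullback.lift (pullback.fst _ _ ≫ ic) j (by rw [Category.assoc, hjh])
  have hj' : j' ≫ pullback.snd U.hom h = j := pullback.lift_snd _ _ _
  have : UniversallyOpen (ic ≫ U.hom ≫ f) := inferInstance
  have hgc : GeometricallyConnected (j ≫ e) := by rw [hje]; infer_instance
  have huo : UniversallyOpen (j ≫ e) := by rw [hje]; infer_instance
  have hsub : ∀ (S' : Scheme.{u}) (g' : S' ⟶ T), Topology.IsQuotientMap (pullback.snd (j ≫ e) g').base :=
    fun S' g' => (pullback.snd (j ≫ e) g').isOpenMap.isQuotientMap (pullback.snd (j ≫ e) g').continuous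
      (pullback.snd (j ≫ e) g').surjective
  have hbij := bijective_of_connected (j ≫ e) F hsub (fun Ω _ _ σ => inferInstance)
  let E := (EtCoh.pull e).obj F
  let M := (EtCoh.pull j).obj E
  let σ : EtCoh.top P ⟶ (EtCoh.bc j).obj ((EtCoh.bc h).obj U) :=
    MorphismProperty.Over.homMk (pullback.lift (show P ⟶ ((EtCoh.bc h).obj U).left from j') (𝟙 P) (hj'.trans (Category.id_comp j).symm))
      (pullback.lift_snd _ _ _) trivial
  let u : (EtCoh.bc (j ≫ e)).obj (EtCoh.top T) ⟶ EtCoh.top P := toTop _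
  let κ := ((EtCore.pullComp j e).hom.app F).hom.app (op ((EtCoh.bc (j ≫ e)).obj (EtCoh.top T)))
  have : IsIso κ := inferInstanceAs
    (IsIso (((EtCore.pullComp j e).app F).hom.hom.app (op ((EtCoh.bc (j ≫ e)).obj (EtCoh.top T)))))
  obtain ⟨s'', hs''⟩ := (ConcreteCategory.bijective_of_isIso κ).2
    (M.obj.map u.op (M.obj.map σ.op (eta j E ((EtCoh.bc h).obj U) s)))
  obtain ⟨a, rfl⟩ := hbij.2 s''
  have : IsIso ((EtCoh.bc e).obj (EtCoh.top T)).hom := inferInstanceAs (IsIso (pullback.snd (𝟙 T) e))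
  let w₀ : (EtCoh.bc h).obj U ⟶ (EtCoh.bc e).obj (EtCoh.top T) :=
    MorphismProperty.Over.homMk (((EtCoh.bc h).obj U).hom ≫ inv ((EtCoh.bc e).obj (EtCoh.top T)).hom)
      (by rw [Category.assoc, IsIso.inv_hom_id, Category.comp_id]) trivial
  let a' : EtCoh.sect E ((EtCoh.bc h).obj U) := E.obj.map w₀.op (eta e F (EtCoh.top T) a)
  have key : M.obj.map (u ≫ σ).op (eta j E _ a') = M.obj.map (u ≫ σ).op (eta j E _ s) := by
    refine Eq.trans ?_ ((op_comp (f := u) (g := σ)) ▸ ((Functor.map_comp_apply M.obj _ _ _).symm))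
    rw [← eta_map]
    refine ((Functor.map_comp_apply M.obj _ _ _).symm.trans ?_).trans hs''
    refine Eq.trans ?_ (pullComp_eta j e F (EtCoh.top T) a).symm
    rw [← op_comp, hom_ext_bc_bc_top j e ((u ≫ σ) ≫ (EtCoh.bc j).map w₀)
      ((MorphismProperty.Over.pullbackComp (P := EtCoh.etaleMP) (Q := ⊤) j e).hom.app (EtCoh.top T))]
    rfl
  have hC : ∀ z : ((EtCoh.bc h).obj U).left, (pullback.fst U.hom h).base z ∈ connectedComponent x₀ →
      z ∈ eqLocus E a' s := by
    intro z hz
    obtain ⟨c, hcz⟩ := hr.ge hz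
    obtain ⟨y, hy, -⟩ := Scheme.Pullback.exists_preimage_pullback (f := pullback.fst U.hom h) (g := ic) z c hcz.symm
    let l : pullback (pullback.fst U.hom h) ic ⟶ P :=
      pullback.lift (pullback.snd _ _) (pullback.fst _ _ ≫ pullback.snd U.hom h ≫ e) (by
        rw [Category.assoc, Category.assoc, hc.w, ← pullback.condition_assoc (f := U.hom) (g := h),
          ← pullback.condition_assoc (f := pullback.fst U.hom h) (g := ic)])
    have hl : l ≫ j' = pullback.fst (pullback.fst U.hom h) ic := by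
      refine pullback.hom_ext ?_ (hc.hom_ext ?_ ?_)
      · rw [Category.assoc, pullback.lift_fst, pullback.lift_fst_assoc, pullback.condition]
      · rw [Category.assoc l j', pullback.lift_snd, Category.assoc l j, hje, pullback.lift_snd, Category.assoc]
      · rw [Category.assoc l j', pullback.lift_snd, Category.assoc l j, hjh, pullback.lift_fst_assoc,
          ← pullback.condition_assoc, pullback.condition, Category.assoc]
    have hzz : j'.base (l.base y) = z := by
      rw [← Scheme.Hom.comp_apply, hl]; exact hy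
    have : IsIso ((EtCoh.bc (j ≫ e)).obj (EtCoh.top T)).hom :=
      inferInstanceAs (IsIso (pullback.snd (𝟙 T) (j ≫ e)))
    let p : ((EtCoh.bc (j ≫ e)).obj (EtCoh.top T)).left :=
      (inv ((EtCoh.bc (j ≫ e)).obj (EtCoh.top T)).hom).base (l.base y)
    have h2 : (u ≫ σ).left.base p ∈ eqLocus M (eta j E _ a') (eta j E _ s) := by
      rw [← mem_eqLocus_map, key]
      exact ⟨_, 𝟙 _, ⟨p, rfl⟩, rfl⟩
    rw [mem_eqLocus_eta] at h2
    have h3 : (pullback.fst ((EtCoh.bc h).obj U).hom j).base ((u ≫ σ).left.base p) = z := by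
      have e2 : u.left ≫ (EtCoh.top P).hom = ((EtCoh.bc (j ≫ e)).obj (EtCoh.top T)).hom :=
        Over.w u.toCommaMorphism
      have e3 : (u ≫ σ).left ≫ pullback.fst ((EtCoh.bc h).obj U).hom j =
          ((EtCoh.bc (j ≫ e)).obj (EtCoh.top T)).hom ≫ j' :=
        ((Category.assoc _ _ _).trans (congrArg (u.left ≫ ·) (pullback.lift_fst _ _ _))).trans
          (congrArg (· ≫ j') ((Category.comp_id _).symm.trans e2))
      have e4 : ((EtCoh.bc (j ≫ e)).obj (EtCoh.top T)).hom.base p = l.base y :=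
        (Scheme.Hom.comp_apply _ _ _).symm.trans
          (congrArg (fun m : P ⟶ P => m.base (l.base y)) (IsIso.inv_hom_id ((EtCoh.bc (j ≫ e)).obj (EtCoh.top T)).hom))
      exact (Scheme.Hom.comp_apply _ _ _).symm.trans ((congrArg (fun m : _ ⟶ pullback U.hom h => m.base p) e3).trans
        ((Scheme.Hom.comp_apply _ _ _).trans ((congrArg j'.base e4).trans hzz)))
    exact h3 ▸ h2
  have : QuasiCompact h := MorphismProperty.of_isPullback hc inferInstance
  have hqc : QuasiCompact (pullback.fst U.hom h) := MorphismProperty.pullback_fst _ _ ‹QuasiCompact h›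
  have : CompactSpace ((EtCoh.bc h).obj U).left :=
    @QuasiCompact.compactSpace_of_compactSpace _ _ (pullback.fst U.hom h) hqc (inferInstanceAs (CompactSpace U.left))
  have hK : IsCompact ((pullback.fst U.hom h).base '' (eqLocus E a' s)ᶜ) :=
    ((isOpen_eqLocus E a' s).isClosed_compl.isCompact).image (pullback.fst U.hom h).continuous
  have hcl := S7566.result (X := U.left) x₀
  obtain ⟨I, hI⟩ := hK.elim_finite_subcover (fun Z : {Z : Set U.left // IsClopen Z ∧ x₀ ∈ Z} => Z.1ᶜ)
    (fun Z => Z.2.1.isClosed.isOpen_compl) (by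
      rintro _ ⟨z, hz, rfl⟩
      by_contra hn
      refine hz (hC z ?_)
      rw [hcl, Set.mem_sInter]
      intro Z hZ
      by_contra hzZ
      exact hn (Set.mem_iUnion.2 ⟨⟨Z, hZ⟩, hzZ⟩))
  let N : U.left.Opens := ⟨⋂ Z ∈ I, Z.1, isOpen_biInter_finset fun Z _ => Z.2.1.isOpen⟩
  let i := AllPoints.resι U N
  refine ⟨AllPoints.res U N, i, (EtCoh.bc h).map i ≫ w₀, a,
    (AllPoints.range_resι U N).ge (Set.mem_iInter₂.2 fun Z _ => Z.2.2), ?_⟩
  rw [op_comp, Functor.map_comp_apply]
  refine eq_of_eqLocus E fun z => ?_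
  rw [mem_eqLocus_map]
  have hN : (pullback.fst U.hom h).base (((EtCoh.bc h).map i).left.base z) ∈ N := by
    refine (AllPoints.range_resι U N).le ⟨(pullback.fst (AllPoints.res U N).hom h).base z, ?_⟩
    exact (Scheme.Hom.comp_apply _ _ _).symm.trans
      ((congrArg (fun m : _ ⟶ U.left => m.base z) (bc_map_left_fst h i).symm).trans (Scheme.Hom.comp_apply _ _ _))
  have hz : ((EtCoh.bc h).map i).left.base z ∈ eqLocus E a' s := by
    by_contra hn
    obtain ⟨Z, hZI, hZ⟩ := Set.mem_iUnion₂.1 (hI ⟨_, hn, rfl⟩)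
    exact hZ (Set.mem_iInter₂.1 hN Z hZI)
  obtain ⟨V, q, hv, hq⟩ := hz
  exact ⟨V, q, hv, hq.symm⟩

theorem isIso_baseChange0 [QuasiCompact g] (hc : IsPullback e h g f) (F : EtCoh.Ab T) :
    IsIso (EtCoh.baseChange0 g f h e hc.w F) := by
  refine isIso_of_stalks _ fun Ω _ _ ξ => (ConcreteCategory.isIso_iff_bijective _).2 ⟨?_, ?_⟩
  · refine (injective_iff_map_eq_zero _).2 fun p hp => ?_
    obtain ⟨p', rfl⟩ := (ConcreteCategory.bijective_of_isIso
      ((stalkPullIso f ξ).hom.app ((EtCoh.push g).obj F))).2 p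
    obtain ⟨W, tw, z', -, rfl⟩ := Sect.exists_gm _ (ξ ≫ f) p'
    have : Etale W.hom := W.prop
    obtain ⟨l, hl, hlw⟩ := Scheme.exists_fac_of_etale_of_isSepClosed W.hom (𝟙 _) (Sect.pt tw)
      (Subsingleton.elim (α := PrimeSpectrum k) _ _)
    let σ : EtCoh.top (Spec (CommRingCat.of k)) ⟶ W := MorphismProperty.Over.homMk l hl trivial
    obtain ⟨t₀, ht₀⟩ := Sect.exists_pt σ tw ⟨(default : Spec (CommRingCat.of k)), hlw⟩
    rw [← gm_res _ σ ht₀ z', ← gm_eta] at hp ⊢
    generalize ((EtCoh.push g).obj F).obj.map σ.op z' = z at hp ⊢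
    suffices hz : z = 0 by rw [hz]; exact (congrArg _ (map_zero _)).trans (map_zero _)
    have hnat := (Scheme.pointSmallEtale ξ).toPresheafFiber_naturality_apply
      (EtCoh.baseChange0 g f h e hc.w F).hom ((EtCoh.bc f).obj (EtCoh.top (Spec (CommRingCat.of k))))
      (bcPt f ξ (EtCoh.top (Spec (CommRingCat.of k))) t₀) (eta f ((EtCoh.push g).obj F) _ z)
    have h0 := hnat.symm.trans hp
    rw [unit_baseChange0_app] at h0
    obtain ⟨V, φ, v, -, hv⟩ := ((Scheme.pointSmallEtale ξ).toPresheafFiber_eq_iff' _ _ _ 0).1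
      (h0.trans (map_zero _).symm)
    refine eq_of_eqLocus F fun y => ?_
    let W₀ := (EtCoh.bc g).obj (EtCoh.top (Spec (CommRingCat.of k)))
    have : IsIso W₀.hom := inferInstanceAs (IsIso (pullback.snd (𝟙 (Spec (CommRingCat.of k))) g))
    obtain ⟨yy, hy1, hy2⟩ := Scheme.Pullback.exists_preimage_pullback (f := g) (g := f) (W₀.hom.base y)
      (V.hom.base (Sect.pt v)) (Subsingleton.elim (α := PrimeSpectrum k) _ _)
    let y₂ : Y := hc.isoPullback.inv.base yy
    have hy₂e : e.base y₂ = W₀.hom.base y := by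
      rw [← Scheme.Hom.comp_apply, hc.isoPullback_inv_fst]; exact hy1
    have hy₂h : h.base y₂ = V.hom.base (Sect.pt v) := by
      rw [← Scheme.Hom.comp_apply, hc.isoPullback_inv_snd]; exact hy2
    obtain ⟨w, -, hw⟩ := Scheme.Pullback.exists_preimage_pullback (f := V.hom) (g := h) (Sect.pt v) y₂ hy₂h.symm
    let ψ := (EtCoh.bc h).map φ ≫ bcSwap g f h e hc.w (EtCoh.top (Spec (CommRingCat.of k)))
    have h2 : ψ.left.base w ∈ eqLocus ((EtCoh.pull e).obj F) (eta e F W₀ z) (eta e F W₀ 0) := by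
      have hve : eta e F W₀ 0 = 0 := map_zero _
      rw [← mem_eqLocus_map, hve, map_zero]
      refine ⟨_, 𝟙 _, ⟨w, rfl⟩, congrArg _ ?_⟩
      refine (Functor.map_comp_apply _ _ _ _).trans ?_
      exact hv.trans (map_zero _)
    rw [mem_eqLocus_eta] at h2
    have h3 : (pullback.fst W₀.hom e).base (ψ.left.base w) = y := by
      apply W₀.hom.isOpenEmbedding.injective
      refine Eq.trans ?_ hy₂e
      refine (Scheme.Hom.comp_apply _ _ _).symm.trans ?_
      refine (congrArg (fun m : _ ⟶ T => m.base (ψ.left.base w)) (pullback.condition (f := W₀.hom) (g := e))).trans ?_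
      refine (Scheme.Hom.comp_apply _ _ _).trans (congrArg e.base ?_)
      refine ((Scheme.Hom.comp_apply _ _ _).symm.trans ?_).trans hw
      exact congrArg (fun m : _ ⟶ Y => m.base w) (Over.w ψ.toCommaMorphism)
    exact h3 ▸ h2
  · intro q
    obtain ⟨U, t, s, hU, rfl⟩ := Sect.exists_gm _ ξ q
    obtain ⟨V, i, w, a, hx, hva⟩ := exists_const hc F U s (Sect.pt t)
    obtain ⟨t', ht'⟩ := Sect.exists_pt i t hx
    let S₀ := EtCoh.top (Spec (CommRingCat.of k))
    have : IsIso ((EtCoh.bc f).obj S₀).hom := inferInstanceAs (IsIso (pullback.snd (𝟙 (Spec (CommRingCat.of k))) f))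
    let m : V ⟶ (EtCoh.bc f).obj S₀ := MorphismProperty.Over.homMk (V.hom ≫ inv ((EtCoh.bc f).obj S₀).hom)
      (by rw [Category.assoc, IsIso.inv_hom_id, Category.comp_id]) trivial
    let z : EtCoh.sect ((EtCoh.push g).obj F) S₀ := F.obj.map (toTop ((EtCoh.bc g).obj S₀)).op a
    let Q := (EtCoh.pull f).obj ((EtCoh.push g).obj F)
    refine ⟨gm ξ Q V t' (Q.obj.map m.op (eta f ((EtCoh.push g).obj F) S₀ z)), ?_⟩
    refine ((Scheme.pointSmallEtale ξ).toPresheafFiber_naturality_apply
      (EtCoh.baseChange0 g f h e hc.w F).hom V t' _).trans ?_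
    refine Eq.trans ?_ (gm_res _ i ht' s)
    refine congrArg (gm ξ ((EtCoh.push h).obj ((EtCoh.pull e).obj F)) V t') ?_
    refine (NatTrans.naturality_apply (EtCoh.baseChange0 g f h e hc.w F).hom m.op _).trans ?_
    rw [unit_baseChange0_app]
    refine Eq.trans ?_ hva.symm
    change ((EtCoh.pull e).obj F).obj.map ((EtCoh.bc h).map m).op _ = _
    rw [← Functor.map_comp_apply, ← op_comp]
    change ((EtCoh.pull e).obj F).obj.map _ (eta e F _ (F.obj.map _ a)) = _
    rw [← eta_map, ← Functor.map_comp_apply, ← op_comp]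
    rw [hom_ext_bc_top e (((EtCoh.bc h).map m ≫ bcSwap g f h e hc.w S₀) ≫
      (EtCoh.bc e).map (toTop ((EtCoh.bc g).obj S₀))) w]

end Groth.Agent.EtSite.ProductSections
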