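import Groth.Agent.HenselLib.LiftEtalePair
import Mathlib.AlgebraicGeometry.Morphisms.Etale
import Mathlib.AlgebraicGeometry.Morphisms.ClosedImmersion
import Mathlib.AlgebraicGeometry.PullbackCarrier

/-!
# Étale schemes over a closed subscheme extend locally
-/

set_option autoImplicit false
universe u

open CategoryTheory CategoryTheory.Limits AlgebraicGeometry

namespace Groth.Agent.EtSite

/-- Étale schemes over a closed subscheme extend locally on the source. -/
theorem exists_etale_extension {U Z X : Scheme.{u}} (i : Z ⟶ X) [IsClosedImmersion i] (g : U ⟶ Z)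
    [Etale g] (x : U) :
    ∃ (V : Scheme.{u}) (π : V ⟶ X) (_ : Etale π) (φ : pullback π i ⟶ U),
      φ ≫ g = pullback.snd π i ∧ IsOpenImmersion φ ∧ x ∈ Set.range φ := by
  -- an affine chart of `X`
  obtain ⟨A, j, _, ⟨a, ha⟩, -⟩ := Scheme.exists_affine_mem_range_and_range_subset
    (X := X) (x := i (g x)) (U := ⊤) (by trivial)
  have : IsClosedImmersion (pullback.snd i j) := inferInstance
  obtain ⟨I, e, he⟩ := IsClosedImmersion.Spec_iff.1 this
  let z : Spec (CommRingCat.of (A ⧸ I)) ⟶ Z := e.inv ≫ pullback.fst i j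
  let ci : Spec (CommRingCat.of (A ⧸ I)) ⟶ Spec A :=
    Spec.map (CommRingCat.ofHom (Ideal.Quotient.mk I))
  have hz : z ≫ i = ci ≫ j := by
    simp only [z, ci, Category.assoc, pullback.condition, he]
    rw [Iso.inv_hom_id_assoc]
  have hzr : Set.range z = i ⁻¹' Set.range j := by
    have : Set.range (pullback.fst i j) = i ⁻¹' Set.range j := Scheme.Pullback.range_fst i j
    rw [← this]
    ext p
    constructor
    · rintro ⟨q, rfl⟩
      exact ⟨e.inv q, (Scheme.Hom.comp_apply _ _ _).symm⟩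
    · rintro ⟨q, rfl⟩
      exact ⟨e.hom q, by rw [← Scheme.Hom.comp_apply, Iso.hom_inv_id_assoc]⟩
  -- an affine chart of `U` mapping into the chart
  obtain ⟨B, k, _, hxk, hkU⟩ := Scheme.exists_affine_mem_range_and_range_subset
    (X := U) (x := x) (U := (g ≫ i) ⁻¹ᵁ j.opensRange)
    (show (g ≫ i) x ∈ j.opensRange from ⟨a, by rw [Scheme.Hom.comp_apply]; exact ha⟩)
  have hsub : Set.range (k ≫ g) ⊆ Set.range z := by
    rintro _ ⟨p, rfl⟩
    rw [hzr, Scheme.Hom.comp_apply]
    exact hkU ⟨p, rfl⟩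
  let h : Spec B ⟶ Spec (CommRingCat.of (A ⧸ I)) := IsOpenImmersion.lift z (k ≫ g) hsub
  have hh : h ≫ z = k ≫ g := IsOpenImmersion.lift_fac _ _ _
  have hhet : Etale h := by
    have : Etale (h ≫ z) := by rw [hh]; infer_instance
    exact MorphismProperty.of_postcomp (W := @Etale) (W' := @Etale) h z inferInstance this
  obtain ⟨ψ, hψ⟩ := Spec.map_surjective h
  rw [← hψ] at hhet
  have hψet : ψ.hom.Etale := (HasRingHomProperty.Spec_iff (P := @Etale)).1 hhet
  algebraize [ψ.hom, ψ.hom.comp (Ideal.Quotient.mk I)]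
  have : IsScalarTower A (A ⧸ I) B := IsScalarTower.of_algebraMap_eq fun _ => rfl
  obtain ⟨E, _, _, π, _, hπs, hπk⟩ := Groth.Agent.HenselLib.exists_etale_lift_quotient I B
  -- the extension
  let πE : Spec (CommRingCat.of E) ⟶ Spec A := Spec.map (CommRingCat.ofHom (algebraMap A E))
  have hπE : Etale πE := by
    rw [HasRingHomProperty.Spec_iff (P := @Etale)]
    exact RingHom.etale_algebraMap.2 inferInstance
  refine ⟨Spec (CommRingCat.of E), πE ≫ j, inferInstance, ?_⟩
  let P := pullback (πE ≫ j) i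
  let zP : P ⟶ Spec (CommRingCat.of (A ⧸ I)) := IsOpenImmersion.lift z (pullback.snd _ _) (by
    rintro _ ⟨p, rfl⟩
    rw [hzr]
    refine ⟨πE (pullback.fst (πE ≫ j) i p), ?_⟩
    rw [← Scheme.Hom.comp_apply, ← Scheme.Hom.comp_apply, ← Scheme.Hom.comp_apply,
      ← pullback.condition])
  have hzP : zP ≫ z = pullback.snd (πE ≫ j) i := IsOpenImmersion.lift_fac _ _ _
  have hzP' : pullback.fst (πE ≫ j) i ≫ πE = zP ≫ ci := by
    rw [← cancel_mono j, Category.assoc, Category.assoc, ← hz, ← Category.assoc zP z i, hzP,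
      ← pullback.condition]
  let α : CommRingCat.of E ⟶ Γ(P, ⊤) :=
    (Scheme.ΓSpecIso (CommRingCat.of E)).inv ≫ (pullback.fst (πE ≫ j) i).appTop
  have hα : P.toSpecΓ ≫ Spec.map α = pullback.fst (πE ≫ j) i := by
    rw [Spec.map_comp, ← Category.assoc, ← Scheme.toSpecΓ_naturality, Category.assoc]
    erw [toSpecΓ_SpecMap_ΓSpecIso_inv]
    exact Category.comp_id _
  let γ : CommRingCat.of (A ⧸ I) ⟶ Γ(P, ⊤) :=
    (Scheme.ΓSpecIso (CommRingCat.of (A ⧸ I))).inv ≫ zP.appTop
  have hαγ : CommRingCat.ofHom (algebraMap A E) ≫ α =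
      CommRingCat.ofHom (Ideal.Quotient.mk I) ≫ γ := by
    simp only [α, γ, Scheme.ΓSpecIso_inv_naturality_assoc]
    rw [← Scheme.Hom.comp_appTop, ← Scheme.Hom.comp_appTop]
    exact congrArg (fun m : P ⟶ Spec A => (Scheme.ΓSpecIso A).inv ≫ m.appTop) hzP'
  have hker : RingHom.ker π.toRingHom ≤ RingHom.ker α.hom := by
    intro e' he'
    refine (Ideal.map_le_iff_le_comap.2 ?_ : I.map (algebraMap A E) ≤ RingHom.ker α.hom)
      (hπk e' he')
    intro b hb
    have := congrArg (fun m => m.hom b) hαγ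
    simp only [CommRingCat.hom_comp, RingHom.comp_apply, CommRingCat.hom_ofHom,
      Ideal.Quotient.eq_zero_iff_mem.2 hb, map_zero] at this
    exact this
  let β : B ⟶ Γ(P, ⊤) :=
    CommRingCat.ofHom (RingHom.liftOfSurjective π.toRingHom hπs ⟨α.hom, hker⟩)
  have hβ : CommRingCat.ofHom π.toRingHom ≫ β = α := by
    ext1
    exact RingHom.liftOfRightInverse_comp _ _ _ _
  let φ₀ : P ⟶ Spec B := P.toSpecΓ ≫ Spec.map β
  let cB : Spec B ⟶ Spec (CommRingCat.of E) := Spec.map (CommRingCat.ofHom π.toRingHom)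
  have : IsClosedImmersion cB := IsClosedImmersion.spec_of_surjective _ hπs
  have hφ₀ : φ₀ ≫ cB = pullback.fst (πE ≫ j) i := by
    simp only [φ₀, cB, Category.assoc, ← Spec.map_comp, hβ, hα]
  have hcB : cB ≫ πE = h ≫ ci := by
    rw [← hψ]
    simp only [cB, πE, ci, ← Spec.map_comp]
    congr 1
    ext1
    exact π.comp_algebraMap
  have hcomm : cB ≫ (πE ≫ j) = (k ≫ g) ≫ i := by
    rw [← hh, Category.assoc, hz, ← Category.assoc, hcB, Category.assoc]
  let ψ₀ : Spec B ⟶ P := pullback.lift cB (k ≫ g) hcomm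
  have hiso : IsIso φ₀ := by
    refine ⟨ψ₀, pullback.hom_ext ?_ ?_, ?_⟩
    · rw [Category.assoc, pullback.lift_fst, hφ₀, Category.id_comp]
    · rw [Category.assoc, pullback.lift_snd, ← cancel_mono i, Category.assoc, ← hcomm,
        reassoc_of% hφ₀, Category.id_comp, pullback.condition]
    · rw [← cancel_mono cB, Category.assoc, hφ₀, pullback.lift_fst, Category.id_comp]
  refine ⟨φ₀ ≫ k, ?_, inferInstance, ?_⟩
  · rw [Category.assoc, ← cancel_mono i, Category.assoc, ← hcomm, reassoc_of% hφ₀,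
      pullback.condition]
  · obtain ⟨p, hp⟩ := hxk
    exact ⟨inv φ₀ p, by rw [← Scheme.Hom.comp_apply, IsIso.inv_hom_id_assoc, hp]⟩

end Groth.Agent.EtSite
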