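import Groth.Agent.EtSite.PushStalk
import Groth.Agent.EtSite.Extension

/-!
# Direct image along a closed immersion
-/

set_option autoImplicit false
universe u

open CategoryTheory CategoryTheory.Limits AlgebraicGeometry Opposite

namespace Groth.Agent.EtSite

variable {Z X : Scheme.{u}} (i : Z ⟶ X) [IsClosedImmersion i]

theorem isClosedImmersion_bc_fst (V : X.Etale) :
    IsClosedImmersion (pullback.fst V.hom i : ((EtCoh.bc i).obj V).left ⟶ V.left) :=
  inferInstanceAs (IsClosedImmersion (pullback.fst V.hom i))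

/-- For a closed immersion étale neighbourhoods are refined by base changes. -/
theorem lifts_closedImmersion {Ω : Type u} [Field Ω] [IsSepClosed Ω]
    (ξ : Spec (CommRingCat.of Ω) ⟶ Z) : Lifts i ξ := by
  intro V t U g u hu
  have : IsClosedImmersion (pullback.fst V.hom i) := inferInstance
  have hg : EtCoh.etaleMP g.left := inferInstance
  obtain ⟨V₁, π₁, _, φ₁, hφ₁, hopen, p, hp⟩ := @exists_etale_extension _ _ _
    (pullback.fst V.hom i : ((EtCoh.bc i).obj V).left ⟶ V.left) (isClosedImmersion_bc_fst i V)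
    g.left hg (u.left (default : Spec (CommRingCat.of Ω)))
  let V' : X.Etale := Scheme.Etale.mk (π₁ ≫ V.hom)
  let π : V' ⟶ V := MorphismProperty.Over.homMk π₁ rfl
  have sq := EtCoh.isPullback_bc_map i π
  let c : ((EtCoh.bc i).obj V').left ≅ pullback π₁ (pullback.fst V.hom i) := sq.flip.isoPullback
  have hc : c.hom ≫ pullback.snd π₁ (pullback.fst V.hom i) = ((EtCoh.bc i).map π).left :=
    sq.flip.isoPullback_hom_snd
  let φ' : ((EtCoh.bc i).obj V').left ⟶ U.left := c.hom ≫ φ₁
  have hφg : φ' ≫ g.left = ((EtCoh.bc i).map π).left := by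
    rw [← hc]
    exact (Category.assoc _ _ _).trans (congrArg (CategoryStruct.comp c.hom) hφ₁)
  have hw : φ' ≫ U.hom = ((EtCoh.bc i).obj V').hom := by
    have h1 : g.left ≫ ((EtCoh.bc i).obj V).hom = U.hom := Over.w g.hom
    have h2 : ((EtCoh.bc i).map π).left ≫ ((EtCoh.bc i).obj V).hom = ((EtCoh.bc i).obj V').hom :=
      Over.w ((EtCoh.bc i).map π).hom
    exact (congrArg (CategoryStruct.comp φ') h1).symm.trans
      ((Category.assoc _ _ _).symm.trans ((congrArg (· ≫ _) hφg).trans h2))
  let φ : (EtCoh.bc i).obj V' ⟶ U := MorphismProperty.Over.homMk φ' hw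
  have hφ : φ ≫ g = (EtCoh.bc i).map π := MorphismProperty.Over.Hom.ext hφg
  have : IsOpenImmersion φ' := inferInstanceAs (IsOpenImmersion (c.hom ≫ φ₁))
  have hx : φ' (c.inv p) = u.left (default : Spec (CommRingCat.of Ω)) := by
    simp only [φ', ← Scheme.Hom.comp_apply, Iso.inv_hom_id_assoc]
    exact hp
  obtain ⟨l, hl, -⟩ := Scheme.exists_fac_of_etale_of_isSepClosed φ' u.left (c.inv p) hx
  have hl' : l ≫ ((EtCoh.bc i).obj V').hom = ξ :=
    (congrArg (CategoryStruct.comp l) hw).symm.trans
      ((Category.assoc _ _ _).symm.trans ((congrArg (· ≫ U.hom) hl).trans (Over.w u)))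
  let s : (Scheme.pointSmallEtale ξ).fiber.obj ((EtCoh.bc i).obj V') := Over.homMk l hl'
  have hs : bcPt i ξ V' (unbcPt i ξ V' s) = s := bcPt_unbcPt i ξ V' s
  have hsu : (Scheme.pointSmallEtale ξ).fiber.map φ s = u := Over.OverMorphism.ext hl
  refine ⟨V', π, unbcPt i ξ V' s, φ, ?_, hφ,
    (congrArg ((Scheme.pointSmallEtale ξ).fiber.map φ) hs).trans hsu⟩
  apply bcPt_injective i ξ V
  refine (bc_map_bcPt i ξ π (unbcPt i ξ V' s)).symm.trans ?_
  refine (congrArg ((Scheme.pointSmallEtale ξ).fiber.map ((EtCoh.bc i).map π)) hs).trans ?_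
  refine Eq.trans ?_ hu
  rw [← hsu, ← hφ]
  exact ConcreteCategory.congr_hom ((Scheme.pointSmallEtale ξ).fiber.map_comp φ g) s

theorem isIso_counit_closedImmersion (G : EtCoh.Ab Z) :
    IsIso ((EtCoh.pullPushAdj i).counit.app G) :=
  isIso_of_stalks _ fun _ _ _ ξ => isIso_stalk_counit i ξ (lifts_closedImmersion i ξ) G

theorem push_full_faithful_closedImmersion :
    (EtCoh.push i).Full ∧ (EtCoh.push i).Faithful := by
  have : IsIso (EtCoh.pullPushAdj i).counit := by
    have := isIso_counit_closedImmersion i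
    exact NatIso.isIso_of_isIso_app _
  let h := (EtCoh.pullPushAdj i).fullyFaithfulROfIsIsoCounit
  exact ⟨h.full, h.faithful⟩

/-- Étale neighbourhoods of a point outside `Z` shrink to ones missing `Z`. -/
theorem exists_shrink_outside {Ω : Type u} [Field Ω] [IsSepClosed Ω]
    (η : Spec (CommRingCat.of Ω) ⟶ X) (hη : Disjoint (Set.range η.base) (Set.range i.base))
    (V : X.Etale) (t : (Scheme.pointSmallEtale η).fiber.obj V) :
    ∃ (V' : X.Etale) (π : V' ⟶ V) (t' : (Scheme.pointSmallEtale η).fiber.obj V'),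
      (Scheme.pointSmallEtale η).fiber.map π t' = t ∧
        Disjoint (Set.range V'.hom.base) (Set.range i.base) := by
  let W : V.left.Opens := ⟨V.hom ⁻¹' (Set.range i)ᶜ,
    i.isClosedEmbedding.isClosed_range.isOpen_compl.preimage V.hom.continuous⟩
  let V' : X.Etale := Scheme.Etale.mk (W.ι ≫ V.hom)
  let π : V' ⟶ V := MorphismProperty.Over.homMk W.ι rfl
  have hrange : Set.range t.left ⊆ Set.range W.ι := by
    rintro _ ⟨q, rfl⟩
    refine (Set.ext_iff.1 (Scheme.Opens.range_ι W) _).2 ?_
    show V.hom (t.left q) ∉ Set.range i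
    have : V.hom (t.left q) = η q :=
      (Scheme.Hom.comp_apply _ _ _).symm.trans (congrArg (fun m : _ ⟶ X => m.base q) (Over.w t))
    rw [this]
    exact Set.disjoint_left.1 hη ⟨q, rfl⟩
  let l := IsOpenImmersion.lift W.ι t.left hrange
  have hl : l ≫ W.ι = t.left := IsOpenImmersion.lift_fac _ _ _
  refine ⟨V', π, Over.homMk l ?_, Over.OverMorphism.ext hl, ?_⟩
  · show l ≫ W.ι ≫ V.hom = η
    rw [← Category.assoc, hl]
    exact Over.w t
  · rw [Set.disjoint_left]
    rintro _ ⟨q, rfl⟩
    show V.hom (W.ι q) ∉ Set.range i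
    have : W.ι q ∈ (W : Set V.left) := by
      rw [← Scheme.Opens.range_ι]
      exact ⟨q, rfl⟩
    exact this

theorem isEmpty_bc_of_disjoint (V : X.Etale)
    (h : Disjoint (Set.range V.hom.base) (Set.range i.base)) : IsEmpty ((EtCoh.bc i).obj V).left := by
  refine ⟨fun p => Set.disjoint_left.1 h ⟨(pullback.fst V.hom i).base p, rfl⟩
    ⟨(pullback.snd V.hom i).base p, ?_⟩⟩
  exact (Scheme.Hom.comp_apply _ _ _).symm.trans
    ((congrArg (fun m : pullback V.hom i ⟶ X => m.base p) pullback.condition.symm).trans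
      (Scheme.Hom.comp_apply _ _ _))

theorem isZero_stalk_push_outside (G : EtCoh.Ab Z) {Ω : Type u} [Field Ω] [IsSepClosed Ω]
    (η : Spec (CommRingCat.of Ω) ⟶ X) (hη : Disjoint (Set.range η.base) (Set.range i.base)) :
    IsZero ((EtCoh.stalk η).obj ((EtCoh.push i).obj G)) :=
  isZero_stalk_of_forall η _ fun V t => by
    obtain ⟨V', π, t', ht', hd⟩ := exists_shrink_outside i η hη V t
    have := isEmpty_bc_of_disjoint i V' hd
    exact ⟨V', π, t', ht', subsingleton_sect_of_isEmpty G _⟩

/-- A sheaf without sections outside `Z` is a direct image. -/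
theorem essImage_push_closedImmersion (F : EtCoh.Ab X) :
    (EtCoh.push i).essImage F ↔
      ∀ U : X.Etale, Disjoint (Set.range U.hom.base) (Set.range i.base) →
        IsZero (F.obj.obj (op U)) := by
  constructor
  · rintro ⟨G, ⟨e⟩⟩ U hU
    have := isEmpty_bc_of_disjoint i U hU
    have := subsingleton_sect_of_isEmpty G ((EtCoh.bc i).obj U)
    have hz : IsZero (((EtCoh.push i).obj G).obj.obj (op U)) :=
      AddCommGrpCat.isZero_of_subsingleton (G.obj.obj (op ((EtCoh.bc i).obj U)))
    exact IsZero.of_iso hz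
      ((sheafToPresheaf _ _ ⋙ (evaluation _ _).obj (op U)).mapIso e.symm)
  · intro h
    suffices IsIso ((EtCoh.pullPushAdj i).unit.app F) from
      ⟨_, ⟨(asIso ((EtCoh.pullPushAdj i).unit.app F)).symm⟩⟩
    refine isIso_of_exists_stalk _ fun x => ?_
    by_cases hx : x ∈ Set.range i
    · obtain ⟨z, rfl⟩ := hx
      refine ⟨_, inferInstance, inferInstance, gpt z ≫ i, ?_,
        isIso_stalk_unit i _ (lifts_closedImmersion i _) F⟩
      exact (Scheme.Hom.comp_apply _ _ _).trans (congrArg _ (gpt_apply z _))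
    · refine ⟨_, inferInstance, inferInstance, gpt x, gpt_apply x _, ?_⟩
      have hd : Disjoint (Set.range (gpt x).base) (Set.range i.base) := by
        rw [Set.disjoint_left]
        rintro _ ⟨q, rfl⟩
        rw [gpt_apply]
        exact hx
      have hs : IsZero ((EtCoh.stalk (gpt x)).obj F) := isZero_stalk_of_forall _ F fun V t => by
        obtain ⟨V', π, t', ht', hd'⟩ := exists_shrink_outside i (gpt x) hd V t
        exact ⟨V', π, t', ht', AddCommGrpCat.subsingleton_of_isZero (h V' hd')⟩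
      have ht : IsZero ((EtCoh.stalk (gpt x)).obj ((EtCoh.push i).obj ((EtCoh.pull i).obj F))) :=
        isZero_stalk_push_outside i _ (gpt x) hd
      exact ⟨⟨0, hs.eq_of_src _ _, ht.eq_of_src _ _⟩⟩

end Groth.Agent.EtSite
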