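import Groth.Prelude.Def_EtBase
import Mathlib.CategoryTheory.Abelian.Exact

/-!
# Geometric points of the small étale site detect everything

Element-wise criteria: a morphism of presheaves is locally injective / surjective if it is so on
all geometric stalks; consequences for abelian sheaves (mono, epi, iso, exactness).
-/

set_option autoImplicit false
universe w u

open CategoryTheory CategoryTheory.Limits AlgebraicGeometry Opposite

namespace Groth.Agent.EtSite

instance : PreservesFilteredColimitsOfSize.{u, u} (forget AddCommGrpCat.{u + 1}) :=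
  preservesFilteredColimitsOfSize_shrink.{u, u + 1, u, u + 1} _

instance : AB5OfSize.{u, u} AddCommGrpCat.{u + 1} :=
  AB5OfSize_shrink.{u, u, u + 1, u + 1} AddCommGrpCat.{u + 1}

variable {X : Scheme.{u}}

section stalk

variable {Ω : Type u} [Field Ω] [IsSepClosed Ω] (ξ : Spec (CommRingCat.of Ω) ⟶ X)

instance stalk_preservesFiniteLimits : PreservesFiniteLimits (EtCoh.stalk ξ) :=
  inferInstanceAs (PreservesFiniteLimits (Scheme.pointSmallEtale ξ).sheafFiber)

instance stalk_preservesColimits :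
    PreservesColimitsOfSize.{u + 1, u + 1} (EtCoh.stalk ξ) :=
  (Scheme.pointSmallEtale ξ).skyscraperSheafAdjunction.leftAdjoint_preservesColimits

instance stalk_preservesFiniteColimits : PreservesFiniteColimits (EtCoh.stalk ξ) :=
  PreservesColimitsOfSize.preservesFiniteColimits _

instance stalk_additive : (EtCoh.stalk ξ).Additive :=
  have : PreservesBinaryBiproducts (EtCoh.stalk ξ) :=
    preservesBinaryBiproducts_of_preservesBinaryCoproducts _
  Functor.additive_of_preservesBinaryBiproducts _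

end stalk

/-- A geometric point at `x`. -/
noncomputable def gpt (x : X) :
    Spec (CommRingCat.of (SeparableClosure (X.residueField x))) ⟶ X :=
  Spec.map (CommRingCat.ofHom (algebraMap (X.residueField x) (SeparableClosure (X.residueField x)))) ≫
    X.fromSpecResidueField x

@[simp]
theorem gpt_apply (x : X) (p : Spec (CommRingCat.of (SeparableClosure (X.residueField x)))) :
    (gpt x).base p = x := by
  rw [gpt]
  exact Scheme.fromSpecResidueField_apply x _

/-- An element of a fibre of `U` above the geometric point at `x ∈ U`, pushed down to `X`. -/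
noncomputable def tautPt (U : X.Etale) (x : U.left) :
    (Scheme.pointSmallEtale (gpt x ≫ U.hom)).fiber.obj U :=
  Over.homMk (gpt x) rfl

theorem mem_smallEtaleTopology_of_points (U : X.Etale) (R : Sieve U)
    (h : ∀ x : U.left, ∃ (V : X.Etale) (g : V ⟶ U) (v : V.left), R g ∧ g.left.base v = x) :
    R ∈ X.smallEtaleTopology U := by
  have e : X.smallEtaleTopology =
      (X.smallPretopology (P := EtCoh.etaleMP) (Q := EtCoh.etaleMP)).toGrothendieck :=
    Scheme.smallGrothendieckTopology_eq_toGrothendieck_smallPretopology X le_rfl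
  rw [e]
  refine (Scheme.mem_toGrothendieck_smallPretopology U R).2 fun x => ?_
  obtain ⟨V, g, v, hg, hv⟩ := h x
  exact ⟨V, g, v, hg, inferInstance, hv⟩

section presheaf

variable {A : Type*} [Category A] [HasColimitsOfSize.{u, u} A] {FC : A → A → Type*}
  {CC : A → Type w} [∀ (M N : A), FunLike (FC M N) (CC M) (CC N)] [ConcreteCategory.{w} A FC]
  [PreservesFilteredColimitsOfSize.{u, u} (forget A)]

theorem isLocallyInjective_of_stalks {P Q : X.Etaleᵒᵖ ⥤ A} (f : P ⟶ Q)
    (h : ∀ (Ω : Type u) [Field Ω] [IsSepClosed Ω] (ξ : Spec (CommRingCat.of Ω) ⟶ X),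
      Function.Injective ((Scheme.pointSmallEtale ξ).presheafFiber.map f)) :
    Presheaf.IsLocallyInjective X.smallEtaleTopology f where
  equalizerSieve_mem {U} s t hst := by
    refine mem_smallEtaleTopology_of_points _ _ fun x => ?_
    let Φ := Scheme.pointSmallEtale (gpt x ≫ U.unop.hom)
    have heq : Φ.toPresheafFiber U.unop (tautPt U.unop x) P s =
        Φ.toPresheafFiber U.unop (tautPt U.unop x) P t := by
      refine h _ _ ?_
      rw [Φ.toPresheafFiber_naturality_apply, Φ.toPresheafFiber_naturality_apply]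
      exact congrArg _ hst
    obtain ⟨V, g, v, hv, hg⟩ := (Φ.toPresheafFiber_eq_iff' _ _ _ _).1 heq
    refine ⟨V, g, v.left (default : Spec (CommRingCat.of (SeparableClosure (U.unop.left.residueField x)))), hg, ?_⟩
    have hl : v.left ≫ g.left = gpt x := congrArg CommaMorphism.left hv
    exact (Scheme.Hom.comp_apply _ _ _).symm.trans
      ((congrArg (fun m : _ ⟶ U.unop.left => m.base _) hl).trans (gpt_apply x _))

theorem isLocallySurjective_of_stalks {P Q : X.Etaleᵒᵖ ⥤ A} (f : P ⟶ Q)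
    (h : ∀ (Ω : Type u) [Field Ω] [IsSepClosed Ω] (ξ : Spec (CommRingCat.of Ω) ⟶ X),
      Function.Surjective ((Scheme.pointSmallEtale ξ).presheafFiber.map f)) :
    Presheaf.IsLocallySurjective X.smallEtaleTopology f where
  imageSieve_mem {U} s := by
    refine mem_smallEtaleTopology_of_points _ _ fun x => ?_
    let Φ := Scheme.pointSmallEtale (gpt x ≫ U.hom)
    obtain ⟨p, hp⟩ := h _ _ (Φ.toPresheafFiber U (tautPt U x) Q s)
    obtain ⟨V, y, z, rfl⟩ := Φ.toPresheafFiber_jointly_surjective p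
    rw [Φ.toPresheafFiber_naturality_apply] at hp
    obtain ⟨⟨W, w⟩, a, b, hab⟩ := IsCofilteredOrEmpty.cone_objs (C := Φ.fiber.Elements)
      ⟨U, tautPt U x⟩ ⟨V, y⟩
    have e1 : Φ.toPresheafFiber W w Q (Q.map a.1.op s) = Φ.toPresheafFiber W w Q
        (Q.map b.1.op (f.app _ z)) := by
      rw [Φ.toPresheafFiber_w_apply, Φ.toPresheafFiber_w_apply, a.2, b.2]
      exact hp.symm
    obtain ⟨T, g, t, ht, hg⟩ := (Φ.toPresheafFiber_eq_iff' _ _ _ _).1 e1
    refine ⟨T, g ≫ a.1, t.left (default : Spec (CommRingCat.of (SeparableClosure (U.left.residueField x)))), ⟨P.map (g ≫ b.1).op z, ?_⟩, ?_⟩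
    · rw [NatTrans.naturality_apply, op_comp, op_comp, Functor.map_comp_apply, Functor.map_comp_apply]
      exact hg.symm
    · have hl : t.left ≫ g.left ≫ a.1.left = gpt x := by
        have h1 : t.left ≫ g.left = w.left := congrArg CommaMorphism.left ht
        have h2 : w.left ≫ a.1.left = gpt x := congrArg CommaMorphism.left a.2
        exact (Category.assoc _ _ _).symm.trans ((congrArg (fun m => m ≫ a.1.left) h1).trans h2)
      exact (Scheme.Hom.comp_apply _ _ _).symm.trans
        ((congrArg (fun m : _ ⟶ U.left => m.base _) hl).trans (gpt_apply x _))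

theorem isLocallyInjective_of_exists_stalk {P Q : X.Etaleᵒᵖ ⥤ A} (f : P ⟶ Q)
    (h : ∀ y : X, ∃ (Ω : Type u) (_ : Field Ω) (_ : IsSepClosed Ω)
      (ξ : Spec (CommRingCat.of Ω) ⟶ X), ξ default = y ∧
        Function.Injective ((Scheme.pointSmallEtale ξ).presheafFiber.map f)) :
    Presheaf.IsLocallyInjective X.smallEtaleTopology f where
  equalizerSieve_mem {U} s t hst := by
    refine mem_smallEtaleTopology_of_points _ _ fun x => ?_
    obtain ⟨Ω, _, _, ξ, hξ, hinj⟩ := h (U.unop.hom x)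
    obtain ⟨l, hl, hlx⟩ := Scheme.exists_fac_of_etale_of_isSepClosed U.unop.hom ξ x hξ.symm
    let Φ := Scheme.pointSmallEtale ξ
    let τ : Φ.fiber.obj U.unop := Over.homMk l hl
    have heq : Φ.toPresheafFiber U.unop τ P s = Φ.toPresheafFiber U.unop τ P t := by
      refine hinj ?_
      rw [Φ.toPresheafFiber_naturality_apply, Φ.toPresheafFiber_naturality_apply]
      exact congrArg _ hst
    obtain ⟨V, g, v, hv, hg⟩ := (Φ.toPresheafFiber_eq_iff' _ _ _ _).1 heq
    refine ⟨V, g, v.left (default : Spec (CommRingCat.of Ω)), hg, ?_⟩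
    have hl' : v.left ≫ g.left = l := congrArg CommaMorphism.left hv
    exact (Scheme.Hom.comp_apply _ _ _).symm.trans
      ((congrArg (fun m : _ ⟶ U.unop.left => m.base _) hl').trans hlx)

theorem isLocallySurjective_of_exists_stalk {P Q : X.Etaleᵒᵖ ⥤ A} (f : P ⟶ Q)
    (h : ∀ y : X, ∃ (Ω : Type u) (_ : Field Ω) (_ : IsSepClosed Ω)
      (ξ : Spec (CommRingCat.of Ω) ⟶ X), ξ default = y ∧
        Function.Surjective ((Scheme.pointSmallEtale ξ).presheafFiber.map f)) :
    Presheaf.IsLocallySurjective X.smallEtaleTopology f where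
  imageSieve_mem {U} s := by
    refine mem_smallEtaleTopology_of_points _ _ fun x => ?_
    obtain ⟨Ω, _, _, ξ, hξ, hsurj⟩ := h (U.hom x)
    obtain ⟨l, hl, hlx⟩ := Scheme.exists_fac_of_etale_of_isSepClosed U.hom ξ x hξ.symm
    let Φ := Scheme.pointSmallEtale ξ
    let τ : Φ.fiber.obj U := Over.homMk l hl
    obtain ⟨p, hp⟩ := hsurj (Φ.toPresheafFiber U τ Q s)
    obtain ⟨V, y, z, rfl⟩ := Φ.toPresheafFiber_jointly_surjective p
    rw [Φ.toPresheafFiber_naturality_apply] at hp
    obtain ⟨⟨W, w⟩, a, b, -⟩ := IsCofilteredOrEmpty.cone_objs (C := Φ.fiber.Elements)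
      ⟨U, τ⟩ ⟨V, y⟩
    have e1 : Φ.toPresheafFiber W w Q (Q.map a.1.op s) = Φ.toPresheafFiber W w Q
        (Q.map b.1.op (f.app _ z)) := by
      rw [Φ.toPresheafFiber_w_apply, Φ.toPresheafFiber_w_apply, a.2, b.2]
      exact hp.symm
    obtain ⟨T, g, t, ht, hg⟩ := (Φ.toPresheafFiber_eq_iff' _ _ _ _).1 e1
    refine ⟨T, g ≫ a.1, t.left (default : Spec (CommRingCat.of Ω)),
      ⟨P.map (g ≫ b.1).op z, ?_⟩, ?_⟩
    · rw [NatTrans.naturality_apply, op_comp, op_comp, Functor.map_comp_apply, Functor.map_comp_apply]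
      exact hg.symm
    · have hl' : t.left ≫ g.left ≫ a.1.left = l := by
        have h1 : t.left ≫ g.left = w.left := congrArg CommaMorphism.left ht
        have h2 : w.left ≫ a.1.left = l := congrArg CommaMorphism.left a.2
        exact (Category.assoc _ _ _).symm.trans ((congrArg (fun m => m ≫ a.1.left) h1).trans h2)
      exact (Scheme.Hom.comp_apply _ _ _).symm.trans
        ((congrArg (fun m : _ ⟶ U.left => m.base _) hl').trans hlx)

end presheaf

section sheaf

variable {F G : EtCoh.Ab X} (a : F ⟶ G)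

theorem mono_of_stalks (h : ∀ (Ω : Type u) [Field Ω] [IsSepClosed Ω]
    (ξ : Spec (CommRingCat.of Ω) ⟶ X), Function.Injective ((EtCoh.stalk ξ).map a)) : Mono a :=
  haveI : Sheaf.IsLocallyInjective a := isLocallyInjective_of_stalks a.hom h
  Sheaf.mono_of_isLocallyInjective a

theorem epi_of_stalks (h : ∀ (Ω : Type u) [Field Ω] [IsSepClosed Ω]
    (ξ : Spec (CommRingCat.of Ω) ⟶ X), Function.Surjective ((EtCoh.stalk ξ).map a)) : Epi a :=
  haveI : Sheaf.IsLocallySurjective a := isLocallySurjective_of_stalks a.hom h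
  inferInstance

theorem isIso_of_stalks (h : ∀ (Ω : Type u) [Field Ω] [IsSepClosed Ω]
    (ξ : Spec (CommRingCat.of Ω) ⟶ X), IsIso ((EtCoh.stalk ξ).map a)) : IsIso a := by
  have hb := fun (Ω : Type u) [Field Ω] [IsSepClosed Ω] (ξ : Spec (CommRingCat.of Ω) ⟶ X) =>
    (ConcreteCategory.isIso_iff_bijective _).1 (h Ω ξ)
  have := mono_of_stalks a fun Ω _ _ ξ => (hb Ω ξ).1
  have := epi_of_stalks a fun Ω _ _ ξ => (hb Ω ξ).2
  exact isIso_of_mono_of_epi a

theorem mono_of_exists_stalk (h : ∀ y : X, ∃ (Ω : Type u) (_ : Field Ω) (_ : IsSepClosed Ω)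
    (ξ : Spec (CommRingCat.of Ω) ⟶ X), ξ default = y ∧
      Function.Injective ((EtCoh.stalk ξ).map a)) : Mono a :=
  haveI : Sheaf.IsLocallyInjective a := isLocallyInjective_of_exists_stalk a.hom h
  Sheaf.mono_of_isLocallyInjective a

theorem epi_of_exists_stalk (h : ∀ y : X, ∃ (Ω : Type u) (_ : Field Ω) (_ : IsSepClosed Ω)
    (ξ : Spec (CommRingCat.of Ω) ⟶ X), ξ default = y ∧
      Function.Surjective ((EtCoh.stalk ξ).map a)) : Epi a :=
  haveI : Sheaf.IsLocallySurjective a := isLocallySurjective_of_exists_stalk a.hom h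
  inferInstance

theorem isIso_of_exists_stalk (h : ∀ y : X, ∃ (Ω : Type u) (_ : Field Ω) (_ : IsSepClosed Ω)
    (ξ : Spec (CommRingCat.of Ω) ⟶ X), ξ default = y ∧ IsIso ((EtCoh.stalk ξ).map a)) :
    IsIso a := by
  have : Mono a := mono_of_exists_stalk a fun y => by
    obtain ⟨Ω, i1, i2, ξ, hξ, hi⟩ := h y
    exact ⟨Ω, i1, i2, ξ, hξ, ((ConcreteCategory.isIso_iff_bijective _).1 hi).1⟩
  have : Epi a := epi_of_exists_stalk a fun y => by
    obtain ⟨Ω, i1, i2, ξ, hξ, hi⟩ := h y
    exact ⟨Ω, i1, i2, ξ, hξ, ((ConcreteCategory.isIso_iff_bijective _).1 hi).2⟩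
  exact isIso_of_mono_of_epi a

theorem mono_iff_stalks : Mono a ↔ ∀ (Ω : Type u) [Field Ω] [IsSepClosed Ω]
    (ξ : Spec (CommRingCat.of Ω) ⟶ X), Function.Injective ((EtCoh.stalk ξ).map a) :=
  ⟨fun _ Ω _ _ ξ => (AddCommGrpCat.mono_iff_injective _).1
    (inferInstanceAs (Mono ((EtCoh.stalk ξ).map a))), mono_of_stalks a⟩

theorem epi_iff_stalks : Epi a ↔ ∀ (Ω : Type u) [Field Ω] [IsSepClosed Ω]
    (ξ : Spec (CommRingCat.of Ω) ⟶ X), Function.Surjective ((EtCoh.stalk ξ).map a) :=
  ⟨fun _ Ω _ _ ξ => (AddCommGrpCat.epi_iff_surjective _).1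
    (inferInstanceAs (Epi ((EtCoh.stalk ξ).map a))), epi_of_stalks a⟩

theorem isZero_of_stalks (F : EtCoh.Ab X) (h : ∀ (Ω : Type u) [Field Ω] [IsSepClosed Ω]
    (ξ : Spec (CommRingCat.of Ω) ⟶ X), IsZero ((EtCoh.stalk ξ).obj F)) : IsZero F := by
  rw [IsZero.iff_id_eq_zero]
  have : Mono (0 : F ⟶ F) := mono_of_stalks _ fun Ω _ _ ξ x y _ =>
    @Subsingleton.elim _ (AddCommGrpCat.subsingleton_of_isZero (h Ω ξ)) x y
  rw [← cancel_mono (0 : F ⟶ F)]
  simp

theorem exact_iff_stalks (S : ShortComplex (EtCoh.Ab X)) :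
    S.Exact ↔ ∀ (Ω : Type u) [Field Ω] [IsSepClosed Ω] (ξ : Spec (CommRingCat.of Ω) ⟶ X),
      (S.map (EtCoh.stalk ξ)).Exact := by
  refine ⟨fun h Ω _ _ ξ => h.map _, fun h => ?_⟩
  rw [S.exact_iff_isZero_homology]
  refine isZero_of_stalks _ fun Ω _ _ ξ => ?_
  exact IsZero.of_iso ((ShortComplex.exact_iff_isZero_homology _).1 (h Ω ξ))
    (S.mapHomologyIso (EtCoh.stalk ξ)).symm

end sheaf

end Groth.Agent.EtSite
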