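import Groth.Prelude.Def_EtShriek2
import Groth.Prelude.Def_EtBase
import Mathlib.CategoryTheory.Sites.Point.Skyscraper
import Mathlib.CategoryTheory.Yoneda

/-!
# Stalks of extensions by zero along étale morphisms
-/

set_option autoImplicit false
universe u

open CategoryTheory CategoryTheory.Limits AlgebraicGeometry Opposite EtShriek

namespace Groth.Agent.EtSite

variable {U X : Scheme.{u}} (j : U ⟶ X) [Etale j] [JCont j] {Ω : Type u} [Field Ω] [IsSepClosed Ω]
  (ξ : Spec (CommRingCat.of Ω) ⟶ X)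

/-- The lifts of a geometric point. -/
abbrev Lift' : Type u := {u : Spec (CommRingCat.of Ω) ⟶ U // u ≫ j = ξ}

/-- A point of `V` over `u` is a point of `V` over `ξ`. -/
noncomputable def compPt (u : Lift' j ξ) (V : U.Etale) (v : (Scheme.pointSmallEtale u.1).fiber.obj V) :
    (Scheme.pointSmallEtale ξ).fiber.obj ((compEtale j).obj V) :=
  Over.homMk v.left ((Category.assoc _ _ _).symm.trans ((congrArg (· ≫ j) (Over.w v)).trans u.2))

/-- The lift of `ξ` below a point of `V`. -/
noncomputable def liftOf (V : U.Etale) (x : (Scheme.pointSmallEtale ξ).fiber.obj ((compEtale j).obj V)) :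
    Lift' j ξ :=
  ⟨x.left ≫ V.hom, (Category.assoc _ _ _).trans (Over.w x)⟩

/-- The point of `V` over that lift. -/
noncomputable def ptOf (V : U.Etale) (x : (Scheme.pointSmallEtale ξ).fiber.obj ((compEtale j).obj V)) :
    (Scheme.pointSmallEtale (liftOf j ξ V x).1).fiber.obj V :=
  Over.homMk x.left rfl

theorem compPt_ptOf (V : U.Etale) (x : (Scheme.pointSmallEtale ξ).fiber.obj ((compEtale j).obj V)) :
    compPt j ξ (liftOf j ξ V x) V (ptOf j ξ V x) = x :=
  Over.OverMorphism.ext rfl

theorem compPt_map (u : Lift' j ξ) {V W : U.Etale} (g : V ⟶ W)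
    (v : (Scheme.pointSmallEtale u.1).fiber.obj V) :
    (Scheme.pointSmallEtale ξ).fiber.map ((compEtale j).map g) (compPt j ξ u V v) =
      compPt j ξ u W ((Scheme.pointSmallEtale u.1).fiber.map g v) :=
  Over.OverMorphism.ext rfl

variable (F : EtCoh.Ab U)

/-- The map `F_u ⟶ (j_! F)_ξ`. -/
noncomputable def stalkExtZeroMap (u : Lift' j ξ) :
    (EtCoh.stalk u.1).obj F ⟶ (EtCoh.stalk ξ).obj ((extZero j).obj F) :=
  (Scheme.pointSmallEtale u.1).presheafFiberDesc
    (fun V v => ((extZeroAdj j).unit.app F).hom.app (op V) ≫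
      (Scheme.pointSmallEtale ξ).toPresheafFiber ((compEtale j).obj V) (compPt j ξ u V v)
        ((extZero j).obj F).obj)
    (fun {V W} g v => by
      refine (Category.assoc _ _ _).symm.trans ?_
      refine (congrArg (· ≫ _) (((extZeroAdj j).unit.app F).hom.naturality g.op)).trans ?_
      refine (Category.assoc _ _ _).trans (congrArg (_ ≫ ·) ?_)
      rw [← compPt_map]
      exact (Scheme.pointSmallEtale ξ).toPresheafFiber_w ((compEtale j).map g) _ _)

theorem germ_stalkExtZeroMap (u : Lift' j ξ) (V : U.Etale)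
    (v : (Scheme.pointSmallEtale u.1).fiber.obj V) :
    (Scheme.pointSmallEtale u.1).toPresheafFiber V v F.obj ≫ stalkExtZeroMap j ξ F u =
      ((extZeroAdj j).unit.app F).hom.app (op V) ≫
        (Scheme.pointSmallEtale ξ).toPresheafFiber ((compEtale j).obj V) (compPt j ξ u V v)
          ((extZero j).obj F).obj :=
  GrothendieckTopology.Point.toPresheafFiber_presheafFiberDesc _ _ _ V v

/-- The adjunct to the skyscraper sheaf of a map out of the stalk. -/
noncomputable def toSky {A : AddCommGrpCat.{u + 1}}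
    (h : (EtCoh.stalk ξ).obj ((extZero j).obj F) ⟶ A) :
    F ⟶ (restrAlong j).obj ((Scheme.pointSmallEtale ξ).skyscraperSheafFunctor.obj A) :=
  (extZeroAdj j).homEquiv _ _ ((Scheme.pointSmallEtale ξ).skyscraperSheafAdjunction.homEquiv _ _ h)

theorem toSky_app {A : AddCommGrpCat.{u + 1}}
    (h : (EtCoh.stalk ξ).obj ((extZero j).obj F) ⟶ A) (u : Lift' j ξ) (V : U.Etale)
    (v : (Scheme.pointSmallEtale u.1).fiber.obj V) :
    (toSky j ξ F h).hom.app (op V) ≫ Pi.π _ (compPt j ξ u V v) =
      (Scheme.pointSmallEtale u.1).toPresheafFiber V v F.obj ≫ stalkExtZeroMap j ξ F u ≫ h := by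
  rw [reassoc_of% (germ_stalkExtZeroMap j ξ F u V v)]
  have e : (toSky j ξ F h).hom.app (op V) = ((extZeroAdj j).unit.app F).hom.app (op V) ≫
      ((Scheme.pointSmallEtale ξ).skyscraperPresheafHomEquiv h).app (op ((compEtale j).obj V)) :=
    (congrArg (fun m : F ⟶ (restrAlong j).obj ((Scheme.pointSmallEtale ξ).skyscraperSheafFunctor.obj A) =>
      m.hom.app (op V)) ((extZeroAdj j).homEquiv_unit _ _
        ((Scheme.pointSmallEtale ξ).skyscraperSheafAdjunction.homEquiv _ _ h))).trans (by
          rw [GrothendieckTopology.Point.skyscraperSheafAdjunction, Adjunction.mkOfHomEquiv_homEquiv]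
          rfl)
  rw [e]
  refine (Category.assoc _ _ _).trans (Eq.trans
    (congrArg (((extZeroAdj j).unit.app F).hom.app (op V) ≫ ·) ?_) (Category.assoc _ _ _).symm)
  exact (Scheme.pointSmallEtale ξ).skyscraperPresheafHomEquiv_app_π h _ _

theorem stalkExtZeroMap_hom_ext {A : AddCommGrpCat.{u + 1}}
    (h h' : (EtCoh.stalk ξ).obj ((extZero j).obj F) ⟶ A)
    (e : ∀ u, stalkExtZeroMap j ξ F u ≫ h = stalkExtZeroMap j ξ F u ≫ h') : h = h' := by
  refine ((Scheme.pointSmallEtale ξ).skyscraperSheafAdjunction.homEquiv _ _).injective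
    (((extZeroAdj j).homEquiv _ _).injective ?_)
  show toSky j ξ F h = toSky j ξ F h'
  ext V : 3
  obtain ⟨V⟩ := V
  refine Pi.hom_ext _ _ fun x => ?_
  rw [← compPt_ptOf j ξ V x]
  exact (toSky_app j ξ F h _ V _).trans
    ((congrArg (_ ≫ ·) (e _)).trans (toSky_app j ξ F h' _ V _).symm)

variable {F}

theorem exists_stalk_desc {A : AddCommGrpCat.{u + 1}}
    (a : ∀ u : Lift' j ξ, (EtCoh.stalk u.1).obj F ⟶ A) :
    ∃ h : (EtCoh.stalk ξ).obj ((extZero j).obj F) ⟶ A, ∀ u, stalkExtZeroMap j ξ F u ≫ h = a u := by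
  let S := (restrAlong j).obj ((Scheme.pointSmallEtale ξ).skyscraperSheafFunctor.obj A)
  have key : ∀ (u : Lift' j ξ) (V : U.Etale) (v : (Scheme.pointSmallEtale u.1).fiber.obj V),
      (Scheme.pointSmallEtale (liftOf j ξ V (compPt j ξ u V v)).1).toPresheafFiber V
          (ptOf j ξ V (compPt j ξ u V v)) F.obj ≫ a (liftOf j ξ V (compPt j ξ u V v)) =
        (Scheme.pointSmallEtale u.1).toPresheafFiber V v F.obj ≫ a u := by
    intro u V v
    have aux : ∀ (u' : Lift' j ξ) (v' : (Scheme.pointSmallEtale u'.1).fiber.obj V),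
        u' = u → v'.left = v.left →
        (Scheme.pointSmallEtale u'.1).toPresheafFiber V v' F.obj ≫ a u' =
          (Scheme.pointSmallEtale u.1).toPresheafFiber V v F.obj ≫ a u := by
      rintro u' v' rfl hv
      obtain rfl : v' = v := Over.OverMorphism.ext hv
      rfl
    exact aux _ _ (Subtype.ext (Over.w v)) rfl
  let m : F.obj ⟶ S.obj :=
    { app := fun V => Pi.lift fun x =>
        (Scheme.pointSmallEtale (liftOf j ξ V.unop x).1).toPresheafFiber V.unop (ptOf j ξ V.unop x)
          F.obj ≫ a (liftOf j ξ V.unop x)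
      naturality := fun V W g => by
        refine Pi.hom_ext _ _ fun x => ?_
        obtain ⟨u, w, rfl⟩ : ∃ u w, compPt j ξ u W.unop w = x := ⟨_, _, compPt_ptOf j ξ _ x⟩
        refine (Category.assoc _ _ _).trans (Eq.trans ?_ (Category.assoc _ _ _).symm)
        refine (congrArg (F.obj.map g ≫ ·) ((Pi.lift_π (fun x => (Scheme.pointSmallEtale (liftOf j ξ W.unop x).1).toPresheafFiber W.unop
          (ptOf j ξ W.unop x) F.obj ≫ a (liftOf j ξ W.unop x)) _).trans (key u W.unop w))).trans ?_
        have hπ : S.obj.map g ≫ Pi.π (fun _ => A) (compPt j ξ u W.unop w) = Pi.π (fun _ => A)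
            ((Scheme.pointSmallEtale ξ).fiber.map ((compEtale j).map g.unop) (compPt j ξ u W.unop w)) :=
          (Pi.map'_comp_π _ _ _).trans (Category.comp_id _)
        refine Eq.trans ?_ (congrArg (_ ≫ ·) hπ).symm
        refine Eq.trans ?_ ((Pi.lift_π (fun y =>
          (Scheme.pointSmallEtale (liftOf j ξ V.unop y).1).toPresheafFiber V.unop (ptOf j ξ V.unop y)
            F.obj ≫ a (liftOf j ξ V.unop y)) _).trans ((congrArg (fun y =>
          (Scheme.pointSmallEtale (liftOf j ξ V.unop y).1).toPresheafFiber V.unop (ptOf j ξ V.unop y)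
            F.obj ≫ a (liftOf j ξ V.unop y)) (compPt_map j ξ u g.unop w)).trans
          (key u V.unop _))).symm
        exact (Category.assoc _ _ _).symm.trans
          (congrArg (· ≫ a u) ((Scheme.pointSmallEtale u.1).toPresheafFiber_w g.unop w F.obj)) }
  refine ⟨((Scheme.pointSmallEtale ξ).skyscraperSheafAdjunction.homEquiv _ _).symm
    (((extZeroAdj j).homEquiv _ _).symm ⟨m⟩), fun u => ?_⟩
  refine GrothendieckTopology.Point.presheafFiber_hom_ext _ fun V v => ?_
  refine (toSky_app j ξ F _ u V v).symm.trans ?_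
  have e : toSky j ξ F (((Scheme.pointSmallEtale ξ).skyscraperSheafAdjunction.homEquiv _ _).symm
      (((extZeroAdj j).homEquiv _ _).symm ⟨m⟩)) = ⟨m⟩ := by
    simp only [toSky, Equiv.apply_symm_apply]
  rw [e]
  exact (Pi.lift_π _ _).trans (key u V v)

variable (F)

/-- The stalk of `j_! F` at `ξ` is the sum of the stalks of `F` at the lifts of `ξ`. -/
theorem isIso_desc_stalkExtZeroMap [HasCoproduct fun u : Lift' j ξ => (EtCoh.stalk u.1).obj F] :
    IsIso (Sigma.desc (stalkExtZeroMap j ξ F)) := by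
  refine isIso_of_coyoneda_map_bijective _ fun A => ⟨fun h h' e => ?_, fun g => ?_⟩
  · refine stalkExtZeroMap_hom_ext j ξ F h h' fun u => ?_
    exact (Sigma.ι_desc_assoc _ _ h).symm.trans ((congrArg (Sigma.ι (fun u : Lift' j ξ => (EtCoh.stalk u.1).obj F) u ≫ ·) e).trans (Sigma.ι_desc_assoc _ _ h'))
  · obtain ⟨h, hh⟩ := exists_stalk_desc j ξ
      (fun u => Sigma.ι (fun u : Lift' j ξ => (EtCoh.stalk u.1).obj F) u ≫ g)
    exact ⟨h, Sigma.hom_ext _ _ fun u => by simp [hh u]⟩

end Groth.Agent.EtSite
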