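import Groth.Agent.EtSite.IntegralSplit
import Mathlib.AlgebraicGeometry.Morphisms.UniversallyInjective
import Mathlib.AlgebraicGeometry.Morphisms.ClosedImmersion
import Mathlib.FieldTheory.IsAlgClosed.Basic

/-!
# Geometric points and integral morphisms
-/

set_option autoImplicit false
universe u

open CategoryTheory CategoryTheory.Limits AlgebraicGeometry Groth.Agent.Weighting

namespace Groth.Agent.EtSite

variable {Ω : Type u} [Field Ω] [IsAlgClosed Ω]

theorem exists_section_of_isIntegralHom {X : Scheme.{u}} (q : X ⟶ Spec (CommRingCat.of Ω))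
    [IsIntegralHom q] (z : X) :
    ∃ φ : Spec (CommRingCat.of Ω) ⟶ X, φ ≫ q = 𝟙 _ ∧ pt φ = z := by
  have : IsAffine X := isAffine_of_isAffineHom q
  let ψ : CommRingCat.of Ω ⟶ Γ(X, ⊤) := Spec.preimage (X.isoSpec.inv ≫ q)
  have hψ : Spec.map ψ = X.isoSpec.inv ≫ q := Spec.map_preimage _
  have hint : ψ.hom.IsIntegral := (IsIntegralHom.SpecMap_iff).1 (hψ ▸ inferInstance)
  let P : Ideal Γ(X, ⊤) := (X.isoSpec.hom z).asIdeal
  have : P.IsPrime := (X.isoSpec.hom z).isPrime
  let m : Ω →+* Γ(X, ⊤) ⧸ P := (Ideal.Quotient.mk P).comp ψ.hom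
  algebraize [m]
  have : Algebra.IsIntegral Ω (Γ(X, ⊤) ⧸ P) := algebraMap_isIntegral_iff.1
    (RingHom.IsIntegral.trans _ _ hint (RingHom.isIntegral_of_surjective _ Ideal.Quotient.mk_surjective))
  let e : Ω ≃+* Γ(X, ⊤) ⧸ P :=
    RingEquiv.ofBijective m (IsAlgClosed.algebraMap_bijective_of_isIntegral (k := Ω))
  let ρ : Γ(X, ⊤) →+* Ω := e.symm.toRingHom.comp (Ideal.Quotient.mk P)
  refine ⟨Spec.map (CommRingCat.ofHom ρ) ≫ X.isoSpec.inv, ?_, ?_⟩
  · rw [Category.assoc, ← hψ, ← Spec.map_comp]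
    have : ψ ≫ CommRingCat.ofHom ρ = 𝟙 _ := by
      ext r
      exact e.symm_apply_apply r
    rw [this, Spec.map_id]
  · have h1 : (Spec.map (CommRingCat.ofHom ρ)) (IsLocalRing.closedPoint Ω) = X.isoSpec.hom z := by
      refine PrimeSpectrum.ext ?_
      show Ideal.comap ρ (IsLocalRing.maximalIdeal Ω) = P
      rw [IsLocalRing.maximalIdeal_eq_bot, ← RingHom.ker_eq_comap_bot,
        RingHom.ker_comp_of_injective _ e.symm.injective, Ideal.mk_ker]
    refine (pt_comp _ _).trans ((congrArg X.isoSpec.inv h1).trans ?_)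
    rw [← Scheme.Hom.comp_apply, Iso.hom_inv_id]
    rfl

/-- Geometric points lift along integral morphisms through any point over them. -/
theorem exists_lift_of_isIntegralHom {U V : Scheme.{u}} (π : U ⟶ V) [IsIntegralHom π]
    (t : Spec (CommRingCat.of Ω) ⟶ V) (y : U) (hy : π y = pt t) :
    ∃ φ : Spec (CommRingCat.of Ω) ⟶ U, φ ≫ π = t ∧ pt φ = y := by
  obtain ⟨z, hz, -⟩ := Scheme.Pullback.exists_preimage_pullback (f := π) (g := t) y (IsLocalRing.closedPoint Ω) hy
  obtain ⟨φ, hφ, hφz⟩ := exists_section_of_isIntegralHom (pullback.snd π t) z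
  refine ⟨φ ≫ pullback.fst π t, ?_, ?_⟩
  · rw [Category.assoc, pullback.condition, reassoc_of% hφ]
  · rw [pt_comp, hφz, hz]

omit [IsAlgClosed Ω] in
theorem eq_of_universallyInjective {U V : Scheme.{u}} (f : U ⟶ V) [UniversallyInjective f]
    [IsSeparated f] (a b : Spec (CommRingCat.of Ω) ⟶ U) (h : a ≫ f = b ≫ f) : a = b := by
  have hs : Surjective (pullback.diagonal f) := (UniversallyInjective.iff_diagonal f).1 inferInstance
  let d := pullback.snd (pullback.diagonal f) (pullback.lift a b h)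
  have : Surjective d := MorphismProperty.pullback_snd _ _ hs
  have : IsClosedImmersion d := MorphismProperty.pullback_snd _ _ IsSeparated.isClosedImmersion_diagonal
  have : IsIso d := isIso_of_isClosedImmersion_of_surjective d
  have hc : pullback.fst _ _ ≫ pullback.diagonal f = d ≫ pullback.lift a b h := pullback.condition
  rw [← cancel_epi d]
  calc d ≫ a = pullback.fst (pullback.diagonal f) (pullback.lift a b h) := by
        have := congrArg (· ≫ pullback.fst f f) hc
        simp only [Category.assoc, pullback.diagonal_fst, Category.comp_id] at this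
        exact (congrArg (d ≫ ·) (pullback.lift_fst a b h)).symm.trans this.symm
    _ = d ≫ b := by
        have := congrArg (· ≫ pullback.snd f f) hc
        simp only [Category.assoc, pullback.diagonal_snd, Category.comp_id] at this
        exact this.trans (congrArg (d ≫ ·) (pullback.lift_snd a b h))

theorem existsUnique_lift_of_universallyInjective {U V : Scheme.{u}} (f : U ⟶ V) [IsIntegralHom f]
    [UniversallyInjective f] (t : Spec (CommRingCat.of Ω) ⟶ V) (h : pt t ∈ Set.range f.base) :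
    ∃! φ, φ ≫ f = t := by
  obtain ⟨y, hy⟩ := h
  obtain ⟨φ, hφ, -⟩ := exists_lift_of_isIntegralHom f t y hy
  exact ⟨φ, hφ, fun φ' h' => eq_of_universallyInjective f φ' φ (h'.trans hφ.symm)⟩

/-- An étale neighbourhood of the only geometric point over `γ` is refined by the preimage of an étale
neighbourhood of `γ` (affine base). -/
theorem exists_refine_affine {X Y : Scheme.{u}} (f : X ⟶ Y) [IsAffine Y] [IsIntegralHom f]
    (γ : Spec (CommRingCat.of Ω) ⟶ Y) (ξ : Spec (CommRingCat.of Ω) ⟶ X) (hξ : ξ ≫ f = γ)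
    (huniq : ∀ ξ', ξ' ≫ f = γ → ξ' = ξ) {U : Scheme.{u}} [IsAffine U] (q : U ⟶ X) [Etale q]
    (u : Spec (CommRingCat.of Ω) ⟶ U) (hu : u ≫ q = ξ) :
    ∃ (V : Scheme.{u}) (v : V ⟶ Y) (_ : Etale v) (γ' : Spec (CommRingCat.of Ω) ⟶ V)
      (hγ' : γ' ≫ v = γ) (φ : pullback f v ⟶ U), φ ≫ q = pullback.fst f v ∧
        pullback.lift ξ γ' (hξ.trans hγ'.symm) ≫ φ = u := by
  obtain ⟨X₀, π, f₀, _, hπs, U₀, q₀, π', hf, hq₀, hsq⟩ :=
    exists_finite_model f (fun _ : PUnit.{u + 1} => U) (fun _ => q) (fun _ => inferInstance)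
  have : IsIntegralHom (π ≫ f₀) := hf ▸ inferInstance
  have : IsIntegralHom π := MorphismProperty.of_postcomp (W := @IsIntegralHom) (W' := @IsSeparated) π f₀
    inferInstance inferInstance
  have hlift : ∀ ξ₀, ξ₀ ≫ f₀ = γ → ξ₀ = ξ ≫ π := by
    intro ξ₀ h
    obtain ⟨x, hx⟩ := π.surjective (pt ξ₀)
    obtain ⟨ξ', h', -⟩ := exists_lift_of_isIntegralHom π ξ₀ x hx
    rw [← h', huniq ξ' (by rw [← hf, reassoc_of% h', h])]
  have hu0 : (u ≫ π' PUnit.unit) ≫ q₀ PUnit.unit = ξ ≫ π := by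
    rw [Category.assoc, (hsq PUnit.unit).w, reassoc_of% hu]
  obtain ⟨V, v, hv, γ', C, c, φ, w, hγ', hc, hφ, hwφ, hwc, -, hcv⟩ :=
    exists_split f₀ γ U₀ q₀ (fun _ => u ≫ π' PUnit.unit) hq₀
      (fun _ => by rw [← Category.assoc, hu0, Category.assoc, hf, hξ])
      (fun ξ₀ h => ⟨PUnit.unit, hu0.trans (hlift ξ₀ h).symm⟩) (fun _ _ _ => rfl)
  have := hc PUnit.unit
  have : Surjective (c PUnit.unit) := ⟨fun y => by
    obtain ⟨⟨⟩, hy⟩ := hcv y
    exact hy⟩
  have : IsIso (c PUnit.unit) := (isIso_iff_isOpenImmersion_and_surjective _).2 ⟨inferInstance, inferInstance⟩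
  let m : pullback f v ⟶ pullback f₀ v := pullback.map f v f₀ v π (𝟙 _) (𝟙 _)
    (by rw [Category.comp_id, hf]) (by simp)
  refine ⟨V, v, hv, γ', hγ', (hsq PUnit.unit).lift (m ≫ inv (c PUnit.unit) ≫ φ PUnit.unit)
    (pullback.fst f v) ?_, (hsq PUnit.unit).lift_snd _ _ _, ?_⟩
  · simp only [Category.assoc, hφ, IsIso.inv_hom_id_assoc]
    exact pullback.lift_fst _ _ _
  · have hm : pullback.lift ξ γ' (hξ.trans hγ'.symm) ≫ m = w PUnit.unit ≫ c PUnit.unit := by
      apply pullback.hom_ext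
      · rw [Category.assoc, pullback.lift_fst, pullback.lift_fst_assoc, Category.assoc,
          ← hφ, reassoc_of% hwφ, (hsq PUnit.unit).w, reassoc_of% hu]
      · rw [Category.assoc, pullback.lift_snd, Category.comp_id, pullback.lift_snd, Category.assoc, hwc]
    apply (hsq PUnit.unit).hom_ext
    · rw [Category.assoc, IsPullback.lift_fst, reassoc_of% hm, IsIso.hom_inv_id_assoc, hwφ]
    · rw [Category.assoc, IsPullback.lift_snd, pullback.lift_fst, hu]

theorem exists_refine {X Y : Scheme.{u}} (f : X ⟶ Y) [IsIntegralHom f]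
    (γ : Spec (CommRingCat.of Ω) ⟶ Y) (ξ : Spec (CommRingCat.of Ω) ⟶ X) (hξ : ξ ≫ f = γ)
    (huniq : ∀ ξ', ξ' ≫ f = γ → ξ' = ξ) {U : Scheme.{u}} (q : U ⟶ X) [Etale q]
    (u : Spec (CommRingCat.of Ω) ⟶ U) (hu : u ≫ q = ξ) :
    ∃ (V : Scheme.{u}) (v : V ⟶ Y) (_ : Etale v) (γ' : Spec (CommRingCat.of Ω) ⟶ V)
      (hγ' : γ' ≫ v = γ) (φ : pullback f v ⟶ U), φ ≫ q = pullback.fst f v ∧
        pullback.lift ξ γ' (hξ.trans hγ'.symm) ≫ φ = u := by
  obtain ⟨O, hO, hγO, -⟩ := exists_isAffineOpen_mem_and_subset (U := (⊤ : Y.Opens)) (x := pt γ) trivial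
  have : IsAffine O := hO
  have hr : Set.range γ ⊆ Set.range O.ι := by
    rw [Scheme.Opens.range_ι, range_eq_pt, Set.singleton_subset_iff]
    exact hγO
  let γO := IsOpenImmersion.lift O.ι γ hr
  have hγO' : γO ≫ O.ι = γ := IsOpenImmersion.lift_fac _ _ _
  let ξO := pullback.lift (f := f) (g := O.ι) ξ γO (hξ.trans hγO'.symm)
  let U₁ := pullback q (pullback.fst f O.ι)
  let u₁ : Spec (CommRingCat.of Ω) ⟶ U₁ := pullback.lift u ξO (hu.trans (pullback.lift_fst _ _ _).symm)
  obtain ⟨W, hW, huW, -⟩ := exists_isAffineOpen_mem_and_subset (U := (⊤ : U₁.Opens)) (x := pt u₁) trivial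
  have : IsAffine W := hW
  have hr' : Set.range u₁ ⊆ Set.range W.ι := by
    rw [Scheme.Opens.range_ι, range_eq_pt, Set.singleton_subset_iff]
    exact huW
  have : Etale (pullback.snd q (pullback.fst f O.ι)) := MorphismProperty.pullback_snd _ _ inferInstance
  obtain ⟨V, v, hv, γ', hγ', φ, hφ, hlift⟩ := exists_refine_affine (pullback.snd f O.ι) γO ξO
    (pullback.lift_snd _ _ _)
    (fun ξ' h => pullback.hom_ext
      ((huniq _ (by rw [Category.assoc, pullback.condition, reassoc_of% h, hγO'])).trans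
        (pullback.lift_fst _ _ _).symm)
      (h.trans (pullback.lift_snd _ _ _).symm))
    (W.ι ≫ pullback.snd q (pullback.fst f O.ι)) (IsOpenImmersion.lift W.ι u₁ hr')
    (by rw [IsOpenImmersion.lift_fac_assoc]; exact pullback.lift_snd _ _ _)
  refine ⟨V, v ≫ O.ι, inferInstance, γ', by rw [reassoc_of% hγ', hγO'],
    (pullbackLeftPullbackSndIso f O.ι v).inv ≫ φ ≫ W.ι ≫ pullback.fst _ _, ?_, ?_⟩
  · rw [Category.assoc, Category.assoc, Category.assoc, pullback.condition, reassoc_of% hφ,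
      pullbackLeftPullbackSndIso_inv_fst]
  · have : pullback.lift ξ γ' (by rw [hξ, reassoc_of% hγ', hγO']) ≫
        (pullbackLeftPullbackSndIso f O.ι v).inv =
          pullback.lift ξO γ' ((pullback.lift_snd _ _ _).trans hγ'.symm) := by
      rw [Iso.comp_inv_eq]
      apply pullback.hom_ext
      · rw [Category.assoc, pullbackLeftPullbackSndIso_hom_fst]
        exact (pullback.lift_fst _ _ _).trans ((pullback.lift_fst _ _ _).symm.trans
          ((congrArg (· ≫ pullback.fst f O.ι) (pullback.lift_fst _ _ _).symm).trans (Category.assoc _ _ _)))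
      · rw [Category.assoc, pullbackLeftPullbackSndIso_hom_snd]
        exact (pullback.lift_snd _ _ _).trans (pullback.lift_snd _ _ _).symm
    rw [reassoc_of% this, reassoc_of% hlift, IsOpenImmersion.lift_fac_assoc]
    exact pullback.lift_fst _ _ _

end Groth.Agent.EtSite
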