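import Groth.Agent.EtSite.PullStalk
import Mathlib.AlgebraicGeometry.Morphisms.UniversallyOpen

/-!
# Sections of étale sheaves and their vanishing loci
-/

set_option autoImplicit false
universe u

open CategoryTheory CategoryTheory.Limits AlgebraicGeometry Opposite

namespace Groth.Agent.EtSite

variable {S : Scheme.{u}} (F : EtCoh.Ab S)

/-- The largest open of `U` on which a section vanishes étale locally. -/
noncomputable def vanishingOpen (U : S.Etale) (σ : EtCoh.sect F U) : U.left.Opens :=
  ⟨⋃ (V : S.Etale) (g : V ⟶ U) (_ : F.obj.map g.op σ = 0), Set.range g.left.base, by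
    refine isOpen_iUnion fun V => isOpen_iUnion fun g => isOpen_iUnion fun _ => ?_
    have : EtCoh.etaleMP g.left := inferInstance
    have : UniversallyOpen g.left := inferInstance
    exact g.left.isOpenMap.isOpen_range⟩

theorem mem_vanishingOpen (U : S.Etale) (σ : EtCoh.sect F U) (x : U.left) :
    x ∈ (vanishingOpen F U σ : Set U.left) ↔
      ∃ (V : S.Etale) (g : V ⟶ U), F.obj.map g.op σ = 0 ∧ x ∈ Set.range g.left.base := by
  simp [vanishingOpen]

theorem map_eq_zero_iff_subset_vanishingOpen (U : S.Etale) (σ : EtCoh.sect F U) (V : S.Etale)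
    (φ : V ⟶ U) :
    F.obj.map φ.op σ = 0 ↔ Set.range φ.left.base ⊆ (vanishingOpen F U σ : Set U.left) := by
  constructor
  · intro h x hx
    exact (mem_vanishingOpen F U σ x).2 ⟨V, φ, h, hx⟩
  · intro h
    let R : Sieve V :=
      { arrows := fun W g => F.obj.map g.op (F.obj.map φ.op σ) = 0
        downward_closed := fun {W W'} g hg k => by
          rw [op_comp, Functor.map_comp_apply, hg, map_zero] }
    refine Presheaf.IsSheaf.isSeparated F.property V R ?_ _ _ fun W g hg => ?_
    · refine mem_smallEtaleTopology_of_points V R fun x => ?_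
      obtain ⟨W, g, hg, w, hw⟩ := (mem_vanishingOpen F U σ _).1 (h ⟨x, rfl⟩)
      have hgle : EtCoh.etaleMP g.left := inferInstance
      -- the fibre product of `φ` and `g` contains a point over `x`
      obtain ⟨p, hp1, hp2⟩ := Scheme.Pullback.exists_preimage_pullback
        (f := φ.left) (g := g.left) x w hw.symm
      let P : S.Etale := @Scheme.Etale.mk S (pullback φ.left g.left) (pullback.fst _ _ ≫ V.hom)
        (MorphismProperty.comp_mem (W := EtCoh.etaleMP) _ _
          (MorphismProperty.pullback_fst φ.left g.left hgle) V.prop)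
      let a : P ⟶ V := MorphismProperty.Over.homMk (pullback.fst _ _) rfl
      let b : P ⟶ W := MorphismProperty.Over.homMk (pullback.snd _ _) (by
        have h1 : g.left ≫ U.hom = W.hom := Over.w g.hom
        have h2 : φ.left ≫ U.hom = V.hom := Over.w φ.hom
        exact (congrArg (CategoryStruct.comp (pullback.snd φ.left g.left)) h1).symm.trans
          ((Category.assoc _ _ _).symm.trans
            ((congrArg (· ≫ U.hom) pullback.condition.symm).trans
              ((Category.assoc _ _ _).trans (congrArg (CategoryStruct.comp _) h2)))))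
      have hab : a ≫ φ = b ≫ g := MorphismProperty.Over.Hom.ext pullback.condition
      refine ⟨P, a, p, ?_, hp1⟩
      show F.obj.map a.op (F.obj.map φ.op σ) = 0
      rw [← Functor.map_comp_apply, ← op_comp, hab, op_comp, Functor.map_comp_apply, hg, map_zero]
    · rw [map_zero]
      exact hg

/-- A section vanishes as soon as its germs at all geometric points do. -/
theorem sect_eq_zero_of_germs (U : S.Etale) (s : EtCoh.sect F U)
    (h : ∀ (Ω : Type u) [Field Ω] [IsSepClosed Ω] (ξ : Spec (CommRingCat.of Ω) ⟶ S)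
      (t : (Scheme.pointSmallEtale ξ).fiber.obj U),
        (Scheme.pointSmallEtale ξ).toPresheafFiber U t F.obj s = 0) : s = 0 := by
  have h1 : F.obj.map (𝟙 U).op s = 0 := by
    rw [map_eq_zero_iff_subset_vanishingOpen]
    rintro _ ⟨x, rfl⟩
    have hz := (h _ _ (tautPt U x)).trans
      (map_zero ((Scheme.pointSmallEtale (gpt x ≫ U.hom)).toPresheafFiber U (tautPt U x) F.obj).hom).symm
    obtain ⟨V, g, v, hv, hg⟩ := ((Scheme.pointSmallEtale (gpt x ≫ U.hom)).toPresheafFiber_eq_iff'
      U (tautPt U x) s 0).1 hz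
    refine (mem_vanishingOpen F U s _).2 ⟨V, g, by rw [hg, map_zero],
      v.left (default : Spec (CommRingCat.of (SeparableClosure (U.left.residueField x)))), ?_⟩
    have hl : v.left ≫ g.left = gpt x := congrArg CommaMorphism.left hv
    exact (Scheme.Hom.comp_apply _ _ _).symm.trans
      ((congrArg (fun m : _ ⟶ U.left => m.base _) hl).trans (gpt_apply x _))
  rw [op_id, CategoryTheory.Functor.map_id] at h1
  exact h1

/-- The vanishing locus of a global section after pullback. -/
theorem unit_app_top_eq_iff (s t : EtCoh.sect F (EtCoh.top S)) {T : Scheme.{u}} (f : T ⟶ S) :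
    ((EtCoh.pullPushAdj f).unit.app F).hom.app (op (EtCoh.top S)) s =
        ((EtCoh.pullPushAdj f).unit.app F).hom.app (op (EtCoh.top S)) t ↔
      Set.range f.base ⊆ (vanishingOpen F (EtCoh.top S) (s - t) : Set (EtCoh.top S).left) := by
  rw [← sub_eq_zero, ← map_sub]
  constructor
  · intro h y hy
    obtain ⟨x, rfl⟩ := hy
    let τ : (Scheme.pointSmallEtale (gpt x ≫ f)).fiber.obj (EtCoh.top S) :=
      Over.homMk (gpt x ≫ f) (Category.comp_id _)
    have e := ConcreteCategory.congr_hom (toPresheafFiber_stalkPullIso_hom f (gpt x) F (EtCoh.top S) τ) (s - t)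
    have e' : (stalkPullIso f (gpt x)).hom.app F
        ((Scheme.pointSmallEtale (gpt x ≫ f)).toPresheafFiber (EtCoh.top S) τ F.obj (s - t)) = 0 :=
      e.trans ((congrArg ((Scheme.pointSmallEtale (gpt x)).toPresheafFiber _
          (bcPt f (gpt x) (EtCoh.top S) τ) ((EtCoh.pull f).obj F).obj) h).trans
        (map_zero ((Scheme.pointSmallEtale (gpt x)).toPresheafFiber _
          (bcPt f (gpt x) (EtCoh.top S) τ) ((EtCoh.pull f).obj F).obj).hom))
    have e'' := ((ConcreteCategory.isIso_iff_bijective _).1
      (inferInstanceAs (IsIso ((stalkPullIso f (gpt x)).hom.app F)))).1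
      (e'.trans (map_zero ((stalkPullIso f (gpt x)).hom.app F).hom).symm)
    obtain ⟨V, g, v, hv, hg⟩ := ((Scheme.pointSmallEtale (gpt x ≫ f)).toPresheafFiber_eq_iff'
      (EtCoh.top S) τ (s - t) 0).1 (e''.trans
        (map_zero ((Scheme.pointSmallEtale (gpt x ≫ f)).toPresheafFiber (EtCoh.top S) τ F.obj).hom).symm)
    refine (mem_vanishingOpen F _ _ _).2 ⟨V, g, by rw [hg, map_zero],
      v.left (default : Spec (CommRingCat.of (SeparableClosure (T.residueField x)))), ?_⟩
    have hl : v.left ≫ g.left = gpt x ≫ f := congrArg CommaMorphism.left hv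
    exact (Scheme.Hom.comp_apply _ _ _).symm.trans
      ((congrArg (fun m : _ ⟶ S => m.base _) hl).trans
        ((Scheme.Hom.comp_apply _ _ _).trans (congrArg f.base (gpt_apply x _))))
  · intro h
    refine sect_eq_zero_of_germs ((EtCoh.pull f).obj F) _ _ fun Ω _ _ ξ τ' => ?_
    let τ : (Scheme.pointSmallEtale (ξ ≫ f)).fiber.obj (EtCoh.top S) := unbcPt f ξ _ τ'
    have e := ConcreteCategory.congr_hom (toPresheafFiber_stalkPullIso_hom f ξ F (EtCoh.top S) τ) (s - t)
    rw [bcPt_unbcPt] at e
    refine e.symm.trans ?_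
    have hy : f (ξ (default : Spec (CommRingCat.of Ω))) ∈
        (vanishingOpen F (EtCoh.top S) (s - t) : Set (EtCoh.top S).left) := h ⟨_, rfl⟩
    obtain ⟨V, g, hg, w, hw⟩ := (mem_vanishingOpen F _ _ _).1 hy
    have hgle : EtCoh.etaleMP g.left := inferInstance
    have hτ : τ.left = ξ ≫ f := (Category.comp_id _).symm.trans (Over.w τ)
    obtain ⟨l, hl, -⟩ := @Scheme.exists_fac_of_etale_of_isSepClosed _ _ g.left hgle Ω _ _ τ.left w
      (hw.trans ((congrArg (fun m : _ ⟶ S => m.base _) hτ).trans (Scheme.Hom.comp_apply _ _ _)).symm)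
    let v : (Scheme.pointSmallEtale (ξ ≫ f)).fiber.obj V := Over.homMk l (by
      have h1 : g.left ≫ 𝟙 S = V.hom := Over.w g.hom
      exact (congrArg (CategoryStruct.comp l) h1).symm.trans ((Category.assoc _ _ _).symm.trans
        ((congrArg (· ≫ 𝟙 S) hl).trans (Over.w τ))))
    have hz := (((Scheme.pointSmallEtale (ξ ≫ f)).toPresheafFiber_eq_iff'
      (EtCoh.top S) τ (s - t) 0).2 ⟨V, g, v, Over.OverMorphism.ext hl, by rw [hg, map_zero]⟩).trans
      (map_zero ((Scheme.pointSmallEtale (ξ ≫ f)).toPresheafFiber (EtCoh.top S) τ F.obj).hom)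
    show (stalkPullIso f ξ).hom.app F
      ((Scheme.pointSmallEtale (ξ ≫ f)).toPresheafFiber (EtCoh.top S) τ F.obj (s - t)) = 0
    exact (congrArg ((stalkPullIso f ξ).hom.app F) hz).trans
      (map_zero ((stalkPullIso f ξ).hom.app F).hom)

end Groth.Agent.EtSite
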