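import Groth.Agent.Weighting.Local
import Groth.Agent.Rigidity.Basic

/-!
# Étale local splitting of finite morphisms by geometric points

Given a finite morphism `f : X ⟶ Y`, a geometric point `γ` of `Y` and, for each geometric point of
`X` over it, an étale neighbourhood `q k : U k ⟶ X`, there is an étale neighbourhood of `γ` over
which `X` is covered by disjoint opens each mapping to the corresponding `U k` over `X`.
-/

set_option autoImplicit false
universe u

open CategoryTheory CategoryTheory.Limits AlgebraicGeometry Groth.Agent.Weighting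

namespace Groth.Agent.EtSite

variable {Ω : Type u} [Field Ω] [IsAlgClosed Ω] {X Y : Scheme.{u}} (f : X ⟶ Y)
  (γ : Spec (CommRingCat.of Ω) ⟶ Y) {κ : Type u} (U : κ → Scheme.{u}) (q : ∀ k, U k ⟶ X)
  (u : ∀ k, Spec (CommRingCat.of Ω) ⟶ U k)

theorem exists_isolating_indexed [IsFinite f] (hq : ∀ k, Etale (q k))
    (hu : ∀ k, u k ≫ q k ≫ f = γ) (s : Finset κ) :
    ∃ (V : Scheme.{u}) (g : V ⟶ Y) (_ : Etale g) (γ' : Spec (CommRingCat.of Ω) ⟶ V), γ' ≫ g = γ ∧
      ∀ k ∈ s, ∃ (W : (pullback (q k ≫ f) g).Opens) (_ : IsFinite (W.ι ≫ pullback.snd (q k ≫ f) g)),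
        lifts (q k ≫ f) g W γ' = {u k} := by
  classical
  induction s using Finset.induction with
  | empty => exact ⟨Y, 𝟙 Y, inferInstance, γ, Category.comp_id _, fun k hk => by simp at hk⟩
  | @insert k s _ ih =>
    obtain ⟨V₁, g₁, _, γ₁, hγ₁, h₁⟩ := ih
    have := hq k
    obtain ⟨V₂, g₂, _, γ₂, W₂, _, hγ₂, h₂⟩ := Weighting.exists_isolating (q k ≫ f) γ (u k) (hu k)
    refine ⟨pullback g₁ g₂, pullback.fst g₁ g₂ ≫ g₁, inferInstance,
      pullback.lift γ₁ γ₂ (hγ₁.trans hγ₂.symm), by rw [pullback.lift_fst_assoc, hγ₁], ?_⟩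
    intro l hl
    rcases Finset.mem_insert.1 hl with rfl | hl
    · refine ⟨Weighting.bc (q l ≫ f) (pullback.snd g₁ g₂) pullback.condition.symm ⁻¹ᵁ W₂,
        isFinite_bc _ _ _ _, ?_⟩
      rw [lifts_bc, pullback.lift_snd, h₂]
    · obtain ⟨W₁, _, hW₁⟩ := h₁ l hl
      refine ⟨Weighting.bc (q l ≫ f) (pullback.fst g₁ g₂) rfl ⁻¹ᵁ W₁, isFinite_bc _ _ _ _, ?_⟩
      rw [lifts_bc, pullback.lift_fst, hW₁]

/-- Étale local splitting of a finite morphism. -/
theorem exists_split [IsFinite f] [Finite κ] (hq : ∀ k, Etale (q k))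
    (hu : ∀ k, u k ≫ q k ≫ f = γ)
    (hex : ∀ ξ : Spec (CommRingCat.of Ω) ⟶ X, ξ ≫ f = γ → ∃ k, u k ≫ q k = ξ)
    (hinj : Function.Injective fun k => u k ≫ q k) :
    ∃ (V : Scheme.{u}) (g : V ⟶ Y) (_ : Etale g) (γ' : Spec (CommRingCat.of Ω) ⟶ V)
      (C : κ → Scheme.{u}) (c : ∀ k, C k ⟶ pullback f g) (φ : ∀ k, C k ⟶ U k)
      (w : ∀ k, Spec (CommRingCat.of Ω) ⟶ C k),
      γ' ≫ g = γ ∧ (∀ k, IsOpenImmersion (c k)) ∧ (∀ k, φ k ≫ q k = c k ≫ pullback.fst f g) ∧
        (∀ k, w k ≫ φ k = u k) ∧ (∀ k, w k ≫ c k ≫ pullback.snd f g = γ') ∧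
        Pairwise (Function.onFun Disjoint fun k => Set.range (c k)) ∧
        ∀ y : ↑(pullback f g), ∃ k, y ∈ Set.range (c k) := by
  classical
  cases nonempty_fintype κ
  obtain ⟨V, g, _, γ', hγ', hW⟩ := exists_isolating_indexed f γ U q u hq hu Finset.univ
  choose W hWfin hWlift using fun k => hW k (Finset.mem_univ k)
  have := hq
  -- the maps of the isolating pieces to `X' = X ×_Y V`
  let Q : ∀ k, pullback (q k ≫ f) g ⟶ pullback f g := fun k =>
    pullback.lift (pullback.fst _ _ ≫ q k) (pullback.snd _ _)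
      (by rw [Category.assoc, pullback.condition])
  have hQ : ∀ k, Etale (Q k) := fun k => by
    have hs : Q k ≫ pullback.snd f g = pullback.snd (q k ≫ f) g := pullback.lift_snd _ _ _
    have h1 : IsPullback (pullback.fst (q k ≫ f) g) (Q k) (q k) (pullback.fst f g) :=
      IsPullback.of_bot (hs.symm ▸ IsPullback.of_hasPullback (q k ≫ f) g)
        (pullback.lift_fst _ _ _).symm (IsPullback.of_hasPullback f g)
    exact MorphismProperty.of_isPullback h1 (hq k)
  let a : ∀ k, (W k : Scheme.{u}) ⟶ pullback f g := fun k => (W k).ι ≫ Q k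
  have ha_snd : ∀ k, a k ≫ pullback.snd f g = (W k).ι ≫ pullback.snd (q k ≫ f) g := fun k =>
    (Category.assoc _ _ _).trans (congrArg _ (pullback.lift_snd _ _ _))
  have ha_fst : ∀ k, a k ≫ pullback.fst f g = (W k).ι ≫ pullback.fst (q k ≫ f) g ≫ q k := fun k =>
    (Category.assoc _ _ _).trans (congrArg _ (pullback.lift_fst _ _ _))
  have ha : ∀ k, Etale (a k) := fun k => by
    have := hQ k; simp only [a]; infer_instance
  have hafin : ∀ k, IsFinite (a k) := fun k => by
    have := hWfin k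
    have : IsFinite (a k ≫ pullback.snd f g) := by rw [ha_snd]; infer_instance
    exact IsFinite.of_comp _ (pullback.snd f g)
  let π : ∀ k l, pullback (a k) (a l) ⟶ V := fun k l =>
    pullback.fst (a k) (a l) ≫ a k ≫ pullback.snd f g
  have hπfin : ∀ k l, IsFinite (π k l) := fun k l => by
    have := hafin k; have := hafin l; simp only [π]; infer_instance
  let cov : Set ↑(pullback f g) := ⋃ k, Set.range (a k)
  have hcov : IsOpen cov := isOpen_iUnion fun k => by
    have := ha k
    exact (a k).isOpenMap.isOpen_range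
  let bad : Set ↑V := pullback.snd f g '' covᶜ ∪
    ((⋃ k, π k k '' (Set.range (pullback.diagonal (a k)))ᶜ) ∪
      ⋃ i : {p : κ × κ // p.1 ≠ p.2}, Set.range (π i.1.1 i.1.2))
  have hbad : IsClosed bad := by
    refine ((pullback.snd f g).isClosedMap _ hcov.isClosed_compl).union
      ((isClosed_iUnion_of_finite fun k => ?_).union (isClosed_iUnion_of_finite fun i => ?_))
    · have := hπfin k k
      have := ha k
      exact (π k k).isClosedMap _
        (pullback.diagonal (a k)).isOpenEmbedding.isOpen_range.isClosed_compl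
    · have := hπfin i.1.1 i.1.2
      exact (π i.1.1 i.1.2).isClosedMap.isClosed_range
  -- geometric points of the pieces over `γ'`
  have huniq : ∀ k (ψ : Spec (CommRingCat.of Ω) ⟶ (W k : Scheme.{u})),
      ψ ≫ a k ≫ pullback.snd f g = γ' →
        ψ ≫ (W k).ι ≫ pullback.fst (q k ≫ f) g = u k := by
    intro k ψ hψ
    rw [ha_snd] at hψ
    have hm : ψ ≫ (W k).ι ≫ pullback.fst (q k ≫ f) g ∈ lifts (q k ≫ f) g (W k) γ' :=
      ⟨ψ ≫ (W k).ι, ⟨(Category.assoc _ _ _).trans hψ, by rw [pt_comp]; exact (pt ψ).2⟩,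
        Category.assoc _ _ _⟩
    rwa [hWlift, Set.mem_singleton_iff] at hm
  have hpt : ∀ k, ∃ ψ : Spec (CommRingCat.of Ω) ⟶ (W k : Scheme.{u}),
      ψ ≫ a k ≫ pullback.snd f g = γ' ∧ ψ ≫ (W k).ι ≫ pullback.fst (q k ≫ f) g = u k := by
    intro k
    have hm : u k ∈ lifts (q k ≫ f) g (W k) γ' := by rw [hWlift]; exact rfl
    obtain ⟨H, hs⟩ := mem_lifts.1 hm
    have hr : Set.range (pullback.lift (u k) γ' H) ⊆ Set.range (W k).ι := by
      rw [range_eq_pt, Set.singleton_subset_iff, Scheme.Opens.range_ι]; exact hs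
    refine ⟨IsOpenImmersion.lift (W k).ι _ hr, ?_, ?_⟩
    · rw [ha_snd, ← Category.assoc, IsOpenImmersion.lift_fac, pullback.lift_snd]
    · rw [← Category.assoc, IsOpenImmersion.lift_fac, pullback.lift_fst]
  choose wk hwk hwk' using hpt
  have hγbad : pt γ' ∉ bad := by
    rintro (⟨p, hp, hpγ⟩ | h)
    · obtain ⟨φ, hφ, (hφp : pt φ = p)⟩ := (finite_geoFib_singleton (pullback.snd f g) γ' p hpγ).2.1
      obtain ⟨k, hk⟩ := hex (φ ≫ pullback.fst f g) (by
        rw [Category.assoc, pullback.condition, ← Category.assoc, hφ, hγ'])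
      refine hp (Set.mem_iUnion.2 ⟨k, pt (wk k), ?_⟩)
      rw [← pt_comp, ← hφp]
      refine congrArg pt (pullback.hom_ext ?_ ?_)
      · rw [Category.assoc, ha_fst, ← Category.assoc (W k).ι, ← Category.assoc (wk k), hwk', hk]
      · rw [Category.assoc, hwk, hφ]
    · have key : ∀ k l (z : ↑(pullback (a k) (a l))), π k l z = pt γ' →
          ∃ ψ : Spec (CommRingCat.of Ω) ⟶ pullback (a k) (a l), pt ψ = z ∧ k = l ∧
            (ψ ≫ pullback.fst _ _) ≫ (W k).ι ≫ pullback.fst (q k ≫ f) g = u k ∧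
            (ψ ≫ pullback.snd _ _) ≫ (W l).ι ≫ pullback.fst (q l ≫ f) g = u l ∧ ψ ≫ π k l = γ' := by
        intro k l z hz
        have := hπfin k l
        obtain ⟨ψ, hψ, (hψz : pt ψ = z)⟩ := (finite_geoFib_singleton (π k l) γ' z hz).2.1
        have h1 := huniq k (ψ ≫ pullback.fst _ _) ((Category.assoc _ _ _).trans hψ)
        have h2 := huniq l (ψ ≫ pullback.snd _ _) (by
          simp only [π] at hψ
          rw [Category.assoc, ← Category.assoc (pullback.snd (a k) (a l)), ← pullback.condition,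
            Category.assoc]
          exact hψ)
        refine ⟨ψ, hψz, hinj ?_, h1, h2, hψ⟩
        show u k ≫ q k = u l ≫ q l
        rw [← h1, ← h2]
        simp only [Category.assoc]
        rw [← ha_fst, ← ha_fst, ← Category.assoc (pullback.fst (a k) (a l)), pullback.condition,
          Category.assoc]
      rcases h with h | h
      · obtain ⟨k, z, hz, hzγ⟩ := Set.mem_iUnion.1 h
        obtain ⟨ψ, hψz, -, h1, h2, hψ⟩ := key k k z hzγ
        refine hz ⟨pt (ψ ≫ pullback.fst _ _), ?_⟩
        rw [← pt_comp, ← hψz]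
        have e12 : ψ ≫ pullback.fst (a k) (a k) = ψ ≫ pullback.snd (a k) (a k) := by
          rw [← cancel_mono (W k).ι]
          refine pullback.hom_ext ((Category.assoc _ _ _).trans (h1.trans
            (h2.symm.trans (Category.assoc _ _ _).symm))) ?_
          simp only [Category.assoc]
          rw [← ha_snd, ← Category.assoc (pullback.fst (a k) (a k)), pullback.condition, Category.assoc]
        refine congrArg pt (pullback.hom_ext ?_ ?_)
        · rw [Category.assoc, pullback.diagonal_fst, Category.comp_id]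
        · rw [Category.assoc, pullback.diagonal_snd, Category.comp_id, e12]
      · obtain ⟨⟨⟨k, l⟩, hne⟩, z, hzγ⟩ := Set.mem_iUnion.1 h
        obtain ⟨-, -, hkl, -⟩ := key k l z hzγ
        exact hne hkl
  -- shrink `V`
  let O : V.Opens := ⟨badᶜ, hbad.isOpen_compl⟩
  have hr : Set.range γ' ⊆ Set.range O.ι := by
    rw [range_eq_pt, Set.singleton_subset_iff, Scheme.Opens.range_ι]; exact hγbad
  let γ'' := IsOpenImmersion.lift O.ι γ' hr
  have hγ'' : γ'' ≫ O.ι = γ' := IsOpenImmersion.lift_fac _ _ _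
  have notbad : ∀ v : (O : Scheme.{u}), O.ι v ∉ bad := fun v => v.2
  let g' : (O : Scheme.{u}) ⟶ Y := O.ι ≫ g
  let C : κ → Scheme.{u} := fun k => pullback (a k ≫ pullback.snd f g) O.ι
  let c : ∀ k, C k ⟶ pullback f g' := fun k =>
    pullback.lift (pullback.fst _ _ ≫ a k ≫ pullback.fst f g) (pullback.snd _ _) (by
      simp only [g', Category.assoc, pullback.condition]
      rw [← Category.assoc (a k), ← Category.assoc (pullback.fst _ O.ι), pullback.condition,
        Category.assoc])
  let e : pullback f g' ⟶ pullback f g := Weighting.bc f O.ι rfl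
  have heo : IsOpenImmersion e :=
    MorphismProperty.of_isPullback (isPullback_bc f O.ι rfl).flip (inferInstance : IsOpenImmersion O.ι)
  have hce : ∀ k, c k ≫ e = pullback.fst _ _ ≫ a k := fun k => by
    refine pullback.hom_ext ?_ ?_
    · exact (Category.assoc _ _ _).trans ((congrArg _ (pullback.lift_fst _ _ _)).trans
        ((pullback.lift_fst _ _ _).trans (Category.assoc _ _ _).symm))
    · exact (Category.assoc _ _ _).trans ((congrArg _ (pullback.lift_snd _ _ _)).trans
        ((Category.assoc _ _ _).symm.trans ((congrArg (· ≫ O.ι) (pullback.lift_snd _ _ _)).trans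
          (pullback.condition.symm.trans (Category.assoc _ _ _).symm))))
  have hcet : ∀ k, Etale (c k) := fun k => by
    have h1 : Etale (c k ≫ e) := by rw [hce]; have := ha k; infer_instance
    exact MorphismProperty.of_postcomp (W := @Etale) (W' := @Etale) (c k) e inferInstance h1
  have hcui : ∀ k, UniversallyInjective (c k) := fun k => by
    refine ((tfae_universallyInjective (c k)).out 0 1).2 ?_
    intro K _ g₁ g₂ hg
    have h1 : (g₁ ≫ pullback.fst _ _) ≫ a k = (g₂ ≫ pullback.fst _ _) ≫ a k := by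
      simp only [Category.assoc, ← hce]
      rw [← Category.assoc, ← Category.assoc g₂]
      exact congrArg (· ≫ e) hg
    have h2 : g₁ ≫ pullback.snd _ O.ι = g₂ ≫ pullback.snd _ O.ι := by
      have := congrArg (· ≫ pullback.snd f g') hg
      exact ((congrArg (g₁ ≫ ·) (pullback.lift_snd _ _ _)).symm.trans (Category.assoc _ _ _).symm).trans
        (this.trans ((Category.assoc _ _ _).trans (congrArg (g₂ ≫ ·) (pullback.lift_snd _ _ _))))
    let pair := pullback.lift _ _ h1
    have := ha k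
    have hrd : Set.range pair ⊆ Set.range (pullback.diagonal (a k)) := by
      rintro _ ⟨s, rfl⟩
      by_contra hs
      refine notbad ((g₁ ≫ pullback.snd _ O.ι) s) (Or.inr (Or.inl (Set.mem_iUnion.2 ⟨k, _, hs, ?_⟩)))
      rw [← Scheme.Hom.comp_apply, ← Scheme.Hom.comp_apply]
      simp only [π, pair, pullback.lift_fst_assoc, Category.assoc, pullback.condition]
    let m := IsOpenImmersion.lift (pullback.diagonal (a k)) pair hrd
    have hm : m ≫ pullback.diagonal (a k) = pair := IsOpenImmersion.lift_fac _ _ _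
    have e1 : g₁ ≫ pullback.fst (a k ≫ pullback.snd f g) O.ι =
        g₂ ≫ pullback.fst (a k ≫ pullback.snd f g) O.ι := by
      rw [← pullback.lift_fst _ _ h1]
      conv_rhs => rw [← pullback.lift_snd _ _ h1]
      change pair ≫ _ = pair ≫ _
      rw [← hm, Category.assoc, pullback.diagonal_fst, Category.assoc, pullback.diagonal_snd]
    exact pullback.hom_ext e1 h2
  let w : ∀ k, Spec (CommRingCat.of Ω) ⟶ C k := fun k =>
    pullback.lift (wk k) γ'' (by rw [hwk, hγ''])
  refine ⟨O, g', inferInstance, γ'', C, c,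
    fun k => pullback.fst _ _ ≫ (W k).ι ≫ pullback.fst (q k ≫ f) g, w, ?_, ?_, ?_, ?_, ?_, ?_, ?_⟩
  · simp only [g', reassoc_of% hγ'', hγ']
  · intro k
    have := hcet k; have := hcui k
    exact Rigidity.isOpenImmersion_of_etale_of_universallyInjective (c k)
  · intro k
    simp only [c, pullback.lift_fst, Category.assoc, ha_fst]
  · intro k
    simp only [w, pullback.lift_fst_assoc, hwk']
  · intro k
    exact (congrArg (w k ≫ ·) (pullback.lift_snd _ _ _)).trans (pullback.lift_snd _ _ _)
  · intro k l hkl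
    rw [Function.onFun, Set.disjoint_left]
    rintro _ ⟨x, rfl⟩ ⟨y, hy⟩
    have h1 : a k (pullback.fst _ O.ι x) = a l (pullback.fst _ O.ι y) := by
      rw [← Scheme.Hom.comp_apply, ← Scheme.Hom.comp_apply, ← hce, ← hce, Scheme.Hom.comp_apply,
        Scheme.Hom.comp_apply, hy]
    obtain ⟨z, hz1, -⟩ := Scheme.Pullback.exists_preimage_pullback (f := a k) (g := a l) _ _ h1
    refine notbad (pullback.snd _ O.ι x) (Or.inr (Or.inr (Set.mem_iUnion.2 ⟨⟨⟨k, l⟩, hkl⟩, z, ?_⟩)))
    simp only [π]
    rw [Scheme.Hom.comp_apply, hz1, ← Scheme.Hom.comp_apply, ← Scheme.Hom.comp_apply,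
      pullback.condition]
  · intro y
    have h1 : e y ∈ cov := by
      by_contra hy
      refine notbad (pullback.snd f g' y) (Or.inl ⟨e y, hy, ?_⟩)
      rw [← Scheme.Hom.comp_apply, ← Scheme.Hom.comp_apply]
      exact congrArg (fun m : pullback f g' ⟶ V => m y) (isPullback_bc f O.ι rfl).w
    obtain ⟨k, x, hx⟩ := Set.mem_iUnion.1 h1
    obtain ⟨z, hz1, -⟩ := Scheme.Pullback.exists_preimage_pullback
      (f := a k ≫ pullback.snd f g) (g := O.ι) x (pullback.snd f g' y) (by
        rw [Scheme.Hom.comp_apply, hx, ← Scheme.Hom.comp_apply, ← Scheme.Hom.comp_apply]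
        exact congrArg (fun m : pullback f g' ⟶ V => m y) (isPullback_bc f O.ι rfl).w)
    refine ⟨k, z, e.isOpenEmbedding.injective ?_⟩
    rw [← Scheme.Hom.comp_apply, hce, Scheme.Hom.comp_apply, hz1, hx]

end Groth.Agent.EtSite
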