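import Groth.Agent.EtSite.PushStalk
import Groth.Agent.EtSite.Sections
import Groth.Agent.EtSite.Split
import Groth.Agent.EtSite.LiftIntegral

/-!
# Stalks of direct images along finite morphisms
-/

set_option autoImplicit false
universe u

open CategoryTheory CategoryTheory.Limits AlgebraicGeometry Opposite

namespace Groth.Agent.EtSite

/-- Gluing of sections along disjoint open immersions. -/
theorem exists_glue_disjoint {X : Scheme.{u}} (G : EtCoh.Ab X) {P : X.Etale} {κ : Type u}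
    {C : κ → X.Etale} (g : ∀ k, C k ⟶ P) (hopen : ∀ k, IsOpenImmersion (g k).left)
    (hd : Pairwise (Function.onFun Disjoint fun k => Set.range (g k).left.base))
    (hcov : ∀ y : P.left, ∃ k, y ∈ Set.range (g k).left.base) (z : ∀ k, EtCoh.sect G (C k)) :
    ∃ s : EtCoh.sect G P, ∀ k, G.obj.map (g k).op s = z k := by
  classical
  have hS : Sieve.ofArrows C g ∈ X.smallEtaleTopology P :=
    mem_smallEtaleTopology_of_points P _ fun y => by
      obtain ⟨k, v, hv⟩ := hcov y
      exact ⟨C k, g k, v, Sieve.ofArrows_mk C g k, hv⟩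
  have hsheaf : Presieve.IsSheafFor (G.obj ⋙ forget AddCommGrpCat.{u + 1}) (Presieve.ofArrows C g) := by
    rw [Presieve.isSheafFor_iff_generate]
    exact (isSheaf_iff_isSheaf_of_type _ _).1
      ((sheafCompose X.smallEtaleTopology (forget AddCommGrpCat.{u + 1})).obj G).property _ hS
  obtain ⟨s, hs, -⟩ := (Presieve.isSheafFor_arrows_iff _ g).1 hsheaf z (fun k l W a b hab => by
    by_cases hkl : k = l
    · subst hkl
      have : a = b := MorphismProperty.Over.Hom.ext (by
        have := hopen k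
        rw [← cancel_mono (g k).left]
        exact congrArg (fun m => m.left) hab)
      rw [this]
    · have : IsEmpty W.left := ⟨fun x => Set.disjoint_left.1 (hd hkl) ⟨a.left.base x, rfl⟩
        ⟨b.left.base x, (Scheme.Hom.comp_apply _ _ _).symm.trans
          ((congrArg (fun m : W ⟶ P => m.left.base x) hab.symm).trans (Scheme.Hom.comp_apply _ _ _))⟩⟩
      have := subsingleton_sect_of_isEmpty G W
      exact @Subsingleton.elim (EtCoh.sect G W) _ _ _)
  exact ⟨s, hs⟩

variable {X Y : Scheme.{u}} (f : X ⟶ Y) {Ω : Type u} [Field Ω] [IsSepClosed Ω]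
  (η : Spec (CommRingCat.of Ω) ⟶ Y) (ξ : Spec (CommRingCat.of Ω) ⟶ X)

/-- The lift of an element of the fibre at `η` through `ξ` over `η`. -/
noncomputable def liftPt (h : ξ ≫ f = η) (V : Y.Etale)
    (t : (Scheme.pointSmallEtale η).fiber.obj V) :
    (Scheme.pointSmallEtale ξ).fiber.obj ((EtCoh.bc f).obj V) :=
  Over.homMk (pullback.lift t.left ξ ((Over.w t).trans h.symm)) (pullback.lift_snd _ _ _)

/-- The stalk of `f_*` at `η` maps to the stalk at a point over it. -/
noncomputable def germMap (h : ξ ≫ f = η) :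
    EtCoh.push f ⋙ EtCoh.stalk η ⟶ EtCoh.stalk ξ :=
  eqToHom (by rw [h]) ≫ pushStalkMap f ξ

theorem germMap_germ (h : ξ ≫ f = η) (G : EtCoh.Ab X) (V : Y.Etale)
    (t : (Scheme.pointSmallEtale η).fiber.obj V) (z : EtCoh.sect ((EtCoh.push f).obj G) V) :
    (germMap f η ξ h).app G
        ((Scheme.pointSmallEtale η).toPresheafFiber V t ((EtCoh.push f).obj G).obj z) =
      (Scheme.pointSmallEtale ξ).toPresheafFiber ((EtCoh.bc f).obj V) (liftPt f η ξ h V t) G.obj z := by
  subst h
  have e : germMap f (ξ ≫ f) ξ rfl = pushStalkMap f ξ := by simp [germMap]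
  rw [e, pushStalkMap_germ]
  rfl

omit [IsSepClosed Ω] in
theorem finite_lifts_of_isFinite [IsAlgClosed Ω] [IsFinite f] :
    Finite {ξ : Spec (CommRingCat.of Ω) ⟶ X // ξ ≫ f = η} :=
  Set.finite_coe_iff.2 ((Weighting.finite_geoFib f η Set.univ
    ((f.finite_preimage_singleton _).inter_of_left _)).subset fun ξ hξ => ⟨hξ, trivial⟩)

theorem germMap_jointly_injective [IsAlgClosed Ω] [IsIntegralHom f] (G : EtCoh.Ab X)
    (p : (EtCoh.stalk η).obj ((EtCoh.push f).obj G))
    (hp : ∀ ξ (h : ξ ≫ f = η), (germMap f η ξ h).app G p = 0) : p = 0 := by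
  obtain ⟨V, t, z, rfl⟩ := (Scheme.pointSmallEtale η).toPresheafFiber_jointly_surjective
    (P := ((EtCoh.push f).obj G).obj) p
  let W := vanishingOpen G ((EtCoh.bc f).obj V) z
  let pr : ((EtCoh.bc f).obj V).left ⟶ V.left := pullback.fst V.hom f
  have hpr : IsIntegralHom pr := inferInstanceAs (IsIntegralHom (pullback.fst V.hom f))
  let O : V.left.Opens := ⟨(pr '' (W : Set ((EtCoh.bc f).obj V).left)ᶜ)ᶜ,
    (pr.isClosedMap _ W.2.isClosed_compl).isOpen_compl⟩
  have hsubO : Set.range t.left ⊆ Set.range O.ι := by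
    rintro _ ⟨s, rfl⟩
    refine (Set.ext_iff.1 (Scheme.Opens.range_ι O) _).2 ?_
    rintro ⟨y, hy, hyt⟩
    obtain ⟨φ, hφ, (hφy : Weighting.pt φ = y)⟩ := exists_lift_of_isIntegralHom pr t.left y
      (hyt.trans (congrArg t.left.base (Weighting.point_eq (Ω := Ω) s)))
    let ξ := φ ≫ pullback.snd V.hom f
    have hξ : ξ ≫ f = η := (Category.assoc _ _ _).trans ((congrArg (φ ≫ ·) pullback.condition.symm).trans
      ((Category.assoc _ _ _).symm.trans ((congrArg (· ≫ V.hom) hφ).trans (Over.w t))))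
    have h0 := hp ξ hξ
    rw [germMap_germ] at h0
    obtain ⟨U, g, v, hv, hg⟩ := ((Scheme.pointSmallEtale ξ).toPresheafFiber_eq_iff' _ _ z 0).1
      (h0.trans (map_zero ((Scheme.pointSmallEtale ξ).toPresheafFiber ((EtCoh.bc f).obj V)
        (liftPt f η ξ hξ V t) G.obj).hom).symm)
    refine hy ((mem_vanishingOpen G _ z y).2 ⟨U, g, hg.trans (map_zero (G.obj.map g.op).hom),
      v.left (IsLocalRing.closedPoint Ω), ?_⟩)
    have hl : v.left ≫ g.left = φ := (congrArg CommaMorphism.left hv).trans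
      (pullback.hom_ext ((pullback.lift_fst _ _ _).trans hφ.symm) (pullback.lift_snd _ _ _))
    exact (Scheme.Hom.comp_apply _ _ _).symm.trans
      ((congrArg (fun m : _ ⟶ ((EtCoh.bc f).obj V).left => m.base _) hl).trans hφy)
  let V' : Y.Etale := Scheme.Etale.mk (O.ι ≫ V.hom)
  let π : V' ⟶ V := MorphismProperty.Over.homMk O.ι rfl
  let l := IsOpenImmersion.lift O.ι t.left hsubO
  have hl : l ≫ O.ι = t.left := IsOpenImmersion.lift_fac _ _ _
  let t' : (Scheme.pointSmallEtale η).fiber.obj V' := Over.homMk l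
    ((Category.assoc _ _ _).symm.trans ((congrArg (· ≫ V.hom) hl).trans (Over.w t)))
  refine (((Scheme.pointSmallEtale η).toPresheafFiber_eq_iff' V t z 0).2
    ⟨V', π, t', Over.OverMorphism.ext hl, ?_⟩).trans
      (map_zero ((Scheme.pointSmallEtale η).toPresheafFiber V t ((EtCoh.push f).obj G).obj).hom)
  rw [map_zero]
  refine (map_eq_zero_iff_subset_vanishingOpen G _ z _ ((EtCoh.bc f).map π)).2 ?_
  rintro _ ⟨x, rfl⟩
  by_contra hx
  have h1 : pr (((EtCoh.bc f).map π).left x) ∈ (O : Set V.left) := by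
    have e := bc_map_left_fst f π
    refine (Set.ext_iff.1 (Scheme.Opens.range_ι O) _).1 ⟨pullback.fst V'.hom f x, ?_⟩
    exact (Scheme.Hom.comp_apply _ _ _).symm.trans
      ((congrArg (fun m : _ ⟶ V.left => m.base x) e.symm).trans (Scheme.Hom.comp_apply _ _ _))
  exact h1 ⟨_, hx, rfl⟩

theorem germMap_jointly_surjective [IsAlgClosed Ω] [IsFinite f] (G : EtCoh.Ab X)
    (z : ∀ ξ : {ξ : Spec (CommRingCat.of Ω) ⟶ X // ξ ≫ f = η}, (EtCoh.stalk ξ.1).obj G) :
    ∃ p : (EtCoh.stalk η).obj ((EtCoh.push f).obj G),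
      ∀ ξ : {ξ : Spec (CommRingCat.of Ω) ⟶ X // ξ ≫ f = η}, (germMap f η ξ.1 ξ.2).app G p = z ξ := by
  have := finite_lifts_of_isFinite f η
  choose U u s hs using fun ξ : {ξ : Spec (CommRingCat.of Ω) ⟶ X // ξ ≫ f = η} =>
    (Scheme.pointSmallEtale ξ.1).toPresheafFiber_jointly_surjective (P := G.obj) (z ξ)
  have hw : ∀ k, (u k).left ≫ (U k).hom = k.1 := fun k => Over.w (u k)
  obtain ⟨V₁, g, hg, γ', C, c, φ, w, hγ', hc, hφ, hwφ, hwc, hd, hcov⟩ :=
    exists_split f η (fun k => (U k).left) (fun k => (U k).hom) (fun k => (u k).left)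
      (fun k => (U k).prop)
      (fun k => (Category.assoc _ _ _).symm.trans ((congrArg (· ≫ f) (hw k)).trans k.2))
      (fun ξ hξ => ⟨⟨ξ, hξ⟩, hw ⟨ξ, hξ⟩⟩)
      (fun k l h => Subtype.ext ((hw k).symm.trans (h.trans (hw l))))
  let V' : Y.Etale := @Scheme.Etale.mk Y V₁ g hg
  let t' : (Scheme.pointSmallEtale η).fiber.obj V' := Over.homMk γ' hγ'
  let σ := (pullbackSymmetry f g).hom
  have : ∀ k, IsOpenImmersion (c k) := hc
  let C' : _ → X.Etale := fun k => @Scheme.Etale.mk X (C k) (c k ≫ pullback.fst f g)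
    (MorphismProperty.comp_mem (W := EtCoh.etaleMP) _ _ (inferInstance : Etale (c k))
      (MorphismProperty.pullback_fst f g hg))
  let gk : ∀ k, C' k ⟶ (EtCoh.bc f).obj V' := fun k => MorphismProperty.Over.homMk (c k ≫ σ)
    ((Category.assoc _ _ _).trans (congrArg (c k ≫ ·) (pullbackSymmetry_hom_comp_snd f g)))
  let φk : ∀ k, C' k ⟶ U k := fun k => MorphismProperty.Over.homMk (φ k) (hφ k)
  have hσ : Function.Bijective σ.base := (Scheme.homeoOfIso (pullbackSymmetry f g)).bijective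
  obtain ⟨x, hx⟩ := exists_glue_disjoint G gk (fun k => inferInstanceAs (IsOpenImmersion (c k ≫ σ)))
    (fun k l hkl => Set.disjoint_left.2 (by
      rintro _ ⟨a, rfl⟩ ⟨b, hb⟩
      exact Set.disjoint_left.1 (hd hkl) ⟨a, rfl⟩ ⟨b, hσ.1 ((Scheme.Hom.comp_apply _ _ _).symm.trans
        (hb.trans (Scheme.Hom.comp_apply _ _ _)))⟩))
    (fun y => by
      obtain ⟨y', rfl⟩ := hσ.2 y
      obtain ⟨k, a, ha⟩ := hcov y'
      exact ⟨k, a, (Scheme.Hom.comp_apply _ _ _).trans (congrArg σ.base ha)⟩)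
    (fun k => G.obj.map (φk k).op (s k))
  refine ⟨(Scheme.pointSmallEtale η).toPresheafFiber V' t' ((EtCoh.push f).obj G).obj x, fun k => ?_⟩
  rw [germMap_germ, ← hs k]
  let v : (Scheme.pointSmallEtale k.1).fiber.obj (C' k) := Over.homMk (w k)
    ((congrArg (w k ≫ ·) (hφ k)).symm.trans ((Category.assoc _ _ _).symm.trans
      ((congrArg (· ≫ (U k).hom) (hwφ k)).trans (hw k))))
  have e1 : (Scheme.pointSmallEtale k.1).fiber.map (gk k) v = liftPt f η k.1 k.2 V' t' := by
    refine Over.OverMorphism.ext (pullback.hom_ext ?_ ?_)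
    · refine Eq.trans ?_ (pullback.lift_fst _ _ _).symm
      exact (Category.assoc _ _ _).trans ((congrArg (w k ≫ ·) ((Category.assoc _ _ _).trans
        (congrArg (c k ≫ ·) (pullbackSymmetry_hom_comp_fst f g)))).trans (hwc k))
    · refine Eq.trans ?_ (pullback.lift_snd _ _ _).symm
      exact (Category.assoc _ _ _).trans ((congrArg (w k ≫ ·) ((Category.assoc _ _ _).trans
        (congrArg (c k ≫ ·) (pullbackSymmetry_hom_comp_snd f g)))).trans (Over.w v))
  have e2 : (Scheme.pointSmallEtale k.1).fiber.map (φk k) v = u k := Over.OverMorphism.ext (hwφ k)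
  rw [← e1, ← e2, ← (Scheme.pointSmallEtale k.1).toPresheafFiber_w_apply,
    ← (Scheme.pointSmallEtale k.1).toPresheafFiber_w_apply, hx]

/-- `(f_* G)_η` is the product of the `G_ξ` over the geometric points `ξ` over `η`. -/
noncomputable def stalkPushFiniteIso [IsAlgClosed Ω] [IsFinite f] (G : EtCoh.Ab X) :
    (EtCoh.stalk η).obj ((EtCoh.push f).obj G) ≅
      AddCommGrpCat.of (∀ ξ : {ξ : Spec (CommRingCat.of Ω) ⟶ X // ξ ≫ f = η},
        (EtCoh.stalk ξ.1).obj G) :=
  AddEquiv.toAddCommGrpIso (AddEquiv.ofBijective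
    (AddMonoidHom.pi fun ξ => ((germMap f η ξ.1 ξ.2).app G).hom)
    ⟨(injective_iff_map_eq_zero _).2 fun p hp => germMap_jointly_injective f η G p fun ξ h =>
        congrFun hp ⟨ξ, h⟩,
      fun z => (germMap_jointly_surjective f η G z).imp fun _ h => funext h⟩)

omit [IsSepClosed Ω] in
theorem exists_lift_of_mem_range [IsAlgClosed Ω] [IsIntegralHom f]
    (h : η (IsLocalRing.closedPoint Ω) ∈ Set.range f.base) :
    ∃ ξ : Spec (CommRingCat.of Ω) ⟶ X, ξ ≫ f = η := by
  obtain ⟨x, hx⟩ := h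
  obtain ⟨φ, hφ, -⟩ := exists_lift_of_isIntegralHom f η x hx
  exact ⟨φ, hφ⟩

/-- Surjectivity on stalks is preserved by direct image along a finite morphism. -/
theorem stalk_push_map_surjective [IsAlgClosed Ω] [IsFinite f] {A B : EtCoh.Ab X} (a : A ⟶ B) [Epi a] :
    Function.Surjective ((EtCoh.stalk η).map ((EtCoh.push f).map a)) := by
  intro p
  have hsurj := fun ξ : {ξ : Spec (CommRingCat.of Ω) ⟶ X // ξ ≫ f = η} =>
    (epi_iff_stalks a).1 inferInstance Ω ξ.1 ((germMap f η ξ.1 ξ.2).app B p)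
  choose z hz using hsurj
  obtain ⟨q, hq⟩ := germMap_jointly_surjective f η A z
  refine ⟨q, sub_eq_zero.1 (germMap_jointly_injective f η B _ fun ξ h => ?_)⟩
  rw [map_sub, sub_eq_zero]
  exact (ConcreteCategory.congr_hom ((germMap f η ξ h).naturality a) q).trans
    ((congrArg _ (hq ⟨ξ, h⟩)).trans (hz ⟨ξ, h⟩))

/-- An algebraically closed geometric point at a point. -/
theorem exists_algClosed_pt (y : Y) :
    ∃ η : Spec (CommRingCat.of (AlgebraicClosure (Y.residueField y))) ⟶ Y, η default = y :=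
  ⟨Weighting.geoPt Y y, (congrArg _ (Weighting.point_eq _)).trans (Weighting.pt_geoPt Y y)⟩

/-- Direct image along a finite morphism preserves epimorphisms. -/
theorem push_preservesEpimorphisms_of_isFinite [IsFinite f] :
    (EtCoh.push f).PreservesEpimorphisms where
  preserves {A B} a _ := epi_of_exists_stalk _ fun y => by
    obtain ⟨η', hη'⟩ := exists_algClosed_pt (Y := Y) y
    exact ⟨_, inferInstance, inferInstance, η', hη', stalk_push_map_surjective f η' a⟩

end Groth.Agent.EtSite
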