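import Groth.Agent.EtSite.Points
import Groth.Agent.HenselLib.Unique
import Mathlib.Algebra.Homology.DerivedCategory.Ext.EnoughProjectives
import Mathlib.Algebra.Category.Grp.EpiMono

/-!
# Strictly henselian local rings are acyclic

Étale neighbourhoods of the closed point have sections, so global sections are the stalk at the
closed point; global sections exact implies vanishing of cohomology.
-/

set_option autoImplicit false
universe u

open CategoryTheory CategoryTheory.Limits AlgebraicGeometry Opposite IsLocalRing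

namespace Groth.Agent.EtSite

/-- The base is a terminal object of its small étale site. -/
noncomputable def topTerminal (X : Scheme.{u}) : IsTerminal (EtCoh.top X) :=
  IsTerminal.isTerminalOfObj (Scheme.Etale.forget X) (EtCoh.top X) Over.mkIdTerminal

/-- The free abelian group on one generator is projective. -/
theorem projective_ulift_int : Projective (AddCommGrpCat.of (ULift.{u + 1} ℤ)) where
  factors {E X} f e _ := by
    obtain ⟨x, hx⟩ := (AddCommGrpCat.epi_iff_surjective e).1 inferInstance (f ⟨1⟩)
    refine ⟨AddCommGrpCat.ofHom ((zmultiplesHom E x).comp AddEquiv.ulift.toAddMonoidHom), ?_⟩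
    ext ⟨n⟩
    show e (n • x) = f ⟨n⟩
    rw [map_zsmul, hx, ← map_zsmul]
    exact congrArg f (ULift.ext _ _ (by simp))

/-- If global sections of abelian étale sheaves preserve epimorphisms, cohomology vanishes. -/
theorem H_subsingleton_of_gsec_epi (X : Scheme.{u})
    (h : ∀ (F G : EtCoh.Ab X) (a : F ⟶ G) [Epi a],
      Function.Surjective (a.hom.app (op (EtCoh.top X))))
    (F : EtCoh.Ab X) (p : ℕ) (hp : 1 ≤ p) : Subsingleton (EtCoh.H X F p) := by
  let Γ := (sheafSections X.smallEtaleTopology AddCommGrpCat.{u + 1}).obj (op (EtCoh.top X))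
  let adj : constantSheaf X.smallEtaleTopology AddCommGrpCat.{u + 1} ⊣ Γ :=
    constantSheafAdj _ _ (topTerminal X)
  have : Γ.PreservesEpimorphisms :=
    ⟨fun {A B} a _ => (AddCommGrpCat.epi_iff_surjective _).2 (h A B a)⟩
  have : Projective ((constantSheaf X.smallEtaleTopology AddCommGrpCat.{u + 1}).obj
      (AddCommGrpCat.of (ULift.{u + 1} ℤ))) := adj.map_projective _ projective_ulift_int
  obtain ⟨n, rfl⟩ : ∃ n, p = n + 1 := ⟨p - 1, by omega⟩
  exact Abelian.Ext.subsingleton_of_projective _ _ n

variable (R : Type u) [CommRing R] [HenselianLocalRing R]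
  [IsSepClosed (IsLocalRing.ResidueField R)]

/-- The geometric closed point. -/
noncomputable abbrev closedGeomPt :
    Spec (CommRingCat.of (IsLocalRing.ResidueField R)) ⟶ Spec (CommRingCat.of R) :=
  Spec.map (CommRingCat.ofHom (IsLocalRing.residue R))

/-- The tautological element of the fibre of the base. -/
noncomputable abbrev topPt : (Scheme.pointSmallEtale (closedGeomPt R)).fiber.obj
    (EtCoh.top (Spec (CommRingCat.of R))) :=
  Over.homMk (closedGeomPt R) (Category.comp_id _)

theorem exists_section (U : (Spec (CommRingCat.of R)).Etale)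
    (t : (Scheme.pointSmallEtale (closedGeomPt R)).fiber.obj U) :
    ∃ s : EtCoh.top (Spec (CommRingCat.of R)) ⟶ U,
      (Scheme.pointSmallEtale (closedGeomPt R)).fiber.map s (topPt R) = t := by
  obtain ⟨B, k, _, hk, -⟩ := Scheme.exists_affine_mem_range_and_range_subset
    (X := U.left) (x := t.left (default : Spec (CommRingCat.of (IsLocalRing.ResidueField R))))
    (U := ⊤) (by trivial)
  let t' := IsOpenImmersion.lift k t.left (by
    rintro _ ⟨q, rfl⟩
    rw [show q = (default : Spec (CommRingCat.of (IsLocalRing.ResidueField R))) from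
      @Subsingleton.elim (Spec (CommRingCat.of (IsLocalRing.ResidueField R))) _ q default]
    exact hk)
  have ht' : t' ≫ k = t.left := IsOpenImmersion.lift_fac _ _ _
  obtain ⟨σ, hσ⟩ := Spec.map_surjective t'
  obtain ⟨ψ, hψ⟩ := Spec.map_surjective (k ≫ U.hom)
  have het : Etale (Spec.map ψ) := by
    rw [hψ]
    exact MorphismProperty.comp_mem (W := EtCoh.etaleMP) _ _ (inferInstance : Etale k) U.prop
  have hψe : ψ.hom.Etale := (HasRingHomProperty.Spec_iff (P := @Etale)).1 het
  algebraize [ψ.hom]
  have hcomm : ψ ≫ σ = CommRingCat.ofHom (IsLocalRing.residue R) := by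
    apply Spec.map_injective
    rw [Spec.map_comp, hσ, hψ, ← Category.assoc, ht']
    exact Over.w t
  let σ' : B →ₐ[R] R ⧸ maximalIdeal R :=
    { σ.hom with commutes' := fun r => congrArg (fun m => m.hom r) hcomm }
  obtain ⟨τ, hτ, -⟩ := Groth.Agent.HenselLib.existsUnique_lift (maximalIdeal R) σ'
  have h1 : Spec.map (CommRingCat.ofHom τ.toRingHom) ≫ k ≫ U.hom = 𝟙 _ := by
    rw [← hψ, ← Spec.map_comp, ← Spec.map_id]
    congr 1
    ext1
    exact τ.comp_algebraMap
  have h2 : closedGeomPt R ≫ Spec.map (CommRingCat.ofHom τ.toRingHom) ≫ k = t.left := by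
    rw [← Category.assoc, ← Spec.map_comp, ← ht', ← hσ]
    congr 2
    ext1
    exact congrArg AlgHom.toRingHom hτ
  exact ⟨MorphismProperty.Over.homMk (Spec.map (CommRingCat.ofHom τ.toRingHom) ≫ k)
    ((Category.assoc _ _ _).trans h1), Over.OverMorphism.ext h2⟩

theorem toPresheafFiber_topPt_bijective (F : EtCoh.Ab (Spec (CommRingCat.of R))) :
    Function.Bijective ((Scheme.pointSmallEtale (closedGeomPt R)).toPresheafFiber
      (EtCoh.top (Spec (CommRingCat.of R))) (topPt R) F.obj) := by
  let Φ := Scheme.pointSmallEtale (closedGeomPt R)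
  refine ⟨fun a b hab => ?_, fun p => ?_⟩
  · obtain ⟨V, g, v, -, hg⟩ := (Φ.toPresheafFiber_eq_iff' _ _ _ _).1 hab
    obtain ⟨s, -⟩ := exists_section R V v
    have e : s ≫ g = 𝟙 _ := (topTerminal _).hom_ext _ _
    have := congrArg (F.obj.map s.op) hg
    rwa [← Functor.map_comp_apply, ← Functor.map_comp_apply, ← op_comp, e, op_id,
      CategoryTheory.Functor.map_id] at this
  · obtain ⟨U, t, z, rfl⟩ := Φ.toPresheafFiber_jointly_surjective (P := F.obj) p
    obtain ⟨s, hs⟩ := exists_section R U t
    refine ⟨F.obj.map s.op z, ?_⟩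
    rw [Φ.toPresheafFiber_w_apply, hs]

theorem H_subsingleton_strictlyHenselian (F : EtCoh.Ab (Spec (CommRingCat.of R))) (p : ℕ)
    (hp : 1 ≤ p) : Subsingleton (EtCoh.H (Spec (CommRingCat.of R)) F p) := by
  refine H_subsingleton_of_gsec_epi _ (fun A B a _ z => ?_) F p hp
  let Φ := Scheme.pointSmallEtale (closedGeomPt R)
  obtain ⟨p, hp⟩ := (epi_iff_stalks a).1 inferInstance _ (closedGeomPt R)
    (Φ.toPresheafFiber _ (topPt R) B.obj z)
  obtain ⟨w, rfl⟩ := (toPresheafFiber_topPt_bijective R A).2 p
  refine ⟨w, (toPresheafFiber_topPt_bijective R B).1 ?_⟩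
  exact (Φ.toPresheafFiber_naturality_apply a.hom _ (topPt R) w).symm.trans hp

end Groth.Agent.EtSite
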