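import Groth.Agent.EtSite.FLCBasic
import Groth.Agent.EtSite.Henselian

/-!
# Constant sheaves are locally constant
-/

set_option autoImplicit false
universe u

open CategoryTheory CategoryTheory.Limits AlgebraicGeometry Opposite

namespace Groth.Agent.EtSite.ConstFLC

open LocConst

variable (X : Scheme.{u}) (A : AddCommGrpCat.{u + 1})

/-- The constant presheaf maps to the constant sheaf. -/
noncomputable def unitMap : (Functor.const X.Etaleᵒᵖ).obj A ⟶
    ((constantSheaf X.smallEtaleTopology AddCommGrpCat.{u + 1}).obj A).obj :=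
  toSheafify X.smallEtaleTopology ((Functor.const X.Etaleᵒᵖ).obj A)

theorem germBij_const :
    GermBij ((constantSheaf X.smallEtaleTopology AddCommGrpCat.{u + 1}).obj A) (EtCoh.top X)
      ((unitMap X A).app (op (EtCoh.top X))).hom := by
  intro Ω _ _ ξ t
  let J := X.smallEtaleTopology
  let Φ := Scheme.pointSmallEtale ξ
  let F := (constantSheaf J AddCommGrpCat.{u + 1}).obj A
  have : Presheaf.IsLocallyInjective J (unitMap X A) :=
    inferInstanceAs (Presheaf.IsLocallyInjective J (toSheafify J _))
  have : Presheaf.IsLocallySurjective J (unitMap X A) :=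
    inferInstanceAs (Presheaf.IsLocallySurjective J (toSheafify J _))
  have hnat : ∀ {W : X.Etale} (g : W ⟶ EtCoh.top X) (m : A),
      F.obj.map g.op ((unitMap X A).app (op (EtCoh.top X)) m) = (unitMap X A).app (op W) m :=
    fun {W} g m => (NatTrans.naturality_apply (unitMap X A) g.op m).symm
  refine ⟨fun m m' h => ?_, fun p => ?_⟩
  · obtain ⟨W, g, w, -, hg⟩ := (Φ.toPresheafFiber_eq_iff' _ _ _ _).1 h
    rw [hnat, hnat] at hg
    obtain ⟨T, k, hk, -⟩ := Φ.jointly_surjective _
      (Presheaf.equalizerSieve_mem J (unitMap X A) (X := op W) m m' hg) w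
    exact hk
  · obtain ⟨V, v, s, rfl⟩ := Φ.toPresheafFiber_jointly_surjective p
    obtain ⟨T, k, ⟨m, hm⟩, t', hwk⟩ := Φ.jointly_surjective _
      (Presheaf.imageSieve_mem J (unitMap X A) (U := op V) s) v
    refine ⟨m, ?_⟩
    let g := (topTerminal X).from T
    have hs : Φ.fiber.map g t' = t :=
      Over.OverMorphism.ext ((Category.comp_id _).symm.trans ((Over.w (Φ.fiber.map g t')).trans
        ((Over.w t).symm.trans (Category.comp_id _))))
    change Φ.toPresheafFiber _ t F.obj _ = Φ.toPresheafFiber V v F.obj s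
    rw [← hs, ← Φ.toPresheafFiber_w_apply, hnat]
    refine (congrArg _ hm).trans ((Φ.toPresheafFiber_w_apply k t' F.obj s).trans ?_)
    exact congrArg (fun y => Φ.toPresheafFiber V y F.obj s) hwk

theorem isFLC_const [Finite A] :
    EtCoh.IsFiniteLocallyConstant ((constantSheaf X.smallEtaleTopology AddCommGrpCat.{u + 1}).obj A) :=
  FLCBasic.isFLC_of_forall_point fun x =>
    ⟨EtCoh.top X, x, A, inferInstance, inferInstance, _, rfl, germBij_const X A⟩

end Groth.Agent.EtSite.ConstFLC
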