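import Groth.Agent.EtSite.Sheets
import Groth.Agent.Weighting.Finite
import Groth.Agent.Weighting.IntegralConstr

/-!
# Étale morphisms are finite over strata
-/

set_option autoImplicit false
universe u

open CategoryTheory CategoryTheory.Limits AlgebraicGeometry Topology TopologicalSpace
open Groth.Agent.Weighting

namespace Groth.Agent.EtSite.EtaleStrata

open Sheets

variable {U X : Scheme.{u}}

theorem fibreIntegral_one_eq_cnt (q : U ⟶ X) [LocallyQuasiFinite q] [QuasiCompact q] (x : X) :
    MoreMor.fibreIntegral q (fun _ => 1) x = cnt q ⊤ x := by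
  conv_lhs => rw [← pt_geoPt X x]
  rw [fibreIntegral_eq]
  have hfin : (geoFib q (geoPt X x) Set.univ).Finite :=
    finite_geoFib _ _ _ ((q.finite_preimage_singleton _).inter_of_left _)
  rw [finsum_mem_eq_finite_toFinset_sum _ hfin, Finset.sum_const, nsmul_one,
    ← Set.ncard_eq_toFinset_card _ hfin, cnt, ← Nat.card_coe_set_eq]
  rfl

theorem isWeighting_one (j : U ⟶ X) [Etale j] : MoreMor.IsWeighting j (fun _ => 1) := by
  intro V g _ W hW
  have : Etale (pullback.snd j g) := MorphismProperty.pullback_snd _ _ inferInstance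
  let q := W.ι ≫ pullback.snd j g
  rw [IsLocallyConstant.iff_exists_open]
  intro v
  obtain ⟨c, hc⟩ := exists_chart q v
  have := c.etale
  refine ⟨Set.range c.g, c.g.isOpenMap.isOpen_range, hc, fun v' hv' => ?_⟩
  have key : ∀ w ∈ Set.range c.g, MoreMor.fibreIntegral q (fun _ => 1) w = (c.n : ℤ) := by
    rintro _ ⟨p, rfl⟩
    rw [fibreIntegral_one_eq_cnt, c.cnt_eq]
    have : c.idx (⊤ : W.toScheme.Opens) p = Set.univ := Set.eq_univ_of_forall fun i => trivial
    rw [this, Set.ncard_univ, Nat.card_fin]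
  exact (key v' hv').trans (key v hc).symm

variable [CompactSpace X] [QuasiSeparatedSpace X]

/-- The locus where the separated étale `j` has `d` geometric points in the fibre. -/
def level (j : U ⟶ X) (d : ℤ) : Set X := {x | MoreMor.fibreIntegral j (fun _ => 1) x = d}

omit [CompactSpace X] [QuasiSeparatedSpace X] in
theorem isLocallyClosed_level (j : U ⟶ X) [Etale j] [IsSeparated j] [QuasiCompact j] (d : ℤ) :
    IsLocallyClosed (level j d) := by
  have h := lowerSemicontinuous_fibreIntegral (fun y => j.finite_preimage_singleton y)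
    (isWeighting_one j) fun _ => one_pos
  refine ⟨{x | d - 1 < MoreMor.fibreIntegral j (fun _ => 1) x},
    {x | MoreMor.fibreIntegral j (fun _ => 1) x ≤ d}, h.isOpen_preimage _, h.isClosed_preimage _, ?_⟩
  ext x
  simp only [level, Set.mem_ofPred_eq, Set.mem_inter_iff]
  omega

theorem isConstructible_level (j : U ⟶ X) [Etale j] [IsSeparated j] [QuasiCompact j] (d : ℤ) :
    IsConstructible (level j d) :=
  (isLocallyConstructible_fibreIntegral_level (isWeighting_one j) d).isConstructible

omit [CompactSpace X] [QuasiSeparatedSpace X] in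
theorem isFinite_pullback (j : U ⟶ X) [Etale j] [IsSeparated j] [QuasiCompact j] {T : Scheme.{u}}
    (g : T ⟶ X) (d : ℤ) (hr : Set.range g ⊆ level j d) : IsFinite (pullback.snd j g) := by
  let q := pullback.snd j g
  have : Etale q := MorphismProperty.pullback_snd _ _ inferInstance
  have : IsSeparated q := MorphismProperty.pullback_snd _ _ inferInstance
  have : QuasiCompact q := MorphismProperty.pullback_snd _ _ inferInstance
  have hd : ∀ t, MoreMor.fibreIntegral q (fun _ => 1) t = d := fun t =>
    (fibreIntegral_baseChange (IsPullback.of_hasPullback j g) (fun _ => (1 : ℤ)) t).trans (hr ⟨t, rfl⟩)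
  obtain ⟨hopen, hfin⟩ := isFinite_over_max (fun y => q.finite_preimage_singleton y)
    (isWeighting_one q) (fun _ => one_pos) (d := d) fun t => (hd t).le
  have e : (⟨_, hopen⟩ : T.Opens) = ⊤ := TopologicalSpace.Opens.ext (Set.eq_univ_of_forall hd)
  rw [e] at hfin
  exact (IsZariskiLocalAtTarget.iff_of_iSup_eq_top (P := @IsFinite) (fun _ : PUnit.{1} => (⊤ : T.Opens))
    (iSup_const)).2 fun _ => hfin

omit [CompactSpace X] [QuasiSeparatedSpace X] in
/-- A morphism covered by finitely many opens, with pairwise intersections, finite over a base is finite. -/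
theorem isFinite_of_cover {P S : Scheme.{u}} (q : P ⟶ S) [LocallyOfFiniteType q]
    [LocallyQuasiFinite q] {N : ℕ} (W : Fin N → P.Opens) (hcov : ∀ p : P, ∃ i, p ∈ W i)
    (hW : ∀ i k, IsFinite ((W i ⊓ W k).ι ≫ q)) : IsFinite q := by
  have hW1 : ∀ i, IsFinite ((W i).ι ≫ q) := fun i => by
    have := hW i i
    rwa [inf_idem] at this
  have hclosed : ∀ i, IsClosed (W i : Set P) := fun i => by
    refine isOpen_compl_iff.1 (isOpen_iff_forall_mem_open.2 fun p hp => ?_)
    obtain ⟨k, hk⟩ := hcov p
    have := hW1 k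
    have : IsSeparated ((W k).ι ≫ q) := inferInstance
    have : IsFinite (P.homOfLE (inf_le_right : W i ⊓ W k ≤ W k) ≫ (W k).ι ≫ q) := by
      rw [Scheme.homOfLE_ι_assoc]; exact hW i k
    have : IsFinite (P.homOfLE (inf_le_right : W i ⊓ W k ≤ W k)) := IsFinite.of_comp _ ((W k).ι ≫ q)
    have hc := (P.homOfLE (inf_le_right : W i ⊓ W k ≤ W k)).isClosedMap.isClosed_range
    refine ⟨(W k).ι '' (Set.range (P.homOfLE (inf_le_right : W i ⊓ W k ≤ W k)))ᶜ, ?_,
      (W k).ι.isOpenEmbedding.isOpenMap _ hc.isOpen_compl, ⟨⟨p, hk⟩, ?_, rfl⟩⟩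
    · rintro _ ⟨z, hz, rfl⟩ hzi
      exact hz ⟨⟨z.1, hzi, z.2⟩, Subtype.ext (by simp)⟩
    · rintro ⟨z, hz⟩
      exact hp (by
        have : z.1 = p := by simpa using congrArg Subtype.val hz
        exact this ▸ z.2.1)
  let D : Fin N → P.Opens := fun i => ⟨(W i : Set P) \ ⋃ k : {k // k < i}, (W k.1 : Set P),
    (W i).2.sdiff (isClosed_iUnion_of_finite fun k => hclosed k.1)⟩
  have hDW : ∀ i, D i ≤ W i := fun i p hp => hp.1
  have hDclosed : ∀ i, IsClosed (D i : Set P) := fun i =>
    (hclosed i).sdiff (isOpen_iUnion fun k => (W k.1).2)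
  have hDcov : ∀ p, ∃ i, p ∈ D i := fun p => by
    classical
    let s : Finset (Fin N) := Finset.univ.filter fun i => p ∈ W i
    have hs : s.Nonempty := (hcov p).imp fun i hi => Finset.mem_filter.2 ⟨Finset.mem_univ _, hi⟩
    refine ⟨s.min' hs, (Finset.mem_filter.1 (s.min'_mem hs)).2, fun h => ?_⟩
    obtain ⟨⟨k, hk⟩, hpk⟩ := Set.mem_iUnion.1 h
    exact absurd (s.min'_le k (Finset.mem_filter.2 ⟨Finset.mem_univ _, hpk⟩)) (not_le.2 hk)
  have hDdisj : ∀ i k, i ≠ k → ∀ p, p ∈ D i → p ∈ D k → False := fun i k hik p hi hk => by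
    rcases lt_or_gt_of_ne hik with h | h
    · exact hk.2 (Set.mem_iUnion.2 ⟨⟨i, h⟩, hi.1⟩)
    · exact hi.2 (Set.mem_iUnion.2 ⟨⟨k, h⟩, hk.1⟩)
  have hD : ∀ i, IsFinite ((D i).ι ≫ q) := fun i => by
    have : IsClosedImmersion (P.homOfLE (hDW i)) := IsClosedImmersion.of_isPreimmersion _ (by
      have : Set.range (P.homOfLE (hDW i)) = (W i).ι ⁻¹' (D i : Set P) := by
        ext z
        constructor
        · rintro ⟨y, rfl⟩
          show (W i).ι (P.homOfLE (hDW i) y) ∈ D i
          rw [← Scheme.Hom.comp_apply, Scheme.homOfLE_ι]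
          exact y.2
        · exact fun hz => ⟨⟨z.1, hz⟩, Subtype.ext (by simp)⟩
      rw [this]
      exact (hDclosed i).preimage (W i).ι.continuous)
    have := hW1 i
    rw [← Scheme.homOfLE_ι_assoc P (hDW i) q]
    infer_instance
  have : IsSeparated q := by
    constructor
    refine IsClosedImmersion.of_isPreimmersion _ ?_
    let m : ∀ i, pullback ((D i).ι ≫ q) ((D i).ι ≫ q) ⟶ pullback q q := fun i =>
      pullback.map _ _ _ _ (D i).ι (D i).ι (𝟙 S) (by simp) (by simp)
    have hm : ∀ i, IsOpenImmersion (m i) := fun i =>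
      inferInstanceAs (IsOpenImmersion (pullback.map _ _ _ _ (D i).ι (D i).ι (𝟙 S) _ _))
    have hrm : ∀ i, Set.range (m i) =
        pullback.fst q q ⁻¹' (D i : Set P) ∩ pullback.snd q q ⁻¹' (D i : Set P) := fun i => by
      simp [m, Scheme.Pullback.range_map]
    have hcomm : ∀ i, pullback.diagonal ((D i).ι ≫ q) ≫ m i = (D i).ι ≫ pullback.diagonal q := fun i => by
      apply pullback.hom_ext
      · simp only [m, Category.assoc]
        erw [pullback.lift_fst, pullback.diagonal_fst_assoc, pullback.diagonal_fst, Category.comp_id]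
      · simp only [m, Category.assoc]
        erw [pullback.lift_snd, pullback.diagonal_snd_assoc, pullback.diagonal_snd, Category.comp_id]
    have e : Set.range (pullback.diagonal q) =
        ⋃ i, m i '' Set.range (pullback.diagonal ((D i).ι ≫ q)) := by
      ext z
      simp only [Set.mem_iUnion, Set.mem_image, Set.mem_range, exists_exists_eq_and]
      constructor
      · rintro ⟨p, rfl⟩
        obtain ⟨i, hi⟩ := hDcov p
        exact ⟨i, ⟨p, hi⟩, by rw [← Scheme.Hom.comp_apply, hcomm, Scheme.Hom.comp_apply]; rfl⟩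
      · rintro ⟨i, y, rfl⟩
        exact ⟨(D i).ι y, by rw [← Scheme.Hom.comp_apply, ← hcomm, Scheme.Hom.comp_apply]⟩
    rw [e]
    refine isClosed_iUnion_of_finite fun i => ?_
    have := hm i
    have hcl : IsClosed (Set.range (m i)) := by
      rw [hrm]
      exact ((hDclosed i).preimage (pullback.fst q q).continuous).inter
        ((hDclosed i).preimage (pullback.snd q q).continuous)
    have := hD i
    have hsep : IsSeparated ((D i).ι ≫ q) := inferInstance
    exact (⟨(m i).isOpenEmbedding.isEmbedding, hcl⟩ : IsClosedEmbedding (m i)).isClosedMap _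
      (pullback.diagonal ((D i).ι ≫ q)).isClosedEmbedding.isClosed_range
  exact isFinite_of_finite_cover q D hD hDcov

theorem exists_strata [CompactSpace U] [QuasiSeparatedSpace U] (j : U ⟶ X) [Etale j] :
    ∃ (n : ℕ) (Z : Fin n → Set X), (∀ i, IsLocallyClosed (Z i)) ∧ (∀ i, IsConstructible (Z i)) ∧
      Pairwise (fun i k => Disjoint (Z i) (Z k)) ∧ (⋃ i, Z i) = Set.univ ∧
      ∀ i {T : Scheme.{u}} (g : T ⟶ X), Set.range g ⊆ Z i → IsFinite (pullback.snd j g) := by
  classical
  choose A hA hxA hsub using fun x : U =>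
    exists_isAffineOpen_mem_and_subset (x := x) (U := (⊤ : U.Opens)) trivial
  obtain ⟨t, ht⟩ := isCompact_univ.elim_finite_subcover (fun x => (A x : Set U)) (fun x => (A x).2)
    fun x _ => Set.mem_iUnion.2 ⟨x, hxA x⟩
  let A' : Fin t.card → U.Opens := fun a => A (t.equivFin.symm a).1
  have hA' : ∀ a, IsAffineOpen (A' a) := fun a => hA _
  let h : ∀ p : Fin t.card × Fin t.card, (A' p.1 ⊓ A' p.2).toScheme ⟶ X := fun p =>
    (A' p.1 ⊓ A' p.2).ι ≫ j
  have hsep : ∀ p, IsSeparated (h p) := fun p => by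
    have : IsAffine (A' p.1).toScheme := hA' p.1
    have : IsSeparated ((A' p.1).ι ≫ j) := by
      have : IsSeparated (((A' p.1).ι ≫ j) ≫ terminal.from X) := by
        rw [terminal.comp_from]; infer_instance
      exact IsSeparated.of_comp _ (terminal.from X)
    simp only [h]
    rw [← Scheme.homOfLE_ι_assoc U (inf_le_left : A' p.1 ⊓ A' p.2 ≤ A' p.1) j]
    infer_instance
  have hcpt : ∀ p : Fin t.card × Fin t.card, CompactSpace (A' p.1 ⊓ A' p.2).toScheme := fun p =>
    isCompact_iff_compactSpace.1 (QuasiSeparatedSpace.inter_isCompact _ _ (A' p.1).2 (hA' p.1).isCompact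
      (A' p.2).2 (hA' p.2).isCompact)
  have hqc : ∀ p, QuasiCompact (h p) := fun p => by
    have := hcpt p
    exact quasiCompact_of_compactSpace (h p)
  have het : ∀ p, Etale (h p) := fun p => inferInstanceAs (Etale ((A' p.1 ⊓ A' p.2).ι ≫ j))
  choose M hM using fun p => bddAbove_fibreIntegral (f := h p) (isWeighting_one (h p))
  have hnn : ∀ p x, 0 ≤ MoreMor.fibreIntegral (h p) (fun _ => 1) x := fun p x => by
    rw [fibreIntegral_one_eq_cnt]; exact Int.natCast_nonneg _
  let κ := ∀ p : Fin t.card × Fin t.card, Fin ((M p).toNat + 1)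
  let e := (Fintype.equivFin κ)
  let Z : Fin (Fintype.card κ) → Set X := fun i => ⋂ p, level (h p) ((e.symm i p : ℕ) : ℤ)
  refine ⟨_, Z, fun i => ?_, fun i => IsConstructible.iInter fun p => ?_, fun i k hik => ?_, ?_,
    fun i T g hg => ?_⟩
  · suffices ∀ s : Finset (Fin t.card × Fin t.card),
        IsLocallyClosed (⋂ p ∈ s, level (h p) ((e.symm i p : ℕ) : ℤ)) by
      simpa [Z] using this Finset.univ
    intro s
    induction s using Finset.induction with
    | empty => simpa using isOpen_univ.isLocallyClosed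
    | @insert p s _ ih =>
      rw [Finset.set_biInter_insert]
      exact (isLocallyClosed_level (h p) _).inter ih
  · exact isConstructible_level (h p) _
  · refine Set.disjoint_left.2 fun x hi hk => hik (e.symm.injective (funext fun p => Fin.ext ?_))
    have h1 : _ = _ := Set.mem_iInter.1 hi p
    have h2 : _ = _ := Set.mem_iInter.1 hk p
    exact_mod_cast h1.symm.trans h2
  · refine Set.eq_univ_of_forall fun x => Set.mem_iUnion.2 ⟨e fun p =>
      ⟨(MoreMor.fibreIntegral (h p) (fun _ => 1) x).toNat,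
        Nat.lt_succ_of_le (Int.toNat_le_toNat (hM p x))⟩, Set.mem_iInter.2 fun p => ?_⟩
    simp only [Equiv.symm_apply_apply]
    exact (Int.toNat_of_nonneg (hnn p x)).symm
  · have : Etale (pullback.snd j g) := MorphismProperty.pullback_snd _ _ inferInstance
    refine isFinite_of_cover (pullback.snd j g) (fun a => pullback.fst j g ⁻¹ᵁ A' a) (fun z => ?_)
      fun a b => ?_
    · obtain ⟨x, hx, hz⟩ := Set.mem_iUnion₂.1 (ht (Set.mem_univ (pullback.fst j g z)))
      exact ⟨t.equivFin ⟨x, hx⟩, by
        show pullback.fst j g z ∈ A' _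
        simp only [A', Equiv.symm_apply_apply]
        exact hz⟩
    · have hfin : IsFinite (pullback.snd (h (a, b)) g) :=
        isFinite_pullback (h (a, b)) g _ (fun x hx => Set.mem_iInter.1 (hg hx) (a, b))
      have sq : IsPullback (pullback.fst j g ∣_ (A' a ⊓ A' b))
          ((pullback.fst j g ⁻¹ᵁ (A' a ⊓ A' b)).ι ≫ pullback.snd j g) (h (a, b)) g :=
        (isPullback_morphismRestrict (pullback.fst j g) (A' a ⊓ A' b)).paste_vert
          (IsPullback.of_hasPullback j g)
      show IsFinite ((pullback.fst j g ⁻¹ᵁ (A' a ⊓ A' b)).ι ≫ pullback.snd j g)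
      rw [← sq.isoPullback_hom_snd]
      infer_instance

end Groth.Agent.EtSite.EtaleStrata
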