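import Groth.Agent.EtSite.AllPoints
import Groth.Agent.EtSite.Points

/-!
# Geometric points over the same point have isomorphic stalks
-/

set_option autoImplicit false
universe u

open CategoryTheory CategoryTheory.Limits AlgebraicGeometry Opposite

namespace Groth.Agent.EtSite.SamePoint

open AllPoints

variable {S : Scheme.{u}}

theorem basePt_pointSmallEtale {Ω : Type u} [Field Ω] [IsSepClosed Ω]
    (ξ : Spec (CommRingCat.of Ω) ⟶ S) : basePt (Scheme.pointSmallEtale ξ) = ξ default := by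
  let Φ := Scheme.pointSmallEtale ξ
  let v : Φ.fiber.obj (topObj S) := (exists_topElt Φ).some
  let vl : Spec (CommRingCat.of Ω) ⟶ S := v.left
  have hv : vl = ξ := (Category.comp_id _).symm.trans (Over.w v)
  refine Inseparable.eq (inseparable_iff_forall_isOpen.2 fun W hW => ?_)
  change upt Φ v ∈ W ↔ _
  refine (mem_iff Φ v ⟨W, hW⟩).symm.trans ⟨fun ⟨a, ha⟩ => ?_, fun h => ?_⟩
  · let al : Spec (CommRingCat.of Ω) ⟶ (res (topObj S) ⟨W, hW⟩).left := a.left
    have e : al ≫ (resι (topObj S) ⟨W, hW⟩).left = ξ := (congrArg CommaMorphism.left ha).trans hv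
    rw [← e]
    exact (congrArg (· ∈ W) (Scheme.Hom.comp_apply al (resι (topObj S) ⟨W, hW⟩).left default)).mpr
      ((range_resι (topObj S) ⟨W, hW⟩).le ⟨_, rfl⟩)
  · have hr : Set.range vl.base ⊆ ((⟨W, hW⟩ : S.Opens) : Set S) := by
      rintro _ ⟨q, rfl⟩
      rw [Subsingleton.elim q default, hv]
      exact h
    let l : Spec (CommRingCat.of Ω) ⟶ (res (topObj S) ⟨W, hW⟩).left :=
      openLift (X := S) ⟨W, hW⟩ vl hr
    refine ⟨Over.homMk l ((openLift_ι_assoc (X := S) ⟨W, hW⟩ vl hr (topObj S).hom).trans (Over.w v)),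
      Over.OverMorphism.ext (openLift_ι (X := S) ⟨W, hW⟩ vl hr)⟩

theorem nonempty_fiber_iso_geom (p : GrothendieckTopology.Point.{u} S.smallEtaleTopology) :
    Nonempty (p.fiber ≅ (Scheme.pointSmallEtale (geom p)).fiber) := by
  obtain ⟨s, hs⟩ := exists_section p
  exact ⟨NatIso.ofComponents (fun U => (Equiv.ofBijective (toGeom p ⟨s, hs⟩ U)
      ⟨toGeom_injective p _ U, toGeom_surjective p _ U⟩).toIso)
      fun f => by ext v; exact toGeom_map p ⟨s, hs⟩ f v⟩

/-- Stalks at geometric points over the same point of `S` are isomorphic. -/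
theorem nonempty_stalk_iso (F : EtCoh.Ab S) {Ω Ω' : Type u} [Field Ω] [IsSepClosed Ω] [Field Ω']
    [IsSepClosed Ω'] (ξ : Spec (CommRingCat.of Ω) ⟶ S) (ξ' : Spec (CommRingCat.of Ω') ⟶ S)
    (h : ξ default = ξ' default) :
    Nonempty ((EtCoh.stalk ξ).obj F ≅ (EtCoh.stalk ξ').obj F) := by
  obtain ⟨e⟩ := nonempty_fiber_iso_geom (Scheme.pointSmallEtale ξ)
  obtain ⟨e'⟩ := nonempty_fiber_iso_geom (Scheme.pointSmallEtale ξ')
  have hb := (basePt_pointSmallEtale ξ).trans (h.trans (basePt_pointSmallEtale ξ').symm)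
  have e'' : (Scheme.pointSmallEtale ξ).fiber ≅ (Scheme.pointSmallEtale ξ').fiber := by
    refine e ≪≫ eqToIso ?_ ≪≫ e'.symm
    unfold AllPoints.geom
    rw [hb]
  let i : Scheme.pointSmallEtale ξ ≅ Scheme.pointSmallEtale ξ' :=
    { hom := ⟨e''.inv⟩
      inv := ⟨e''.hom⟩
      hom_inv_id := GrothendieckTopology.Point.hom_ext e''.hom_inv_id
      inv_hom_id := GrothendieckTopology.Point.hom_ext e''.inv_hom_id }
  exact ⟨{ hom := i.inv.sheafFiber.app F
           inv := i.hom.sheafFiber.app F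
           hom_inv_id := by
             rw [← NatTrans.comp_app, ← GrothendieckTopology.Point.Hom.sheafFiber_comp, i.hom_inv_id,
               GrothendieckTopology.Point.Hom.sheafFiber_id]
             rfl
           inv_hom_id := by
             rw [← NatTrans.comp_app, ← GrothendieckTopology.Point.Hom.sheafFiber_comp, i.inv_hom_id,
               GrothendieckTopology.Point.Hom.sheafFiber_id]
             rfl }⟩

theorem natCard_stalk_eq (F : EtCoh.Ab S) {Ω Ω' : Type u} [Field Ω] [IsSepClosed Ω] [Field Ω']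
    [IsSepClosed Ω'] (ξ : Spec (CommRingCat.of Ω) ⟶ S) (ξ' : Spec (CommRingCat.of Ω') ⟶ S)
    (h : ξ default = ξ' default) :
    Nat.card ((EtCoh.stalk ξ).obj F) = Nat.card ((EtCoh.stalk ξ').obj F) :=
  Nat.card_congr (Iso.addCommGroupIsoToAddEquiv (nonempty_stalk_iso F ξ ξ' h).some).toEquiv

end Groth.Agent.EtSite.SamePoint
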