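import Groth.Agent.EtSite.PushConstr
import Groth.Agent.EtSite.EtaleStrata
import Groth.Agent.EtSite.SamePoint
import Groth.Agent.ProConsLib.Basic

/-!
# Descent of constructibility along surjective morphisms
-/

set_option autoImplicit false
universe u

open CategoryTheory CategoryTheory.Limits AlgebraicGeometry Opposite Topology TopologicalSpace
open Groth.Agent.Weighting

namespace Groth.Agent.EtSite.ConstrDescent

open LocConst FLCBasic FLCOps Specialize SpecFLC SpecConstr Sheets

attribute [local irreducible] cnt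

variable {X Y : Scheme.{u}}

/-- Bijectivity at a point does not depend on the geometric point. -/
theorem bijAt_iff_of_eq {G : EtCoh.Ab X} {H : Type (u + 1)} [AddCommGroup H]
    (φ : H →+ EtCoh.sect G (EtCoh.top X)) {Ω Ω' : Type u} [Field Ω] [IsSepClosed Ω] [Field Ω']
    [IsSepClosed Ω'] (s : Spec (CommRingCat.of Ω) ⟶ X) (s' : Spec (CommRingCat.of Ω') ⟶ X)
    (h : s default = s' default) : BijAt G φ s ↔ BijAt G φ s' := by
  suffices H : ∀ {Ω : Type u} [Field Ω] [IsSepClosed Ω] (s : Spec (CommRingCat.of Ω) ⟶ X),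
      BijAt G φ s ↔ BijAt G φ (geoPt X (s default)) by
    refine (H s).trans (Iff.trans ?_ (H s').symm)
    rw [h]
  intro Ω _ _ s
  obtain ⟨e⟩ := Specialize.nonempty_fiber_iso s
  refine (bijAt_iff G φ e.inv ((ConcreteCategory.isIso_iff_bijective _).1 ?_)).trans Iff.rfl
  have h1 : (GrothendieckTopology.Point.Hom.sheafFiber (A := AddCommGrpCat.{u + 1}) e.inv).app G ≫
      (GrothendieckTopology.Point.Hom.sheafFiber (A := AddCommGrpCat.{u + 1}) e.hom).app G = 𝟙 _ := by
    rw [← NatTrans.comp_app, ← GrothendieckTopology.Point.Hom.sheafFiber_comp, e.hom_inv_id,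
      GrothendieckTopology.Point.Hom.sheafFiber_id]
    rfl
  have h2 : (GrothendieckTopology.Point.Hom.sheafFiber (A := AddCommGrpCat.{u + 1}) e.hom).app G ≫
      (GrothendieckTopology.Point.Hom.sheafFiber (A := AddCommGrpCat.{u + 1}) e.inv).app G = 𝟙 _ := by
    rw [← NatTrans.comp_app, ← GrothendieckTopology.Point.Hom.sheafFiber_comp, e.inv_hom_id,
      GrothendieckTopology.Point.Hom.sheafFiber_id]
    rfl
  exact ⟨_, h1, h2⟩

/-- The terminal object maps to the base change of the terminal object. -/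
noncomputable def topTerminalTo {T X : Scheme.{u}} (g : T ⟶ X) :
    EtCoh.top T ⟶ (EtCoh.bc g).obj (EtCoh.top X) :=
  MorphismProperty.Over.homMk (pullback.lift g (𝟙 T) ((Category.comp_id _).trans
    (Category.id_comp _).symm)) (pullback.lift_snd _ _ _)

theorem preimage_bijLocus' {G : EtCoh.Ab X} {H : Type (u + 1)} [AddCommGroup H]
    (φ : H →+ EtCoh.sect G (EtCoh.top X)) {T : Scheme.{u}} (g : T ⟶ X) :
    g ⁻¹' bijLocus G φ = bijLocus ((EtCoh.pull g).obj G)
      ((((EtCoh.pull g).obj G).obj.map ((topTerminalTo g)).op).hom.comp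
        ((((EtCoh.pullPushAdj g).unit.app G).hom.app (op (EtCoh.top X))).hom.comp φ)) := by
  have hiff : ∀ {Ω : Type u} [Field Ω] [IsSepClosed Ω] (ξ : Spec (CommRingCat.of Ω) ⟶ T),
      BijAt G φ (ξ ≫ g) ↔ BijAt ((EtCoh.pull g).obj G)
        ((((EtCoh.pull g).obj G).obj.map ((topTerminalTo g)).op).hom.comp
          ((((EtCoh.pullPushAdj g).unit.app G).hom.app (op (EtCoh.top X))).hom.comp φ)) ξ := by
    intro Ω _ _ ξ
    let e := (stalkPullIso g ξ).app G
    let z := bcPt g ξ (EtCoh.top X) (topElt (ξ ≫ g))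
    have hz : (Scheme.pointSmallEtale ξ).fiber.map (topTerminalTo g) (topElt ξ) = z := by
      obtain ⟨a, ha⟩ : ∃ a, bcPt g ξ (EtCoh.top X) a =
          (Scheme.pointSmallEtale ξ).fiber.map (topTerminalTo g) (topElt ξ) :=
        ⟨_, bcPt_unbcPt g ξ _ _⟩
      rw [← ha, topElt_unique a]
    have h : (⇑((gm ξ ((EtCoh.pull g).obj G) (EtCoh.top T) (topElt ξ)).comp
        ((((EtCoh.pull g).obj G).obj.map ((topTerminalTo g)).op).hom.comp
          ((((EtCoh.pullPushAdj g).unit.app G).hom.app (op (EtCoh.top X))).hom.comp φ)))) =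
        e.hom ∘ ⇑((gm (ξ ≫ g) G (EtCoh.top X) (topElt (ξ ≫ g))).comp φ) := funext fun m =>
      (gm_res ((EtCoh.pull g).obj G) (topTerminalTo g) hz
        (((EtCoh.pullPushAdj g).unit.app G).hom.app (op (EtCoh.top X)) (φ m))).trans
      (ConcreteCategory.congr_hom (toPresheafFiber_stalkPullIso_hom g ξ G (EtCoh.top X)
        (topElt (ξ ≫ g))) (φ m)).symm
    exact ((iff_of_eq (congrArg Function.Bijective h)).trans (Function.Bijective.of_comp_iff'
      ((ConcreteCategory.isIso_iff_bijective e.hom).1 inferInstance) _)).symm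
  ext x
  constructor
  · intro h Ω _ _ ξ hξ
    exact (hiff ξ).1 (h Ω (ξ ≫ g) ((Scheme.Hom.comp_apply _ _ _).trans (congrArg g hξ)))
  · intro h Ω _ _ ξ hξ
    have hw : (gpt x) default = x := gpt_apply x _
    refine (bijAt_iff_of_eq φ ξ (gpt x ≫ g) (hξ.trans ?_)).2 ((hiff (gpt x)).2 (h _ (gpt x) hw))
    rw [Scheme.Hom.comp_apply, hw]

theorem isPro_of_isConstructible [CompactSpace X] [QuasiSeparatedSpace X] {E : Set X}
    (h : IsConstructible E) : ProCons.IsProConstructible E :=
  (ProConsLib.isLocallyConstructible_iff_ind_pro.1 h.isLocallyConstructible).2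

theorem isConstructible_of_preimage [CompactSpace Y] [QuasiSeparatedSpace Y] {ι : Type*} [Finite ι]
    (P : ι → Scheme.{u}) (h : ∀ i, P i ⟶ Y) [∀ i, CompactSpace (P i)] [∀ i, QuasiSeparatedSpace (P i)]
    [∀ i, QuasiCompact (h i)] (hsurj : (⋃ i, Set.range (h i)) = Set.univ) {E : Set Y}
    (hE : ∀ i, IsConstructible (h i ⁻¹' E)) : IsConstructible E := by
  have hpro : ∀ {F : Set Y}, (∀ i, IsConstructible (h i ⁻¹' F)) → ProCons.IsProConstructible F := by
    intro F hF
    have e : F = ⋃ i, h i '' (h i ⁻¹' F) := by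
      simp_rw [Set.image_preimage_eq_inter_range]
      rw [← Set.inter_iUnion, hsurj, Set.inter_univ]
    refine ProConsLib.isPro_iff.2 fun U => ?_
    unfold ProConsLib.ConsClosedOn
    rw [e, Set.preimage_iUnion]
    exact @isClosed_iUnion_of_finite _ _ (constructibleTopology ↥U.1) _ _ fun i =>
      ProConsLib.isPro_iff.1 (ProConsLib.isPro_image (h i) (isPro_of_isConstructible (hF i))) U
  exact (ProConsLib.isLocallyConstructible_iff_ind_pro.2
    ⟨ProConsLib.isInd_iff_isPro_compl.2 (hpro fun i => (hE i).compl), hpro hE⟩).isConstructible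

theorem isConstructible_of_pointwise [CompactSpace X] [QuasiSeparatedSpace X] {F : EtCoh.Ab X}
    (h : ∀ x : X, ∃ Z : Set X, IsConstructible Z ∧ x ∈ Z ∧ Strata.FLCOn F Z) :
    EtPBC.IsConstructible F := by
  choose Z hc hx hZ using h
  let τ : X → WithConstructibleTopology X := WithTopology.toTopology _
  have hopen : ∀ i, IsOpen (τ '' Z i) := fun i => by
    rw [WithConstructibleTopology.isOpen_iff, Set.preimage_image_eq _ (WithTopology.toTopology_injective _)]
    exact (StrataImmersion.isOpen_constructibleTopology (hc i)).1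
  obtain ⟨t, ht⟩ := isCompact_univ.elim_finite_subcover _ hopen fun z _ => by
    obtain ⟨y, rfl⟩ := WithTopology.toTopology_surjective _ z
    exact Set.mem_iUnion.2 ⟨y, y, hx y, rfl⟩
  rw [StrataLocal.isConstructible_iff_adapted_univ]
  refine Strata.adapted_of_cover (ι := t) isOpen_univ (fun i => Z i.1)
    (fun i => (hc i.1).preimage_of_isOpenEmbedding isOpen_univ.isOpenEmbedding_subtypeVal)
    (fun i => (hZ i.1).mono Set.inter_subset_right) fun x _ => ?_
  obtain ⟨i, hit, y, hy, e⟩ := Set.mem_iUnion₂.1 (ht (Set.mem_univ (τ x)))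
  exact Set.mem_iUnion.2 ⟨⟨i, hit⟩, WithTopology.toTopology_injective _ e ▸ hy⟩

/-- Near a point of an affine base, a constructible set of a finite étale cover is clopen over a
stratum. -/
theorem exists_clopen_stratum (q : X ⟶ Y) [IsFinite q] [Etale q] [IsAffine Y] {C : Set X}
    (hC : IsConstructible C) (y : Y) :
    ∃ Z : Set Y, IsLocallyClosed Z ∧ IsConstructible Z ∧ y ∈ Z ∧
      ∀ {T : Scheme.{u}} (g : T ⟶ Y) [QuasiCompact g] [CompactSpace T] [QuasiSeparatedSpace T],
        Set.range g ⊆ Z → IsClopen (pullback.fst q g ⁻¹' C) := by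
  classical
  have : IsAffine X := isAffine_of_isAffineHom q
  obtain ⟨S, hSf, hSc, hS⟩ := PushConstr.exists_opens hC
  have : Finite S := hSf.to_subtype
  let lev : S → Set Y := fun U =>
    {y' | cnt q U.1 y ≤ cnt q U.1 y'} ∩ {y' | cnt q U.1 y + 1 ≤ cnt q U.1 y'}ᶜ
  have hlc : IsLocallyClosed (⋂ U, lev U) := by
    simp only [lev]
    rw [Set.iInter_inter_distrib]
    exact ⟨⋂ U : S, {y' | cnt q U.1 y ≤ cnt q U.1 y'}, ⋂ U : S, {y' | cnt q U.1 y + 1 ≤ cnt q U.1 y'}ᶜ,
      isOpen_iInter_of_finite fun U : S => PushConstr.isOpen_le_cnt q U.1 (cnt q U.1 y),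
      isClosed_iInter fun U : S => (PushConstr.isOpen_le_cnt q U.1 (cnt q U.1 y + 1)).isClosed_compl,
      rfl⟩
  have hcc : ∀ (U : S) k, IsConstructible {y' | k ≤ cnt q U.1 y'} := fun U k =>
    (PushConstr.isCompact_le_cnt q U.1 (hSc U.1 U.2) k).isConstructible (PushConstr.isOpen_le_cnt q U.1 k)
  refine ⟨⋂ U, lev U, hlc, IsConstructible.iInter fun U => (hcc U _).inter (hcc U _).compl,
    Set.mem_iInter.2 fun U => ⟨(le_refl (cnt q U.1 y) : _), Nat.not_succ_le_self (cnt q U.1 y)⟩, ?_⟩
  intro T g _ _ _ hg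
  let P : Scheme.{u} := pullback q g
  let q' : P ⟶ T := pullback.snd q g
  let g' : P ⟶ X := pullback.fst q g
  have : IsFinite q' := MorphismProperty.pullback_snd _ _ inferInstance
  have : QuasiSeparatedSpace P := quasiSeparatedSpace_of_quasiSeparated q'
  have : CompactSpace P := QuasiCompact.compactSpace_of_compactSpace q'
  have : QuasiCompact g' := quasiCompact_of_compactSpace g'
  have hstab : ∀ (U : S) {p' p : P}, p' ⤳ p → (g' p ∈ U.1 ↔ g' p' ∈ U.1) := fun U p' p hp => by
    have hmem : ∀ r, cnt q U.1 (q (g' r)) = cnt q U.1 y := fun r => by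
      have : q (g' r) = g (q' r) := by
        rw [← Scheme.Hom.comp_apply, ← Scheme.Hom.comp_apply]
        exact congrArg (fun m : P ⟶ Y => m r) pullback.condition
      rw [this]
      obtain ⟨h1, h2⟩ := Set.mem_iInter.1 (hg ⟨_, rfl⟩ : g (q' r) ∈ ⋂ U, lev U) U
      exact le_antisymm (Nat.not_lt.1 h2) h1
    exact PushConstr.mem_iff_of_cnt_eq q U.1 (hp.map g'.continuous) ((hmem p').trans (hmem p).symm)
  refine hS g' fun U hU => ⟨⟨isOpen_iff_forall_mem_open.2 fun p hp => ?_⟩, U.2.preimage g'.continuous⟩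
  obtain ⟨A, hA, hpA, -⟩ := exists_isAffineOpen_mem_and_subset (x := p) (U := ⊤) trivial
  have : IsAffine A.toScheme := hA
  have : CompactSpace A.toScheme := isCompact_iff_compactSpace.1 hA.isCompact
  have : QuasiCompact A.ι := quasiCompact_of_compactSpace A.ι
  have hc2 : IsConstructible (A.ι ⁻¹' (g' ⁻¹' (U : Set X))ᶜ) := by
    rw [Set.preimage_compl]
    exact (IsCompact.isConstructible (A.ι.isCompact_preimage (g'.isCompact_preimage (hSc U hU)))
      ((U.2.preimage g'.continuous).preimage A.ι.continuous)).compl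
  have hint := SpecConstr.mem_interior_of_generizations hc2 (w := (⟨p, hpA⟩ : A.toScheme))
    fun r hr => fun h => hp ((hstab ⟨U, hU⟩ (hr.map A.ι.continuous)).2 h)
  exact ⟨A.ι '' interior (A.ι ⁻¹' (g' ⁻¹' (U : Set X))ᶜ),
    by rintro _ ⟨r, hr, rfl⟩; exact interior_subset (s := A.ι ⁻¹' (g' ⁻¹' (U : Set X))ᶜ) hr,
    A.ι.isOpenEmbedding.isOpenMap _ isOpen_interior, ⟨_, hint, rfl⟩⟩

theorem isOpen_bc {Y T T' : Scheme.{u}} (W : Y.Etale) (g : T ⟶ Y) (g₂ : T' ⟶ T) (L : Set W.left)
    (h : IsOpen ((pullback.fst (pullback.snd W.hom g) g₂ ≫ pullback.fst W.hom g) ⁻¹' L)) :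
    IsOpen (pullback.fst W.hom (g₂ ≫ g) ⁻¹' L) := by
  let e := pullbackLeftPullbackSndIso W.hom g g₂
  have he : e.inv ≫ pullback.fst (pullback.snd W.hom g) g₂ ≫ pullback.fst W.hom g =
      pullback.fst W.hom (g₂ ≫ g) := by
    exact pullbackLeftPullbackSndIso_inv_fst W.hom g g₂
  rw [← he, Scheme.Hom.comp_base, TopCat.coe_comp, Set.preimage_comp]
  exact h.preimage e.inv.continuous

/-- Constructibility descends along finitely many quasi-compact morphisms covering an affine base. -/
theorem isConstructible_of_cover [IsAffine Y] {ι : Type*} [Finite ι] (P : ι → Scheme.{u})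
    (h : ∀ i, P i ⟶ Y) [∀ i, CompactSpace (P i)] [∀ i, QuasiSeparatedSpace (P i)]
    (hsurj : (⋃ i, Set.range (h i)) = Set.univ) {F : EtCoh.Ab Y}
    (hF : ∀ i, EtPBC.IsConstructible ((EtCoh.pull (h i)).obj F)) : EtPBC.IsConstructible F := by
  refine isConstructible_of_pointwise fun y => ?_
  obtain ⟨i, x, hxy⟩ := Set.mem_iUnion.1 (hsurj.ge (Set.mem_univ y))
  let ξ : Spec (CommRingCat.of (SeparableClosure ((P i).residueField x))) ⟶ Y := gpt x ≫ h i
  have hξy : ξ default = y :=
    (Scheme.Hom.comp_apply _ _ _).trans ((congrArg (h i) (gpt_apply x _)).trans hxy)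
  have : Finite ((EtCoh.stalk ξ).obj F) :=
    @Finite.of_injective _ _ (finite_stalk (hF i) (gpt x)) ((stalkPullIso (h i) (gpt x)).app F).hom
      ((ConcreteCategory.isIso_iff_bijective _).1 inferInstance).1
  obtain ⟨W, hA, s, φ₀, hs, hb⟩ := exists_candidate F ξ
  have : IsAffine ((𝟭 Scheme).obj W.left) := hA
  have : CompactSpace ((𝟭 Scheme).obj W.left) := @isCompact_univ_iff _ _ |>.1 (isAffineOpen_top W.left).isCompact
  have : QuasiSeparatedSpace ((𝟭 Scheme).obj W.left) := @quasiSeparatedSpace_of_isAffine W.left hA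
  have : CompactSpace ((Functor.fromPUnit Y).obj W.right) := inferInstanceAs (CompactSpace Y)
  have : QuasiSeparatedSpace ((Functor.fromPUnit Y).obj W.right) :=
    inferInstanceAs (QuasiSeparatedSpace Y)
  have hEt : Etale W.hom := W.prop
  let G := (EtCoh.pull W.hom).obj F
  let L := bijLocus G (toW F W φ₀)
  have hL : IsConstructible L := by
    let Q : ι → Scheme.{u} := fun k => pullback W.hom (h k)
    let π : ∀ k, Q k ⟶ W.left := fun k => pullback.fst W.hom (h k)
    have hqcs : ∀ k, QuasiCompact (h k) := fun k => quasiCompact_of_compactSpace (h k)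
    have : QuasiCompact W.hom := quasiCompact_of_compactSpace W.hom
    have : QuasiSeparated W.hom := QuasiSeparated.of_quasiSeparatedSpace W.hom
    have : ∀ k, CompactSpace (Q k) := fun k =>
      QuasiCompact.compactSpace_of_compactSpace (pullback.snd W.hom (h k))
    have : ∀ k, QuasiSeparatedSpace (Q k) := fun k =>
      quasiSeparatedSpace_of_quasiSeparated (pullback.snd W.hom (h k))
    have : ∀ k, QuasiCompact (π k) := fun k => inferInstanceAs (QuasiCompact (pullback.fst W.hom (h k)))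
    refine isConstructible_of_preimage Q π (Set.eq_univ_of_forall fun w => ?_) fun k => ?_
    · obtain ⟨k, z, hz⟩ := Set.mem_iUnion.1 (hsurj.ge (Set.mem_univ (W.hom w)))
      obtain ⟨p, hp, -⟩ := Scheme.Pullback.exists_preimage_pullback (f := W.hom) (g := h k) w z hz.symm
      exact Set.mem_iUnion.2 ⟨k, p, hp⟩
    · rw [preimage_bijLocus']
      refine isConstructible_bijLocus _ (PushConstr.isConstructible_of_iso
        ((EtCore.pullComp (π k) W.hom).app F) ?_)
      have hc : π k ≫ W.hom = pullback.snd W.hom (h k) ≫ h k := pullback.condition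
      rw [hc]
      exact PushConstr.isConstructible_of_iso ((EtCore.pullComp (pullback.snd W.hom (h k)) (h k)).app F).symm
        (StrataLocal.isConstructible_pull _ (hF k))
  obtain ⟨n, Z, hlc, hZc, -, hu, hfin⟩ := EtaleStrata.exists_strata W.hom
  obtain ⟨a, hya⟩ := Set.mem_iUnion.1 (hu.ge (Set.mem_univ y))
  obtain ⟨O, K, hO, hK, hOK⟩ := hlc a
  obtain ⟨B, hB, hyB, hBO⟩ := exists_isAffineOpen_mem_and_subset (x := y) (U := ⟨O, hO⟩)
    (hOK.le hya).1
  obtain ⟨T, g, hg, hr⟩ := Strata.exists_immersion (X := Y) (L := (B : Set Y) ∩ K)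
    ⟨B, K, B.2, hK, rfl⟩
  have hrZ : Set.range g ⊆ Z a := hr.le.trans fun z hz => hOK.ge ⟨hBO hz.1, hz.2⟩
  obtain ⟨τ, hτ⟩ : y ∈ Set.range g := hr.ge ⟨hyB, (hOK.le hya).2⟩
  have hTc : IsConstructible (Set.range g) := by
    have e : Set.range g = (B : Set Y) ∩ Z a := by
      rw [hr, hOK]
      exact Set.ext fun z => ⟨fun h => ⟨h.1, hBO h.1, h.2⟩, fun h => ⟨h.1, h.2.2⟩⟩
    rw [e]
    exact (hB.isCompact.isConstructible B.2).inter (hZc a)
  have : IsAffine B.toScheme := hB
  have hTaff : IsAffine T := by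
    have hr' : Set.range g ⊆ Set.range B.ι := by
      rw [Scheme.Opens.range_ι, hr]; exact Set.inter_subset_left
    let g₁ := IsOpenImmersion.lift B.ι g hr'
    have hg₁ : g₁ ≫ B.ι = g := IsOpenImmersion.lift_fac _ _ _
    have : IsImmersion (g₁ ≫ B.ι) := hg₁ ▸ hg
    have : IsImmersion g₁ := IsImmersion.of_comp g₁ B.ι
    have : IsClosedImmersion g₁ := IsClosedImmersion.of_isPreimmersion _ (by
      have : Set.range g₁ = B.ι ⁻¹' K := by
        ext z
        constructor
        · rintro ⟨t, rfl⟩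
          have : g t ∈ (B : Set Y) ∩ K := hr.le ⟨t, rfl⟩
          rw [← hg₁, Scheme.Hom.comp_apply] at this
          exact this.2
        · intro hz
          obtain ⟨t, ht⟩ := hr.ge (show B.ι z ∈ (B : Set Y) ∩ K from ⟨z.2, hz⟩)
          refine ⟨t, B.ι.isOpenEmbedding.injective ?_⟩
          rw [← ht, ← hg₁, Scheme.Hom.comp_apply]
      rw [this]
      exact hK.preimage B.ι.continuous)
    exact isAffine_of_isAffineHom g₁
  let q : pullback W.hom g ⟶ T := pullback.snd W.hom g
  have : IsFinite q := hfin a g hrZ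
  have : Etale q := MorphismProperty.pullback_snd _ _ inferInstance
  let π : pullback W.hom g ⟶ W.left := pullback.fst W.hom g
  have : IsAffine (pullback W.hom g) := isAffine_of_isAffineHom q
  have : QuasiCompact π := quasiCompact_of_compactSpace π
  have hC : IsConstructible (π ⁻¹' L) := π.isConstructible_preimage hL
  obtain ⟨Z', hlc', hZc', hτZ', hclop⟩ := exists_clopen_stratum q hC τ
  obtain ⟨T', g₂, hg₂, hr₂⟩ := Strata.exists_immersion hlc'
  have : CompactSpace T' := ⟨(g₂.isEmbedding.isInducing.isCompact_iff).2 (by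
    rw [Set.image_univ, hr₂]
    simpa using ConstrBasics.isRetrocompact_of_isConstructible hZc' isCompact_univ isOpen_univ)⟩
  have : QuasiSeparatedSpace T' := quasiSeparatedSpace_of_quasiSeparated g₂
  have : QuasiCompact g₂ := quasiCompact_of_compactSpace g₂
  let P₂ := pullback q g₂
  let p₂ : P₂ ⟶ T' := pullback.snd q g₂
  let π₂ : P₂ ⟶ W.left := pullback.fst q g₂ ≫ π
  have hclopen : IsClopen (π₂ ⁻¹' L) := by
    have := hclop g₂ hr₂.le
    rwa [← Set.preimage_comp] at this
  let h' : T' ⟶ Y := g₂ ≫ g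
  have : IsFinite p₂ := MorphismProperty.pullback_snd _ _ inferInstance
  have : Etale p₂ := MorphismProperty.pullback_snd _ _ inferInstance
  let O₂ : P₂.Opens := ⟨π₂ ⁻¹' L, hclopen.2⟩
  let V : T'.Opens := ⟨p₂ '' (π₂ ⁻¹' L), p₂.isOpenMap _ hclopen.2⟩
  have hVc : IsClosed (V : Set T') := p₂.isClosedMap _ hclopen.1
  refine ⟨h' '' (V : Set T'), ?_, ?_, ?_⟩
  · have hV : IsConstructible (V : Set T') := hVc.isCompact.isConstructible V.2
    have h1 : IsConstructible (g₂ '' (V : Set T')) :=
      StrataImmersion.image_isConstructible g₂.isEmbedding (hr₂ ▸ hZc') hV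
    have h2 := StrataImmersion.image_isConstructible g.isEmbedding hTc h1
    rwa [← Set.image_comp] at h2
  · obtain ⟨τ', hτ'⟩ := hr₂.ge hτZ'
    have hw0 : W.hom (s default) = g τ := by
      rw [hτ, ← hξy, ← Scheme.Hom.comp_apply, hs]
    obtain ⟨p₁, hp₁, hp₁'⟩ := Scheme.Pullback.exists_preimage_pullback (f := W.hom) (g := g) (s default) τ hw0
    obtain ⟨p, hp, hp'⟩ := Scheme.Pullback.exists_preimage_pullback (f := q) (g := g₂) p₁ τ'
      (hp₁'.trans hτ'.symm)
    refine ⟨τ', ⟨p, ?_, hp'⟩, ?_⟩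
    · show π₂ p ∈ L
      have : π₂ p = s default := by rw [Scheme.Hom.comp_apply, hp, hp₁]
      rw [this]
      exact fun Ω _ _ s' hs' => (bijAt_iff_of_eq _ s' s hs').2 hb
    · rw [Scheme.Hom.comp_apply, hτ', hτ]
  · refine ⟨V.toScheme, V.ι ≫ h', inferInstance, ?_, FLCBasic.isFLC_of_iso ((EtCore.pullComp V.ι h').app F).symm ?_⟩
    · rintro _ ⟨t, ht, rfl⟩
      exact ⟨⟨t, ht⟩, Scheme.Hom.comp_apply _ _ _⟩
    let W₂ : T'.Etale := AllPoints.res ((EtCoh.bc h').obj W) ⟨pullback.fst W.hom h' ⁻¹' L,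
      isOpen_bc W g g₂ L hclopen.2⟩
    let φ₂ := ((((EtCoh.pull h').obj F).obj.map (AllPoints.resι ((EtCoh.bc h').obj W)
      (⟨pullback.fst W.hom h' ⁻¹' L, isOpen_bc W g g₂ L hclopen.2⟩ :
        ((EtCoh.bc h').obj W).left.Opens)).op).hom.comp
      ((((EtCoh.pullPushAdj h').unit.app F).hom.app (op W)).hom.comp φ₀))
    have hb₂ : GermBij ((EtCoh.pull h').obj F) W₂ φ₂ := by
      intro Ω _ _ η t
      let O' : ((EtCoh.bc h').obj W).left.Opens := ⟨pullback.fst W.hom h' ⁻¹' L, isOpen_bc W g g₂ L hclopen.2⟩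
      let t₁ := (Scheme.pointSmallEtale η).fiber.map (AllPoints.resι ((EtCoh.bc h').obj W) O') t
      obtain ⟨t₀, ht₀⟩ : ∃ t₀, bcPt h' η W t₀ = t₁ := ⟨_, bcPt_unbcPt h' η W t₁⟩
      let tl : Spec (CommRingCat.of Ω) ⟶ W.left := t₀.left
      have hmem : tl default ∈ L := by
        let t₁l : Spec (CommRingCat.of Ω) ⟶ ((EtCoh.bc h').obj W).left := t₁.left
        have e1 : tl default = pullback.fst W.hom h' (t₁l default) := by
          have := congrArg (fun z : (Scheme.pointSmallEtale η).fiber.obj ((EtCoh.bc h').obj W) =>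
            (z.left ≫ pullback.fst W.hom h' : Spec (CommRingCat.of Ω) ⟶ W.left) default) ht₀
          exact (congrArg (fun m : Spec (CommRingCat.of Ω) ⟶ W.left => m default)
            (bcPt_left_fst h' η W t₀)).symm.trans (this.trans (Scheme.Hom.comp_apply _ _ _))
        rw [e1]
        exact ((AllPoints.range_resι ((EtCoh.bc h').obj W) O').le ⟨GenericSub.ptOf t,
          (Scheme.Hom.comp_apply _ _ _).symm⟩ :)
      have h1 := (bijAt_toW_iff' F W φ₀ tl (Over.w t₀)).1 (hmem Ω tl rfl)
      have hcomp := ((ConcreteCategory.isIso_iff_bijective ((stalkPullIso h' η).hom.app F)).1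
        inferInstance).comp h1
      exact Eq.subst (motive := Function.Bijective) (funext fun m => (ConcreteCategory.congr_hom
        (toPresheafFiber_stalkPullIso_hom h' η F W t₀) (φ₀ m)).trans
          (gm_res ((EtCoh.pull h').obj F) (AllPoints.resι ((EtCoh.bc h').obj W) O')
            (ht₀.symm : _ = bcPt h' η W t₀) _).symm) hcomp
    refine GenericSub.isFLC_on_image hb₂ V ?_
    rintro _ ⟨p, hp, rfl⟩
    obtain ⟨r, hr1, hr2⟩ : ∃ r : (pullback W.hom h' : Scheme.{u}),
        pullback.fst W.hom h' r = π₂ p ∧ pullback.snd W.hom h' r = p₂ p := by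
      let m : P₂ ⟶ pullback W.hom h' := pullback.lift π₂ p₂ (by
        simp only [π₂, p₂, h', π, q, Category.assoc, pullback.condition]
        rw [← Category.assoc, pullback.condition, Category.assoc])
      exact ⟨m p, by rw [← Scheme.Hom.comp_apply, pullback.lift_fst],
        by rw [← Scheme.Hom.comp_apply, pullback.lift_snd]⟩
    exact ⟨⟨r, show pullback.fst W.hom h' r ∈ L from hr1 ▸ hp⟩,
      (Scheme.Hom.comp_apply _ _ _).trans hr2⟩

theorem isConstructible_of_pull_qcqs [CompactSpace X] [QuasiSeparatedSpace X] [QuasiSeparatedSpace Y]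
    (f : X ⟶ Y) [Surjective f] {F : EtCoh.Ab Y} (hF : EtPBC.IsConstructible ((EtCoh.pull f).obj F)) :
    EtPBC.IsConstructible F := by
  refine StrataLocal.isConstructible_of_open_cover (fun V : Y.affineOpens => V.1)
    (iSup_affineOpens_eq_top Y) fun V => ?_
  have : IsAffine V.1.toScheme := V.2
  have : QuasiCompact f := quasiCompact_of_compactSpace f
  have : QuasiSeparated f := QuasiSeparated.of_quasiSeparatedSpace f
  have : CompactSpace (f ⁻¹ᵁ V.1).toScheme :=
    isCompact_iff_compactSpace.1 (f.isCompact_preimage V.2.isCompact)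
  have : QuasiSeparatedSpace (f ⁻¹ᵁ V.1).toScheme :=
    (f ⁻¹ᵁ V.1).ι.isOpenEmbedding.quasiSeparatedSpace
  have : Surjective (f ∣_ V.1) := IsZariskiLocalAtTarget.restrict ‹Surjective f› V.1
  refine isConstructible_of_cover (fun _ : PUnit.{1} => (f ⁻¹ᵁ V.1).toScheme) (fun _ => f ∣_ V.1)
    ((Set.iUnion_const _).trans (f ∣_ V.1).surjective.range_eq) fun _ => ?_
  refine PushConstr.isConstructible_of_iso ((EtCore.pullComp (f ∣_ V.1) V.1.ι).app F) ?_
  rw [morphismRestrict_ι]
  exact PushConstr.isConstructible_of_iso ((EtCore.pullComp _ f).app F).symm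
    (StrataLocal.isConstructible_pull _ hF)

theorem isConstructible_of_pull_lfp (f : X ⟶ Y) [Surjective f] [LocallyOfFinitePresentation f]
    {F : EtCoh.Ab Y} (hF : EtPBC.IsConstructible ((EtCoh.pull f).obj F)) :
    EtPBC.IsConstructible F := by
  refine StrataLocal.isConstructible_of_open_cover (fun V : Y.affineOpens => V.1)
    (iSup_affineOpens_eq_top Y) fun V => ?_
  have : IsAffine V.1.toScheme := V.2
  let g := f ∣_ V.1
  have : Surjective g := IsZariskiLocalAtTarget.restrict ‹Surjective f› V.1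
  choose A hA hxA hsub using fun x : (f ⁻¹ᵁ V.1).toScheme =>
    exists_isAffineOpen_mem_and_subset (x := x) (U := ⊤) trivial
  have hcA : ∀ x, CompactSpace (A x).toScheme := fun x => isCompact_iff_compactSpace.1 (hA x).isCompact
  have hqA : ∀ x, QuasiSeparatedSpace (A x).toScheme := fun x => by
    have : IsAffine (A x).toScheme := hA x
    infer_instance
  have hqc : ∀ x, QuasiCompact ((A x).ι ≫ g) := fun x => quasiCompact_of_compactSpace ((A x).ι ≫ g)
  have hlfp : LocallyOfFinitePresentation g := inferInstanceAs (LocallyOfFinitePresentation (f ∣_ V.1))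
  have hc : ∀ x, IsConstructible (Set.range ((A x).ι ≫ g)) := fun x => by
    have := ((A x).ι ≫ g).isConstructible_image IsConstructible.univ
    rwa [Set.image_univ] at this
  let τ : V.1.toScheme → WithConstructibleTopology V.1.toScheme := WithTopology.toTopology _
  have hopen : ∀ x, IsOpen (τ '' Set.range ((A x).ι ≫ g)) := fun x => by
    rw [WithConstructibleTopology.isOpen_iff, Set.preimage_image_eq _ (WithTopology.toTopology_injective _)]
    exact (StrataImmersion.isOpen_constructibleTopology (hc x)).1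
  obtain ⟨t, ht⟩ := isCompact_univ.elim_finite_subcover _ hopen fun z _ => by
    obtain ⟨y, rfl⟩ := WithTopology.toTopology_surjective _ z
    obtain ⟨x, rfl⟩ := g.surjective y
    exact Set.mem_iUnion.2 ⟨x, g x, ⟨⟨x, hxA x⟩, Scheme.Hom.comp_apply _ _ _⟩, rfl⟩
  refine isConstructible_of_cover (ι := t) (fun x => (A x.1).toScheme) (fun x => (A x.1).ι ≫ g)
    (Set.eq_univ_of_forall fun y => ?_) fun x => ?_
  · obtain ⟨x, hx, y', hy', e⟩ := Set.mem_iUnion₂.1 (ht (Set.mem_univ (τ y)))
    exact Set.mem_iUnion.2 ⟨⟨x, hx⟩, WithTopology.toTopology_injective _ e ▸ hy'⟩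
  · refine PushConstr.isConstructible_of_iso ((EtCore.pullComp ((A x.1).ι ≫ g) V.1.ι).app F) ?_
    rw [Category.assoc, morphismRestrict_ι, ← Category.assoc]
    exact PushConstr.isConstructible_of_iso ((EtCore.pullComp _ f).app F).symm
      (StrataLocal.isConstructible_pull _ hF)

end Groth.Agent.EtSite.ConstrDescent
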