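import Groth.Agent.EtSite.FLCBasic
import Mathlib.Algebra.Homology.ShortComplex.Ab
import Mathlib.GroupTheory.QuotientGroup.Finite

/-!
# Maps, kernels, cokernels and extensions of finite locally constant sheaves
-/

set_option autoImplicit false
universe u

open CategoryTheory CategoryTheory.Limits AlgebraicGeometry Opposite

namespace Groth.Agent.EtSite.FLCOps

open LocConst FLCBasic

variable {X : Scheme.{u}} {Ω : Type u} [Field Ω] [IsSepClosed Ω]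

/-- The germ of a section, valued in the stalk. -/
noncomputable def gm (ξ : Spec (CommRingCat.of Ω) ⟶ X) (G : EtCoh.Ab X) (U : X.Etale)
    (t : (Scheme.pointSmallEtale ξ).fiber.obj U) :
    EtCoh.sect G U →+ ((EtCoh.stalk ξ).obj G : AddCommGrpCat.{u + 1}) :=
  ((Scheme.pointSmallEtale ξ).toPresheafFiber U t G.obj).hom

theorem gm_bijective {G : EtCoh.Ab X} {U : X.Etale} {A : Type (u + 1)} [AddCommGroup A]
    {φ : A →+ EtCoh.sect G U} (h : GermBij G U φ) (ξ : Spec (CommRingCat.of Ω) ⟶ X)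
    (t : (Scheme.pointSmallEtale ξ).fiber.obj U) :
    Function.Bijective ((gm ξ G U t).comp φ) := h Ω ξ t

theorem gm_map {F G : EtCoh.Ab X} (a : F ⟶ G) {U : X.Etale} (ξ : Spec (CommRingCat.of Ω) ⟶ X)
    (t : (Scheme.pointSmallEtale ξ).fiber.obj U) (s : EtCoh.sect F U) :
    ((EtCoh.stalk ξ).map a).hom (gm ξ F U t s) = gm ξ G U t (a.hom.app (op U) s) :=
  germ_map a ξ t s

theorem gm_res (G : EtCoh.Ab X) {U W : X.Etale} (g : W ⟶ U) {ξ : Spec (CommRingCat.of Ω) ⟶ X}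
    {w : (Scheme.pointSmallEtale ξ).fiber.obj W} {t : (Scheme.pointSmallEtale ξ).fiber.obj U}
    (h : (Scheme.pointSmallEtale ξ).fiber.map g w = t) (s : EtCoh.sect G U) :
    gm ξ G W w (G.obj.map g.op s) = gm ξ G U t s :=
  ((Scheme.pointSmallEtale ξ).toPresheafFiber_w_apply g w G.obj s).trans
    (congrArg (fun y => (Scheme.pointSmallEtale ξ).toPresheafFiber U y G.obj s) h)

/-- Two finite local data at a point have a common neighbourhood. -/
theorem exists_common_data {F G : EtCoh.Ab X} (hF : LocalData F) (hG : LocalData G)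
    (ξ : Spec (CommRingCat.of Ω) ⟶ X) :
    ∃ (U : X.Etale) (_ : (Scheme.pointSmallEtale ξ).fiber.obj U) (M : Type (u + 1))
      (_ : AddCommGroup M) (_ : Finite M) (φ : M →+ EtCoh.sect F U) (N : Type (u + 1))
      (_ : AddCommGroup N) (_ : Finite N) (ψ : N →+ EtCoh.sect G U),
      GermBij F U φ ∧ GermBij G U ψ := by
  obtain ⟨U₁, t₁, M, _, _, φ, hφ⟩ := hF Ω ξ
  obtain ⟨U₂, t₂, N, _, _, ψ, hψ⟩ := hG Ω ξ
  obtain ⟨⟨U, t⟩, ⟨g₁, -⟩, ⟨g₂, -⟩, -⟩ := IsCofilteredOrEmpty.cone_objs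
    (C := (Scheme.pointSmallEtale ξ).fiber.Elements) ⟨U₁, t₁⟩ ⟨U₂, t₂⟩
  exact ⟨U, t, M, inferInstance, inferInstance, _, N, inferInstance, inferInstance, _,
    hφ.map g₁, hψ.map g₂⟩

/-- A map of sheaves is, near a point, induced by a homomorphism of the local values. -/
theorem exists_hom {F G : EtCoh.Ab X} (a : F ⟶ G) {U : X.Etale} {M N : Type (u + 1)}
    [AddCommGroup M] [Finite M] [AddCommGroup N] (φ : M →+ EtCoh.sect F U)
    {ψ : N →+ EtCoh.sect G U} (hψ : GermBij G U ψ)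
    (ξ : Spec (CommRingCat.of Ω) ⟶ X) (t : (Scheme.pointSmallEtale ξ).fiber.obj U) :
    ∃ (W : X.Etale) (w : (Scheme.pointSmallEtale ξ).fiber.obj W) (g : W ⟶ U) (h : M →+ N),
      (Scheme.pointSmallEtale ξ).fiber.map g w = t ∧
        ∀ m, a.hom.app (op W) (F.obj.map g.op (φ m)) = G.obj.map g.op (ψ (h m)) := by
  let gψ := AddEquiv.ofBijective _ (gm_bijective hψ ξ t)
  let h : M →+ N := gψ.symm.toAddMonoidHom.comp
    (((EtCoh.stalk ξ).map a).hom.comp ((gm ξ F U t).comp φ))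
  obtain ⟨W, w, g, hg, hk⟩ := exists_equalize G U t (fun m => a.hom.app (op U) (φ m))
    (fun m => ψ (h m)) fun m =>
      (gm_map a ξ t (φ m)).symm.trans (gψ.apply_symm_apply _).symm
  exact ⟨W, w, g, h, hg, fun m => (NatTrans.naturality_apply a.hom g.op (φ m)).trans (hk m)⟩

theorem gm_comp {F G : EtCoh.Ab X} (a : F ⟶ G) {U : X.Etale} {M N : Type (u + 1)}
    [AddCommGroup M] [AddCommGroup N] {φ : M →+ EtCoh.sect F U} {ψ : N →+ EtCoh.sect G U}
    {h : M →+ N} (hc : ∀ m, a.hom.app (op U) (φ m) = ψ (h m))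
    (ξ : Spec (CommRingCat.of Ω) ⟶ X) (t : (Scheme.pointSmallEtale ξ).fiber.obj U) (m : M) :
    ((EtCoh.stalk ξ).map a).hom (gm ξ F U t (φ m)) = gm ξ G U t (ψ (h m)) :=
  (gm_map a ξ t (φ m)).trans (congrArg _ (hc m))

/-- Kernels of maps of finite locally constant sheaves are finite locally constant. -/
theorem localData_kernel {K F G : EtCoh.Ab X} (i : K ⟶ F) (a : F ⟶ G)
    (hi : ∀ (Ω : Type u) [Field Ω] [IsSepClosed Ω] (ξ : Spec (CommRingCat.of Ω) ⟶ X),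
      Function.Injective ((EtCoh.stalk ξ).map i).hom)
    (hex : ∀ (Ω : Type u) [Field Ω] [IsSepClosed Ω] (ξ : Spec (CommRingCat.of Ω) ⟶ X),
      Function.Exact ((EtCoh.stalk ξ).map i).hom ((EtCoh.stalk ξ).map a).hom)
    (hF : LocalData F) (hG : LocalData G) : LocalData K := by
  intro Ω _ _ ξ
  obtain ⟨U, t, M, _, _, φ₀, N, _, _, ψ₀, hφ₀, hψ₀⟩ := exists_common_data hF hG ξ
  obtain ⟨U₁, t₁, g₁, h, -, hh⟩ := exists_hom a φ₀ hψ₀ ξ t
  let φ₁ : M →+ EtCoh.sect F U₁ := (F.obj.map g₁.op).hom.comp φ₀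
  let ψ₁ : N →+ EtCoh.sect G U₁ := (G.obj.map g₁.op).hom.comp ψ₀
  have hh₁ : ∀ m, a.hom.app (op U₁) (φ₁ m) = ψ₁ (h m) := hh
  have hφ₁ : GermBij F U₁ φ₁ := hφ₀.map g₁
  have hψ₁ : GermBij G U₁ ψ₁ := hψ₀.map g₁
  have hlift : ∀ m : h.ker, ∃ p, ((EtCoh.stalk ξ).map i).hom p = gm ξ F U₁ t₁ (φ₁ m) :=
    fun m => (hex Ω ξ _).1 (by
      rw [gm_comp a hh₁ ξ t₁, show h m = 0 from m.2, map_zero, map_zero])
  choose p hp using hlift
  let θ : h.ker →+ ((EtCoh.stalk ξ).obj K : AddCommGrpCat.{u + 1}) :=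
    AddMonoidHom.mk' p fun m n => hi Ω ξ (by
      rw [hp, map_add, hp, hp, AddSubgroup.coe_add, map_add, map_add])
  obtain ⟨U₂, t₂, g₂, κ, hg₂, hκ⟩ := exists_hom_of_finite K U₁ t₁ θ
  obtain ⟨U₃, t₃, g₃, -, hk⟩ := exists_equalize F U₂ t₂
    (fun m : h.ker => i.hom.app (op U₂) (κ m)) (fun m => F.obj.map g₂.op (φ₁ m)) fun m =>
      (gm_map i ξ t₂ (κ m)).symm.trans ((congrArg _ (hκ m)).trans
        ((hp m).trans (gm_res F g₂ hg₂ _).symm))
  refine ⟨U₃, t₃, h.ker, inferInstance, inferInstance, (K.obj.map g₃.op).hom.comp κ,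
    fun Ω' _ _ ξ' s => ?_⟩
  let φ₃ : M →+ EtCoh.sect F U₃ := (F.obj.map g₃.op).hom.comp ((F.obj.map g₂.op).hom.comp φ₁)
  let ψ₃ : N →+ EtCoh.sect G U₃ := (G.obj.map g₃.op).hom.comp ((G.obj.map g₂.op).hom.comp ψ₁)
  have hh₃ : ∀ m, a.hom.app (op U₃) (φ₃ m) = ψ₃ (h m) := fun m =>
    (NatTrans.naturality_apply a.hom g₃.op _).trans
      (congrArg _ ((NatTrans.naturality_apply a.hom g₂.op _).trans (congrArg _ (hh₁ m))))
  let κ₃ : h.ker →+ EtCoh.sect K U₃ := (K.obj.map g₃.op).hom.comp κ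
  have hc : ∀ m : h.ker, i.hom.app (op U₃) (κ₃ m) = φ₃ (h.ker.subtype m) := fun m =>
    (NatTrans.naturality_apply i.hom g₃.op (κ m)).trans (hk m)
  have hbF : Function.Bijective ((gm ξ' F U₃ s).comp φ₃) :=
    gm_bijective ((hφ₁.map g₂).map g₃) ξ' s
  have hbG : Function.Bijective ((gm ξ' G U₃ s).comp ψ₃) :=
    gm_bijective ((hψ₁.map g₂).map g₃) ξ' s
  suffices H : Function.Bijective ((gm ξ' K U₃ s).comp κ₃) from H
  refine ⟨fun m n e => Subtype.ext (hbF.1 ?_), fun q => ?_⟩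
  · exact (gm_comp i hc ξ' s m).symm.trans ((congrArg _ e).trans (gm_comp i hc ξ' s n))
  · obtain ⟨m, hm⟩ := hbF.2 (((EtCoh.stalk ξ').map i).hom q)
    have e0 : h m = 0 := hbG.1 ((gm_comp a hh₃ ξ' s m).symm.trans ((congrArg _ hm).trans
      (((hex Ω' ξ' _).2 ⟨q, rfl⟩).trans (map_zero _).symm)))
    exact ⟨⟨m, e0⟩, hi Ω' ξ' ((gm_comp i hc ξ' s ⟨m, e0⟩).trans hm)⟩

/-- The cokernel of a map of finite locally constant sheaves is finite locally constant. -/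
theorem localData_cokernel {F G C : EtCoh.Ab X} (a : F ⟶ G) (π : G ⟶ C) (w : a ≫ π = 0)
    (hπ : ∀ (Ω : Type u) [Field Ω] [IsSepClosed Ω] (ξ : Spec (CommRingCat.of Ω) ⟶ X),
      Function.Surjective ((EtCoh.stalk ξ).map π).hom)
    (hex : ∀ (Ω : Type u) [Field Ω] [IsSepClosed Ω] (ξ : Spec (CommRingCat.of Ω) ⟶ X),
      Function.Exact ((EtCoh.stalk ξ).map a).hom ((EtCoh.stalk ξ).map π).hom)
    (hF : LocalData F) (hG : LocalData G) : LocalData C := by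
  intro Ω _ _ ξ
  obtain ⟨U, t, M, _, _, φ₀, N, _, _, ψ₀, hφ₀, hψ₀⟩ := exists_common_data hF hG ξ
  obtain ⟨U₁, t₁, g₁, h, -, hh⟩ := exists_hom a φ₀ hψ₀ ξ t
  let φ₁ : M →+ EtCoh.sect F U₁ := (F.obj.map g₁.op).hom.comp φ₀
  let ψ₁ : N →+ EtCoh.sect G U₁ := (G.obj.map g₁.op).hom.comp ψ₀
  have hh₁ : ∀ m, a.hom.app (op U₁) (φ₁ m) = ψ₁ (h m) := hh
  have hk : h.range ≤ (push π ψ₁).ker := by
    rintro _ ⟨m, rfl⟩
    change π.hom.app (op U₁) (ψ₁ (h m)) = 0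
    rw [← hh₁ m]
    have e : a.hom.app (op U₁) ≫ π.hom.app (op U₁) = 0 := by
      rw [← NatTrans.comp_app, ← ObjectProperty.FullSubcategory.comp_hom, w]; rfl
    exact ConcreteCategory.congr_hom e (φ₁ m)
  let χ : N ⧸ h.range →+ EtCoh.sect C U₁ := QuotientAddGroup.lift h.range (push π ψ₁) hk
  refine ⟨U₁, t₁, N ⧸ h.range, inferInstance, inferInstance, χ, fun Ω' _ _ ξ' s => ?_⟩
  suffices H : Function.Bijective ((gm ξ' C U₁ s).comp χ) from H
  have hbF : Function.Bijective ((gm ξ' F U₁ s).comp φ₁) := gm_bijective (hφ₀.map g₁) ξ' s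
  have hbG : Function.Bijective ((gm ξ' G U₁ s).comp ψ₁) := gm_bijective (hψ₀.map g₁) ξ' s
  refine ⟨(injective_iff_map_eq_zero _).2 ?_, fun q => ?_⟩
  · intro x e
    obtain ⟨n, rfl⟩ := QuotientAddGroup.mk_surjective x
    have e' : ((EtCoh.stalk ξ').map π).hom (gm ξ' G U₁ s (ψ₁ n)) = 0 := (gm_map π ξ' s _).trans e
    obtain ⟨q, hq⟩ := (hex Ω' ξ' _).1 e'
    obtain ⟨m, rfl⟩ := hbF.2 q
    exact (QuotientAddGroup.eq_zero_iff n).2
      ⟨m, hbG.1 ((gm_comp a hh₁ ξ' s m).symm.trans hq)⟩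
  · obtain ⟨p, rfl⟩ := hπ Ω' ξ' q
    obtain ⟨n, rfl⟩ := hbG.2 p
    exact ⟨n, (gm_map π ξ' s _).symm⟩

/-- Extensions of finite locally constant sheaves are finite locally constant. -/
theorem localData_extension {A B C : EtCoh.Ab X} (i : A ⟶ B) (π : B ⟶ C)
    (hi : ∀ (Ω : Type u) [Field Ω] [IsSepClosed Ω] (ξ : Spec (CommRingCat.of Ω) ⟶ X),
      Function.Injective ((EtCoh.stalk ξ).map i).hom)
    (hπ : ∀ (Ω : Type u) [Field Ω] [IsSepClosed Ω] (ξ : Spec (CommRingCat.of Ω) ⟶ X),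
      Function.Surjective ((EtCoh.stalk ξ).map π).hom)
    (hex : ∀ (Ω : Type u) [Field Ω] [IsSepClosed Ω] (ξ : Spec (CommRingCat.of Ω) ⟶ X),
      Function.Exact ((EtCoh.stalk ξ).map i).hom ((EtCoh.stalk ξ).map π).hom)
    (hA : LocalData A) (hC : LocalData C) : LocalData B := by
  intro Ω _ _ ξ
  obtain ⟨U, t, M, _, _, α₀, N, _, _, γ₀, hα₀, hγ₀⟩ := exists_common_data hA hC ξ
  let eA := AddEquiv.ofBijective _ (gm_bijective hα₀ ξ t)
  let eC := AddEquiv.ofBijective _ (gm_bijective hγ₀ ξ t)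
  let P := ((EtCoh.stalk ξ).obj B : AddCommGrpCat.{u + 1})
  let a : M →+ P := ((EtCoh.stalk ξ).map i).hom.comp eA.toAddMonoidHom
  let b : P →+ N := eC.symm.toAddMonoidHom.comp ((EtCoh.stalk ξ).map π).hom
  have hab : Function.Exact a b := by
    intro p
    refine ⟨fun hp => ?_, ?_⟩
    · obtain ⟨q, hq⟩ := (hex Ω ξ p).1 (eC.symm.injective (hp.trans (map_zero _).symm))
      exact ⟨eA.symm q, (congrArg _ (eA.apply_symm_apply q)).trans hq⟩
    · rintro ⟨m, rfl⟩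
      exact (congrArg eC.symm ((hex Ω ξ _).2 ⟨eA m, rfl⟩)).trans (map_zero _)
  have : Finite P := by
    have : Finite a.range := Set.finite_coe_iff.2 (Set.finite_range a)
    have : Finite (P ⧸ a.range) := Finite.of_injective
      (QuotientAddGroup.lift a.range b (fun x hx => by
        obtain ⟨m, rfl⟩ := hx; exact (hab _).2 ⟨m, rfl⟩)) (by
      rintro ⟨x⟩ ⟨y⟩ e
      refine QuotientAddGroup.eq.2 ((hab _).1 ?_)
      rw [map_add, map_neg, neg_add_eq_zero]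
      exact e)
    exact AddSubgroup.finite_iff_finite_and_finiteIndex a.range |>.2
      ⟨inferInstance, AddSubgroup.finiteIndex_of_finite_quotient⟩
  obtain ⟨U₁, t₁, g₁, β₁, hg₁, hβ₁⟩ := exists_hom_of_finite B U t (AddMonoidHom.id P)
  have hβ₁' : ∀ p, gm ξ B U₁ t₁ (β₁ p) = p := hβ₁
  obtain ⟨U₂, t₂, g₂, hg₂, hk₂⟩ := exists_equalize B U₁ t₁
    (fun m : M => i.hom.app (op U₁) (A.obj.map g₁.op (α₀ m))) (fun m => β₁ (a m)) fun m =>
      (gm_map i ξ t₁ _).symm.trans ((congrArg _ (gm_res A g₁ hg₁ _)).trans (hβ₁' (a m)).symm)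
  obtain ⟨U₃, t₃, g₃, -, hk₃⟩ := exists_equalize C U₂ t₂
    (fun p : P => π.hom.app (op U₂) (B.obj.map g₂.op (β₁ p)))
    (fun p => C.obj.map g₂.op (C.obj.map g₁.op (γ₀ (b p)))) fun p =>
      (gm_map π ξ t₂ _).symm.trans ((congrArg _ ((gm_res B g₂ hg₂ _).trans (hβ₁' p))).trans
        ((eC.apply_symm_apply _).symm.trans
          ((gm_res C g₁ hg₁ _).symm.trans (gm_res C g₂ hg₂ _).symm)))
  let β : P →+ EtCoh.sect B U₃ := (B.obj.map g₃.op).hom.comp ((B.obj.map g₂.op).hom.comp β₁)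
  let α : M →+ EtCoh.sect A U₃ := (A.obj.map g₃.op).hom.comp
    ((A.obj.map g₂.op).hom.comp ((A.obj.map g₁.op).hom.comp α₀))
  let γ : N →+ EtCoh.sect C U₃ := (C.obj.map g₃.op).hom.comp
    ((C.obj.map g₂.op).hom.comp ((C.obj.map g₁.op).hom.comp γ₀))
  have hia : ∀ m, i.hom.app (op U₃) (α m) = β (a m) := fun m =>
    (NatTrans.naturality_apply i.hom g₃.op _).trans
      (congrArg _ ((NatTrans.naturality_apply i.hom g₂.op _).trans (hk₂ m)))
  have hπb : ∀ p, π.hom.app (op U₃) (β p) = γ (b p) := fun p =>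
    (NatTrans.naturality_apply π.hom g₃.op _).trans (hk₃ p)
  refine ⟨U₃, t₃, P, inferInstance, inferInstance, β, fun Ω' _ _ ξ' s => ?_⟩
  suffices H : Function.Bijective ((gm ξ' B U₃ s).comp β) from H
  have hbA : Function.Bijective ((gm ξ' A U₃ s).comp α) :=
    gm_bijective (((hα₀.map g₁).map g₂).map g₃) ξ' s
  have hbC : Function.Bijective ((gm ξ' C U₃ s).comp γ) :=
    gm_bijective (((hγ₀.map g₁).map g₂).map g₃) ξ' s
  refine ⟨(injective_iff_map_eq_zero _).2 fun p hp => ?_, fun q => ?_⟩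
  · have hb : b p = 0 := hbC.1 (((gm_comp π hπb ξ' s p).symm.trans
      ((congrArg _ hp).trans (map_zero _))).trans (map_zero _).symm)
    obtain ⟨m, rfl⟩ := (hab p).1 hb
    have hm : m = 0 := hbA.1 ((hi Ω' ξ'
      (((gm_comp i hia ξ' s m).trans hp).trans (map_zero _).symm)).trans (map_zero _).symm)
    rw [hm, map_zero]
  · obtain ⟨n, hn⟩ := hbC.2 (((EtCoh.stalk ξ').map π).hom q)
    obtain ⟨p₀, hp₀⟩ := hπ Ω ξ (eC n)
    have hbp : b p₀ = n := (congrArg eC.symm hp₀).trans (eC.symm_apply_apply n)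
    have e : ((EtCoh.stalk ξ').map π).hom (q - gm ξ' B U₃ s (β p₀)) = 0 := by
      rw [map_sub, sub_eq_zero, gm_comp π hπb ξ' s p₀, hbp]
      exact hn.symm
    obtain ⟨x, hx⟩ := (hex Ω' ξ' _).1 e
    obtain ⟨m, rfl⟩ := hbA.2 x
    refine ⟨a m + p₀, ?_⟩
    rw [map_add]
    change gm ξ' B U₃ s (β (a m)) + gm ξ' B U₃ s (β p₀) = q
    rw [← gm_comp i hia ξ' s m]
    exact (congrArg (· + gm ξ' B U₃ s (β p₀)) hx).trans (sub_add_cancel _ _)

end Groth.Agent.EtSite.FLCOps
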