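import Groth.Agent.EtSite.AllPoints
import Groth.Agent.EtSite.FLCOps
import Mathlib.CategoryTheory.Sites.IsSheafFor
import Mathlib.CategoryTheory.Limits.ConcreteCategory.Filtered

/-!
# Sections over quasi-compact quasi-separated objects and filtered colimits
-/

set_option autoImplicit false
universe v u

open CategoryTheory CategoryTheory.Limits AlgebraicGeometry Opposite

namespace Groth.Agent.EtSite.Sect

open FLCOps

variable {X : Scheme.{u}}

theorem exists_affine_nbhd (V : X.Etale) (x : V.left) :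
    ∃ (A : X.Etale) (g : A ⟶ V), IsAffine A.left ∧ x ∈ Set.range g.left.base := by
  obtain ⟨W, hW, hx, -⟩ := exists_isAffineOpen_mem_and_subset (x := x) (U := ⊤) trivial
  exact ⟨AllPoints.res V W, AllPoints.resι V W, hW, (AllPoints.range_resι V W).ge hx⟩

/-- The underlying point of an element of a fibre. -/
noncomputable def pt {Ω : Type u} [Field Ω] [IsSepClosed Ω] {ξ : Spec (CommRingCat.of Ω) ⟶ X}
    {V : X.Etale} (t : (Scheme.pointSmallEtale ξ).fiber.obj V) : V.left :=
  (show Spec (CommRingCat.of Ω) ⟶ V.left from t.left) default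

theorem exists_pt {Ω : Type u} [Field Ω] [IsSepClosed Ω] {ξ : Spec (CommRingCat.of Ω) ⟶ X}
    {A V : X.Etale} (g : A ⟶ V) (t : (Scheme.pointSmallEtale ξ).fiber.obj V)
    (h : pt t ∈ Set.range g.left.base) :
    ∃ s : (Scheme.pointSmallEtale ξ).fiber.obj A, (Scheme.pointSmallEtale ξ).fiber.map g s = t := by
  obtain ⟨a, ha⟩ := h
  have : Etale g.left := (inferInstance : EtCoh.etaleMP g.left)
  let tl : Spec (CommRingCat.of Ω) ⟶ V.left := t.left
  obtain ⟨l, hl, -⟩ := Scheme.exists_fac_of_etale_of_isSepClosed g.left tl a ha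
  refine ⟨Over.homMk l ?_, Over.OverMorphism.ext hl⟩
  exact (congrArg (fun m => l ≫ m) (Over.w g.toCommaMorphism).symm).trans
    ((Category.assoc _ _ _).symm.trans ((congrArg (fun m => m ≫ V.hom) hl).trans (Over.w t)))

/-- Every element of a stalk is the germ of a section over an affine object. -/
theorem exists_gm (F : EtCoh.Ab X) {Ω : Type u} [Field Ω] [IsSepClosed Ω]
    (ξ : Spec (CommRingCat.of Ω) ⟶ X) (p : ((EtCoh.stalk ξ).obj F : AddCommGrpCat.{u + 1})) :
    ∃ (A : X.Etale) (t : (Scheme.pointSmallEtale ξ).fiber.obj A) (s : EtCoh.sect F A),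
      IsAffine A.left ∧ gm ξ F A t s = p := by
  obtain ⟨V, y, z, rfl⟩ := (Scheme.pointSmallEtale ξ).toPresheafFiber_jointly_surjective p
  obtain ⟨A, g, hA, hg⟩ := exists_affine_nbhd V (pt y)
  obtain ⟨s, hs⟩ := exists_pt g y hg
  exact ⟨A, s, F.obj.map g.op z, hA, gm_res F g hs z⟩

/-- A point of an object of the site as an element of the fibre over the induced geometric point. -/
theorem gm_eq_zero_iff_locally (F : EtCoh.Ab X) {U : X.Etale} (x : U.left) (s : EtCoh.sect F U)
    (h : gm (gpt x ≫ U.hom) F U (tautPt U x) s = 0) :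
    ∃ (V : X.Etale) (g : V ⟶ U), x ∈ Set.range g.left.base ∧ F.obj.map g.op s = 0 := by
  obtain ⟨V, g, v, hv, hg⟩ := ((Scheme.pointSmallEtale (gpt x ≫ U.hom)).toPresheafFiber_eq_iff'
    U (tautPt U x) s 0).1 (h.trans (map_zero (gm (gpt x ≫ U.hom) F U (tautPt U x))).symm)
  have hl : v.left ≫ g.left = gpt x := congrArg CommaMorphism.left hv
  refine ⟨V, g, ⟨v.left (default : Spec (CommRingCat.of (SeparableClosure (U.left.residueField x)))),
    (Scheme.Hom.comp_apply _ _ _).symm.trans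
      ((congrArg (fun m : _ ⟶ U.left => m.base _) hl).trans (gpt_apply x _))⟩, ?_⟩
  exact hg.trans (map_zero _)

theorem isOpen_range {V U : X.Etale} (g : V ⟶ U) : IsOpen (Set.range g.left.base) := by
  have : Etale g.left := (inferInstance : EtCoh.etaleMP g.left)
  exact g.left.isOpenMap.isOpen_range

/-- Finitely many objects covering a quasi-compact one, out of one for each point. -/
theorem exists_finite_cover {U : X.Etale} [CompactSpace U.left] {Q : ∀ (V : X.Etale), (V ⟶ U) → Prop}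
    (h : ∀ x : U.left, ∃ (V : X.Etale) (g : V ⟶ U), x ∈ Set.range g.left.base ∧ Q V g) :
    ∃ (I : Type u) (_ : Finite I) (V : I → X.Etale) (g : ∀ i, V i ⟶ U),
      (∀ i, Q (V i) (g i)) ∧ Sieve.ofArrows V g ∈ X.smallEtaleTopology U := by
  choose V g hx hQ using h
  obtain ⟨t, ht⟩ := isCompact_univ.elim_finite_subcover (fun x => Set.range (g x).left.base)
    (fun x => isOpen_range (g x)) fun x _ => Set.mem_iUnion.2 ⟨x, hx x⟩
  refine ⟨{x // x ∈ t}, inferInstance, fun i => V i.1, fun i => g i.1, fun i => hQ i.1,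
    mem_smallEtaleTopology_of_points _ _ fun x => ?_⟩
  obtain ⟨i, hi, v, hv⟩ := Set.mem_iUnion₂.1 (ht (Set.mem_univ x))
  exact ⟨V i, g i, v, Sieve.ofArrows_mk _ _ (⟨i, hi⟩ : {x // x ∈ t}), hv⟩

theorem isSheafFor_ofArrows (F : EtCoh.Ab X) {U : X.Etale} {I : Type u} {V : I → X.Etale}
    {g : ∀ i, V i ⟶ U} (hg : Sieve.ofArrows V g ∈ X.smallEtaleTopology U) :
    Presieve.IsSheafFor (F.obj ⋙ CategoryTheory.forget AddCommGrpCat.{u + 1})
      (Presieve.ofArrows V g) :=
  (Presieve.isSheafFor_iff_generate _).2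
    (((isSheaf_iff_isSheaf_of_type _ _).1
      ((Presheaf.isSheaf_iff_isSheaf_forget X.smallEtaleTopology F.obj
        (CategoryTheory.forget AddCommGrpCat.{u + 1})).1 F.property)) _ hg)

theorem ext_of_cover (F : EtCoh.Ab X) {U : X.Etale} {I : Type u} {V : I → X.Etale}
    {g : ∀ i, V i ⟶ U} (hg : Sieve.ofArrows V g ∈ X.smallEtaleTopology U) {s t : EtCoh.sect F U}
    (h : ∀ i, F.obj.map (g i).op s = F.obj.map (g i).op t) : s = t :=
  (isSheafFor_ofArrows F hg).isSeparatedFor.ext fun _ _ hf => by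
    cases hf with
    | mk i => exact h i

theorem glue (F : EtCoh.Ab X) {U : X.Etale} {I : Type u} {V : I → X.Etale} {g : ∀ i, V i ⟶ U}
    (hg : Sieve.ofArrows V g ∈ X.smallEtaleTopology U) (x : ∀ i, EtCoh.sect F (V i))
    (hx : ∀ (i l : I) (Z : X.Etale) (a : Z ⟶ V i) (b : Z ⟶ V l), a ≫ g i = b ≫ g l →
      F.obj.map a.op (x i) = F.obj.map b.op (x l)) :
    ∃ s : EtCoh.sect F U, ∀ i, F.obj.map (g i).op s = x i :=
  ((Presieve.isSheafFor_arrows_iff _ g).1 (isSheafFor_ofArrows F hg) x hx).exists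

/-- The fibre product of two objects over a third. -/
theorem exists_overlap {U A B : X.Etale} (g : A ⟶ U) (h : B ⟶ U) :
    ∃ (P : X.Etale) (p : P ⟶ A) (q : P ⟶ B), p ≫ g = q ≫ h ∧
      Nonempty (P.left ≅ pullback g.left h.left) ∧
      ∀ (Z : X.Etale) (a : Z ⟶ A) (b : Z ⟶ B), a ≫ g = b ≫ h →
        ∃ l : Z ⟶ P, l ≫ p = a ∧ l ≫ q = b := by
  have : Etale A.hom := A.prop
  have : Etale h.left := (inferInstance : EtCoh.etaleMP h.left)
  let P : X.Etale := MorphismProperty.Over.mk ⊤ (pullback.fst g.left h.left ≫ A.hom) inferInstance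
  have hA : g.left ≫ U.hom = A.hom := Over.w g.toCommaMorphism
  have hB : h.left ≫ U.hom = B.hom := Over.w h.toCommaMorphism
  let p : P ⟶ A := MorphismProperty.Over.homMk (pullback.fst g.left h.left) rfl trivial
  let q : P ⟶ B := MorphismProperty.Over.homMk (pullback.snd g.left h.left) (by
    change pullback.snd g.left h.left ≫ B.hom = pullback.fst g.left h.left ≫ A.hom
    rw [← hA, ← hB, ← Category.assoc, ← Category.assoc, pullback.condition]) trivial
  refine ⟨P, p, q, MorphismProperty.Over.Hom.ext pullback.condition, ⟨Iso.refl _⟩, fun Z a b e => ?_⟩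
  have e' : a.left ≫ g.left = b.left ≫ h.left :=
    congrArg (fun m : Z ⟶ U => m.left) e
  refine ⟨MorphismProperty.Over.homMk (pullback.lift a.left b.left e') ?_ trivial,
    MorphismProperty.Over.Hom.ext (pullback.lift_fst _ _ _),
    MorphismProperty.Over.Hom.ext (pullback.lift_snd _ _ _)⟩
  change pullback.lift a.left b.left e' ≫ pullback.fst g.left h.left ≫ A.hom = Z.hom
  rw [pullback.lift_fst_assoc]
  exact Over.w a.toCommaMorphism

variable {J : Type v} [SmallCategory J] [IsFiltered J]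
  [∀ {Ω : Type u} [Field Ω] [IsSepClosed Ω] (ξ : Spec (CommRingCat.of Ω) ⟶ X),
    PreservesColimitsOfShape J (EtCoh.stalk ξ)]
  [PreservesColimitsOfShape J (CategoryTheory.forget AddCommGrpCat.{u + 1})]
  {D : J ⥤ EtCoh.Ab X} {c : Cocone D}

theorem stalk_ι_map {Ω : Type u} [Field Ω] [IsSepClosed Ω] (ξ : Spec (CommRingCat.of Ω) ⟶ X)
    {j k : J} (a : j ⟶ k) (p : ((EtCoh.stalk ξ).obj (D.obj j) : AddCommGrpCat.{u + 1})) :
    (EtCoh.stalk ξ).map (c.ι.app k) ((EtCoh.stalk ξ).map (D.map a) p) =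
      (EtCoh.stalk ξ).map (c.ι.app j) p := by
  rw [← c.w a, Functor.map_comp, ConcreteCategory.comp_apply]

/-- A section over a quasi-compact object killed in a filtered colimit is killed at a finite stage. -/
theorem exists_eq_zero (hc : IsColimit c) (U : X.Etale) [CompactSpace U.left] {j : J}
    (s : EtCoh.sect (D.obj j) U) (hs : (c.ι.app j).hom.app (op U) s = 0) :
    ∃ (k : J) (a : j ⟶ k), (D.map a).hom.app (op U) s = 0 := by
  classical
  have key : ∀ x : U.left, ∃ (V : X.Etale) (g : V ⟶ U), x ∈ Set.range g.left.base ∧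
      ∃ (k : J) (a : j ⟶ k), (D.obj k).obj.map g.op ((D.map a).hom.app (op U) s) = 0 := by
    intro x
    let ξ := gpt x ≫ U.hom
    let Cc := (EtCoh.stalk ξ).mapCocone c
    have hCc : IsColimit Cc := isColimitOfPreserves _ hc
    have h0 : Cc.ι.app j (gm ξ (D.obj j) U (tautPt U x) s) = 0 :=
      (gm_map (c.ι.app j) ξ (tautPt U x) s).trans (by rw [hs, map_zero])
    obtain ⟨k, f, g', e⟩ := Concrete.isColimit_exists_of_rep_eq (D ⋙ EtCoh.stalk ξ) hCc
      (gm ξ (D.obj j) U (tautPt U x) s) (0 : ((EtCoh.stalk ξ).obj (D.obj j) : AddCommGrpCat.{u + 1}))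
      (h0.trans (map_zero (Cc.ι.app j).hom).symm)
    have e' : gm ξ (D.obj k) U (tautPt U x) ((D.map f).hom.app (op U) s) = 0 :=
      (gm_map (D.map f) ξ (tautPt U x) s).symm.trans (e.trans (map_zero ((D ⋙ EtCoh.stalk ξ).map g').hom))
    obtain ⟨V, g, hxg, hg⟩ := gm_eq_zero_iff_locally (D.obj k) x _ e'
    exact ⟨V, g, hxg, k, f, hg⟩
  obtain ⟨I, _, V, g, hQ, hcov⟩ := exists_finite_cover key
  choose k a hk using hQ
  have := Fintype.ofFinite I
  obtain ⟨K, a₀, hK⟩ : ∃ (K : J) (a₀ : j ⟶ K), ∀ i, ∃ b : k i ⟶ K, a i ≫ b = a₀ := by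
    obtain ⟨S, T, hT⟩ := IsFiltered.sup_exists
      (insert j (Finset.univ.image k))
      (Finset.univ.image fun i : I =>
        (⟨j, k i, Finset.mem_insert_self _ _, Finset.mem_insert_of_mem
          (Finset.mem_image_of_mem k (Finset.mem_univ i)), a i⟩ :
          Σ' (X Y : J) (_ : X ∈ insert j (Finset.univ.image k)) (_ : Y ∈ insert j (Finset.univ.image k)),
            X ⟶ Y))
    exact ⟨S, T (Finset.mem_insert_self _ _), fun i =>
      ⟨T (Finset.mem_insert_of_mem (Finset.mem_image_of_mem k (Finset.mem_univ i))),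
        hT _ _ (Finset.mem_image.2 ⟨i, Finset.mem_univ i, rfl⟩)⟩⟩
  refine ⟨K, a₀, ext_of_cover _ hcov fun i => ?_⟩
  obtain ⟨b, hb⟩ := hK i
  rw [← hb, Functor.map_comp, map_zero]
  change (D.obj K).obj.map (g i).op ((D.map b).hom.app (op U) ((D.map (a i)).hom.app (op U) s)) = 0
  rw [← NatTrans.naturality_apply, hk, map_zero]

/-- A section of a filtered colimit over a quasi-compact quasi-separated object comes from a finite
stage. -/
theorem exists_lift (hc : IsColimit c) (U : X.Etale) [CompactSpace U.left]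
    [QuasiSeparatedSpace U.left] (s : EtCoh.sect c.pt U) :
    ∃ (k : J) (t : EtCoh.sect (D.obj k) U), (c.ι.app k).hom.app (op U) t = s := by
  classical
  have key : ∀ x : U.left, ∃ (V : X.Etale) (g : V ⟶ U), x ∈ Set.range g.left.base ∧
      IsAffine V.left ∧ ∃ (k : J) (t : EtCoh.sect (D.obj k) V),
        (c.ι.app k).hom.app (op V) t = c.pt.obj.map g.op s := by
    intro x
    let ξ := gpt x ≫ U.hom
    let Cc := (EtCoh.stalk ξ).mapCocone c
    have hCc : IsColimit Cc := isColimitOfPreserves _ hc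
    obtain ⟨k, p, hp⟩ := Concrete.isColimit_exists_rep (D ⋙ EtCoh.stalk ξ) hCc
      (gm ξ c.pt U (tautPt U x) s)
    obtain ⟨A, τ, t, -, rfl⟩ := exists_gm (D.obj k) ξ p
    obtain ⟨⟨W, w⟩, ⟨f₁, hf₁⟩, ⟨f₂, hf₂⟩, -⟩ := IsCofilteredOrEmpty.cone_objs
      (C := (Scheme.pointSmallEtale ξ).fiber.Elements) ⟨A, τ⟩ ⟨U, tautPt U x⟩
    have e : gm ξ c.pt W w ((c.ι.app k).hom.app (op W) ((D.obj k).obj.map f₁.op t)) =
        gm ξ c.pt W w (c.pt.obj.map f₂.op s) := by
      rw [gm_res c.pt f₂ hf₂, ← gm_map, gm_res (D.obj k) f₁ hf₁]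
      exact hp
    obtain ⟨V, g, v, hv, hg⟩ := ((Scheme.pointSmallEtale ξ).toPresheafFiber_eq_iff' _ _ _ _).1 e
    have hl : v.left ≫ g.left ≫ f₂.left = gpt x := by
      have h1 : v.left ≫ g.left = w.left := congrArg CommaMorphism.left hv
      have h2 : w.left ≫ f₂.left = gpt x := congrArg CommaMorphism.left hf₂
      exact (Category.assoc _ _ _).symm.trans ((congrArg (fun m => m ≫ f₂.left) h1).trans h2)
    let pt₀ : Spec (CommRingCat.of (SeparableClosure (U.left.residueField x))) := default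
    obtain ⟨B, b, hB, hb⟩ := exists_affine_nbhd V (v.left pt₀)
    obtain ⟨β, hβ⟩ := hb
    refine ⟨B, b ≫ g ≫ f₂, ⟨β, ?_⟩, hB, k, (D.obj k).obj.map (b ≫ g ≫ f₁).op t, ?_⟩
    · change (b.left ≫ g.left ≫ f₂.left).base β = x
      refine (Scheme.Hom.comp_apply _ _ _).trans ?_
      refine (congrArg (fun z => (g.left ≫ f₂.left).base z) hβ).trans ?_
      exact (Scheme.Hom.comp_apply _ _ _).symm.trans
        ((congrArg (fun m : _ ⟶ U.left => m.base pt₀) hl).trans (gpt_apply x _))
    · rw [NatTrans.naturality_apply]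
      rw [NatTrans.naturality_apply] at hg
      simp only [op_comp, Functor.map_comp_apply] at hg ⊢
      exact congrArg _ hg
  obtain ⟨I, _, V, g, hQ, hcov⟩ := exists_finite_cover
    (Q := fun V g => IsAffine V.left ∧ ∃ (k : J) (t : EtCoh.sect (D.obj k) V),
        (c.ι.app k).hom.app (op V) t = c.pt.obj.map g.op s) key
  choose hV k t ht using hQ
  have := Fintype.ofFinite I
  obtain ⟨K, hK⟩ := IsFiltered.sup_objs_exists (Finset.univ.image k)
  let r : ∀ i, k i ⟶ K := fun i => (hK (Finset.mem_image_of_mem k (Finset.mem_univ i))).some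
  let t' : ∀ i, EtCoh.sect (D.obj K) (V i) := fun i => (D.map (r i)).hom.app (op (V i)) (t i)
  have ht' : ∀ i, (c.ι.app K).hom.app (op (V i)) (t' i) = c.pt.obj.map (g i).op s := fun i => by
    rw [← ht i, ← c.w (r i)]
    rfl
  have hov : ∀ p : I × I, ∃ (P : X.Etale) (q₁ : P ⟶ V p.1) (q₂ : P ⟶ V p.2) (L : J) (a : K ⟶ L),
      (∀ (Z : X.Etale) (a' : Z ⟶ V p.1) (b' : Z ⟶ V p.2), a' ≫ g p.1 = b' ≫ g p.2 →
        ∃ l : Z ⟶ P, l ≫ q₁ = a' ∧ l ≫ q₂ = b') ∧
      (D.map a).hom.app (op P) ((D.obj K).obj.map q₁.op (t' p.1) - (D.obj K).obj.map q₂.op (t' p.2)) = 0 := by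
    intro p
    obtain ⟨P, q₁, q₂, hq, ⟨e⟩, hun⟩ := exists_overlap (g p.1) (g p.2)
    have := hV p.1
    have := hV p.2
    have : CompactSpace P.left := e.inv.homeomorph.compactSpace
    obtain ⟨L, a, ha⟩ := exists_eq_zero hc P
      ((D.obj K).obj.map q₁.op (t' p.1) - (D.obj K).obj.map q₂.op (t' p.2)) (by
        rw [map_sub, NatTrans.naturality_apply, NatTrans.naturality_apply, ht', ht']
        dsimp only [Functor.const_obj_obj]
        rw [← Functor.map_comp_apply, ← Functor.map_comp_apply, ← op_comp, ← op_comp, hq, sub_self])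
    exact ⟨P, q₁, q₂, L, a, hun, ha⟩
  choose P q₁ q₂ L a hun ha using hov
  obtain ⟨M, a₀, hM⟩ : ∃ (M : J) (a₀ : K ⟶ M), ∀ p, ∃ b : L p ⟶ M, a p ≫ b = a₀ := by
    obtain ⟨S, T, hT⟩ := IsFiltered.sup_exists
      (insert K (Finset.univ.image L))
      (Finset.univ.image fun p : I × I =>
        (⟨K, L p, Finset.mem_insert_self _ _, Finset.mem_insert_of_mem
          (Finset.mem_image_of_mem L (Finset.mem_univ p)), a p⟩ :
          Σ' (X Y : J) (_ : X ∈ insert K (Finset.univ.image L)) (_ : Y ∈ insert K (Finset.univ.image L)),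
            X ⟶ Y))
    exact ⟨S, T (Finset.mem_insert_self _ _), fun p =>
      ⟨T (Finset.mem_insert_of_mem (Finset.mem_image_of_mem L (Finset.mem_univ p))),
        hT _ _ (Finset.mem_image.2 ⟨p, Finset.mem_univ p, rfl⟩)⟩⟩
  let t'' : ∀ i, EtCoh.sect (D.obj M) (V i) := fun i => (D.map a₀).hom.app (op (V i)) (t' i)
  obtain ⟨T, hT⟩ := glue (D.obj M) hcov t'' fun i l Z a' b' e => by
    obtain ⟨m, hm₁, hm₂⟩ := hun (i, l) Z a' b' e
    obtain ⟨b, hb⟩ := hM (i, l)
    have h0 := congrArg ((D.map b).hom.app (op (P (i, l)))) (ha (i, l))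
    rw [map_zero] at h0
    have h1 : (D.map a₀).hom.app (op (P (i, l))) ((D.obj K).obj.map (q₁ (i, l)).op (t' i) -
        (D.obj K).obj.map (q₂ (i, l)).op (t' l)) = 0 := by
      rw [← hb, Functor.map_comp]
      exact h0
    rw [map_sub, sub_eq_zero, NatTrans.naturality_apply, NatTrans.naturality_apply] at h1
    rw [← hm₁, ← hm₂, op_comp, op_comp, Functor.map_comp_apply, Functor.map_comp_apply]
    exact congrArg _ h1
  refine ⟨M, T, ext_of_cover _ hcov fun i => ?_⟩
  refine (NatTrans.naturality_apply (c.ι.app M).hom (g i).op T).symm.trans ?_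
  rw [hT i]
  refine Eq.trans ?_ (ht' i)
  rw [← c.w a₀]
  rfl

end Groth.Agent.EtSite.Sect
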