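import Groth.Agent.EtSite.SpecFLC

/-!
# Bijectivity loci in constructible sheaves
-/

set_option autoImplicit false
universe u

open CategoryTheory CategoryTheory.Limits AlgebraicGeometry Opposite Topology TopologicalSpace

namespace Groth.Agent.EtSite.SpecConstr

open LocConst FLCBasic FLCOps Specialize SpecFLC

/-- A constructible set of an affine scheme containing the generizations of a point is a
neighbourhood of it. -/
theorem mem_interior_of_generizations {S : Scheme.{u}} [IsAffine S] {E : Set S}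
    (hE : IsConstructible E) {w : S} (hw : ∀ p, p ⤳ w → p ∈ E) : w ∈ interior E := by
  let e : S ≃ₜ PrimeSpectrum Γ(S, ⊤) := Scheme.homeoOfIso S.isoSpec
  have hc : IsConstructible (e '' E)ᶜ := by
    refine IsConstructible.compl ?_
    rw [Homeomorph.image_eq_preimage_symm]
    exact hE.preimage_of_isOpenEmbedding e.symm.isOpenEmbedding
  obtain ⟨R', _, f, hf⟩ := PrimeSpectrum.exists_range_eq_of_isConstructible hc
  have key : e w ∉ closure (e '' E)ᶜ := fun h => by
    rw [← hf, PrimeSpectrum.closure_range_comap, PrimeSpectrum.mem_zeroLocus] at h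
    obtain ⟨q, hq, hqw⟩ := Ideal.exists_minimalPrimes_le (J := (e w).asIdeal) h
    obtain ⟨p, hp, -, hpq⟩ := Ideal.exists_comap_eq_of_mem_minimalPrimes f (I := ⊥) q hq
    let a : PrimeSpectrum Γ(S, ⊤) := PrimeSpectrum.comap f ⟨p, hp⟩
    have ha : e.symm a ∈ E := hw _ (e.symm_apply_apply w ▸ Specializes.map
      ((PrimeSpectrum.le_iff_specializes a (e w)).1 (hpq.trans_le hqw)) e.symm.continuous)
    exact (hf.le ⟨⟨p, hp⟩, rfl⟩) ⟨_, ha, e.apply_symm_apply a⟩
  have h1 : e w ∈ interior (e '' E) := by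
    rwa [closure_compl, Set.mem_compl_iff, not_not] at key
  rw [← e.image_interior] at h1
  exact e.injective.mem_set_image.1 h1

variable {X : Scheme.{u}}

/-- Points over which a homomorphism to sections is bijective on all germs. -/
def bijSet (G : EtCoh.Ab X) (V : X.Etale) {H : Type (u + 1)} [AddCommGroup H]
    (φ : H →+ EtCoh.sect G V) : Set X :=
  {x | ∀ (Ω : Type u) [Field Ω] [IsSepClosed Ω] (ξ : Spec (CommRingCat.of Ω) ⟶ X),
    ξ default = x → ∀ t : (Scheme.pointSmallEtale ξ).fiber.obj V,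
      Function.Bijective ((gm ξ G V t).comp φ)}

theorem isClopen_bijSet {G : EtCoh.Ab X} (hG : EtCoh.IsFiniteLocallyConstant G) {V : X.Etale}
    {H : Type (u + 1)} [AddCommGroup H] [Finite H] (φ : H →+ EtCoh.sect G V)
    (hne : ∀ (Ω : Type u) [Field Ω] [IsSepClosed Ω] (ξ : Spec (CommRingCat.of Ω) ⟶ X),
      Nonempty ((Scheme.pointSmallEtale ξ).fiber.obj V))
    (hsub : ∀ (Ω : Type u) [Field Ω] [IsSepClosed Ω] (ξ : Spec (CommRingCat.of Ω) ⟶ X),
      Subsingleton ((Scheme.pointSmallEtale ξ).fiber.obj V)) :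
    IsClopen (bijSet G V φ) := by
  have key : ∀ x : X, ∃ O : Set X, IsOpen O ∧ x ∈ O ∧
      (O ⊆ bijSet G V φ ∨ O ⊆ (bijSet G V φ)ᶜ) := by
    intro x
    obtain ⟨U, t, M, _, _, ψ, hψ⟩ := localData_of_isFLC hG _ (gpt x)
    obtain ⟨t₀⟩ := hne _ (gpt x)
    obtain ⟨⟨U₁, t₁⟩, ⟨a, -⟩, ⟨b, -⟩, -⟩ := IsCofilteredOrEmpty.cone_objs
      (C := (Scheme.pointSmallEtale (gpt x)).fiber.Elements) ⟨U, t⟩ ⟨V, t₀⟩
    dsimp only at a b
    obtain ⟨W, w, g, m, -, hm⟩ := exists_hom (𝟙 G) ((G.obj.map b.op).hom.comp φ) (hψ.map a) (gpt x) t₁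
    have : Etale W.hom := W.prop
    refine ⟨Set.range W.hom.base, W.hom.isOpenMap.isOpen_range, ⟨GenericSub.ptOf w,
      (Scheme.Hom.comp_apply _ _ _).symm.trans
      ((congrArg (fun m : Spec (CommRingCat.of (SeparableClosure (X.residueField x))) ⟶ X => m.base _)
        (Over.w w)).trans (gpt_apply x _))⟩, ?_⟩
    have hkey : ∀ {Ω : Type u} [Field Ω] [IsSepClosed Ω] (ξ : Spec (CommRingCat.of Ω) ⟶ X),
        ξ default ∈ Set.range W.hom.base → ∀ t' : (Scheme.pointSmallEtale ξ).fiber.obj V,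
          (Function.Bijective ((gm ξ G V t').comp φ) ↔ Function.Bijective m) := by
      intro Ω _ _ ξ hξ t'
      obtain ⟨y, hy⟩ := hξ
      obtain ⟨s⟩ := nonempty_fiber (ξ := ξ) y hy
      let s₁ := (Scheme.pointSmallEtale ξ).fiber.map g s
      have e : ⇑((gm ξ G V t').comp φ) =
          ⇑((gm ξ G U₁ s₁).comp ((G.obj.map a.op).hom.comp ψ)) ∘ m := funext fun h =>
        ((gm_res G b ((hsub Ω ξ).elim _ t') (φ h)).symm.trans (gm_res G g rfl _).symm).trans
          ((congrArg (gm ξ G W s) (hm h)).trans (gm_res G g rfl _))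
      rw [e]
      exact Function.Bijective.of_comp_iff' (gm_bijective (hψ.map a) ξ s₁) _
    by_cases hb : Function.Bijective m
    · exact Or.inl fun y hy Ω _ _ ξ hξ t' => (hkey ξ (hξ.symm ▸ hy) t').2 hb
    · refine Or.inr fun y hy hL => hb ?_
      have hy' : (gpt y) default = y := gpt_apply y _
      obtain ⟨t'⟩ := hne _ (gpt y)
      exact (hkey (gpt y) (hy'.symm ▸ hy) t').1 (hL _ _ hy' t')
  refine ⟨isOpen_compl_iff.1 (isOpen_iff_forall_mem_open.2 fun x hx => ?_),
    isOpen_iff_forall_mem_open.2 fun x hx => ?_⟩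
  · obtain ⟨O, hO, hxO, h | h⟩ := key x
    · exact (hx (h hxO)).elim
    · exact ⟨O, h, hO, hxO⟩
  · obtain ⟨O, hO, hxO, h | h⟩ := key x
    · exact ⟨O, h, hO, hxO⟩
    · exact (h hxO hx).elim

variable {G : EtCoh.Ab X} {H : Type (u + 1)} [AddCommGroup H] (φ : H →+ EtCoh.sect G (EtCoh.top X))

theorem preimage_bijLocus {T : Scheme.{u}} (g : T ⟶ X) [IsImmersion g] :
    g ⁻¹' bijLocus G φ = bijSet ((EtCoh.pull g).obj G) ((EtCoh.bc g).obj (EtCoh.top X))
      ((((EtCoh.pullPushAdj g).unit.app G).hom.app (op (EtCoh.top X))).hom.comp φ) := by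
  have hiff : ∀ {Ω : Type u} [Field Ω] [IsSepClosed Ω] (ξ : Spec (CommRingCat.of Ω) ⟶ T)
      (t : (Scheme.pointSmallEtale ξ).fiber.obj ((EtCoh.bc g).obj (EtCoh.top X))),
      BijAt G φ (ξ ≫ g) ↔ Function.Bijective ((gm ξ ((EtCoh.pull g).obj G) _ t).comp
        ((((EtCoh.pullPushAdj g).unit.app G).hom.app (op (EtCoh.top X))).hom.comp φ)) := by
    intro Ω _ _ ξ t
    obtain ⟨s, rfl⟩ : ∃ s, bcPt g ξ (EtCoh.top X) s = t := ⟨_, bcPt_unbcPt g ξ _ t⟩
    obtain rfl := topElt_unique s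
    let e := (stalkPullIso g ξ).app G
    have h : (⇑((gm ξ ((EtCoh.pull g).obj G) _ (bcPt g ξ (EtCoh.top X) (topElt (ξ ≫ g)))).comp
        ((((EtCoh.pullPushAdj g).unit.app G).hom.app (op (EtCoh.top X))).hom.comp φ))) =
        e.hom ∘ ⇑((gm (ξ ≫ g) G (EtCoh.top X) (topElt (ξ ≫ g))).comp φ) := funext fun m =>
      (ConcreteCategory.congr_hom (toPresheafFiber_stalkPullIso_hom g ξ G (EtCoh.top X)
        (topElt (ξ ≫ g))) (φ m)).symm
    exact ((iff_of_eq (congrArg Function.Bijective h)).trans (Function.Bijective.of_comp_iff'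
      ((ConcreteCategory.isIso_iff_bijective e.hom).1 inferInstance) _)).symm
  ext x
  constructor
  · intro h Ω _ _ ξ hξ t
    exact (hiff ξ t).1 (h Ω (ξ ≫ g) ((Scheme.Hom.comp_apply _ _ _).trans (congrArg g hξ)))
  · intro h Ω _ _ ξ hξ
    obtain ⟨ξ', rfl⟩ := StrataACC.exists_lift_immersion g ξ ⟨x, hξ.symm⟩
    have e : ξ' default = x :=
      g.isEmbedding.injective ((Scheme.Hom.comp_apply _ _ _).symm.trans hξ)
    exact (hiff ξ' (bcPt g ξ' _ (topElt (ξ' ≫ g)))).2 (h Ω ξ' e _)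

theorem isConstructible_bijLocus [CompactSpace X] [QuasiSeparatedSpace X] [Finite H]
    (hG : EtPBC.IsConstructible G) : IsConstructible (bijLocus G φ) := by
  obtain ⟨n, T, g, hg, hc, -, hu, hFg⟩ := (StrataLocal.isConstructible_iff_adapted_univ G).1 hG
  have e : bijLocus G φ = ⋃ i, g i '' (g i ⁻¹' bijLocus G φ) := by
    simp_rw [Set.image_preimage_eq_inter_range]
    rw [← Set.inter_iUnion, hu, Set.inter_univ]
  rw [e]
  refine IsConstructible.iUnion fun i => ?_
  rw [preimage_bijLocus]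
  have hr : IsConstructible (Set.range (g i)) := by
    have := (hc i).image_of_isOpenEmbedding isOpen_univ.isOpenEmbedding_subtypeVal
      (by rw [Subtype.range_coe]; exact fun _ hc' _ => by rwa [Set.univ_inter])
    rwa [Subtype.image_preimage_coe, Set.univ_inter] at this
  have : CompactSpace (T i) := ⟨((g i).isEmbedding.isInducing.isCompact_iff).2 (by
    rw [Set.image_univ]
    simpa using ConstrBasics.isRetrocompact_of_isConstructible hr isCompact_univ isOpen_univ)⟩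
  have : QuasiSeparatedSpace (T i) := quasiSeparatedSpace_of_quasiSeparated (g i)
  have hL := isClopen_bijSet (hFg i)
    ((((EtCoh.pullPushAdj (g i)).unit.app G).hom.app (op (EtCoh.top X))).hom.comp φ)
    (fun Ω _ _ ξ => ⟨bcPt (g i) ξ _ (topElt (ξ ≫ g i))⟩)
    (fun Ω _ _ ξ => ⟨fun a b => (bcPt_unbcPt (g i) ξ _ a).symm.trans ((congrArg _
      ((topElt_unique _).trans (topElt_unique _).symm)).trans (bcPt_unbcPt (g i) ξ _ b))⟩)
  exact StrataImmersion.image_isConstructible (g i).isEmbedding hr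
    ((hL.1.isCompact.isRetrocompact hL.2).isConstructible hL.2)

theorem finite_stalk {F : EtCoh.Ab X} (hF : EtPBC.IsConstructible F) {Ω : Type u} [Field Ω]
    [IsSepClosed Ω] (ξ : Spec (CommRingCat.of Ω) ⟶ X) : Finite ((EtCoh.stalk ξ).obj F) := by
  obtain ⟨U, hU, hxU, -⟩ := exists_isAffineOpen_mem_and_subset (x := ξ default) (U := ⊤) trivial
  obtain ⟨n, T, g, hg, -, -, hu, hFg⟩ := hF U hU
  obtain ⟨i, hi⟩ := Set.mem_iUnion.1 (hu.ge hxU)
  obtain ⟨ξ', rfl⟩ := StrataACC.exists_lift_immersion (g i) ξ hi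
  obtain ⟨W, t, M, _, _, φ, hφ⟩ := localData_of_isFLC (hFg i) Ω ξ'
  have : Finite ((EtCoh.stalk ξ').obj ((EtCoh.pull (g i)).obj F)) :=
    Finite.of_surjective _ (gm_bijective hφ ξ' t).2
  exact @Finite.of_injective _ _ this ((stalkPullIso (g i) ξ').app F).hom
    ((ConcreteCategory.isIso_iff_bijective _).1 inferInstance).1

theorem pointHom_mem {Ω Ω' : Type u} [Field Ω] [IsSepClosed Ω] [Field Ω'] [IsSepClosed Ω']
    {ξ : Spec (CommRingCat.of Ω) ⟶ X} {ξ' : Spec (CommRingCat.of Ω') ⟶ X}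
    (φ : Scheme.pointSmallEtale ξ' ⟶ Scheme.pointSmallEtale ξ) {W : X.Etale}
    (t : (Scheme.pointSmallEtale ξ).fiber.obj W) :
    GenericSub.ptOf (φ.hom.app W t) ⤳ GenericSub.ptOf t := by
  rw [specializes_iff_forall_open]
  intro O hO ht
  let tl : Spec (CommRingCat.of Ω) ⟶ W.left := t.left
  let O' : W.left.Opens := ⟨O, hO⟩
  have hr : Set.range tl ⊆ Set.range O'.ι := by
    rintro _ ⟨p, rfl⟩
    rw [Scheme.Opens.range_ι, Subsingleton.elim p default]
    exact ht
  let l0 : Spec (CommRingCat.of Ω) ⟶ O'.toScheme := IsOpenImmersion.lift O'.ι tl hr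
  have hl0 : l0 ≫ O'.ι = tl := IsOpenImmersion.lift_fac _ _ _
  let w : (Scheme.pointSmallEtale ξ).fiber.obj (AllPoints.res W O') := Over.homMk l0
    ((Category.assoc l0 O'.ι W.hom).symm.trans ((congrArg (· ≫ W.hom) hl0).trans (Over.w t)))
  have e : (Scheme.pointSmallEtale ξ).fiber.map (AllPoints.resι W O') w = t :=
    Over.OverMorphism.ext hl0
  have e2 : φ.hom.app W t =
      (Scheme.pointSmallEtale ξ').fiber.map (AllPoints.resι W O') (φ.hom.app _ w) :=
    (congrArg (φ.hom.app W) e.symm).trans (ConcreteCategory.congr_hom (φ.hom.naturality _) w)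
  rw [e2]
  exact (AllPoints.range_resι W O').le ⟨GenericSub.ptOf (φ.hom.app _ w),
    (Scheme.Hom.comp_apply _ _ _).symm⟩

theorem near_iff {F : EtCoh.Ab X} (hF : EtPBC.IsConstructible F) (x : X) {Ω : Type u} [Field Ω]
    [IsSepClosed Ω] (ξ : Spec (CommRingCat.of Ω) ⟶ X) (hξ : ξ default = x) :
    (∃ U : X.Opens, x ∈ U ∧ EtCoh.IsFiniteLocallyConstant ((EtCoh.pull U.ι).obj F)) ↔
      ∀ (Ω' : Type u) [Field Ω'] [IsSepClosed Ω'] (ξ' : Spec (CommRingCat.of Ω') ⟶ X)
        (φ : Scheme.pointSmallEtale ξ' ⟶ Scheme.pointSmallEtale ξ),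
        Function.Bijective (spMap φ F) := by
  have := finite_stalk hF ξ
  constructor
  · rintro ⟨U, hxU, hU⟩ Ω' _ _ ξ' φ
    obtain ⟨W, _, s, φ₀, hs, hb⟩ := exists_candidate F ξ
    let O : W.left.Opens := W.hom ⁻¹ᵁ U
    have hr : Set.range s ⊆ Set.range O.ι := by
      rintro _ ⟨p, rfl⟩
      rw [Scheme.Opens.range_ι, Subsingleton.elim p default]
      change W.hom (s default) ∈ U
      rw [← Scheme.Hom.comp_apply, hs, hξ]
      exact hxU
    let l0 : Spec (CommRingCat.of Ω) ⟶ O.toScheme := IsOpenImmersion.lift O.ι s hr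
    have hl0 : l0 ≫ O.ι = s := IsOpenImmersion.lift_fac _ _ _
    let W' := AllPoints.res W O
    let l : Spec (CommRingCat.of Ω) ⟶ W'.left := l0
    have hw : l ≫ W'.hom = ξ :=
      (Category.assoc l0 O.ι W.hom).symm.trans ((congrArg (· ≫ W.hom) hl0).trans hs)
    let t : (Scheme.pointSmallEtale ξ).fiber.obj W' := Over.homMk l hw
    let H := ((EtCoh.stalk ξ).obj F : AddCommGrpCat.{u + 1})
    let φ₁ : H →+ EtCoh.sect F W' := (F.obj.map (AllPoints.resι W O).op).hom.comp φ₀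
    have hb1 : Function.Bijective ((gm ξ F W' t).comp φ₁) :=
      Eq.subst (motive := Function.Bijective) (funext fun m =>
        (gm_res F (AllPoints.resι W O) (ξ := ξ) (w := t) (t := Over.homMk s hs)
          (Over.OverMorphism.ext hl0) (φ₀ m)).symm) ((bijAt_toW_iff' F W φ₀ s hs).1 hb)
    have hG : EtCoh.IsFiniteLocallyConstant ((EtCoh.pull W'.hom).obj F) :=
      Strata.isFLC_pull_of_eq_comp (W.hom.resLE U O le_rfl) U.ι W'.hom
        (Scheme.Hom.resLE_comp_ι W.hom le_rfl).symm hU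
    let t' := φ.hom.app W' t
    let l' : Spec (CommRingCat.of Ω') ⟶ W'.left := t'.left
    obtain ⟨ψ⟩ := nonempty_pointHom (ξ := l) l' (pointHom_mem φ t)
    obtain ⟨V, v, M, _, _, χ, hχ⟩ := localData_of_isFLC hG Ω l
    have h1 := (bijAt_iff _ (toW F W' φ₁) ψ (spMap_bijective_of_germBij hχ v ψ)).1
      ((bijAt_toW_iff' F W' φ₁ l hw).2 hb1)
    have h2 := (bijAt_toW_iff' F W' φ₁ l' (Over.w t')).1 h1
    have e : (spMap φ F) ∘ ⇑((gm ξ F W' t).comp φ₁) = ⇑((gm ξ' F W' t').comp φ₁) :=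
      funext fun m => sheafFiber_germ φ F W' t (φ₁ m)
    exact (Function.Bijective.of_comp_iff _ hb1).1 (e ▸ h2)
  · intro h
    obtain ⟨W, hA, s, φ₀, hs, hb⟩ := exists_candidate F ξ
    have : IsAffine ((𝟭 Scheme).obj W.left) := hA
    have : CompactSpace ((𝟭 Scheme).obj W.left) := @isCompact_univ_iff _ _ |>.1 (isAffineOpen_top W.left).isCompact
    have : QuasiSeparatedSpace ((𝟭 Scheme).obj W.left) := @quasiSeparatedSpace_of_isAffine W.left hA
    subst hs
    let G := (EtCoh.pull W.hom).obj F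
    have hw : s default ∈ interior (bijLocus G (toW F W φ₀)) :=
      mem_interior_of_generizations
        (isConstructible_bijLocus (toW F W φ₀) (StrataLocal.isConstructible_pull W.hom hF))
        fun p hp Ω' _ _ s' hs' => by
          obtain ⟨ψ⟩ := nonempty_pointHom (ξ := s) s' (hs'.symm ▸ hp)
          exact (bijAt_iff G _ ψ (sheafFiber_pull_bijective W.hom F ψ (h _ _ _))).1 hb
    let E : W.left.Opens := ⟨interior (bijLocus G (toW F W φ₀)), isOpen_interior⟩
    let W' := AllPoints.res W E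
    have : Etale W'.hom := W'.prop
    refine ⟨⟨Set.range W'.hom.base, W'.hom.isOpenMap.isOpen_range⟩,
      ⟨(⟨s default, hw⟩ : E.toScheme), ?_⟩,
      GenericSub.isFLC_on_image (germBij_of_subset E interior_subset) _ (by rfl)⟩
    rw [← hξ, Scheme.Hom.comp_apply]
    rfl

end Groth.Agent.EtSite.SpecConstr
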