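import Groth.Agent.EtSite.FLCOps
import Mathlib.CategoryTheory.ObjectProperty.Extensions

/-!
# Finite locally constant sheaves form a weak Serre subcategory
-/

set_option autoImplicit false
universe u

open CategoryTheory CategoryTheory.Limits AlgebraicGeometry Opposite

namespace Groth.Agent.EtSite.FLCAb

open FLCBasic FLCOps

variable {X : Scheme.{u}}

theorem stalk_exact {S : ShortComplex (EtCoh.Ab X)} (hS : S.Exact) (Ω : Type u) [Field Ω]
    [IsSepClosed Ω] (ξ : Spec (CommRingCat.of Ω) ⟶ X) :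
    Function.Exact ((EtCoh.stalk ξ).map S.f).hom ((EtCoh.stalk ξ).map S.g).hom :=
  (ShortComplex.ab_exact_iff_function_exact _).1 ((exact_iff_stalks S).1 hS Ω ξ)

theorem stalk_injective {F G : EtCoh.Ab X} (a : F ⟶ G) [Mono a] (Ω : Type u) [Field Ω]
    [IsSepClosed Ω] (ξ : Spec (CommRingCat.of Ω) ⟶ X) :
    Function.Injective ((EtCoh.stalk ξ).map a).hom :=
  (mono_iff_stalks a).1 inferInstance Ω ξ

theorem stalk_surjective {F G : EtCoh.Ab X} (a : F ⟶ G) [Epi a] (Ω : Type u) [Field Ω]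
    [IsSepClosed Ω] (ξ : Spec (CommRingCat.of Ω) ⟶ X) :
    Function.Surjective ((EtCoh.stalk ξ).map a).hom :=
  (epi_iff_stalks a).1 inferInstance Ω ξ

theorem isFLC_kernel {F G : EtCoh.Ab X} (φ : F ⟶ G) (hF : EtCoh.IsFiniteLocallyConstant F)
    (hG : EtCoh.IsFiniteLocallyConstant G) : EtCoh.IsFiniteLocallyConstant (kernel φ) :=
  isFLC_of_localData (localData_kernel (kernel.ι φ) φ (fun Ω _ _ ξ => stalk_injective _ Ω ξ)
    (fun Ω _ _ ξ => stalk_exact (S := ShortComplex.mk (kernel.ι φ) φ (kernel.condition φ))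
      (ShortComplex.exact_of_f_is_kernel _ (kernelIsKernel φ)) Ω ξ)
    (localData_of_isFLC hF) (localData_of_isFLC hG))

theorem isFLC_cokernel {F G : EtCoh.Ab X} (φ : F ⟶ G) (hF : EtCoh.IsFiniteLocallyConstant F)
    (hG : EtCoh.IsFiniteLocallyConstant G) : EtCoh.IsFiniteLocallyConstant (cokernel φ) :=
  isFLC_of_localData (localData_cokernel φ (cokernel.π φ) (cokernel.condition φ)
    (fun Ω _ _ ξ => stalk_surjective _ Ω ξ)
    (fun Ω _ _ ξ => stalk_exact (S := ShortComplex.mk φ (cokernel.π φ) (cokernel.condition φ))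
      (ShortComplex.exact_of_g_is_cokernel _ (cokernelIsCokernel φ)) Ω ξ)
    (localData_of_isFLC hF) (localData_of_isFLC hG))

theorem isFLC_of_shortExact {S : ShortComplex (EtCoh.Ab X)} (hS : S.ShortExact)
    (h₁ : EtCoh.IsFiniteLocallyConstant S.X₁) (h₃ : EtCoh.IsFiniteLocallyConstant S.X₃) :
    EtCoh.IsFiniteLocallyConstant S.X₂ :=
  have := hS.mono_f
  have := hS.epi_g
  isFLC_of_localData (localData_extension S.f S.g (fun Ω _ _ ξ => stalk_injective _ Ω ξ)
    (fun Ω _ _ ξ => stalk_surjective _ Ω ξ) (fun Ω _ _ ξ => stalk_exact hS.exact Ω ξ)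
    (localData_of_isFLC h₁) (localData_of_isFLC h₃))

end Groth.Agent.EtSite.FLCAb
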