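import Groth.Agent.EtSite.StrataLocal
import Groth.Agent.EtSite.FLCAb

/-!
# Kernels, cokernels and extensions of constructible sheaves
-/

set_option autoImplicit false
universe u

open CategoryTheory CategoryTheory.Limits AlgebraicGeometry Opposite Topology

namespace Groth.Agent.EtSite.StrataAb

open FLCBasic Strata StrataLocal

variable {X : Scheme.{u}}

theorem isConstructible_of_two {F G K : EtCoh.Ab X} (hF : EtPBC.IsConstructible F)
    (hG : EtPBC.IsConstructible G)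
    (hK : ∀ (T : Scheme.{u}) (g : T ⟶ X),
      EtCoh.IsFiniteLocallyConstant ((EtCoh.pull g).obj F) →
      EtCoh.IsFiniteLocallyConstant ((EtCoh.pull g).obj G) →
      EtCoh.IsFiniteLocallyConstant ((EtCoh.pull g).obj K)) :
    EtPBC.IsConstructible K := by
  intro V hV
  obtain ⟨n, Z, hc, hZ, hu⟩ := exists_cover_of_adapted (hF V hV)
  obtain ⟨m, Z', hc', hZ', hu'⟩ := exists_cover_of_adapted (hG V hV)
  refine adapted_of_cover (ι := Fin n × Fin m) V.2 (fun p => Z p.1 ∩ Z' p.2)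
    (fun p => by rw [Set.preimage_inter]; exact (hc p.1).inter (hc' p.2)) (fun p => ?_) fun x hx => ?_
  · refine FLCOn.mono (Z := Z p.1 ∩ Z' p.2) ?_ Set.inter_subset_right
    obtain ⟨T₁, g₁, h₁, r₁, e₁⟩ := hZ p.1
    obtain ⟨T₂, g₂, h₂, r₂, e₂⟩ := hZ' p.2
    refine ⟨pullback g₁ g₂, pullback.fst g₁ g₂ ≫ g₁, inferInstance, ?_, hK _ _
      (isFLC_pull_of_eq_comp _ g₁ _ rfl e₁)
      (isFLC_pull_of_eq_comp (pullback.snd g₁ g₂) g₂ _ pullback.condition e₂)⟩
    rw [Scheme.Hom.comp_base, TopCat.coe_comp, Set.range_comp, Scheme.Pullback.range_fst,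
      Set.image_preimage_eq_range_inter]
    exact Set.inter_subset_inter r₁ r₂
  · obtain ⟨i, hi⟩ := Set.mem_iUnion.1 (hu.ge hx)
    obtain ⟨j, hj⟩ := Set.mem_iUnion.1 (hu'.ge hx)
    exact Set.mem_iUnion.2 ⟨(i, j), hi, hj⟩

theorem isConstructible_kernel {F G : EtCoh.Ab X} (φ : F ⟶ G) (hF : EtPBC.IsConstructible F)
    (hG : EtPBC.IsConstructible G) : EtPBC.IsConstructible (kernel φ) :=
  isConstructible_of_two hF hG fun _ g h₁ h₂ =>
    isFLC_of_iso (PreservesKernel.iso (EtCoh.pull g) φ).symm (FLCAb.isFLC_kernel _ h₁ h₂)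

theorem isConstructible_cokernel {F G : EtCoh.Ab X} (φ : F ⟶ G) (hF : EtPBC.IsConstructible F)
    (hG : EtPBC.IsConstructible G) : EtPBC.IsConstructible (cokernel φ) :=
  isConstructible_of_two hF hG fun _ g h₁ h₂ =>
    isFLC_of_iso (PreservesCokernel.iso (EtCoh.pull g) φ).symm (FLCAb.isFLC_cokernel _ h₁ h₂)

theorem isConstructible_of_shortExact {S : ShortComplex (EtCoh.Ab X)} (hS : S.ShortExact)
    (h₁ : EtPBC.IsConstructible S.X₁) (h₃ : EtPBC.IsConstructible S.X₃) :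
    EtPBC.IsConstructible S.X₂ :=
  isConstructible_of_two h₁ h₃ fun _ g e₁ e₃ =>
    FLCAb.isFLC_of_shortExact (hS.map_of_exact (EtCoh.pull g)) e₁ e₃

end Groth.Agent.EtSite.StrataAb
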