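import Groth.Agent.EtSite.StrataNoeth
import Groth.Agent.Weighting.Geom
import Mathlib.CategoryTheory.Subobject.Basic
import Mathlib.Order.OrderIsoNat
import Mathlib.Algebra.Group.Subgroup.Finite

/-!
# The ascending chain condition for constructible sheaves on a noetherian scheme
-/

set_option autoImplicit false
universe u

open CategoryTheory CategoryTheory.Limits AlgebraicGeometry Opposite Topology TopologicalSpace

namespace Groth.Agent.EtSite.StrataACC

open LocConst FLCBasic FLCOps GenericSub Strata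

variable {X : Scheme.{u}}

/-- A geometric point in the range of an immersion factors through it. -/
theorem exists_lift_immersion {T : Scheme.{u}} (g : T ⟶ X) [IsImmersion g] {Ω : Type u} [Field Ω]
    (ξ : Spec (CommRingCat.of Ω) ⟶ X) (h : ξ default ∈ Set.range g) :
    ∃ ξ' : Spec (CommRingCat.of Ω) ⟶ T, ξ' ≫ g = ξ := by
  have hr : Set.range (pullback.snd g ξ) = Set.univ := by
    rw [Scheme.Pullback.range_snd]
    exact Set.eq_univ_of_forall fun p => by rw [Subsingleton.elim p default]; exact h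
  have : IsClosedImmersion (pullback.snd g ξ) :=
    IsClosedImmersion.of_isPreimmersion _ (by rw [hr]; exact isClosed_univ)
  have : Surjective (pullback.snd g ξ) := ⟨Set.range_eq_univ.1 hr⟩
  have := isIso_of_isClosedImmersion_of_surjective (pullback.snd g ξ)
  exact ⟨inv (pullback.snd g ξ) ≫ pullback.fst g ξ, by
    rw [Category.assoc, pullback.condition, IsIso.inv_hom_id_assoc]⟩

theorem surjective_stalk_of_pull {T : Scheme.{u}} (g : T ⟶ X) {F G : EtCoh.Ab X} (a : F ⟶ G)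
    {Ω : Type u} [Field Ω] [IsSepClosed Ω] (ξ : Spec (CommRingCat.of Ω) ⟶ T)
    (h : Function.Surjective ((EtCoh.stalk ξ).map ((EtCoh.pull g).map a)).hom) :
    Function.Surjective ((EtCoh.stalk (ξ ≫ g)).map a).hom := by
  intro q
  obtain ⟨p, hp⟩ := h ((stalkPullIso g ξ).hom.app G q)
  refine ⟨(stalkPullIso g ξ).inv.app F p, ?_⟩
  refine (ConcreteCategory.congr_hom ((stalkPullIso g ξ).inv.naturality a) p).symm.trans ?_
  refine (ConcreteCategory.comp_apply _ _ _).trans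
    ((congrArg ((stalkPullIso g ξ).inv.app G).hom hp).trans ?_)
  exact ConcreteCategory.congr_hom ((stalkPullIso g ξ).hom_inv_id_app G) q

/-- Near a generic point, a chain of subsheaves of a finite locally constant sheaf is stable. -/
theorem exists_stable {T : Scheme.{u}} (τ : T) (hτ : ∀ O : T.Opens, (O : Set T).Nonempty → τ ∈ O)
    {F : EtCoh.Ab T} (hF : EtCoh.IsFiniteLocallyConstant F) (G : ℕ → EtCoh.Ab T)
    (ι : ∀ n, G n ⟶ F) [∀ n, Mono (ι n)] (a : ∀ ⦃n m⦄, n ≤ m → (G n ⟶ G m))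
    (ha : ∀ ⦃n m⦄ (h : n ≤ m), a h ≫ ι m = ι n) :
    ∃ (N : ℕ) (O : T.Opens), τ ∈ O ∧ ∀ (Ω : Type u) [Field Ω] [IsSepClosed Ω]
      (ξ : Spec (CommRingCat.of Ω) ⟶ T), ξ default ∈ O → ∀ ⦃m⦄ (h : N ≤ m),
        Function.Surjective ((EtCoh.stalk ξ).map (a h)).hom := by
  obtain ⟨W, w₀, M, _, _, φ, t₀, hφ, hgen, -, ht₀⟩ := exists_generic_data τ hτ hF
  let R : ℕ → AddSubgroup ((EtCoh.stalk (gpt τ)).obj F : AddCommGrpCat.{u + 1}) := fun n =>
    ((EtCoh.stalk (gpt τ)).map (ι n)).hom.range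
  let H : ℕ →o AddSubgroup M :=
    { toFun := fun n => AddSubgroup.comap ((gm (gpt τ) F W t₀).comp φ) (R n)
      monotone' := fun n m h => by
        refine AddSubgroup.comap_mono ?_
        rintro _ ⟨p, rfl⟩
        refine ⟨((EtCoh.stalk (gpt τ)).map (a h)).hom p, ?_⟩
        rw [← ha h, Functor.map_comp]
        rfl }
  obtain ⟨N, hN⟩ := WellFoundedGT.monotone_chain_condition H
  obtain ⟨W', t', g, κ, -, hκ⟩ := exists_subgroup (ι N) w₀ hgen hφ t₀ ht₀
  have : Etale W'.hom := W'.prop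
  refine ⟨N, ⟨Set.range W'.hom.base, W'.hom.isOpenMap.isOpen_range⟩, ⟨ptOf t',
    (Scheme.Hom.comp_apply _ _ _).symm.trans
    ((congrArg (fun m : Spec (CommRingCat.of (SeparableClosure (T.residueField τ))) ⟶ T => m.base _)
      (Over.w t')).trans (gpt_apply τ _))⟩, fun Ω _ _ ξ hξ m hm q => ?_⟩
  obtain ⟨y, hy⟩ := hξ
  obtain ⟨s⟩ := nonempty_fiber (ξ := ξ) y hy
  let s₀ := (Scheme.pointSmallEtale ξ).fiber.map g s
  let e := AddEquiv.ofBijective _ (gm_bijective hκ ξ s)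
  let φs := (gm ξ F W s₀).comp φ
  have hφs : Function.Bijective φs := gm_bijective hφ ξ s₀
  let r := ((EtCoh.stalk ξ).map (ι N)).hom
  have hr : Function.Injective r := FLCAb.stalk_injective (ι N) Ω ξ
  have hsub : Set.range r ⊆ φs '' (H N : Set M) := by
    rintro _ ⟨p, rfl⟩
    obtain ⟨x, hx⟩ := hφs.2 (r p)
    exact ⟨x, mem_range_of_generic (ι N) w₀ hgen φ t₀ ht₀ s₀ x ⟨p, hx.symm⟩, hx⟩
  have heq : Set.range r = φs '' (H N : Set M) := by
    refine Set.eq_of_subset_of_ncard_le hsub ?_ (Set.toFinite _)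
    rw [Set.ncard_image_of_injective _ hφs.1, Set.ncard_range_of_injective hr]
    exact ((Nat.card_coe_set_eq _).symm.trans (Nat.card_congr e.toEquiv)).le
  obtain ⟨x, hx⟩ := hφs.2 (((EtCoh.stalk ξ).map (ι m)).hom q)
  have hxm : x ∈ H m := mem_range_of_generic (ι m) w₀ hgen φ t₀ ht₀ s₀ x ⟨q, hx.symm⟩
  obtain ⟨p, hp⟩ := heq.ge ⟨x, (hN m hm).symm ▸ hxm, hx⟩
  refine ⟨p, FLCAb.stalk_injective (ι m) Ω ξ ?_⟩
  refine Eq.trans ?_ hp
  change (((EtCoh.stalk ξ).map (a hm)) ≫ (EtCoh.stalk ξ).map (ι m)) p = r p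
  rw [← Functor.map_comp, ha hm]

theorem eventually_const [IsNoetherian X] {F : EtCoh.Ab X} (hF : EtPBC.IsConstructible F)
    (c : ℕ →o Subobject F) : ∃ N, ∀ m, N ≤ m → c m = c N := by
  let a : ∀ ⦃n m⦄, n ≤ m → ((c n : EtCoh.Ab X) ⟶ (c m : EtCoh.Ab X)) := fun n m h =>
    Subobject.ofLE _ _ (c.monotone h)
  have hcov := StrataNoeth.exists_finite_cover (S := X) (fun Z => ∃ N, ∀ (Ω : Type u) [Field Ω]
    [IsSepClosed Ω] (ξ : Spec (CommRingCat.of Ω) ⟶ X), ξ default ∈ Z → ∀ ⦃m⦄ (h : N ≤ m),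
      Function.Surjective ((EtCoh.stalk ξ).map (a h)).hom) fun x => by
    obtain ⟨V, T, g, hg, hxV, hr, hFg⟩ := StrataNoeth.exists_piece hF x
    obtain ⟨τ, hτx⟩ : x ∈ Set.range g := hr.ge ⟨hxV, subset_closure rfl⟩
    have hτ : ∀ O : T.Opens, (O : Set T).Nonempty → τ ∈ O := fun O ⟨y, hy⟩ => by
      obtain ⟨O', hO', e⟩ := g.isEmbedding.isInducing.isOpen_iff.1 O.2
      obtain ⟨z, hz, rfl⟩ := mem_closure_iff.1 (hr.le ⟨y, rfl⟩).2 O' hO' (e.ge hy)
      exact e.le (show g τ ∈ O' from hτx ▸ hz)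
    have hm : ∀ n, Mono ((EtCoh.pull g).map (c n).arrow) := fun n => pull_mono g _
    obtain ⟨N, O, hτO, hO⟩ := exists_stable τ hτ hFg (fun n => (EtCoh.pull g).obj (c n : EtCoh.Ab X))
      (fun n => (EtCoh.pull g).map (c n).arrow) (fun n m h => (EtCoh.pull g).map (a h))
      (fun n m h => by rw [← Functor.map_comp, Subobject.ofLE_arrow])
    obtain ⟨O', hO', e⟩ := g.isEmbedding.isInducing.isOpen_iff.1 O.2
    refine ⟨V ∩ O', V.2.inter hO', ⟨hxV, show x ∈ O' from hτx ▸ e.ge hτO⟩, N,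
      fun Ω _ _ ξ ⟨⟨hξV, hξO⟩, hξc⟩ m h => ?_⟩
    obtain ⟨ξ', rfl⟩ := exists_lift_immersion g ξ (hr.ge ⟨hξV, hξc⟩)
    exact surjective_stalk_of_pull g (a h) ξ'
      (hO Ω ξ' (e.le (show g (ξ' default) ∈ O' from hξO)) h)
  obtain ⟨ι, _, Z, -, hZ, hu⟩ := hcov
  choose N hN using hZ
  cases nonempty_fintype ι
  refine ⟨Finset.univ.sup N, fun m hm => le_antisymm ?_ (c.monotone hm)⟩
  have : Epi (a hm) := epi_of_stalks _ fun Ω _ _ ξ q => by
    obtain ⟨i, hi⟩ := Set.mem_iUnion.1 (hu.ge (Set.mem_univ (ξ default)))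
    have h1 : N i ≤ Finset.univ.sup N := Finset.le_sup (f := N) (Finset.mem_univ i)
    obtain ⟨p, hp⟩ := hN i Ω ξ hi (h1.trans hm) q
    refine ⟨((EtCoh.stalk ξ).map (a h1)).hom p, Eq.trans ?_ hp⟩
    change ((EtCoh.stalk ξ).map (a h1) ≫ (EtCoh.stalk ξ).map (a hm)) p =
      ((EtCoh.stalk ξ).map (a (h1.trans hm))) p
    rw [← Functor.map_comp, Subobject.ofLE_comp_ofLE]
  have : IsIso (a hm) := isIso_of_mono_of_epi _
  exact Subobject.le_of_comm (inv (a hm)) (by rw [IsIso.inv_comp_eq, Subobject.ofLE_arrow])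

end Groth.Agent.EtSite.StrataACC
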