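import Groth.Agent.EtSite.StrataImmersion
import Groth.Agent.EtSite.StrataACC

/-!
# Loci cut out by a property of the geometric stalks
-/

set_option autoImplicit false
universe u

open CategoryTheory CategoryTheory.Limits AlgebraicGeometry Opposite Topology TopologicalSpace

namespace Groth.Agent.EtSite.StrataLocus

open LocConst FLCBasic FLCOps Strata StrataLocal

variable {X : Scheme.{u}}

theorem range_eq_singleton_iff {Ω : Type u} [Field Ω] (ξ : Spec (CommRingCat.of Ω) ⟶ X) (x : X) :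
    Set.range ξ = {x} ↔ ξ default = x := by
  constructor
  · exact fun h => h.le ⟨default, rfl⟩
  · intro h
    refine Set.eq_singleton_iff_unique_mem.2 ⟨⟨default, h⟩, ?_⟩
    rintro _ ⟨p, rfl⟩
    rw [Subsingleton.elim p default, h]

/-- The points over which every geometric stalk satisfies `P`. -/
def locus (P : AddCommGrpCat.{u + 1} → Prop) (F : EtCoh.Ab X) : Set X :=
  {x | ∀ (Ω : Type u) [Field Ω] [IsSepClosed Ω] (ξ : Spec (CommRingCat.of Ω) ⟶ X),
    ξ default = x → P ((EtCoh.stalk ξ).obj F)}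

theorem stalk_iso_of_germBij {F : EtCoh.Ab X} {W : X.Etale} {M : Type (u + 1)} [AddCommGroup M]
    {φ : M →+ EtCoh.sect F W} (hφ : GermBij F W φ) {Ω : Type u} [Field Ω] [IsSepClosed Ω]
    (ξ : Spec (CommRingCat.of Ω) ⟶ X) (h : ξ default ∈ Set.range W.hom.base) :
    Nonempty (AddCommGrpCat.of M ≅ (EtCoh.stalk ξ).obj F) := by
  obtain ⟨y, hy⟩ := h
  obtain ⟨s⟩ := nonempty_fiber (ξ := ξ) y hy
  exact ⟨AddEquiv.toAddCommGrpIso (AddEquiv.ofBijective _ (gm_bijective hφ ξ s))⟩

variable {P : AddCommGrpCat.{u + 1} → Prop}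
  (hP : ∀ {A B : AddCommGrpCat.{u + 1}}, (A ≅ B) → P A → P B)

include hP

theorem isClopen_locus {F : EtCoh.Ab X} (hF : EtCoh.IsFiniteLocallyConstant F) :
    IsClopen (locus P F) := by
  have key : ∀ x : X, ∃ O : Set X, IsOpen O ∧ x ∈ O ∧ (O ⊆ locus P F ∨ O ⊆ (locus P F)ᶜ) := by
    intro x
    obtain ⟨W, t, M, _, _, φ, hφ⟩ := localData_of_isFLC hF _ (gpt x)
    have : Etale W.hom := W.prop
    refine ⟨Set.range W.hom.base, W.hom.isOpenMap.isOpen_range, ⟨GenericSub.ptOf t,
      (Scheme.Hom.comp_apply _ _ _).symm.trans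
      ((congrArg (fun m : Spec (CommRingCat.of (SeparableClosure (X.residueField x))) ⟶ X => m.base _)
        (Over.w t)).trans (gpt_apply x _))⟩, ?_⟩
    by_cases hM : P (AddCommGrpCat.of M)
    · exact Or.inl fun y hy Ω _ _ ξ hξ => hP (stalk_iso_of_germBij hφ ξ (hξ ▸ hy)).some hM
    · refine Or.inr fun y hy hL => hM ?_
      have hy' : (gpt y) default = y := gpt_apply y _
      exact hP (stalk_iso_of_germBij hφ (gpt y) (hy'.symm ▸ hy)).some.symm (hL _ _ hy')
  refine ⟨isOpen_compl_iff.1 (isOpen_iff_forall_mem_open.2 fun x hx => ?_),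
    isOpen_iff_forall_mem_open.2 fun x hx => ?_⟩
  · obtain ⟨O, hO, hxO, h | h⟩ := key x
    · exact (hx (h hxO)).elim
    · exact ⟨O, h, hO, hxO⟩
  · obtain ⟨O, hO, hxO, h | h⟩ := key x
    · exact ⟨O, h, hO, hxO⟩
    · exact (h hxO hx).elim

theorem preimage_locus {T : Scheme.{u}} (g : T ⟶ X) [IsImmersion g] (F : EtCoh.Ab X) :
    g ⁻¹' locus P F = locus P ((EtCoh.pull g).obj F) := by
  ext t
  constructor
  · intro h Ω _ _ ξ hξ
    exact hP ((stalkPullIso g ξ).app F) (h Ω (ξ ≫ g)
      ((Scheme.Hom.comp_apply _ _ _).trans (congrArg g hξ)))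
  · intro h Ω _ _ ξ hξ
    obtain ⟨ξ', rfl⟩ := StrataACC.exists_lift_immersion g ξ ⟨t, hξ.symm⟩
    have e : ξ' default = t :=
      g.isEmbedding.injective ((Scheme.Hom.comp_apply _ _ _).symm.trans hξ)
    exact hP ((stalkPullIso g ξ').app F).symm (h Ω ξ' e)

theorem isConstructible_locus [CompactSpace X] [QuasiSeparatedSpace X] {F : EtCoh.Ab X}
    (hF : EtPBC.IsConstructible F) : IsConstructible (locus P F) := by
  obtain ⟨n, T, g, hg, hc, -, hu, hFg⟩ := (isConstructible_iff_adapted_univ F).1 hF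
  have e : locus P F = ⋃ i, g i '' locus P ((EtCoh.pull (g i)).obj F) := by
    simp_rw [← preimage_locus hP, Set.image_preimage_eq_inter_range]
    rw [← Set.inter_iUnion, hu, Set.inter_univ]
  rw [e]
  refine IsConstructible.iUnion fun i => ?_
  have hr : IsConstructible (Set.range (g i)) := by
    have := (hc i).image_of_isOpenEmbedding isOpen_univ.isOpenEmbedding_subtypeVal
      (by rw [Subtype.range_coe]; exact fun _ hc' _ => by rwa [Set.univ_inter])
    rwa [Subtype.image_preimage_coe, Set.univ_inter] at this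
  have : CompactSpace (T i) := ⟨((g i).isEmbedding.isInducing.isCompact_iff).2 (by
    rw [Set.image_univ]
    simpa using ConstrBasics.isRetrocompact_of_isConstructible hr isCompact_univ isOpen_univ)⟩
  have : QuasiSeparatedSpace (T i) := quasiSeparatedSpace_of_quasiSeparated (g i)
  have hL := isClopen_locus hP (hFg i)
  exact StrataImmersion.image_isConstructible (g i).isEmbedding hr
    ((hL.1.isCompact.isRetrocompact hL.2).isConstructible hL.2)

omit hP

/-- On a locally noetherian scheme, finite stalks of locally constructible cardinality make a sheaf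
finite locally constant near each generic point. -/
theorem exists_open_isFLC_of_card {T : Scheme.{u}} (τ : T)
    (hτ : ∀ O : T.Opens, (O : Set T).Nonempty → τ ∈ O) {F : EtCoh.Ab T}
    (hfin : ∀ (Ω : Type u) [Field Ω] [IsSepClosed Ω] (ξ : Spec (CommRingCat.of Ω) ⟶ T),
      Finite ((EtCoh.stalk ξ).obj F)) (n : ℕ)
    (hn : ∀ (Ω : Type u) [Field Ω] [IsSepClosed Ω] (ξ : Spec (CommRingCat.of Ω) ⟶ T),
      Nat.card ((EtCoh.stalk ξ).obj F) = n) :
    ∃ O : T.Opens, τ ∈ O ∧ EtCoh.IsFiniteLocallyConstant ((EtCoh.pull O.ι).obj F) := by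
  have := hfin _ (gpt τ)
  let H := ((EtCoh.stalk (gpt τ)).obj F : AddCommGrpCat.{u + 1})
  let t₁ : (Scheme.pointSmallEtale (gpt τ)).fiber.obj (EtCoh.top T) :=
    Over.homMk (gpt τ) (Category.comp_id _)
  obtain ⟨W, t, -, φ₀, -, hφ₀⟩ := exists_hom_of_finite F (EtCoh.top T) t₁ (AddMonoidHom.id H)
  let tl : Spec (CommRingCat.of (SeparableClosure (T.residueField τ))) ⟶ W.left := t.left
  have hw : W.hom.base (tl default) = τ := (Scheme.Hom.comp_apply _ _ _).symm.trans
    ((congrArg (fun m : Spec (CommRingCat.of (SeparableClosure (T.residueField τ))) ⟶ T => m.base _)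
      (Over.w t)).trans (gpt_apply τ _))
  obtain ⟨O, hwO, hO⟩ := GenericSub.exists_small τ hτ W (tl default) hw
  let W' := AllPoints.res W O
  let φ : H →+ EtCoh.sect F W' := (F.obj.map (AllPoints.resι W O).op).hom.comp φ₀
  have hb : GermBij F W' φ := fun Ω _ _ ξ s => by
    suffices Function.Bijective ((gm ξ F W' s).comp φ) from this
    have := hfin Ω ξ
    refine Function.Injective.bijective_of_nat_card_le
      ((injective_iff_map_eq_zero _).2 fun m hm => ?_) ((hn Ω ξ).le.trans (hn _ (gpt τ)).ge)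
    obtain ⟨V, c, v, -, hc⟩ := ((Scheme.pointSmallEtale ξ).toPresheafFiber_eq_iff' W' s (φ m) 0).1
      (hm.trans (map_zero (gm ξ F W' s)).symm)
    let k : V ⟶ W := c ≫ AllPoints.resι W O
    have : Etale k.left := (inferInstance : EtCoh.etaleMP k.left)
    have hsub : (⟨Set.range k.left.base, k.left.isOpenMap.isOpen_range⟩ : W.left.Opens) ≤ O := by
      rintro _ ⟨x, rfl⟩
      exact (AllPoints.range_resι W O).le ⟨c.left x, (Scheme.Hom.comp_apply _ _ _).symm⟩
    obtain ⟨x, hx⟩ := hO _ hsub ⟨_, GenericSub.ptOf v, rfl⟩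
    obtain ⟨l, hl, -⟩ := Scheme.exists_fac_of_etale_of_isSepClosed k.left tl x hx
    let t₂ : (Scheme.pointSmallEtale (gpt τ)).fiber.obj V := Over.homMk l
      ((congrArg (l ≫ ·) (Over.w k.toCommaMorphism)).symm.trans
        ((Category.assoc _ _ _).symm.trans ((congrArg (· ≫ W.hom) hl).trans (Over.w t))))
    have hk : gm (gpt τ) F W t (φ₀ m) = 0 := by
      rw [← gm_res F k (show (Scheme.pointSmallEtale (gpt τ)).fiber.map k t₂ = t from
        Over.OverMorphism.ext hl), op_comp, Functor.map_comp_apply]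
      refine (congrArg _ (hc.trans (map_zero _))).trans (map_zero _)
    exact (hφ₀ m).symm.trans hk
  have : Etale W'.hom := W'.prop
  refine ⟨⟨Set.range W'.hom.base, W'.hom.isOpenMap.isOpen_range⟩,
    ⟨(⟨tl default, hwO⟩ : (O : Scheme.{u})), hw⟩, GenericSub.isFLC_on_image hb _ (by rfl)⟩

end Groth.Agent.EtSite.StrataLocus
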