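import Groth.Agent.EtSite.Points
import Groth.Agent.EtSite.PullStalk
import Groth.Prelude.Def_BigSite

/-!
# Direct images along morphisms with property (B) preserve surjections of sheaves
-/

set_option autoImplicit false
universe u

open CategoryTheory CategoryTheory.Limits AlgebraicGeometry Opposite

namespace Groth.Agent.EtSite

variable {X : Scheme.{u}} {A : X.Etaleᵒᵖ ⥤ Type (u + 1)}

theorem exists_mem_of_mem_smallEtaleTopology {U : X.Etale} {R : Sieve U}
    (hR : R ∈ X.smallEtaleTopology U) (x : U.left) :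
    ∃ (V : X.Etale) (g : V ⟶ U) (v : V.left), R g ∧ Etale g.left ∧ g.left.base v = x := by
  have e : X.smallEtaleTopology =
      (X.smallPretopology (P := EtCoh.etaleMP) (Q := EtCoh.etaleMP)).toGrothendieck :=
    Scheme.smallGrothendieckTopology_eq_toGrothendieck_smallPretopology X le_rfl
  rw [e] at hR
  obtain ⟨V, g, v, h1, h2, h3⟩ := (Scheme.mem_toGrothendieck_smallPretopology U R).1 hR x
  exact ⟨V, g, v, h1, h2, h3⟩

theorem exists_glue_disjoint' (hA : Presieve.IsSheaf X.smallEtaleTopology A) {P : X.Etale}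
    {κ : Type u} {C : κ → X.Etale} (g : ∀ k, C k ⟶ P) (hopen : ∀ k, IsOpenImmersion (g k).left)
    (hd : Pairwise (Function.onFun Disjoint fun k => Set.range (g k).left.base))
    (hcov : ∀ y : P.left, ∃ k, y ∈ Set.range (g k).left.base) (z : ∀ k, A.obj (op (C k))) :
    ∃ s : A.obj (op P), (∀ k, A.map (g k).op s = z k) ∧
      ∀ t : A.obj (op P), (∀ k, A.map (g k).op t = z k) → t = s := by
  classical
  have hS : Sieve.ofArrows C g ∈ X.smallEtaleTopology P :=
    mem_smallEtaleTopology_of_points P _ fun y => by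
      obtain ⟨k, v, hv⟩ := hcov y
      exact ⟨C k, g k, v, Sieve.ofArrows_mk C g k, hv⟩
  have hsheaf : Presieve.IsSheafFor A (Presieve.ofArrows C g) := by
    rw [Presieve.isSheafFor_iff_generate]
    exact hA _ hS
  exact (Presieve.isSheafFor_arrows_iff _ g).1 hsheaf z (fun k l W a b hab => by
    by_cases hkl : k = l
    · subst hkl
      have : a = b := MorphismProperty.Over.Hom.ext (by
        have := hopen k
        rw [← cancel_mono (g k).left]
        exact congrArg (fun m => m.left) hab)
      rw [this]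
    · have : IsEmpty W.left := ⟨fun x => Set.disjoint_left.1 (hd hkl) ⟨a.left.base x, rfl⟩
        ⟨b.left.base x, (Scheme.Hom.comp_apply _ _ _).symm.trans
          ((congrArg (fun m : W ⟶ P => m.left.base x) hab.symm).trans (Scheme.Hom.comp_apply _ _ _))⟩⟩
      exact (hA.isSeparated (⊥ : Sieve W)
        (mem_smallEtaleTopology_of_points W ⊥ fun x => isEmptyElim x)).ext fun _ _ h => h.elim)

theorem isLocallySurjective_push_of_propB {Y : Scheme.{u}} (f : X ⟶ Y) (hB : BigSite.PropB f)
    {P Q : X.Etaleᵒᵖ ⥤ Type (u + 1)} (hP : Presieve.IsSheaf X.smallEtaleTopology P)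
    (hQ : Presieve.IsSheaf X.smallEtaleTopology Q) (a : P ⟶ Q)
    [Presheaf.IsLocallySurjective X.smallEtaleTopology a] :
    Presheaf.IsLocallySurjective Y.smallEtaleTopology (Functor.whiskerLeft (EtCoh.bc f).op a) where
  imageSieve_mem {V} s := by
    choose U g p hp hg hgp using fun x : ((EtCoh.bc f).obj V).left =>
      exists_mem_of_mem_smallEtaleTopology (Presheaf.imageSieve_mem X.smallEtaleTopology a s) x
    choose t ht using hp
    let σ : ((EtCoh.bc f).obj V).left ⟶ pullback f V.hom := (pullbackSymmetry V.hom f).hom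
    have hσ : Function.Bijective σ.base :=
      (Scheme.homeoOfIso (pullbackSymmetry V.hom f)).bijective
    have : Etale V.hom := V.prop
    obtain ⟨κ, V', v', hv', hcov, hW⟩ := hB V.left V.hom _ (fun x => (U x).left)
      (fun x => (g x).left ≫ σ)
      (fun x => by
        have := hg x
        exact inferInstanceAs (Etale ((g x).left ≫ (pullbackSymmetry V.hom f).hom)))
      (fun z => by
        obtain ⟨x, rfl⟩ := hσ.2 z
        exact ⟨x, p x, (Scheme.Hom.comp_apply _ _ _).trans (congrArg σ.base (hgp x))⟩)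
    refine mem_smallEtaleTopology_of_points V _ fun y => ?_
    obtain ⟨j, v, hv⟩ := hcov y
    obtain ⟨μ, W, hd, htop, hfac⟩ := hW j
    have := hv' j
    let V'' : Y.Etale := Scheme.Etale.mk (v' j ≫ V.hom)
    let π : V'' ⟶ V := MorphismProperty.Over.homMk (v' j) rfl
    refine ⟨V'', π, v, ?_, hv⟩
    let σ' : pullback f (v' j ≫ V.hom) ⟶ ((EtCoh.bc f).obj V'').left :=
      (pullbackSymmetry f (v' j ≫ V.hom)).hom
    have hσ' : Function.Bijective σ'.base :=
      (Scheme.homeoOfIso (pullbackSymmetry f (v' j ≫ V.hom))).bijective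
    let C : μ → X.Etale := fun b => Scheme.Etale.mk ((W b).ι ≫ pullback.fst f (v' j ≫ V.hom))
    let gk : ∀ b, C b ⟶ (EtCoh.bc f).obj V'' := fun b => MorphismProperty.Over.homMk ((W b).ι ≫ σ')
      ((Category.assoc _ _ _).trans
        (congrArg ((W b).ι ≫ ·) (pullbackSymmetry_hom_comp_snd f (v' j ≫ V.hom))))
    choose i h hh using hfac
    have hσσ : σ' ≫ ((EtCoh.bc f).map π).left ≫ σ =
        pullback.map f (v' j ≫ V.hom) f V.hom (𝟙 X) (v' j) (𝟙 Y) (by simp) (by simp) := by
      apply pullback.hom_ext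
      · refine Eq.trans ?_ (((pullback.lift_fst _ _ _).trans (Category.comp_id _)).symm)
        simp only [Category.assoc]
        refine (congrArg (σ' ≫ ·) ((congrArg (_ ≫ ·) (pullbackSymmetry_hom_comp_fst V.hom f)).trans
          (bc_map_left_snd f π))).trans ?_
        exact pullbackSymmetry_hom_comp_snd f (v' j ≫ V.hom)
      · refine Eq.trans ?_ (pullback.lift_snd _ _ _).symm
        simp only [Category.assoc]
        refine (congrArg (σ' ≫ ·) ((congrArg (_ ≫ ·) (pullbackSymmetry_hom_comp_snd V.hom f)).trans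
          (bc_map_left_fst f π))).trans ?_
        exact (Category.assoc _ _ _).symm.trans
          (congrArg (· ≫ v' j) (pullbackSymmetry_hom_comp_fst f (v' j ≫ V.hom)))
    have hmon : Mono σ := inferInstanceAs (Mono (pullbackSymmetry V.hom f).hom)
    have hcomm : ∀ b, h b ≫ (g (i b)).left = (gk b).left ≫ ((EtCoh.bc f).map π).left := by
      intro b
      refine (cancel_mono σ).1 ((Category.assoc _ _ _).trans ((hh b).trans ?_))
      refine (congrArg ((W b).ι ≫ ·) hσσ.symm).trans ?_
      exact (Category.assoc _ _ _).symm.trans (Category.assoc _ _ _).symm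
    let φ : ∀ b, C b ⟶ U (i b) := fun b => MorphismProperty.Over.homMk (h b) ((congrArg (h b ≫ ·) (MorphismProperty.Over.w (g (i b))).symm).trans
        ((Category.assoc _ _ _).symm.trans ((congrArg (· ≫ _) (hcomm b)).trans
          ((Category.assoc _ _ _).trans ((congrArg ((gk b).left ≫ ·)
            (MorphismProperty.Over.w ((EtCoh.bc f).map π))).trans (MorphismProperty.Over.w (gk b)))))))
    have hφ : ∀ b, φ b ≫ g (i b) = gk b ≫ (EtCoh.bc f).map π := fun b =>
      MorphismProperty.Over.Hom.ext (hcomm b)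
    have hopen : ∀ b, IsOpenImmersion (gk b).left := fun b =>
      inferInstanceAs (IsOpenImmersion ((W b).ι ≫ (pullbackSymmetry f (v' j ≫ V.hom)).hom))
    have hdis : Pairwise (Function.onFun Disjoint fun b => Set.range (gk b).left.base) :=
      fun k l hkl => Set.disjoint_left.2 (by
        rintro _ ⟨x, rfl⟩ ⟨x', hx'⟩
        have e : (W l).ι x' = (W k).ι x := hσ'.1 ((Scheme.Hom.comp_apply _ _ _).symm.trans
          (hx'.trans (Scheme.Hom.comp_apply _ _ _)))
        exact (disjoint_iff_inf_le.1 (hd k l hkl) (x := (W k).ι x) ⟨x.2, e ▸ x'.2⟩).elim)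
    have hcv : ∀ z : ((EtCoh.bc f).obj V'').left, ∃ b, z ∈ Set.range (gk b).left.base := fun z => by
      obtain ⟨z', rfl⟩ := hσ'.2 z
      obtain ⟨b, hb⟩ := TopologicalSpace.Opens.mem_iSup.1
        (show z' ∈ ⨆ b, W b by rw [htop]; trivial)
      exact ⟨b, ⟨z', hb⟩, Scheme.Hom.comp_apply _ _ _⟩
    obtain ⟨T, hT, -⟩ := exists_glue_disjoint' hP gk hopen hdis hcv
      (fun b => P.map (φ b).op (t (i b)))
    refine ⟨T, ?_⟩
    obtain ⟨T', -, huniq⟩ := exists_glue_disjoint' hQ gk hopen hdis hcv
      (fun b => Q.map (φ b).op (Q.map (g (i b)).op s))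
    refine (huniq _ fun b => ?_).trans (huniq _ fun b => ?_).symm
    · show Q.map (gk b).op (a.app _ T) = _
      rw [← NatTrans.naturality_apply, hT, NatTrans.naturality_apply, ht]
    · show Q.map (gk b).op (Q.map ((EtCoh.bc f).map π).op s) = _
      rw [← Functor.map_comp_apply, ← op_comp, ← hφ, op_comp, Functor.map_comp_apply]

end Groth.Agent.EtSite
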