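import Groth.Prelude.Def_EtBase
import Mathlib.Algebra.Homology.ShortComplex.ExactFunctor

/-!
# Exact direct images have no higher direct images
-/

set_option autoImplicit false
universe u

open CategoryTheory CategoryTheory.Limits AlgebraicGeometry Opposite

namespace Groth.Agent.EtSite

variable {X Y : Scheme.{u}} (f : X ⟶ Y) [EtCoh.BCCont f]

theorem push_preservesFiniteLimits : PreservesFiniteLimits (EtCoh.push f) :=
  have : PreservesLimitsOfSize.{0, 0} (EtCoh.push f) := (EtCoh.pullPushAdj f).rightAdjoint_preservesLimits
  PreservesLimitsOfSize.preservesFiniteLimits _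

/-- If `f_*` preserves epimorphisms it preserves finite colimits. -/
theorem push_preservesFiniteColimits_of_epi [(EtCoh.push f).PreservesEpimorphisms] :
    PreservesFiniteColimits (EtCoh.push f) := by
  have := push_preservesFiniteLimits f
  rw [Functor.preservesFiniteColimits_iff_forall_exact_map_and_epi]
  intro S hS
  have := hS.epi_g
  exact ⟨((EtCoh.push f).preservesFiniteLimits_iff_forall_exact_map_and_mono.1 inferInstance S hS).1,
    inferInstance⟩

/-- If `f_*` preserves epimorphisms the higher direct images vanish. -/
theorem isZero_Rpush_of_epi [(EtCoh.push f).PreservesEpimorphisms] (F : EtCoh.Ab X) (q : ℕ)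
    (hq : 1 ≤ q) : IsZero ((EtCoh.Rpush f q).obj F) := by
  obtain ⟨n, rfl⟩ : ∃ n, q = n + 1 := ⟨q - 1, by omega⟩
  have := push_preservesFiniteColimits_of_epi f
  have := push_preservesFiniteLimits f
  let I := injectiveResolution F
  refine IsZero.of_iso ?_ (I.isoRightDerivedObj (EtCoh.push f) (n + 1))
  refine IsZero.of_iso ?_ ((HomologicalComplex.sc _ (n + 1)).mapHomologyIso (EtCoh.push f))
  exact (EtCoh.push f).map_isZero ((HomologicalComplex.exactAt_iff_isZero_homology _ _).1
    (I.cocomplex_exactAt_succ n))

end Groth.Agent.EtSite
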