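import Groth.Agent.EtSite.NormalSepClosed
import Groth.Agent.EtSite.AllPoints
import Groth.Agent.EtSite.PushEpi
import Groth.Agent.EtSite.RightExact
import Groth.Agent.EtMV.Flasque
import Groth.Agent.KerDerived.Basic
import Mathlib.Order.Zorn

/-!
# Flasque sheaves on a small étale site all of whose objects are local isomorphisms

Flasque sheaves are acyclic for direct images; constant sheaves on an irreducible base are flasque.
-/

set_option autoImplicit false
universe u

open CategoryTheory CategoryTheory.Limits AlgebraicGeometry Opposite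

namespace Groth.Agent.EtSite.LocIso

open AllPoints

variable {X : Scheme.{u}}

/-- All étale schemes over `X` are locally isomorphic to `X`. -/
def LocIsoBase (X : Scheme.{u}) : Prop :=
  ∀ (U : X.Etale) (u : U.left), ∃ O : U.left.Opens, u ∈ O ∧ IsOpenImmersion (O.ι ≫ U.hom)

theorem hom_res_ext {Z U : X.Etale} {W : U.left.Opens} {a b : Z ⟶ res U W}
    (h : a ≫ resι U W = b ≫ resι U W) : a = b := by
  refine MorphismProperty.Over.Hom.ext ?_
  have : Mono (resι U W).left := inferInstanceAs (Mono W.ι)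
  exact (cancel_mono (resι U W).left).1 (congrArg (fun m : Z ⟶ U => m.left) h)

/-- The inclusion of opens. -/
noncomputable def incl (U : X.Etale) {W W' : U.left.Opens} (h : W ≤ W') : res U W ⟶ res U W' :=
  resLift (resι U W) W' ((range_resι U W).le.trans h)

theorem incl_ι (U : X.Etale) {W W' : U.left.Opens} (h : W ≤ W') :
    incl U h ≫ resι U W' = resι U W := resLift_ι _ _ _

theorem incl_incl (U : X.Etale) {W W' W'' : U.left.Opens} (h : W ≤ W') (h' : W' ≤ W'') :
    incl U h ≫ incl U h' = incl U (h.trans h') :=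
  hom_res_ext (by rw [Category.assoc, incl_ι, incl_ι, incl_ι])

theorem map_incl_incl (F : EtCoh.Ab X) (U : X.Etale) {W W' W'' : U.left.Opens} (h : W ≤ W')
    (h' : W' ≤ W'') (s : F.obj.obj (op (res U W''))) :
    F.obj.map (incl U h).op (F.obj.map (incl U h').op s) = F.obj.map (incl U (h.trans h')).op s := by
  rw [← Functor.map_comp_apply, ← op_comp, incl_incl]

theorem map_incl_resι (F : EtCoh.Ab X) (U : X.Etale) {W W' : U.left.Opens} (h : W ≤ W')
    (s : F.obj.obj (op U)) :
    F.obj.map (incl U h).op (F.obj.map (resι U W').op s) = F.obj.map (resι U W).op s := by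
  rw [← Functor.map_comp_apply, ← op_comp, incl_ι]

theorem forget_isSheaf (F : EtCoh.Ab X) :
    Presieve.IsSheaf X.smallEtaleTopology (F.obj ⋙ forget AddCommGrpCat.{u + 1}) :=
  (isSheaf_iff_isSheaf_of_type _ _).1
    ((sheafCompose X.smallEtaleTopology (forget AddCommGrpCat.{u + 1})).obj F).property

/-- Zariski gluing. -/
theorem exists_glue (F : EtCoh.Ab X) (U : X.Etale) {ι : Type*} (O : ι → U.left.Opens)
    (hO : ∀ x : U.left, ∃ i, x ∈ O i) (z : ∀ i, F.obj.obj (op (res U (O i))))
    (hz : ∀ i j, F.obj.map (incl U (inf_le_left (b := O j))).op (z i) =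
      F.obj.map (incl U (inf_le_right (a := O i))).op (z j)) :
    ∃ s : F.obj.obj (op U), ∀ i, F.obj.map (resι U (O i)).op s = z i := by
  have hS : Sieve.ofArrows _ (fun i => resι U (O i)) ∈ X.smallEtaleTopology U :=
    mem_smallEtaleTopology_of_points U _ fun x => by
      obtain ⟨i, hi⟩ := hO x
      obtain ⟨v, hv⟩ := (range_resι U (O i)).ge hi
      exact ⟨_, resι U (O i), v, Sieve.ofArrows_mk _ (fun i => resι U (O i)) i, hv⟩
  have hsheaf : Presieve.IsSheafFor (F.obj ⋙ forget AddCommGrpCat.{u + 1})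
      (Presieve.ofArrows _ fun i => resι U (O i)) := by
    rw [Presieve.isSheafFor_iff_generate]
    exact forget_isSheaf F _ hS
  obtain ⟨s, hs, -⟩ := (Presieve.isSheafFor_arrows_iff _ _).1 hsheaf z (fun i j W a b hab => by
    have hr : Set.range (a ≫ resι U (O i)).left.base ⊆ ((O i ⊓ O j : U.left.Opens) : Set U.left) := by
      rintro _ ⟨w, rfl⟩
      refine ⟨(range_resι U (O i)).le ⟨_, (Scheme.Hom.comp_apply a.left (resι U (O i)).left w).symm⟩, ?_⟩
      rw [hab]
      exact (range_resι U (O j)).le ⟨_, (Scheme.Hom.comp_apply b.left (resι U (O j)).left w).symm⟩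
    let c : W ⟶ res U (O i ⊓ O j) := resLift (a ≫ resι U (O i)) _ hr
    have ha : c ≫ incl U inf_le_left = a := hom_res_ext (by rw [Category.assoc, incl_ι, resLift_ι])
    have hb : c ≫ incl U inf_le_right = b :=
      hom_res_ext (by rw [Category.assoc, incl_ι, resLift_ι, hab])
    change F.obj.map a.op (z i) = F.obj.map b.op (z j)
    rw [← ha, ← hb, op_comp, op_comp, Functor.map_comp_apply, Functor.map_comp_apply, hz i j])
  exact ⟨s, hs⟩

/-- Sections agreeing Zariski locally are equal. -/
theorem ext_of_cover (F : EtCoh.Ab X) (U : X.Etale) {ι : Type*} (O : ι → U.left.Opens)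
    (hO : ∀ x : U.left, ∃ i, x ∈ O i) (s t : F.obj.obj (op U))
    (h : ∀ i, F.obj.map (resι U (O i)).op s = F.obj.map (resι U (O i)).op t) : s = t := by
  have hS : Sieve.ofArrows _ (fun i => resι U (O i)) ∈ X.smallEtaleTopology U :=
    mem_smallEtaleTopology_of_points U _ fun x => by
      obtain ⟨i, hi⟩ := hO x
      obtain ⟨v, hv⟩ := (range_resι U (O i)).ge hi
      exact ⟨_, resι U (O i), v, Sieve.ofArrows_mk _ (fun i => resι U (O i)) i, hv⟩
  refine ((forget_isSheaf F).isSeparated _ hS).ext fun W g hg => ?_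
  obtain ⟨_, k, _, ⟨i⟩, rfl⟩ := hg
  change F.obj.map (k ≫ resι U (O i)).op s = F.obj.map (k ≫ resι U (O i)).op t
  rw [op_comp, Functor.map_comp_apply, Functor.map_comp_apply, h i]

theorem resι_preimage_range (U : X.Etale) (W P : U.left.Opens) :
    Set.range (resι (res U W) ((resι U W).left ⁻¹ᵁ P) ≫ resι U W).left.base ⊆ (P : Set U.left) := by
  rintro _ ⟨w, rfl⟩
  rw [show (resι (res U W) ((resι U W).left ⁻¹ᵁ P) ≫ resι U W).left.base w =
    (resι U W).left.base ((resι (res U W) ((resι U W).left ⁻¹ᵁ P)).left.base w) from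
      Scheme.Hom.comp_apply _ _ w]
  exact (range_resι (res U W) ((resι U W).left ⁻¹ᵁ P)).le ⟨w, rfl⟩

/-- The open piece of `res U W` over `P`, mapped to `res U P`. -/
noncomputable def piece (U : X.Etale) (W P : U.left.Opens) :
    res (res U W) ((resι U W).left ⁻¹ᵁ P) ⟶ res U P :=
  resLift _ P (resι_preimage_range U W P)

theorem piece_incl (U : X.Etale) {W P : U.left.Opens} (h : P ≤ W) :
    piece U W P ≫ incl U h = resι (res U W) ((resι U W).left ⁻¹ᵁ P) :=
  hom_res_ext (by rw [Category.assoc, incl_ι, piece, resLift_ι])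

theorem range_incl_subset (U : X.Etale) {W P : U.left.Opens} (h : P ≤ W) :
    Set.range (incl U h).left.base ⊆ ((resι U W).left ⁻¹ᵁ P : Set (res U W).left) := by
  rintro _ ⟨w, rfl⟩
  change (resι U W).left.base ((incl U h).left.base w) ∈ P
  have e : (resι U W).left.base ((incl U h).left.base w) = (resι U P).left.base w :=
    (Scheme.Hom.comp_apply _ _ w).symm.trans
      (congrArg (fun m : res U P ⟶ U => m.left.base w) (incl_ι U h))
  rw [e]
  exact (range_resι U P).le ⟨w, rfl⟩

theorem ext_sup (F : EtCoh.Ab X) (U : X.Etale) {ι : Type*} (O : ι → U.left.Opens)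
    {W : U.left.Opens} (hle : ∀ i, O i ≤ W) (hW : W ≤ iSup O) (s t : F.obj.obj (op (res U W)))
    (h : ∀ i, F.obj.map (incl U (hle i)).op s = F.obj.map (incl U (hle i)).op t) : s = t := by
  refine ext_of_cover F (res U W) (fun i => (resι U W).left ⁻¹ᵁ O i) (fun x => ?_) s t fun i => ?_
  · have hx : (resι U W).left.base x ∈ W := (range_resι U W).le ⟨x, rfl⟩
    obtain ⟨i, hi⟩ := TopologicalSpace.Opens.mem_iSup.1 (hW hx)
    exact ⟨i, hi⟩
  · rw [← piece_incl U (hle i), op_comp, Functor.map_comp_apply, Functor.map_comp_apply, h i]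

theorem exists_glue_sup (F : EtCoh.Ab X) (U : X.Etale) {ι : Type*} (O : ι → U.left.Opens)
    {W : U.left.Opens} (hle : ∀ i, O i ≤ W) (hW : W ≤ iSup O)
    (z : ∀ i, F.obj.obj (op (res U (O i))))
    (hz : ∀ i j, F.obj.map (incl U (inf_le_left (b := O j))).op (z i) =
      F.obj.map (incl U (inf_le_right (a := O i))).op (z j)) :
    ∃ s : F.obj.obj (op (res U W)), ∀ i, F.obj.map (incl U (hle i)).op s = z i := by
  obtain ⟨s, hs⟩ := exists_glue F (res U W) (fun i => (resι U W).left ⁻¹ᵁ O i)
    (fun x => by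
      have hx : (resι U W).left.base x ∈ W := (range_resι U W).le ⟨x, rfl⟩
      obtain ⟨i, hi⟩ := TopologicalSpace.Opens.mem_iSup.1 (hW hx)
      exact ⟨i, hi⟩)
    (fun i => F.obj.map (piece U W (O i)).op (z i)) (fun i j => by
      have hr : Set.range (resι (res U W) ((resι U W).left ⁻¹ᵁ O i ⊓ (resι U W).left ⁻¹ᵁ O j) ≫
          resι U W).left.base ⊆ ((O i ⊓ O j : U.left.Opens) : Set U.left) := by
        rintro _ ⟨w, rfl⟩
        rw [show (resι (res U W) ((resι U W).left ⁻¹ᵁ O i ⊓ (resι U W).left ⁻¹ᵁ O j) ≫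
            resι U W).left.base w = (resι U W).left.base ((resι (res U W)
              ((resι U W).left ⁻¹ᵁ O i ⊓ (resι U W).left ⁻¹ᵁ O j)).left.base w) from
          Scheme.Hom.comp_apply _ _ w]
        exact (range_resι (res U W)
          ((resι U W).left ⁻¹ᵁ O i ⊓ (resι U W).left ⁻¹ᵁ O j)).le ⟨w, rfl⟩
      have e1 : incl (res U W) inf_le_left ≫ piece U W (O i) =
          resLift _ _ hr ≫ incl U (inf_le_left (b := O j)) := hom_res_ext (by
        simp only [piece, Category.assoc, incl_ι, resLift_ι]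
        rw [← Category.assoc, incl_ι])
      have e2 : incl (res U W) inf_le_right ≫ piece U W (O j) =
          resLift _ _ hr ≫ incl U (inf_le_right (a := O i)) := hom_res_ext (by
        simp only [piece, Category.assoc, incl_ι, resLift_ι]
        rw [← Category.assoc, incl_ι])
      rw [← Functor.map_comp_apply, ← Functor.map_comp_apply, ← op_comp, ← op_comp, e1, e2,
        op_comp, op_comp, Functor.map_comp_apply, Functor.map_comp_apply, hz i j])
  refine ⟨s, fun i => ?_⟩
  rw [← resLift_ι (incl U (hle i)) _ (range_incl_subset U (hle i)), op_comp, Functor.map_comp_apply,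
    hs i, ← Functor.map_comp_apply, ← op_comp]
  have : resLift (incl U (hle i)) _ (range_incl_subset U (hle i)) ≫ piece U W (O i) = 𝟙 _ :=
    hom_res_ext (by rw [piece, Category.assoc, resLift_ι, ← Category.assoc, resLift_ι, incl_ι,
      Category.id_comp])
  rw [this, op_id, F.obj.map_id]
  rfl

/-- Covering sieves contain open neighbourhoods of every point. -/
theorem exists_open_mem (hX : LocIsoBase X) {U : X.Etale} {R : Sieve U}
    (hR : R ∈ X.smallEtaleTopology U) (x : U.left) :
    ∃ O : U.left.Opens, x ∈ O ∧ R (resι U O) := by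
  obtain ⟨V, g, v, hg, -, hv⟩ := exists_mem_of_mem_smallEtaleTopology hR x
  obtain ⟨O', hvO, hO'⟩ := hX V v
  have : Etale U.hom := U.prop
  have hop : IsOpenImmersion ((O'.ι ≫ g.left) ≫ U.hom) := by
    rw [Category.assoc, show g.left ≫ U.hom = V.hom from Over.w g.toCommaMorphism]
    exact hO'
  have : IsOpenImmersion (O'.ι ≫ g.left) :=
    NormalSepClosed.isOpenImmersion_of_comp_etale (O'.ι ≫ g.left) U.hom
  let O := (O'.ι ≫ g.left).opensRange
  let l : res U O ⟶ V := MorphismProperty.Over.homMk ((O'.ι ≫ g.left).isoOpensRange.inv ≫ O'.ι)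
    (by
      have e := Scheme.Hom.isoOpensRange_inv_comp (O'.ι ≫ g.left)
      change ((O'.ι ≫ g.left).isoOpensRange.inv ≫ O'.ι) ≫ V.hom = O.ι ≫ U.hom
      rw [← show g.left ≫ U.hom = V.hom from Over.w g.toCommaMorphism, ← e]
      simp only [Category.assoc]) trivial
  have hl : l ≫ g = resι U O := MorphismProperty.Over.Hom.ext
    ((Category.assoc _ _ _).trans (Scheme.Hom.isoOpensRange_inv_comp _))
  refine ⟨O, ⟨⟨v, hvO⟩, ?_⟩, hl ▸ R.downward_closed hg l⟩
  exact (Scheme.Hom.comp_apply O'.ι g.left ⟨v, hvO⟩).trans hv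

/-- Flasque sheaves. -/
def Flasque (F : EtCoh.Ab X) : Prop :=
  ∀ (U : X.Etale) (O : U.left.Opens), Function.Surjective (F.obj.map (resι U O).op)

theorem flasque_of_injective (I : EtCoh.Ab X) [Injective I] : Flasque I := fun U O => by
  have : Mono (resι U O) := ⟨fun a b h => hom_res_ext h⟩
  exact EtMV.injective_restrict_surjective I (resι U O)

theorem sections_exact {S : ShortComplex (EtCoh.Ab X)} (hS : S.ShortExact) (U : X.Etale) :
    (∀ q : S.X₂.obj.obj (op U), S.g.hom.app (op U) q = 0 → ∃ p, S.f.hom.app (op U) p = q) := by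
  intro q hq
  let Γ : EtCoh.Ab X ⥤ AddCommGrpCat.{u + 1} :=
    sheafToPresheaf X.smallEtaleTopology AddCommGrpCat.{u + 1} ⋙ (evaluation _ _).obj (op U)
  have : PreservesFiniteLimits Γ := comp_preservesFiniteLimits _ _
  have : Γ.Additive := { map_add := rfl }
  have h := (Γ.preservesFiniteLimits_iff_forall_exact_map_and_mono.1 inferInstance S hS).1
  exact (ShortComplex.ab_exact_iff _).1 h q hq

/-- A lift of a section on an open piece. -/
structure PartialLift {M N : EtCoh.Ab X} (g : M ⟶ N) (U : X.Etale) (q : N.obj.obj (op U)) where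
  carrier : U.left.Opens
  sect : M.obj.obj (op (res U carrier))
  fac : g.hom.app (op (res U carrier)) sect = N.obj.map (resι U carrier).op q

/-- Extension of partial lifts. -/
def PartialLift.Ext {M N : EtCoh.Ab X} {g : M ⟶ N} {U : X.Etale} {q : N.obj.obj (op U)}
    (p p' : PartialLift g U q) : Prop :=
  ∃ h : p.carrier ≤ p'.carrier, M.obj.map (incl U h).op p'.sect = p.sect

set_option maxHeartbeats 400000 in
theorem exists_bound {M N : EtCoh.Ab X} {g : M ⟶ N} {U : X.Etale} {q : N.obj.obj (op U)}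
    (c : Set (PartialLift g U q)) (hc : IsChain PartialLift.Ext c) :
    ∃ ub, ∀ a ∈ c, PartialLift.Ext a ub := by
  let O : c → U.left.Opens := fun a => a.1.carrier
  let z : ∀ a : c, M.obj.obj (op (res U (O a))) := fun a => a.1.sect
  have key : ∀ a b : c, PartialLift.Ext a.1 b.1 →
      M.obj.map (incl U (inf_le_left (b := O b))).op (z a) =
        M.obj.map (incl U (inf_le_right (a := O a))).op (z b) := fun a b ⟨h, e⟩ =>
    (congrArg _ e.symm).trans (map_incl_incl M U _ _ _)
  have hcompat : ∀ a b : c, M.obj.map (incl U (inf_le_left (b := O b))).op (z a) =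
      M.obj.map (incl U (inf_le_right (a := O a))).op (z b) := by
    intro a b
    rcases eq_or_ne a.1 b.1 with hab | hab
    · obtain rfl : a = b := Subtype.ext hab
      rfl
    · rcases hc a.2 b.2 hab with h | h
      · exact key a b h
      · have h2 := congrArg (M.obj.map (incl U (inf_comm (a := O a) (b := O b)).le).op)
          (key b a h)
        rw [map_incl_incl, map_incl_incl] at h2
        exact h2.symm
  obtain ⟨s, hs⟩ := exists_glue_sup M U O (W := iSup O) (fun a => le_iSup O a) le_rfl z hcompat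
  have hsP : g.hom.app (op (res U (iSup O))) s = N.obj.map (resι U (iSup O)).op q := by
    refine ext_sup N U O (fun a => le_iSup O a) le_rfl _ _ fun a => ?_
    rw [← NatTrans.naturality_apply, hs a, map_incl_resι]
    exact a.1.fac
  exact ⟨⟨iSup O, s, hsP⟩, fun p hp => ⟨le_iSup O ⟨p, hp⟩, hs ⟨p, hp⟩⟩⟩

set_option maxHeartbeats 800000 in
theorem sections_surjective (hX : LocIsoBase X) {S : ShortComplex (EtCoh.Ab X)} (hS : S.ShortExact)
    (hF : Flasque S.X₁) (U : X.Etale) : Function.Surjective (S.g.hom.app (op U)) := by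
  classical
  intro q
  have := hS.epi_g
  have : Sheaf.IsLocallySurjective S.g := (Sheaf.isLocallySurjective_iff_epi' _ S.g).2 inferInstance
  have hls : Presheaf.IsLocallySurjective X.smallEtaleTopology S.g.hom := this
  obtain ⟨⟨W, s, hs⟩, hmax⟩ := exists_maximal_of_chains_bounded
    (α := PartialLift S.g U q) (r := PartialLift.Ext) exists_bound
    (fun {a b c} ⟨h, e⟩ ⟨h', e'⟩ => ⟨h.trans h', by rw [← map_incl_incl _ U h h', e', e]⟩)
  have hWtop : ∀ x : U.left, x ∈ W := by
    intro x
    obtain ⟨O, hxO, t₀, ht₀⟩ := exists_open_mem hX (Presheaf.imageSieve_mem X.smallEtaleTopology S.g.hom q) x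
    by_contra hx
    let d := S.X₂.obj.map (incl U (inf_le_left (b := O))).op s -
      S.X₂.obj.map (incl U (inf_le_right (a := W))).op t₀
    have hd : S.g.hom.app (op (res U (W ⊓ O))) d = 0 := by
      simp only [d, map_sub]
      rw [NatTrans.naturality_apply, NatTrans.naturality_apply, hs, ht₀, map_incl_resι,
        map_incl_resι, sub_self]
    obtain ⟨p, hp⟩ := sections_exact hS _ d hd
    let O₁ : (res U O).left.Opens := (resι U O).left ⁻¹ᵁ W
    have hr₁ : Set.range (resι (res U O) O₁ ≫ resι U O).left.base ⊆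
        ((W ⊓ O : U.left.Opens) : Set U.left) := by
      rintro _ ⟨w, rfl⟩
      rw [show (resι (res U O) O₁ ≫ resι U O).left.base w =
        (resι U O).left.base ((resι (res U O) O₁).left.base w) from Scheme.Hom.comp_apply _ _ w]
      exact ⟨(range_resι (res U O) O₁).le ⟨w, rfl⟩, (range_resι U O).le ⟨_, rfl⟩⟩
    let c₁ : res (res U O) O₁ ⟶ res U (W ⊓ O) := resLift _ _ hr₁
    obtain ⟨p', hp'⟩ := hF (res U O) O₁ (S.X₁.obj.map c₁.op p)
    let t := t₀ + S.f.hom.app (op (res U O)) p'
    have ht : S.g.hom.app (op (res U O)) t = S.X₃.obj.map (resι U O).op q := by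
      have h0 : S.g.hom.app (op (res U O)) (S.f.hom.app (op (res U O)) p') = 0 :=
        ConcreteCategory.congr_hom (congrArg (fun m => m.hom.app (op (res U O))) S.zero) p'
      simp only [t, map_add, h0, add_zero]
      exact ht₀
    have hagree : S.X₂.obj.map (incl U (inf_le_left (b := O))).op s =
        S.X₂.obj.map (incl U (inf_le_right (a := W))).op t := by
      have hr₂ : Set.range (incl U (inf_le_right (a := W) (b := O))).left.base ⊆
          (O₁ : Set (res U O).left) := by
        rintro _ ⟨w, rfl⟩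
        change (resι U O).left.base ((incl U (inf_le_right (a := W) (b := O))).left.base w) ∈ W
        have e : (resι U O).left.base ((incl U (inf_le_right (a := W) (b := O))).left.base w) =
            (resι U (W ⊓ O)).left.base w :=
          (Scheme.Hom.comp_apply _ _ w).symm.trans
            (congrArg (fun m : res U (W ⊓ O) ⟶ U => m.left.base w) (incl_ι U _))
        rw [e]
        exact ((range_resι U (W ⊓ O)).le ⟨w, rfl⟩).1
      let c₂ : res U (W ⊓ O) ⟶ res (res U O) O₁ := resLift _ _ hr₂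
      have hcc : c₂ ≫ c₁ = 𝟙 _ := hom_res_ext (by
        rw [Category.assoc, resLift_ι, ← Category.assoc, resLift_ι, incl_ι, Category.id_comp])
      have hpp : S.X₁.obj.map (incl U (inf_le_right (a := W) (b := O))).op p' = p := by
        rw [← resLift_ι (incl U (inf_le_right (a := W) (b := O))) O₁ hr₂, op_comp,
          Functor.map_comp_apply, hp', ← Functor.map_comp_apply, ← op_comp, hcc, op_id,
          S.X₁.obj.map_id]
        rfl
      simp only [t, map_add]
      rw [← NatTrans.naturality_apply, hpp, hp]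
      simp only [d]
      abel
    -- glue on `W ⊔ O`
    let fam : ULift.{u} Bool → U.left.Opens := fun b => cond b.down W O
    let val : ∀ b : ULift.{u} Bool, S.X₂.obj.obj (op (res U (fam b))) := fun b =>
      match b with
      | ⟨true⟩ => s
      | ⟨false⟩ => t
    have hle : ∀ b, fam b ≤ W ⊔ O := fun b => by
      rcases b with ⟨_ | _⟩
      · exact le_sup_right
      · exact le_sup_left
    have hW' : W ⊔ O ≤ iSup fam := sup_le (le_iSup fam ⟨true⟩) (le_iSup fam ⟨false⟩)
    obtain ⟨s', hs'⟩ := exists_glue_sup S.X₂ U fam hle hW' val fun b b' => by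
      rcases b with ⟨_ | _⟩ <;> rcases b' with ⟨_ | _⟩
      · rfl
      · change S.X₂.obj.map (incl U (inf_le_left (a := O) (b := W))).op t =
          S.X₂.obj.map (incl U (inf_le_right (a := O) (b := W))).op s
        have h2 := congrArg (S.X₂.obj.map (incl U (inf_comm (a := O) (b := W)).le).op) hagree
        rw [map_incl_incl, map_incl_incl] at h2
        exact h2.symm
      · exact hagree
      · rfl
    have hs'P : S.g.hom.app (op (res U (W ⊔ O))) s' = S.X₃.obj.map (resι U (W ⊔ O)).op q := by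
      refine ext_sup S.X₃ U fam hle hW' _ _ fun b => ?_
      rw [← NatTrans.naturality_apply, hs' b, map_incl_resι]
      rcases b with ⟨_ | _⟩
      · exact ht
      · exact hs
    obtain ⟨hle', -⟩ := hmax ⟨W ⊔ O, s', hs'P⟩ ⟨le_sup_left, hs' ⟨true⟩⟩
    exact hx (hle' (TopologicalSpace.Opens.mem_sup.2 (Or.inr hxO)))
  let l : U ⟶ res U W := resLift (𝟙 U) W fun y _ => hWtop y
  refine ⟨S.X₂.obj.map l.op s, ?_⟩
  rw [NatTrans.naturality_apply, hs, ← Functor.map_comp_apply, ← op_comp, resLift_ι, op_id,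
    S.X₃.obj.map_id]
  rfl

theorem flasque_of_shortExact (hX : LocIsoBase X) {S : ShortComplex (EtCoh.Ab X)}
    (hS : S.ShortExact) (h₁ : Flasque S.X₁) (h₂ : Flasque S.X₂) : Flasque S.X₃ := by
  intro U O q
  obtain ⟨p, hp⟩ := sections_surjective hX hS h₁ (res U O) q
  obtain ⟨p', hp'⟩ := h₂ U O p
  exact ⟨S.g.hom.app (op U) p', by rw [← NatTrans.naturality_apply, hp', hp]⟩

theorem isZero_Rpush_of_flasque (hX : LocIsoBase X) {Y : Scheme.{u}} (f : X ⟶ Y) (n : ℕ) :
    ∀ F : EtCoh.Ab X, Flasque F → IsZero (((EtCoh.push f).rightDerived (n + 1)).obj F) := by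
  have : PreservesFiniteLimits (EtCoh.push f) := push_preservesFiniteLimits f
  induction n with
  | zero =>
    intro F hF
    have : Epi ((EtCoh.push f).map (KerDerived.emb F).g) := by
      apply (sheafToPresheaf _ _).epi_of_epi_map
      refine @NatTrans.epi_of_epi_app _ _ _ _ _ _ _ fun V => ?_
      rw [AddCommGrpCat.epi_iff_surjective]
      exact sections_surjective hX (KerDerived.emb_shortExact F) hF ((EtCoh.bc f).obj V.unop)
    rw [IsZero.iff_id_eq_zero]
    have h := (KerDerived.dl_desc_iff₀ (EtCoh.push f) F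
      ((EtCoh.push f).rightDerivedZeroIsoSelf.inv.app _ ≫ KerDerived.dl _ 0 F)).1
      ⟨𝟙 _, Category.comp_id _⟩
    have h' : (EtCoh.push f).rightDerivedZeroIsoSelf.inv.app _ ≫
        KerDerived.dl (EtCoh.push f) 0 F = 0 :=
      (cancel_epi ((EtCoh.push f).map (KerDerived.emb F).g)).1 (h.trans comp_zero.symm)
    rw [Preadditive.IsIso.comp_left_eq_zero] at h'
    exact (cancel_epi (KerDerived.dl (EtCoh.push f) 0 F)).1
      (by rw [Category.comp_id, comp_zero]; exact h')
  | succ n ih =>
    intro F hF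
    have h3 : Flasque (KerDerived.emb F).X₃ :=
      flasque_of_shortExact hX (KerDerived.emb_shortExact F) hF (flasque_of_injective _)
    exact (ih (KerDerived.emb F).X₃ h3).of_iso (asIso (KerDerived.dl (EtCoh.push f) (n + 1) F)).symm

section const

variable [IrreducibleSpace X] (hX : LocIsoBase X) (U : X.Etale)
include hX

omit hX in
theorem exists_generic_mem (P : U.left.Opens) (hP : (P : Set U.left).Nonempty) :
    ∃ η : U.left, η ∈ P ∧ U.hom η = genericPoint X := by
  have : Etale U.hom := U.prop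
  obtain ⟨p, hp⟩ := hP
  have hopen : IsOpen (U.hom '' (P : Set U.left)) := U.hom.isOpenMap _ P.2
  obtain ⟨η, hη, hηg⟩ := ((genericPoint_spec X).mem_open_set_iff hopen).2
    ⟨U.hom p, by simp, p, hp, rfl⟩
  exact ⟨η, hη, hηg⟩

theorem exists_components : ∃ (G : Type u) (η : G → U.left) (C : G → U.left.Opens),
    (∀ g, η g ∈ C g) ∧ (∀ x, ∃ g, x ∈ C g) ∧
    ∀ g (P : U.left.Opens), ((P : Set U.left) ∩ C g).Nonempty → η g ∈ P := by
  choose O hO hOi using hX U
  let G := {η : U.left // U.hom η = genericPoint X}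
  have huniq : ∀ (u η η' : U.left), U.hom η = genericPoint X → U.hom η' = genericPoint X →
      η ∈ O u → η' ∈ O u → η = η' := by
    intro u η η' e e' h h'
    have := hOi u
    have e2 : (⟨η, h⟩ : O u) = ⟨η', h'⟩ := ((O u).ι ≫ U.hom).isOpenEmbedding.injective (by
      rw [Scheme.Hom.comp_apply, Scheme.Hom.comp_apply]
      exact e.trans e'.symm)
    exact congrArg (fun z : O u => z.1) e2
  refine ⟨G, fun g => g.1, fun g => ⨆ u : {u : U.left // g.1 ∈ O u}, O u.1, fun g => ?_, fun x => ?_,
    fun g P ⟨p, hpP, hpC⟩ => ?_⟩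
  · exact TopologicalSpace.Opens.mem_iSup.2 ⟨⟨g.1, hO g.1⟩, hO g.1⟩
  · obtain ⟨η, hη, hηg⟩ := exists_generic_mem U (O x) ⟨x, hO x⟩
    exact ⟨⟨η, hηg⟩, TopologicalSpace.Opens.mem_iSup.2 ⟨⟨x, hη⟩, hO x⟩⟩
  · obtain ⟨u, hu⟩ := TopologicalSpace.Opens.mem_iSup.1 hpC
    obtain ⟨η', ⟨h1, h2⟩, h3⟩ := exists_generic_mem U (P ⊓ O u.1) ⟨p, hpP, hu⟩
    have e := huniq u.1 η' g.1 h3 g.2 h2 u.2
    change g.1 ∈ P
    rw [← e]
    exact h1

set_option maxHeartbeats 800000 in
/-- Constant sheaves on an irreducible base are flasque. -/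
theorem flasque_constant (A : AddCommGrpCat.{u + 1}) :
    Flasque ((constantSheaf X.smallEtaleTopology AddCommGrpCat.{u + 1}).obj A) := by
  intro U O s
  classical
  let F := (constantSheaf X.smallEtaleTopology AddCommGrpCat.{u + 1}).obj A
  let cpre : X.Etaleᵒᵖ ⥤ AddCommGrpCat.{u + 1} := (Functor.const _).obj A
  let τ : cpre ⟶ F.obj := toSheafify X.smallEtaleTopology cpre
  have : Presheaf.IsLocallyInjective X.smallEtaleTopology τ :=
    inferInstanceAs (Presheaf.IsLocallyInjective X.smallEtaleTopology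
      (toSheafify X.smallEtaleTopology cpre))
  have : Presheaf.IsLocallySurjective X.smallEtaleTopology τ :=
    inferInstanceAs (Presheaf.IsLocallySurjective X.smallEtaleTopology
      (toSheafify X.smallEtaleTopology cpre))
  let c : ∀ W : X.Etale, A → F.obj.obj (op W) := fun W m => τ.app (op W) m
  have hc : ∀ {W W' : X.Etale} (g : W' ⟶ W) (m : A), F.obj.map g.op (c W m) = c W' m :=
    fun g m => (NatTrans.naturality_apply τ g.op m).symm
  have hinj : ∀ (W : X.Etale), Nonempty W.left → ∀ m m', c W m = c W m' → m = m' := by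
    intro W ⟨w⟩ m m' h
    have hR := Presheaf.equalizerSieve_mem X.smallEtaleTopology τ (X := op W) m m' h
    obtain ⟨V, g, v, hg, -⟩ := exists_mem_of_mem_smallEtaleTopology hR w
    exact hg
  obtain ⟨G, η, C, hηC, hcov, hgen⟩ := exists_components hX U
  have hloc : ∀ x, x ∈ O → ∃ (P : U.left.Opens) (m : A) (h : P ≤ O),
      x ∈ P ∧ F.obj.map (incl U h).op s = c _ m := by
    intro x hx
    obtain ⟨v, hv⟩ := (range_resι U O).ge hx
    obtain ⟨Q, hvQ, m, hm⟩ :=
      exists_open_mem hX (Presheaf.imageSieve_mem X.smallEtaleTopology τ s) v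
    have hopen : IsOpen ((resι U O).left.base '' (Q : Set (res U O).left)) :=
      O.ι.isOpenEmbedding.isOpenMap _ Q.2
    have hle : (⟨_, hopen⟩ : U.left.Opens) ≤ O := by
      rintro _ ⟨z, -, rfl⟩
      exact (range_resι U O).le ⟨z, rfl⟩
    refine ⟨⟨_, hopen⟩, m, hle, ⟨v, hvQ, hv⟩, ?_⟩
    have hr : Set.range (incl U hle).left.base ⊆ (Q : Set (res U O).left) := by
      rintro _ ⟨w, rfl⟩
      have e : (resι U O).left.base ((incl U hle).left.base w) = (resι U ⟨_, hopen⟩).left.base w :=
        (Scheme.Hom.comp_apply _ _ w).symm.trans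
          (congrArg (fun m : res U ⟨_, hopen⟩ ⟶ U => m.left.base w) (incl_ι U hle))
      obtain ⟨z, hz, hze⟩ := (range_resι U ⟨_, hopen⟩).le ⟨w, rfl⟩
      rwa [show (incl U hle).left.base w = z from
        O.ι.isOpenEmbedding.injective (e.trans hze.symm)]
    rw [← resLift_ι (incl U hle) Q hr, op_comp, Functor.map_comp_apply]
    exact (congrArg (F.obj.map (resLift (incl U hle) Q hr).op) hm.symm).trans (hc _ m)
  choose P m hPO hxP hPm using hloc
  let μ : G → A := fun g => if h : η g ∈ O then m (η g) h else 0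
  obtain ⟨t, ht⟩ := exists_glue F U C hcov (fun g => c _ (μ g)) (fun g g' => by
    rw [hc, hc]
    by_cases hne : ((C g : Set U.left) ∩ C g').Nonempty
    · have h1 : η g ∈ C g' := hgen g (C g') ⟨hne.some, hne.some_mem.2, hne.some_mem.1⟩
      have h2 : η g' ∈ C g := hgen g' (C g) hne
      suffices η g = η g' by
        have : μ g = μ g' := by simp only [μ, this]
        rw [this]
      refine Inseparable.eq (inseparable_iff_forall_isOpen.2 fun W hW => ⟨fun h => ?_, fun h => ?_⟩)
      · exact hgen g' ⟨W, hW⟩ ⟨η g, h, h1⟩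
      · exact hgen g ⟨W, hW⟩ ⟨η g', h, h2⟩
    · refine ext_of_cover F _ (ι := PEmpty.{u + 1}) (fun e => e.elim) (fun x => ?_) _ _ fun e => e.elim
      exact (hne ⟨_, (range_resι U (C g ⊓ C g')).le ⟨x, rfl⟩⟩).elim)
  refine ⟨t, ?_⟩
  let D : {x : U.left // x ∈ O} × G → (res U O).left.Opens :=
    fun p => (resι U O).left ⁻¹ᵁ (P p.1.1 p.1.2 ⊓ C p.2)
  refine ext_of_cover F (res U O) D (fun y => ?_) _ _ fun p => ?_
  · have hy : (resι U O).left.base y ∈ O := (range_resι U O).le ⟨y, rfl⟩
    obtain ⟨g, hg⟩ := hcov ((resι U O).left.base y)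
    exact ⟨⟨⟨_, hy⟩, g⟩, hxP _ hy, hg⟩
  · obtain ⟨⟨x, hx⟩, g⟩ := p
    have hr : Set.range (resι (res U O) (D (⟨x, hx⟩, g)) ≫ resι U O).left.base ⊆
        ((P x hx ⊓ C g : U.left.Opens) : Set U.left) := by
      rintro _ ⟨w, rfl⟩
      rw [show (resι (res U O) (D (⟨x, hx⟩, g)) ≫ resι U O).left.base w =
        (resι U O).left.base ((resι (res U O) (D (⟨x, hx⟩, g))).left.base w) from
          Scheme.Hom.comp_apply _ _ w]
      exact (range_resι (res U O) (D (⟨x, hx⟩, g))).le ⟨w, rfl⟩
    let l := resLift (resι (res U O) (D (⟨x, hx⟩, g)) ≫ resι U O) _ hr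
    have e1 : l ≫ incl U (inf_le_left.trans (hPO x hx)) = resι (res U O) (D (⟨x, hx⟩, g)) :=
      hom_res_ext (by rw [Category.assoc, incl_ι, resLift_ι])
    have lhs : F.obj.map (resι (res U O) (D (⟨x, hx⟩, g))).op (F.obj.map (resι U O).op t) =
        c _ (μ g) := by
      have e2 : l ≫ incl U inf_le_right ≫ resι U (C g) =
          resι (res U O) (D (⟨x, hx⟩, g)) ≫ resι U O := by rw [incl_ι, resLift_ι]
      rw [← Functor.map_comp_apply, ← op_comp, ← e2, op_comp, op_comp, Functor.map_comp_apply,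
        Functor.map_comp_apply]
      erw [ht g]
      rw [hc, hc]
    have rhs : F.obj.map (resι (res U O) (D (⟨x, hx⟩, g))).op s = c _ (m x hx) := by
      rw [← e1, op_comp, Functor.map_comp_apply, ← map_incl_incl F U inf_le_left (hPO x hx)]
      rw [hPm x hx, hc, hc]
    refine lhs.trans (Eq.trans ?_ rhs.symm)
    by_cases hne : Nonempty (res (res U O) (D (⟨x, hx⟩, g))).left
    · refine congrArg (c _) ?_
      obtain ⟨w⟩ := hne
      have hw := hr ⟨w, rfl⟩
      have hηP : η g ∈ P x hx := hgen g (P x hx) ⟨_, hw⟩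
      have hηO : η g ∈ O := hPO x hx hηP
      simp only [μ, dif_pos hηO]
      refine hinj (res U (P (η g) hηO ⊓ P x hx)) ⟨⟨η g, hxP _ hηO, hηP⟩⟩ _ _ ?_
      rw [← hc (incl U inf_le_left) (m (η g) hηO), ← hc (incl U inf_le_right) (m x hx),
        ← hPm (η g) hηO, ← hPm x hx, map_incl_incl, map_incl_incl]
    · exact ext_of_cover F _ (ι := PEmpty.{u + 1}) (fun e => e.elim) (fun y => (hne ⟨y⟩).elim) _ _
        fun e => e.elim

end const

end Groth.Agent.EtSite.LocIso
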