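import Groth.Agent.EtSite.LocConst

/-!
# The germ criterion with algebraically closed points only
-/

set_option autoImplicit false
universe u

open CategoryTheory CategoryTheory.Limits AlgebraicGeometry Opposite

namespace Groth.Agent.EtSite.LocConstAlg

open LocConst

variable {X : Scheme.{u}} {F : EtCoh.Ab X} {U : X.Etale} {A : Type (u + 1)} [AddCommGroup A]

/-- An algebraically closed geometric point at `x`. -/
noncomputable def apt (x : X) :
    Spec (CommRingCat.of (AlgebraicClosure (X.residueField x))) ⟶ X :=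
  Spec.map (CommRingCat.ofHom (algebraMap (X.residueField x) (AlgebraicClosure (X.residueField x)))) ≫
    X.fromSpecResidueField x

theorem apt_apply (x : X) (p : Spec (CommRingCat.of (AlgebraicClosure (X.residueField x)))) :
    (apt x).base p = x := by
  rw [apt]
  exact Scheme.fromSpecResidueField_apply x _

/-- Bijectivity on germs at algebraically closed points suffices. -/
theorem germBij_of_algClosed {φ : A →+ EtCoh.sect F U}
    (h : ∀ (Ω : Type u) [Field Ω] [IsAlgClosed Ω] (ξ : Spec (CommRingCat.of Ω) ⟶ X)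
      (t : (Scheme.pointSmallEtale ξ).fiber.obj U),
      Function.Bijective fun m : A => (Scheme.pointSmallEtale ξ).toPresheafFiber U t F.obj (φ m)) :
    GermBij F U φ := by
  let J := X.smallEtaleTopology.over U
  let τ := natOf F U φ
  have hpt : ∀ (V : Over U) (x : V.left.left),
      let Φ := Scheme.pointSmallEtale (apt x ≫ V.left.hom)
      ∃ v : Φ.fiber.obj V.left, v.left = apt x ∧
        Function.Bijective fun m : A => Φ.toPresheafFiber V.left v F.obj (F.obj.map V.hom.op (φ m)) := by
    intro V x Φ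
    let v : Φ.fiber.obj V.left := Over.homMk (apt x) rfl
    refine ⟨v, rfl, ?_⟩
    convert h _ _ (Φ.fiber.map V.hom v) using 2 with m
    exact Φ.toPresheafFiber_w_apply V.hom v F.obj (φ m)
  have hi : Presheaf.IsLocallyInjective J τ := ⟨fun {V} m m' hm => by
    rw [GrothendieckTopology.mem_over_iff]
    refine mem_smallEtaleTopology_of_points _ _ fun x => ⟨V.unop.left, 𝟙 _, x, ?_, rfl⟩
    rw [Sieve.overEquiv_iff]
    obtain ⟨v, -, hb⟩ := hpt V.unop x
    exact hb.1 (congrArg _ hm)⟩
  have hs : Presheaf.IsLocallySurjective J τ := ⟨fun {V} s => by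
    rw [GrothendieckTopology.mem_over_iff]
    refine mem_smallEtaleTopology_of_points _ _ fun x => ?_
    obtain ⟨v, hv, hb⟩ := hpt V x
    obtain ⟨m, hm⟩ := hb.2 ((Scheme.pointSmallEtale (apt x ≫ V.left.hom)).toPresheafFiber V.left v
      F.obj s)
    obtain ⟨W, g, w, hw, hg⟩ :=
      ((Scheme.pointSmallEtale (apt x ≫ V.left.hom)).toPresheafFiber_eq_iff' _ _ _ _).1 hm
    refine ⟨W, g, w.left (default : Spec (CommRingCat.of (AlgebraicClosure (V.left.left.residueField x)))), ?_, ?_⟩
    · rw [Sieve.overEquiv_iff]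
      refine ⟨m, ?_⟩
      change F.obj.map (g ≫ V.hom).op (φ m) = F.obj.map g.op s
      rw [op_comp, Functor.map_comp_apply]
      exact hg
    · have hl : w.left ≫ g.left = apt x := (congrArg CommaMorphism.left hw).trans hv
      exact (Scheme.Hom.comp_apply _ _ _).symm.trans
        ((congrArg (fun m : _ ⟶ V.left.left => m.base _) hl).trans (apt_apply x _))⟩
  intro Ω _ _ ξ t
  let Φ := Scheme.pointSmallEtale ξ
  refine ⟨fun m m' hmm => ?_, fun p => ?_⟩
  · obtain ⟨W, g, w, -, hg⟩ := (Φ.toPresheafFiber_eq_iff' _ _ _ _).1 hmm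
    have hR := Presheaf.equalizerSieve_mem J τ (X := op (Over.mk g)) m m' hg
    rw [GrothendieckTopology.mem_over_iff] at hR
    obtain ⟨T, k, hk, -⟩ := Φ.jointly_surjective _ hR w
    rw [Sieve.overEquiv_iff] at hk
    exact hk
  · obtain ⟨V, v, s, rfl⟩ := Φ.toPresheafFiber_jointly_surjective p
    obtain ⟨⟨W, w⟩, a, b, -⟩ := IsCofilteredOrEmpty.cone_objs (C := Φ.fiber.Elements)
      ⟨U, t⟩ ⟨V, v⟩
    have hR := Presheaf.imageSieve_mem J τ (U := op (Over.mk a.1)) (F.obj.map b.1.op s)
    rw [GrothendieckTopology.mem_over_iff] at hR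
    obtain ⟨T, k, hk, t', hwk⟩ := Φ.jointly_surjective _ hR w
    rw [Sieve.overEquiv_iff] at hk
    obtain ⟨m, hm⟩ := hk
    refine ⟨m, ?_⟩
    have e1 : F.obj.map (k ≫ a.1).op (φ m) = F.obj.map k.op (F.obj.map b.1.op s) := hm
    rw [op_comp, Functor.map_comp_apply] at e1
    change Φ.toPresheafFiber U t F.obj (φ m) = Φ.toPresheafFiber V v F.obj s
    have ea : Φ.fiber.map a.1 w = t := a.2
    have eb : Φ.fiber.map b.1 w = v := b.2
    have key : ∀ x, Φ.toPresheafFiber W w F.obj x = Φ.toPresheafFiber T t' F.obj (F.obj.map k.op x) :=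
      fun x => (congrArg (fun y => Φ.toPresheafFiber W y F.obj x) hwk).symm.trans
        (Φ.toPresheafFiber_w_apply k t' F.obj x).symm
    rw [← ea, ← eb, ← Φ.toPresheafFiber_w_apply, ← Φ.toPresheafFiber_w_apply]
    exact (key _).trans ((congrArg _ e1).trans (key _).symm)

end Groth.Agent.EtSite.LocConstAlg
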