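import Groth.Agent.Rigidity.Basic
import Mathlib.AlgebraicGeometry.Morphisms.UniversallyInjective
import Mathlib.AlgebraicGeometry.Morphisms.UniversallyClosed
import Mathlib.AlgebraicGeometry.Morphisms.Etale
import Mathlib.AlgebraicGeometry.Morphisms.IsIso

/-!
# Sections of étale morphisms descend along universal homeomorphisms
-/

set_option autoImplicit false
universe u

open CategoryTheory CategoryTheory.Limits AlgebraicGeometry

namespace Groth.Agent.EtSite

theorem isOpenImmersion_of_section {P Y : Scheme.{u}} (q : P ⟶ Y) [Etale q] (s : Y ⟶ P)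
    (hs : s ≫ q = 𝟙 Y) : IsOpenImmersion s := by
  have : Etale (s ≫ q) := hs ▸ inferInstance
  have : Etale s := Etale.of_comp s q
  have : IsSplitMono s := ⟨⟨⟨q, hs⟩⟩⟩
  exact Rigidity.isOpenImmersion_of_etale_of_universallyInjective s

/-- A section of an étale morphism over a universal homeomorphism descends uniquely. -/
theorem existsUnique_descent {Y Y' P : Scheme.{u}} (π : Y' ⟶ Y) [Surjective π] [UniversallyInjective π]
    [UniversallyClosed π] (q : P ⟶ Y) [Etale q] (a : Y' ⟶ P) (ha : a ≫ q = π) :
    ∃! b : Y ⟶ P, b ≫ q = 𝟙 Y ∧ π ≫ b = a := by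
  let πP := pullback.fst q π
  let s : Y' ⟶ pullback q π := pullback.lift a (𝟙 Y') (by simp [ha])
  have : Etale (pullback.snd q π) := MorphismProperty.pullback_snd _ _ inferInstance
  have : IsOpenImmersion s := isOpenImmersion_of_section (pullback.snd q π) s (pullback.lift_snd _ _ _)
  have hsa : s ≫ πP = a := pullback.lift_fst _ _ _
  have hπPs : Surjective πP := MorphismProperty.pullback_fst _ _ inferInstance
  have : UniversallyInjective πP := MorphismProperty.pullback_fst _ _ inferInstance
  have : UniversallyClosed πP := MorphismProperty.pullback_fst _ _ inferInstance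
  let U : P.Opens := ⟨(πP '' (Set.range s)ᶜ)ᶜ,
    (πP.isClosedMap _ s.isOpenEmbedding.isOpen_range.isClosed_compl).isOpen_compl⟩
  have hU : (U : Set P) = Set.range a := by
    show (πP '' (Set.range s)ᶜ)ᶜ = Set.range a
    rw [Set.image_compl_eq ⟨πP.injective, hπPs.surj⟩, compl_compl, ← Set.range_comp, ← hsa]
    rfl
  let πU : Y' ⟶ U := IsOpenImmersion.lift U.ι a (by rw [Scheme.Opens.range_ι, hU])
  have hπU : πU ≫ U.ι = a := IsOpenImmersion.lift_fac _ _ _
  have hcomp : πU ≫ U.ι ≫ q = π := by rw [reassoc_of% hπU, ha]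
  have : Surjective πU := ⟨fun y => by
    obtain ⟨z, hz⟩ : U.ι y ∈ Set.range a := hU ▸ ((Set.ext_iff.1 (Scheme.Opens.range_ι U) _).1 ⟨y, rfl⟩)
    refine ⟨z, U.ι.isOpenEmbedding.injective ?_⟩
    rw [← hz, ← hπU, Scheme.Hom.comp_apply]⟩
  have : Surjective (πU ≫ U.ι ≫ q) := hcomp ▸ inferInstance
  have : Surjective (U.ι ≫ q) := Surjective.of_comp πU _
  have : UniversallyInjective (U.ι ≫ q) := by
    rw [UniversallyInjective.iff_diagonal]
    constructor
    intro z
    obtain ⟨w, hw⟩ : ∃ w : ↥(pullback π π),
        pullback.map π π (U.ι ≫ q) (U.ι ≫ q) πU πU (𝟙 _) (by simpa using hcomp.symm)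
          (by simpa using hcomp.symm) w = z := by
      have : Surjective (pullback.map π π (U.ι ≫ q) (U.ι ≫ q) πU πU (𝟙 _) (by simpa using hcomp.symm)
          (by simpa using hcomp.symm)) := by
        apply MorphismProperty.pullback_map <;> first | infer_instance | assumption | simp [hcomp]
      exact this.surj z
    obtain ⟨y, rfl⟩ := ((UniversallyInjective.iff_diagonal π).1 inferInstance).surj w
    refine ⟨πU y, ?_⟩
    rw [← hw, ← Scheme.Hom.comp_apply, ← Scheme.Hom.comp_apply]
    refine congrArg (fun m : Y' ⟶ pullback.diagonalObj (U.ι ≫ q) => m y) ?_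
    apply pullback.hom_ext
    · simp only [Category.assoc, pullback.map, pullback.diagonal_fst, Category.comp_id]
      exact ((congrArg (pullback.diagonal π ≫ ·) (pullback.lift_fst _ _ _)).trans
        (pullback.diagonal_fst_assoc π πU)).symm
    · simp only [Category.assoc, pullback.map, pullback.diagonal_snd, Category.comp_id]
      exact ((congrArg (pullback.diagonal π ≫ ·) (pullback.lift_snd _ _ _)).trans
        (pullback.diagonal_snd_assoc π πU)).symm
  have : IsOpenImmersion (U.ι ≫ q) := Rigidity.isOpenImmersion_of_etale_of_universallyInjective _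
  have : IsIso (U.ι ≫ q) := (isIso_iff_isOpenImmersion_and_surjective _).2 ⟨inferInstance, inferInstance⟩
  refine ⟨inv (U.ι ≫ q) ≫ U.ι, ⟨by simp, ?_⟩, ?_⟩
  · calc π ≫ inv (U.ι ≫ q) ≫ U.ι = (πU ≫ U.ι ≫ q) ≫ inv (U.ι ≫ q) ≫ U.ι := by rw [hcomp]
      _ = a := by simp [hπU]
  · rintro b ⟨hb, hba⟩
    have hr : Set.range b ⊆ Set.range U.ι := by
      rintro _ ⟨y, rfl⟩
      obtain ⟨y', rfl⟩ := π.surjective y
      rw [Scheme.Opens.range_ι, hU, ← hba]
      exact ⟨y', Scheme.Hom.comp_apply _ _ _⟩
    have hl := IsOpenImmersion.lift_fac U.ι b hr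
    rw [← hl]
    congr 1
    rw [← cancel_mono (U.ι ≫ q), IsIso.inv_hom_id, reassoc_of% hl, hb]

theorem bijective_pullback_map_of_universalHomeomorph {S S' : Scheme.{u}} (g : S' ⟶ S) [Surjective g]
    [UniversallyInjective g] [UniversallyClosed g] (X Y : Over S) [Etale X.hom] :
    Function.Bijective (fun φ : Y ⟶ X => (Over.pullback g).map φ) := by
  let π := pullback.fst Y.hom g
  have : Surjective π := MorphismProperty.pullback_fst _ _ inferInstance
  have : UniversallyInjective π := MorphismProperty.pullback_fst _ _ inferInstance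
  have : UniversallyClosed π := MorphismProperty.pullback_fst _ _ inferInstance
  let q := pullback.snd X.hom Y.hom
  have : Etale q := MorphismProperty.pullback_snd _ _ inferInstance
  have key : ∀ (φ : Y ⟶ X),
      ((Over.pullback g).map φ).left ≫ pullback.fst X.hom g = π ≫ φ.left := fun φ => pullback.lift_fst _ _ _
  constructor
  · intro φ φ' h
    have h' : π ≫ φ.left = π ≫ φ'.left := by
      rw [← key, ← key]
      exact congrArg (fun m => m.left ≫ pullback.fst X.hom g) h
    let a : pullback Y.hom g ⟶ pullback X.hom Y.hom := pullback.lift (π ≫ φ.left) π (by simp)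
    obtain ⟨b, -, hb⟩ := existsUnique_descent π q a (pullback.lift_snd _ _ _)
    have h1 := hb (pullback.lift φ.left (𝟙 _) (by simp))
      ⟨pullback.lift_snd _ _ _, pullback.hom_ext
        ((Category.assoc _ _ _).trans ((congrArg (π ≫ ·) (pullback.lift_fst _ _ _)).trans
          (pullback.lift_fst _ _ _).symm))
        ((Category.assoc _ _ _).trans (((congrArg (π ≫ ·) (pullback.lift_snd _ _ _)).trans
          (Category.comp_id π)).trans (pullback.lift_snd _ _ _).symm))⟩
    have h2 := hb (pullback.lift φ'.left (𝟙 _) (by simp))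
      ⟨pullback.lift_snd _ _ _, pullback.hom_ext
        ((Category.assoc _ _ _).trans ((congrArg (π ≫ ·) (pullback.lift_fst _ _ _)).trans
          (h'.symm.trans (pullback.lift_fst _ _ _).symm)))
        ((Category.assoc _ _ _).trans (((congrArg (π ≫ ·) (pullback.lift_snd _ _ _)).trans
          (Category.comp_id π)).trans (pullback.lift_snd _ _ _).symm))⟩
    exact Over.OverMorphism.ext ((pullback.lift_fst _ _ _).symm.trans
      ((congrArg (· ≫ pullback.fst _ _) (h1.trans h2.symm)).trans (pullback.lift_fst _ _ _)))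
  · intro ψ
    have hw : (ψ.left ≫ pullback.fst X.hom g) ≫ X.hom = π ≫ Y.hom := by
      rw [Category.assoc, pullback.condition, pullback.condition]
      exact (Category.assoc _ _ _).symm.trans (congrArg (· ≫ g) (Over.w ψ))
    obtain ⟨b, ⟨hb1, hb2⟩, -⟩ := existsUnique_descent π q
      (pullback.lift (ψ.left ≫ pullback.fst X.hom g) π hw) (pullback.lift_snd _ _ _)
    let φ : Y ⟶ X := Over.homMk (b ≫ pullback.fst X.hom Y.hom)
      (by rw [Category.assoc, pullback.condition, reassoc_of% hb1])
    refine ⟨φ, Over.OverMorphism.ext (pullback.hom_ext ?_ ?_)⟩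
    · refine (key φ).trans ?_
      show π ≫ b ≫ pullback.fst X.hom Y.hom = _
      rw [reassoc_of% hb2]
      exact pullback.lift_fst _ _ _
    · exact (Over.w _).trans (Over.w ψ).symm

end Groth.Agent.EtSite
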