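import Groth.Agent.EtSite.FLCBasic
import Groth.Agent.EtSite.LocConstAlg
import Groth.Agent.EtSite.PushFinite
import Groth.Agent.EtSite.FlasqueLocalIso
import Groth.Agent.EtSite.TopInv

/-!
# Direct image of a finite locally constant sheaf along a finite étale morphism
-/

set_option autoImplicit false
universe u

open CategoryTheory CategoryTheory.Limits AlgebraicGeometry Opposite

namespace Groth.Agent.EtSite.FLCPush

open LocConst FLCBasic LocConstAlg

variable {X Y : Scheme.{u}} (f : X ⟶ Y)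

/-- An étale `X`-scheme, seen over `Y`. -/
noncomputable def compY [Etale f] (U : X.Etale) : Y.Etale :=
  @Scheme.Etale.mk Y U.left (U.hom ≫ f)
    (MorphismProperty.comp_mem (W := EtCoh.etaleMP) _ _ U.prop (inferInstance : Etale f))

theorem exists_common_objs {S : Scheme.{u}} {Ω : Type u} [Field Ω] [IsSepClosed Ω]
    {ξ : Spec (CommRingCat.of Ω) ⟶ S} {κ : Type*} [Finite κ] (U : κ → S.Etale)
    (t : ∀ k, (Scheme.pointSmallEtale ξ).fiber.obj (U k)) :
    ∃ (W : S.Etale) (w : (Scheme.pointSmallEtale ξ).fiber.obj W) (a : ∀ k, W ⟶ U k),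
      ∀ k, (Scheme.pointSmallEtale ξ).fiber.map (a k) w = t k := by
  classical
  let Φ := Scheme.pointSmallEtale ξ
  cases nonempty_fintype κ
  suffices H : ∀ s : Finset κ, ∃ (W : S.Etale) (w : Φ.fiber.obj W),
      ∀ k ∈ s, ∃ a : W ⟶ U k, Φ.fiber.map a w = t k by
    obtain ⟨W, w, h⟩ := H Finset.univ
    choose a ha using fun k => h k (Finset.mem_univ k)
    exact ⟨W, w, a, ha⟩
  intro s
  induction s using Finset.induction with
  | empty => exact ⟨EtCoh.top S, Over.homMk ξ (Category.comp_id _), fun k hk => absurd hk (Finset.notMem_empty k)⟩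
  | @insert k₀ s _ ih =>
    obtain ⟨W, w, h⟩ := ih
    obtain ⟨⟨T, r⟩, ⟨g, hg⟩, ⟨g', hg'⟩, -⟩ := IsCofilteredOrEmpty.cone_objs
      (C := Φ.fiber.Elements) ⟨W, w⟩ ⟨U k₀, t k₀⟩
    dsimp only at g g' hg hg'
    refine ⟨T, r, fun k hk => ?_⟩
    rcases Finset.mem_insert.1 hk with rfl | hk
    · exact ⟨g', hg'⟩
    · obtain ⟨a, ha⟩ := h k hk
      exact ⟨g ≫ a, by rw [Functor.map_comp]; exact (congrArg (Φ.fiber.map a) hg).trans ha⟩

variable [Etale f] {κ : Type u} {U : κ → X.Etale} {W : Y.Etale} (a : ∀ k, W ⟶ compY f (U k))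

/-- The section of `W ×_Y X` over `W` given by a map to a neighbourhood upstairs. -/
noncomputable def sec (k : κ) : W.left ⟶ ((EtCoh.bc f).obj W).left :=
  pullback.lift (𝟙 W.left) ((a k).left ≫ (U k).hom)
    ((Category.id_comp _).trans ((Over.w (a k).toCommaMorphism).symm.trans
      (Category.assoc _ _ _).symm))

theorem sec_fst (k : κ) : sec f a k ≫ pullback.fst W.hom f = 𝟙 W.left := pullback.lift_fst _ _ _

theorem sec_snd (k : κ) : sec f a k ≫ pullback.snd W.hom f = (a k).left ≫ (U k).hom :=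
  pullback.lift_snd _ _ _

instance (k : κ) : IsOpenImmersion (sec f a k) :=
  haveI : Etale (pullback.fst W.hom f) := MorphismProperty.pullback_fst _ _ inferInstance
  isOpenImmersion_of_section (pullback.fst W.hom f) _ (sec_fst f a k)

theorem lift_eq_sec {Ω : Type u} [Field Ω]
    {φ : Spec (CommRingCat.of Ω) ⟶ ((EtCoh.bc f).obj W).left} (k : κ) (x : Spec (CommRingCat.of Ω))
    (h : φ x ∈ Set.range (sec f a k)) :
    φ = (φ ≫ pullback.fst W.hom f) ≫ sec f a k := by
  have hr : Set.range φ ⊆ Set.range (sec f a k) := by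
    rintro _ ⟨y, rfl⟩
    rwa [Subsingleton.elim y x]
  have e := IsOpenImmersion.lift_fac (sec f a k) φ hr
  have : φ ≫ pullback.fst W.hom f = IsOpenImmersion.lift (sec f a k) φ hr := by
    conv_lhs => rw [← e]
    exact (Category.assoc _ _ _).trans ((congrArg _ (sec_fst f a k)).trans (Category.comp_id _))
  rw [this, e]

variable [IsFinite f]

/-- Gluing over disjoint sections. -/
theorem exists_germBij_push (F : EtCoh.Ab X) (M : κ → Type (u + 1)) [∀ k, AddCommGroup (M k)]
    (φ : ∀ k, M k →+ EtCoh.sect F (U k)) (hφ : ∀ k, GermBij F (U k) (φ k))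
    (hd : Pairwise (Function.onFun Disjoint fun k => Set.range (sec f a k)))
    (hcov : ∀ p : ((EtCoh.bc f).obj W).left, ∃ k, p ∈ Set.range (sec f a k)) :
    ∃ ψ : (∀ k, M k) →+ EtCoh.sect ((EtCoh.push f).obj F) W,
      GermBij ((EtCoh.push f).obj F) W ψ := by
  let P : X.Etale := (EtCoh.bc f).obj W
  let C : κ → X.Etale := fun k => @Scheme.Etale.mk X W.left (sec f a k ≫ P.hom)
    (MorphismProperty.comp_mem (W := EtCoh.etaleMP) _ _ (inferInstance : Etale (sec f a k)) P.prop)
  let gk : ∀ k, C k ⟶ P := fun k => MorphismProperty.Over.homMk (sec f a k) rfl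
  let φk : ∀ k, C k ⟶ U k := fun k =>
    MorphismProperty.Over.homMk (a k).left (sec_snd f a k).symm
  have hopen : ∀ k, IsOpenImmersion (gk k).left := fun k =>
    inferInstanceAs (IsOpenImmersion (sec f a k))
  have hS : Sieve.ofArrows C gk ∈ X.smallEtaleTopology P :=
    mem_smallEtaleTopology_of_points P _ fun y => by
      obtain ⟨k, v, hv⟩ := hcov y
      exact ⟨C k, gk k, v, Sieve.ofArrows_mk C gk k, hv⟩
  have hext : ∀ s s' : EtCoh.sect F P, (∀ k, F.obj.map (gk k).op s = F.obj.map (gk k).op s') →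
      s = s' := fun s s' h => by
    refine ((LocIso.forget_isSheaf F).isSeparated _ hS).ext ?_
    rintro Z g ⟨_, b, _, ⟨k⟩, rfl⟩
    change F.obj.map (b ≫ gk k).op s = F.obj.map (b ≫ gk k).op s'
    rw [op_comp, Functor.map_comp_apply, Functor.map_comp_apply, h k]
  choose ψ hψ using fun m : ∀ k, M k =>
    exists_glue_disjoint F gk hopen hd hcov fun k => F.obj.map (φk k).op (φ k (m k))
  refine ⟨AddMonoidHom.mk' ψ fun m n => hext _ _ fun k => ?_,
    germBij_of_algClosed fun Ω _ _ η s => ?_⟩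
  · exact (hψ (m + n) k).trans (((congrArg _ (map_add (φ k) _ _)).trans (map_add _ _ _)).trans
      ((congrArg₂ (· + ·) (hψ m k) (hψ n k)).symm.trans
        (map_add (F.obj.map (gk k).op).hom _ _).symm))
  let sl : Spec (CommRingCat.of Ω) ⟶ W.left := s.left
  let ξ' : κ → (Spec (CommRingCat.of Ω) ⟶ X) := fun k => sl ≫ sec f a k ≫ P.hom
  have hξ' : ∀ k, ξ' k ≫ f = η := fun k => by
    refine (congrArg (fun m => (s.left ≫ m) ≫ f) (sec_snd f a k)).trans ?_
    refine (Category.assoc _ _ _).trans ((congrArg (s.left ≫ ·) ?_).trans (Over.w s))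
    exact (Category.assoc _ _ _).trans (Over.w (a k).toCommaMorphism)
  have hlift : ∀ k, (liftPt f η (ξ' k) (hξ' k) W s).left = s.left ≫ sec f a k := fun k =>
    pullback.hom_ext ((pullback.lift_fst _ _ _).trans
      ((Category.comp_id _).symm.trans ((congrArg (s.left ≫ ·) (sec_fst f a k)).symm.trans
        (Category.assoc _ _ _).symm)))
      ((pullback.lift_snd _ _ _).trans (Category.assoc _ _ _).symm)
  have hsurj : ∀ (ξ : Spec (CommRingCat.of Ω) ⟶ X) (h : ξ ≫ f = η), ∃ k, ξ' k = ξ := fun ξ h => by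
    let l : Spec (CommRingCat.of Ω) ⟶ P.left := (liftPt f η ξ h W s).left
    obtain ⟨k, hk⟩ := hcov (l default)
    refine ⟨k, ?_⟩
    have hl := lift_eq_sec f a k default hk
    have h1 : l ≫ pullback.fst W.hom f = s.left := pullback.lift_fst _ _ _
    have h2 : l ≫ pullback.snd W.hom f = ξ := pullback.lift_snd _ _ _
    rw [h1] at hl
    exact (Category.assoc _ _ _).symm.trans ((congrArg (· ≫ P.hom) hl.symm).trans h2)
  have hb : ∀ k, Function.Bijective fun m : M k => (Scheme.pointSmallEtale (ξ' k)).toPresheafFiber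
      (C k) (Over.homMk s.left rfl) F.obj (F.obj.map (φk k).op (φ k m)) := fun k =>
    (hφ k).map (φk k) Ω (ξ' k) _
  have hgerm : ∀ k (m : ∀ k, M k), (germMap f η (ξ' k) (hξ' k)).app F
      ((Scheme.pointSmallEtale η).toPresheafFiber W s ((EtCoh.push f).obj F).obj (ψ m)) =
      (Scheme.pointSmallEtale (ξ' k)).toPresheafFiber (C k) (Over.homMk s.left rfl) F.obj
        (F.obj.map (φk k).op (φ k (m k))) := fun k m => by
    rw [germMap_germ, ← hψ m k, (Scheme.pointSmallEtale (ξ' k)).toPresheafFiber_w_apply]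
    exact congrArg (fun y => (Scheme.pointSmallEtale (ξ' k)).toPresheafFiber P y F.obj (ψ m))
      (Over.OverMorphism.ext (hlift k))
  refine ⟨fun m m' h => funext fun k => (hb k).1 ?_, fun p => ?_⟩
  · exact (hgerm k m).symm.trans ((congrArg _ h).trans (hgerm k m'))
  · choose m hm using fun k => (hb k).2 ((germMap f η (ξ' k) (hξ' k)).app F p)
    refine ⟨m, sub_eq_zero.1 (germMap_jointly_injective f η F _ fun ξ hξ => ?_)⟩
    obtain ⟨k, rfl⟩ := hsurj ξ hξ
    exact (map_sub ((germMap f η (ξ' k) hξ).app F).hom _ _).trans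
      (sub_eq_zero.2 ((hgerm k m).trans (hm k)))

theorem isFLC_push {F : EtCoh.Ab X} (hF : EtCoh.IsFiniteLocallyConstant F) :
    EtCoh.IsFiniteLocallyConstant ((EtCoh.push f).obj F) := by
  classical
  refine isFLC_of_forall_point fun y => ?_
  let Ω := AlgebraicClosure (Y.residueField y)
  let η : Spec (CommRingCat.of Ω) ⟶ Y := apt y
  let κ := {ξ : Spec (CommRingCat.of Ω) ⟶ X // ξ ≫ f = η}
  have : Finite κ := finite_lifts_of_isFinite f η
  choose U t M hM hMf φ hφ using fun k : κ => localData_of_isFLC hF Ω k.1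
  have hw : ∀ k : κ, (t k).left ≫ (U k).hom = k.1 := fun k => Over.w (t k)
  obtain ⟨W, w, a, ha⟩ := exists_common_objs (fun k => compY f (U k)) (ξ := η) fun k =>
    Over.homMk (t k).left ((Category.assoc _ _ _).symm.trans ((congrArg (· ≫ f) (hw k)).trans k.2))
  let wl : Spec (CommRingCat.of Ω) ⟶ W.left := w.left
  let pr : ((EtCoh.bc f).obj W).left ⟶ W.left := pullback.fst W.hom f
  have : IsFinite pr := inferInstanceAs (IsFinite (pullback.fst W.hom f))
  have hawl : ∀ k, wl ≫ (a k).left = (t k).left := fun k => congrArg CommaMorphism.left (ha k)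
  have hsep : ∀ k, wl ≫ sec f a k ≫ pullback.snd W.hom f = k.1 := fun k => by
    rw [sec_snd, ← hw k, ← hawl k]
    exact (Category.assoc _ _ _).symm
  have hclosed : ∀ k, IsClosedImmersion (sec f a k) := fun k =>
    haveI : IsClosedImmersion (sec f a k ≫ pr) := by rw [sec_fst]; infer_instance
    IsClosedImmersion.of_comp (sec f a k) pr
  let cov : Set ((EtCoh.bc f).obj W).left := ⋃ k, Set.range (sec f a k)
  let bad : Set W.left := pr '' covᶜ ∪
    ⋃ p : {p : κ × κ // p.1 ≠ p.2}, pr '' (Set.range (sec f a p.1.1) ∩ Set.range (sec f a p.1.2))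
  have hbad : IsClosed bad := by
    refine (pr.isClosedMap _ (isOpen_iUnion fun k =>
      (sec f a k).isOpenEmbedding.isOpen_range).isClosed_compl).union
      (isClosed_iUnion_of_finite fun p => pr.isClosedMap _ ?_)
    exact ((sec f a _).isClosedEmbedding.isClosed_range).inter (sec f a _).isClosedEmbedding.isClosed_range
  have hw0 : wl default ∉ bad := by
    rintro (⟨p, hp, hpw⟩ | h)
    · obtain ⟨l, hl, (hlp : Weighting.pt l = p)⟩ := exists_lift_of_isIntegralHom pr wl p
        (hpw.trans (congrArg wl.base (Weighting.point_eq (Ω := Ω) _)))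
      let ξ := l ≫ pullback.snd W.hom f
      have hξ : ξ ≫ f = η := (Category.assoc _ _ _).trans ((congrArg (l ≫ ·) pullback.condition.symm).trans
        ((Category.assoc _ _ _).symm.trans ((congrArg (· ≫ W.hom) hl).trans (Over.w w))))
      have e : l = wl ≫ sec f a ⟨ξ, hξ⟩ := pullback.hom_ext (hl.trans ((Category.comp_id _).symm.trans
        ((congrArg (wl ≫ ·) (sec_fst f a _)).symm.trans (Category.assoc _ _ _).symm)))
        ((hsep ⟨ξ, hξ⟩).symm.trans (Category.assoc _ _ _).symm)
      refine hp (Set.mem_iUnion.2 ⟨⟨ξ, hξ⟩, wl default, ?_⟩)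
      rw [← hlp, e]
      exact (congrArg (wl ≫ sec f a ⟨ξ, hξ⟩).base (Weighting.point_eq (Ω := Ω) default)).trans rfl
    · obtain ⟨⟨⟨k, l⟩, hkl⟩, x, ⟨⟨p, hp⟩, ⟨q, hq⟩⟩, hx⟩ := Set.mem_iUnion.1 h
      have hps : ∀ (j : κ) (z : W.left), pr (sec f a j z) = z := fun j z =>
        (Scheme.Hom.comp_apply _ _ _).symm.trans (congrArg (fun m : W.left ⟶ W.left => m z) (sec_fst f a j))
      have hp' : p = wl default := (hps k p).symm.trans ((congrArg pr hp).trans hx)
      have hq' : q = wl default := (hps l q).symm.trans ((congrArg pr hq).trans hx)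
      have e := lift_eq_sec f a k (φ := wl ≫ sec f a l) default
        ⟨p, hp.trans (hq.symm.trans ((congrArg (sec f a l) hq').trans (Scheme.Hom.comp_apply _ _ _).symm))⟩
      have e' : wl ≫ sec f a l = wl ≫ sec f a k := e.trans (congrArg (· ≫ sec f a k)
        ((Category.assoc _ _ _).trans ((congrArg (wl ≫ ·) (sec_fst f a l)).trans (Category.comp_id _))))
      exact hkl (Subtype.ext ((hsep k).symm.trans ((Category.assoc _ _ _).symm.trans
        ((congrArg (· ≫ pullback.snd W.hom f) e'.symm).trans ((Category.assoc _ _ _).trans (hsep l))))))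
  let O : W.left.Opens := ⟨badᶜ, hbad.isOpen_compl⟩
  let W' := AllPoints.res W O
  let a' : ∀ k, W' ⟶ compY f (U k) := fun k => AllPoints.resι W O ≫ a k
  let r := (EtCoh.bc f).map (AllPoints.resι W O)
  have hr_fst : r.left ≫ pr = pullback.fst W'.hom f ≫ O.ι := bc_map_left_fst f (AllPoints.resι W O)
  have hsr : ∀ k, sec f a' k ≫ r.left = O.ι ≫ sec f a k := fun k => by
    refine pullback.hom_ext ?_ ?_
    · exact (Category.assoc _ _ _).trans ((congrArg (sec f a' k ≫ ·) hr_fst).trans
        ((Category.assoc _ _ _).symm.trans ((congrArg (· ≫ O.ι) (sec_fst f a' k)).trans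
          ((Category.id_comp _).trans ((Category.assoc _ _ _).trans ((congrArg (O.ι ≫ ·) (sec_fst f a k)).trans
            (Category.comp_id _))).symm))))
    · refine ((Category.assoc _ _ _).trans ((congrArg _ (bc_map_left_snd f (AllPoints.resι W O))).trans
        (sec_snd f a' k))).trans ?_
      exact ((Category.assoc _ _ _).trans ((congrArg (O.ι ≫ ·) (sec_snd f a k)).trans
        (Category.assoc _ _ _).symm)).symm
  have hsr' : ∀ k z, r.left (sec f a' k z) = sec f a k (O.ι z) := fun k z =>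
    (Scheme.Hom.comp_apply _ _ _).symm.trans
      ((congrArg (fun m : W'.left ⟶ ((EtCoh.bc f).obj W).left => m z) (hsr k)).trans
        (Scheme.Hom.comp_apply _ _ _))
  have hrange : ∀ v, pr (r.left v) ∈ O := fun v => by
    have := congrArg (fun m : ((EtCoh.bc f).obj W').left ⟶ W.left => m v) hr_fst
    rw [show pr (r.left v) = O.ι (pullback.fst W'.hom f v) from
      (Scheme.Hom.comp_apply _ _ _).symm.trans (this.trans (Scheme.Hom.comp_apply _ _ _))]
    exact (pullback.fst W'.hom f v).2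
  have hd : Pairwise (Function.onFun Disjoint fun k => Set.range (sec f a' k)) := fun k l hkl => by
    refine Set.disjoint_left.2 ?_
    rintro _ ⟨z, rfl⟩ ⟨z', hz'⟩
    have hk : r.left (sec f a' k z) ∈ Set.range (sec f a k) := ⟨O.ι z, (hsr' k z).symm⟩
    have hl : r.left (sec f a' k z) ∈ Set.range (sec f a l) :=
      ⟨O.ι z', (hsr' l z').symm.trans (congrArg r.left hz')⟩
    exact hrange _ (Or.inr (Set.mem_iUnion.2 ⟨⟨(k, l), hkl⟩, _, ⟨hk, hl⟩, rfl⟩))
  have hcov : ∀ p : ((EtCoh.bc f).obj W').left, ∃ k, p ∈ Set.range (sec f a' k) := fun p => by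
    have hp : r.left p ∈ cov := by
      by_contra hc
      exact hrange p (Or.inl ⟨_, hc, rfl⟩)
    obtain ⟨k, z, hz⟩ := Set.mem_iUnion.1 hp
    refine ⟨k, ⟨pullback.fst W'.hom f p, ?_⟩⟩
    have : IsOpenImmersion r.left :=
      MorphismProperty.of_isPullback (EtCoh.isPullback_bc_map f (AllPoints.resι W O)).flip
        (inferInstanceAs (IsOpenImmersion O.ι))
    refine r.left.isOpenEmbedding.injective ?_
    refine (hsr' k _).trans ((congrArg (sec f a k) ?_).trans hz)
    have hpr : pr (r.left p) = O.ι (pullback.fst W'.hom f p) :=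
      (Scheme.Hom.comp_apply _ _ _).symm.trans ((congrArg (fun m : _ ⟶ W.left => m p) hr_fst).trans
        (Scheme.Hom.comp_apply _ _ _))
    exact hpr.symm.trans ((congrArg pr hz.symm).trans ((Scheme.Hom.comp_apply _ _ _).symm.trans
      ((congrArg (fun m : W.left ⟶ W.left => m z) (sec_fst f a k)).trans rfl)))
  obtain ⟨ψ, hψ⟩ := exists_germBij_push f a' F M φ hφ hd hcov
  refine ⟨W', (⟨wl default, hw0⟩ : (O : Scheme.{u})), ∀ k, M k, inferInstance, inferInstance, ψ,
    ?_, hψ⟩
  change (O.ι ≫ W.hom) _ = y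
  rw [Scheme.Hom.comp_apply]
  exact (Scheme.Hom.comp_apply _ _ _).symm.trans
    ((congrArg (fun m : Spec (CommRingCat.of Ω) ⟶ Y => m default) (Over.w w)).trans (apt_apply y _))

end Groth.Agent.EtSite.FLCPush
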