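import Groth.Agent.EtSite.Strata
import Mathlib.AlgebraicGeometry.Morphisms.FinitePresentation
import Mathlib.AlgebraicGeometry.Morphisms.QuasiSeparated

/-!
# Adapted stratifications are local
-/

set_option autoImplicit false
universe u

open CategoryTheory CategoryTheory.Limits AlgebraicGeometry Opposite Topology

namespace Groth.Agent.EtSite.StrataLocal

open FLCBasic Strata

variable {X : Scheme.{u}}

theorem adapted_of_local {F : EtCoh.Ab X} {S : Set X} (hS : IsOpen S) (hSc : IsCompact S)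
    (hSq : IsQuasiSeparated S)
    (h : ∀ x ∈ S, ∃ W : Set X, IsOpen W ∧ IsCompact W ∧ x ∈ W ∧ W ⊆ S ∧ EtPBC.AdaptedStrata F W) :
    EtPBC.AdaptedStrata F S := by
  choose W hWo hWc hxW hWS hWa using fun x : S => h x x.2
  obtain ⟨t, ht⟩ := hSc.elim_finite_subcover W hWo fun x hx => Set.mem_iUnion.2 ⟨⟨x, hx⟩, hxW _⟩
  choose n Z hZc hZF hZu using fun x : S => exists_cover_of_adapted (hWa x)
  refine adapted_of_cover (ι := Σ x : t, Fin (n x.1)) hS (fun p => Z p.1.1 p.2) (fun p => ?_)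
    (fun p => (hZF p.1.1 p.2).mono Set.inter_subset_right) fun x hx => ?_
  · have : QuasiSeparatedSpace S := (isQuasiSeparated_iff_quasiSeparatedSpace S hS).1 hSq
    let i := Set.inclusion (hWS p.1.1)
    have hi : IsOpenEmbedding i :=
      .inclusion (hWS p.1.1) ((hWo p.1.1).preimage continuous_subtype_val)
    have hr : IsRetrocompact (Set.range i) := by
      refine IsCompact.isRetrocompact ?_ hi.isOpen_range
      have : CompactSpace (W p.1.1) := isCompact_iff_compactSpace.1 (hWc p.1.1)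
      exact isCompact_range hi.continuous
    convert (hZc p.1.1 p.2).image_of_isOpenEmbedding hi hr using 1
    ext ⟨y, hy⟩
    simp only [Set.mem_preimage, Set.mem_image]
    constructor
    · intro hyZ
      exact ⟨⟨y, (hZu p.1.1).le (Set.mem_iUnion.2 ⟨p.2, hyZ⟩)⟩, hyZ, rfl⟩
    · rintro ⟨z, hz, e⟩
      have : (z : X) = y := congrArg Subtype.val e
      exact this ▸ hz
  · obtain ⟨a, hat, ha⟩ := Set.mem_iUnion₂.1 (ht hx)
    obtain ⟨i, hi⟩ := Set.mem_iUnion.1 ((hZu a).ge ha)
    exact Set.mem_iUnion.2 ⟨⟨⟨a, hat⟩, i⟩, hi⟩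

theorem isConstructible_of_local {F : EtCoh.Ab X}
    (h : ∀ (V : X.Opens) (x : X), x ∈ V → ∃ W : X.Opens, IsAffineOpen W ∧ x ∈ W ∧ W ≤ V ∧
      EtPBC.AdaptedStrata F (W : Set X)) :
    EtPBC.IsConstructible F := fun V hV =>
  adapted_of_local V.2 hV.isCompact hV.isQuasiSeparated fun x hx => by
    obtain ⟨W, hWa, hxW, hWV, hW⟩ := h V x hx
    exact ⟨W, W.2, hWa.isCompact, hxW, hWV, hW⟩

/-- Transfer along an open immersion. -/
theorem adapted_image {U : Scheme.{u}} (j : U ⟶ X) [IsOpenImmersion j] {F : EtCoh.Ab X}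
    {S : Set U} (hS : IsOpen S) (h : EtPBC.AdaptedStrata ((EtCoh.pull j).obj F) S) :
    EtPBC.AdaptedStrata F (j '' S) := by
  obtain ⟨n, Z, hc, hF, hu⟩ := exists_cover_of_adapted h
  refine adapted_of_cover (j.isOpenMap _ hS) (fun i => j '' Z i) (fun i => ?_)
    (fun i => ((hF i).of_isOpenImmersion j).mono Set.inter_subset_right) (by rw [← Set.image_iUnion, hu])
  let e : (j '' S : Set X) → S := fun y =>
    ⟨y.2.choose, y.2.choose_spec.1⟩
  have he : ∀ y : (j '' S : Set X), j (e y).1 = y.1 := fun y => y.2.choose_spec.2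
  have hcont : IsOpenEmbedding e := by
    let k : S → (j '' S : Set X) := fun z => ⟨j z.1, z.1, z.2, rfl⟩
    have hk : IsOpenEmbedding (Subtype.val ∘ k) :=
      j.isOpenEmbedding.comp hS.isOpenEmbedding_subtypeVal
    have hk' : IsOpenEmbedding k :=
      IsOpenEmbedding.of_comp k (j.isOpenMap _ hS).isOpenEmbedding_subtypeVal hk
    have hsurj : Function.Surjective k := fun y => ⟨e y, Subtype.ext (he y)⟩
    let H := hk'.isEmbedding.toHomeomorphOfSurjective hsurj
    have : e = H.symm := funext fun y => H.injective (by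
      rw [H.apply_symm_apply]; exact Subtype.ext (he y))
    rw [this]
    exact H.symm.isOpenEmbedding
  convert (hc i).preimage_of_isOpenEmbedding hcont using 1
  ext y
  simp only [Set.mem_preimage, Set.mem_image]
  constructor
  · rintro ⟨z, hz, hzy⟩
    exact (j.isOpenEmbedding.injective (hzy.trans (he y).symm) : z = (e y).1) ▸ hz
  · exact fun hz => ⟨_, hz, he y⟩

theorem isConstructible_of_open_cover {F : EtCoh.Ab X} {ι : Type*} (U : ι → X.Opens)
    (hU : ⨆ i, U i = ⊤) (h : ∀ i, EtPBC.IsConstructible ((EtCoh.pull (U i).ι).obj F)) :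
    EtPBC.IsConstructible F := by
  refine isConstructible_of_local fun V x hx => ?_
  obtain ⟨i, hi⟩ := TopologicalSpace.Opens.mem_iSup.1 (hU.ge (Set.mem_univ x) : x ∈ ⨆ i, U i)
  obtain ⟨W, hW, hxW, hWV⟩ := exists_isAffineOpen_mem_and_subset (U := V ⊓ U i) ⟨hx, hi⟩
  refine ⟨W, hW, hxW, fun y hy => (hWV hy).1, ?_⟩
  have hW' : IsAffineOpen ((U i).ι ⁻¹ᵁ W) :=
    hW.preimage_of_isOpenImmersion _ (by
      rw [Scheme.Opens.opensRange_ι]; exact fun y hy => (hWV hy).2)
  have := adapted_image (U i).ι ((U i).ι ⁻¹ᵁ W).2 (h i _ hW')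
  rwa [show ((U i).ι '' (((U i).ι ⁻¹ᵁ W : (U i).toScheme.Opens).carrier) : Set X) = W from
    Set.image_preimage_eq_of_subset (fun y hy => by
      rw [Scheme.Opens.range_ι]; exact (hWV hy).2)] at this

theorem isConstructible_pull {Y : Scheme.{u}} (f : X ⟶ Y) {F : EtCoh.Ab Y}
    (h : EtPBC.IsConstructible F) : EtPBC.IsConstructible ((EtCoh.pull f).obj F) := by
  refine isConstructible_of_local fun V x hx => ?_
  obtain ⟨U, hU, hxU, -⟩ := exists_isAffineOpen_mem_and_subset (x := f x) (U := ⊤) trivial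
  obtain ⟨W, hW, hxW, hWV⟩ := exists_isAffineOpen_mem_and_subset (x := x) (U := V ⊓ f ⁻¹ᵁ U) ⟨hx, hxU⟩
  refine ⟨W, hW, hxW, fun y hy => (hWV hy).1, ?_⟩
  have hle : W ≤ f ⁻¹ᵁ U := fun y hy => (hWV hy).2
  obtain ⟨n, Z, hc, hF, hu⟩ := exists_cover_of_adapted (h U hU)
  refine adapted_of_cover W.2 (fun i => f ⁻¹' Z i) (fun i => ?_)
    (fun i => ((hF i).preimage f).mono Set.inter_subset_right) (fun y hy => ?_)
  · have e : ∀ y, ((f.resLE U W hle) y).1 = f y.1 := fun y =>
      congrArg (fun m : W.toScheme ⟶ Y => m y) (Scheme.Hom.resLE_comp_ι f hle)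
    have h' : @IsConstructible W _ ((f.resLE U W hle) ⁻¹' (Subtype.val ⁻¹' Z i)) :=
      (f.resLE U W hle).isConstructible_preimage (hc i)
    have eq : (Subtype.val ⁻¹' (f ⁻¹' Z i) : Set W) = (f.resLE U W hle) ⁻¹' (Subtype.val ⁻¹' Z i) :=
      Set.ext fun y => (congrArg (· ∈ Z i) (e y)).to_iff.symm
    exact eq ▸ h'
  · obtain ⟨i, hi⟩ := Set.mem_iUnion.1 (hu.ge (hle hy))
    exact Set.mem_iUnion.2 ⟨i, hi⟩

theorem isConstructible_iff_adapted_univ [CompactSpace X] [QuasiSeparatedSpace X]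
    (F : EtCoh.Ab X) : EtPBC.IsConstructible F ↔ EtPBC.AdaptedStrata F (Set.univ : Set X) := by
  refine ⟨fun h => ?_, fun h V hV => ?_⟩
  · refine adapted_of_local isOpen_univ isCompact_univ (.of_quasiSeparatedSpace _) fun x _ => ?_
    obtain ⟨U, hU, hxU, -⟩ := exists_isAffineOpen_mem_and_subset (x := x) (U := ⊤) trivial
    exact ⟨U, U.2, hU.isCompact, hxU, Set.subset_univ _, h U hU⟩
  · obtain ⟨n, Z, hc, hF, hu⟩ := exists_cover_of_adapted h
    refine adapted_of_cover V.2 Z (fun i => ?_) (fun i => (hF i).mono Set.inter_subset_right)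
      (hu ▸ Set.subset_univ _)
    have := (hc i).preimage_of_isOpenEmbedding
      (IsOpenEmbedding.inclusion (Set.subset_univ (V : Set X)) (V.2.preimage continuous_subtype_val))
    exact this

end Groth.Agent.EtSite.StrataLocal
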