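import Groth.Agent.EtSite.ExtZeroPush
import Groth.Agent.EtSite.EtaleStrata
import Groth.Agent.EtSite.FLCPush
import Groth.Agent.EtSite.StrataLocal
import Groth.Agent.EtMV.EtaleRestr
import Groth.Agent.S0649

/-!
# Extension by zero of finite locally constant sheaves is constructible
-/

set_option autoImplicit false
universe u

open CategoryTheory CategoryTheory.Limits AlgebraicGeometry Opposite Topology TopologicalSpace
open EtShriek

namespace Groth.Agent.EtSite.ExtZeroConstr

variable {U X : Scheme.{u}} (j : U ⟶ X) [Etale j] [JCont j] (F : EtCoh.Ab U)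

theorem isIso_extZeroToPush [IsFinite j] : IsIso ((extZeroToPush j).app F) := by
  refine isIso_of_exists_stalk _ fun y => ?_
  obtain ⟨ξ, hξ⟩ := exists_algClosed_pt (Y := X) y
  refine ⟨_, inferInstance, inferInstance, ξ, hξ, (ConcreteCategory.isIso_iff_bijective _).2
    ⟨stalk_extZeroToPush_injective j F ξ, fun p => ?_⟩⟩
  have : Finite (Lift' j ξ) := finite_lifts_of_isFinite j ξ
  cases nonempty_fintype (Lift' j ξ)
  refine ⟨∑ a : Lift' j ξ, stalkExtZeroMap j ξ F a ((germMap j ξ a.1 a.2).app F p),
    sub_eq_zero.1 (germMap_jointly_injective j ξ F _ fun b hb => ?_)⟩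
  rw [map_sub, sub_eq_zero, map_sum, map_sum, Finset.sum_eq_single (⟨b, hb⟩ : Lift' j ξ)]
  · exact projection_self j F ξ ⟨b, hb⟩ _
  · exact fun a _ ha => projection_ne j F ξ a ⟨b, hb⟩ ha _
  · exact fun h => (h (Finset.mem_univ _)).elim

variable {F}

theorem isFLC_extZero_of_finite [IsFinite j] (hF : EtCoh.IsFiniteLocallyConstant F) :
    EtCoh.IsFiniteLocallyConstant ((extZero j).obj F) :=
  haveI := isIso_extZeroToPush j F
  FLCBasic.isFLC_of_iso (asIso ((extZeroToPush j).app F)).symm (FLCPush.isFLC_push j hF)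

theorem isConstructible_extZero [CompactSpace X] [QuasiSeparatedSpace X] [CompactSpace U]
    [QuasiSeparatedSpace U] (hF : EtCoh.IsFiniteLocallyConstant F) :
    EtPBC.IsConstructible ((extZero j).obj F) := by
  obtain ⟨n, Z, hlc, hc, -, hu, hfin⟩ := EtaleStrata.exists_strata j
  rw [StrataLocal.isConstructible_iff_adapted_univ]
  refine Strata.adapted_of_cover isOpen_univ Z
    (fun i => (hc i).preimage_of_isOpenEmbedding isOpen_univ.isOpenEmbedding_subtypeVal) (fun i => ?_)
    hu.ge
  refine Strata.FLCOn.mono (Z := Z i) ?_ Set.inter_subset_right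
  obtain ⟨T, g, hg, hr⟩ := Strata.exists_immersion (hlc i)
  refine ⟨T, g, hg, hr.ge, ?_⟩
  let j' : pullback j g ⟶ T := pullback.snd j g
  have : IsFinite j' := hfin i g hr.le
  have : Etale j' := MorphismProperty.pullback_snd _ _ inferInstance
  have : JCont j' := EtMV.jCont j'
  obtain ⟨e⟩ := Groth.Agent.S0649.result j g j' (pullback.fst j g)
    (IsPullback.of_hasPullback j g).flip
  exact FLCBasic.isFLC_of_iso (e.app F) (isFLC_extZero_of_finite j'
    (FLCBasic.isFLC_pull (pullback.fst j g) hF))

end Groth.Agent.EtSite.ExtZeroConstr
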