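import Groth.Agent.EtSite.StrataLocal
import Mathlib.Topology.Spectral.ConstructibleTopology
import Mathlib.AlgebraicGeometry.Morphisms.QuasiSeparated

/-!
# Constructibility from constructible immersions covering a scheme
-/

set_option autoImplicit false
universe u

open CategoryTheory CategoryTheory.Limits AlgebraicGeometry Opposite Topology TopologicalSpace

namespace Groth.Agent.EtSite.StrataImmersion

open FLCBasic Strata StrataLocal

theorem image_isConstructible {T X : Type*} [TopologicalSpace T] [TopologicalSpace X]
    [CompactSpace T] [CompactSpace X] [QuasiSeparatedSpace X] [PrespectralSpace X]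
    {g : T → X} (hg : IsEmbedding g) (hr : IsConstructible (Set.range g)) {C : Set T}
    (hC : IsConstructible C) : IsConstructible (g '' C) := by
  induction hC using IsConstructible.empty_union_induction with
  | open_retrocompact U hUo hUc =>
    have hUc' : IsCompact U := by simpa using hUc isCompact_univ isOpen_univ
    obtain ⟨O, hO, hOU⟩ := hg.toIsInducing.isOpen_iff.1 hUo
    obtain ⟨O', hOc, hOo, hUO, hOO⟩ := PrespectralSpace.exists_isCompact_and_isOpen_between
      (hUc'.image hg.continuous) hO (Set.image_subset_iff.2 hOU.ge)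
    have e : g '' U = Set.range g ∩ O' := by
      refine Set.Subset.antisymm (Set.subset_inter (Set.image_subset_range g U) hUO) ?_
      rintro _ ⟨⟨y, rfl⟩, hy⟩
      exact ⟨y, hOU.le (hOO hy), rfl⟩
    rw [e]
    exact hr.inter ((hOc.isRetrocompact hOo).isConstructible hOo)
  | union s hs t ht hs' ht' => rw [Set.image_union]; exact hs'.union ht'
  | compl s hs hs' =>
    rw [← Set.range_sdiff_image hg.injective]
    exact hr.sdiff hs'

theorem isOpen_constructibleTopology {X : Type*} [TopologicalSpace X] [CompactSpace X]
    [QuasiSeparatedSpace X] {s : Set X} (hs : IsConstructible s) :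
    IsOpen[constructibleTopology X] s ∧ IsOpen[constructibleTopology X] sᶜ := by
  induction hs using IsConstructible.empty_union_induction with
  | open_retrocompact U hUo hUc =>
    have hUc' : IsCompact U := by simpa using hUc isCompact_univ isOpen_univ
    exact ⟨hUc'.isOpen_constructibleTopology_of_isOpen hUo,
      IsCompact.isOpen_constructibleTopology_of_isClosed (by rwa [compl_compl]) hUo.isClosed_compl⟩
  | union s hs t ht hs' ht' =>
    exact ⟨@IsOpen.union _ _ _ (constructibleTopology X) hs'.1 ht'.1, by
      rw [Set.compl_union]; exact @IsOpen.inter _ (constructibleTopology X) _ _ hs'.2 ht'.2⟩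
  | compl s hs hs' => exact ⟨hs'.2, by rw [compl_compl]; exact hs'.1⟩

variable {X : Scheme.{u}}

theorem isConstructible_of_immersions [CompactSpace X] [QuasiSeparatedSpace X] (F : EtCoh.Ab X)
    {ι : Type*} (T : ι → Scheme.{u}) (g : ∀ i, T i ⟶ X) [∀ i, IsImmersion (g i)]
    (hc : ∀ i, IsConstructible (Set.range (g i))) (hcov : (⋃ i, Set.range (g i)) = Set.univ)
    (h : ∀ i, EtPBC.IsConstructible ((EtCoh.pull (g i)).obj F)) : EtPBC.IsConstructible F := by
  classical
  let τ : X → WithConstructibleTopology X := WithTopology.toTopology _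
  have hopen : ∀ i, IsOpen (τ '' Set.range (g i)) := fun i => by
    rw [WithConstructibleTopology.isOpen_iff, Set.preimage_image_eq _ (WithTopology.toTopology_injective _)]
    exact (isOpen_constructibleTopology (hc i)).1
  obtain ⟨t, ht⟩ := isCompact_univ.elim_finite_subcover _ hopen fun x _ => by
    obtain ⟨y, rfl⟩ := WithTopology.toTopology_surjective _ x
    obtain ⟨i, hi⟩ := Set.mem_iUnion.1 (hcov.ge (Set.mem_univ y))
    exact Set.mem_iUnion.2 ⟨i, y, hi, rfl⟩
  have hcpt : ∀ i, CompactSpace (T i) := fun i =>
    ⟨((g i).isEmbedding.isInducing.isCompact_iff).2 (by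
      rw [Set.image_univ]
      simpa using ConstrBasics.isRetrocompact_of_isConstructible (hc i) isCompact_univ isOpen_univ)⟩
  have hqs : ∀ i, QuasiSeparatedSpace (T i) := fun i =>
    quasiSeparatedSpace_of_quasiSeparated (g i)
  choose n Z hZc hZF hZu using fun i =>
    exists_cover_of_adapted ((isConstructible_iff_adapted_univ ((EtCoh.pull (g i)).obj F)).1 (h i))
  rw [isConstructible_iff_adapted_univ]
  refine adapted_of_cover (ι := Σ i : t, Fin (n i.1)) isOpen_univ
    (fun p => g p.1.1 '' Z p.1.1 p.2) (fun p => ?_)
    (fun p => ((hZF p.1.1 p.2).of_isOpenImmersion (g p.1.1)).mono Set.inter_subset_right)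
    fun x _ => ?_
  · have hZ : IsConstructible (Z p.1.1 p.2) := by
      have := (hZc p.1.1 p.2).image_of_isOpenEmbedding isOpen_univ.isOpenEmbedding_subtypeVal
        (by rw [Subtype.range_coe]; exact fun _ hc' _ => by rwa [Set.univ_inter])
      rwa [Subtype.image_preimage_coe, Set.univ_inter] at this
    exact (image_isConstructible (g p.1.1).isEmbedding (hc _) hZ).preimage_of_isOpenEmbedding
      isOpen_univ.isOpenEmbedding_subtypeVal
  · obtain ⟨i, hit, hi⟩ := Set.mem_iUnion₂.1 (ht (Set.mem_univ (τ x)))
    obtain ⟨_, ⟨y, rfl⟩, e⟩ := hi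
    obtain ⟨k, hk⟩ := Set.mem_iUnion.1 ((hZu i).ge (Set.mem_univ y))
    exact Set.mem_iUnion.2 ⟨⟨⟨i, hit⟩, k⟩, y, hk, WithTopology.toTopology_injective _ e⟩

end Groth.Agent.EtSite.StrataImmersion
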