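import Groth.Agent.EtSite.Sheets
import Groth.Agent.EtSite.ReducedFLC
import Groth.Agent.EtSite.FLCPush
import Groth.Agent.EtSite.BaseChangeStalk
import Groth.Agent.EtSite.StrataImmersion

/-!
# Direct images of constructible sheaves along finite étale morphisms
-/

set_option autoImplicit false
universe u

open CategoryTheory CategoryTheory.Limits AlgebraicGeometry Opposite Topology TopologicalSpace
open Groth.Agent.Weighting

namespace Groth.Agent.EtSite.PushConstr

open Sheets

attribute [local irreducible] cnt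

variable {X Y : Scheme.{u}}

theorem isConstructible_of_iso {F G : EtCoh.Ab X} (e : F ≅ G) (h : EtPBC.IsConstructible F) :
    EtPBC.IsConstructible G := fun U hU => by
  obtain ⟨n, T, g, hg, hc, hd, hu, hF⟩ := h U hU
  exact ⟨n, T, g, hg, hc, hd, hu, fun i => FLCBasic.isFLC_of_iso ((EtCoh.pull (g i)).mapIso e) (hF i)⟩

theorem isIso_baseChange0 {X' Y' : Scheme.{u}} (f : X ⟶ Y) [IsFinite f] (g : Y' ⟶ Y) (f' : X' ⟶ Y')
    (g' : X' ⟶ X) (h : IsPullback g' f' f g) (F : EtCoh.Ab X) :
    IsIso (EtCoh.baseChange0 f g f' g' h.w F) := by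
  have : IsFinite f' := MorphismProperty.of_isPullback h inferInstance
  refine EtSite.isIso_of_exists_stalk _ fun y => ?_
  obtain ⟨η, hη⟩ := EtSite.exists_algClosed_pt (Y := Y') y
  exact ⟨_, inferInstance, inferInstance, η, hη, EtSite.isIso_stalk_baseChange0_of_finite f g f' g' h η F⟩

/-- A constructible set is determined by finitely many quasi-compact opens. -/
theorem exists_opens {C : Set X} [CompactSpace X] (hC : IsConstructible C) :
    ∃ S : Set X.Opens, S.Finite ∧ (∀ U ∈ S, IsCompact (U : Set X)) ∧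
      ∀ {T : Type u} [TopologicalSpace T] (h : T → X),
        (∀ U ∈ S, IsClopen (h ⁻¹' (U : Set X))) → IsClopen (h ⁻¹' C) := by
  induction hC using IsConstructible.empty_union_induction with
  | open_retrocompact U hUo hUc =>
    exact ⟨{⟨U, hUo⟩}, Set.finite_singleton _, fun V hV => by
      obtain rfl := Set.mem_singleton_iff.1 hV; simpa using hUc isCompact_univ isOpen_univ,
      fun {T} _ h hh => hh _ rfl⟩
  | union s hs t ht hs' ht' =>
    obtain ⟨A, hA, hAc, hAh⟩ := hs'
    obtain ⟨B, hB, hBc, hBh⟩ := ht'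
    exact ⟨A ∪ B, hA.union hB, fun V hV => hV.elim (hAc V) (hBc V), fun {T} _ h hh => by
      rw [Set.preimage_union]
      exact (hAh h fun V hV => hh V (Or.inl hV)).union (hBh h fun V hV => hh V (Or.inr hV))⟩
  | compl s hs hs' =>
    obtain ⟨A, hA, hAc, hAh⟩ := hs'
    exact ⟨A, hA, hAc, fun {T} _ h hh => (hAh h hh).compl⟩

variable (f : X ⟶ Y)

theorem isOpen_le_cnt [IsFinite f] [Etale f] (U : X.Opens) (k : ℕ) : IsOpen {y | k ≤ cnt f U y} := by
  rw [isOpen_iff_forall_mem_open]
  intro y hy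
  obtain ⟨c, v, rfl⟩ := exists_chart f y
  have := c.etale
  let W : Set c.V := ⋂ i ∈ c.idx U v, c.t i ⁻¹' (U : Set X)
  have hW : IsOpen W := (Set.toFinite _).isOpen_biInter fun i _ => U.2.preimage (c.t i).continuous
  refine ⟨c.g '' W, ?_, c.g.isOpenMap _ hW, ⟨v, Set.mem_iInter₂.2 fun i hi => hi, rfl⟩⟩
  rintro _ ⟨v', hv', rfl⟩
  refine (le_trans (show k ≤ cnt f U (c.g v) from hy) ?_ : k ≤ cnt f U (c.g v'))
  rw [c.cnt_eq, c.cnt_eq]
  exact Set.ncard_le_ncard (fun i hi => Set.mem_iInter₂.1 hv' i hi) (Set.toFinite _)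

theorem exists_finite_charts [IsFinite f] [Etale f] [CompactSpace Y] :
    ∃ (N : ℕ) (c : Fin N → Chart f), ∀ y : Y, ∃ a, y ∈ Set.range (c a).g := by
  choose c hc using fun y => exists_chart f y
  obtain ⟨t, ht⟩ := isCompact_univ.elim_finite_subcover (fun y => Set.range (c y).g)
    (fun y => by have := (c y).etale; exact (c y).g.isOpenMap.isOpen_range)
    (fun y _ => Set.mem_iUnion.2 ⟨y, hc y⟩)
  refine ⟨t.card, fun a => c (t.equivFin.symm a).1, fun y => ?_⟩
  obtain ⟨z, hz, hy⟩ := Set.mem_iUnion₂.1 (ht (Set.mem_univ y))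
  exact ⟨t.equivFin ⟨z, hz⟩, by beta_reduce; rw [Equiv.symm_apply_apply]; exact hy⟩

variable [IsFinite f] [Etale f] [IsAffine Y]

theorem exists_bound : ∃ B : ℕ, ∀ (U : X.Opens) (y : Y), cnt f U y ≤ B := by
  obtain ⟨N, c, hc⟩ := exists_finite_charts f
  refine ⟨∑ a, (c a).n, fun U y => ?_⟩
  obtain ⟨a, v, rfl⟩ := hc y
  rw [(c a).cnt_eq]
  exact ((Set.ncard_le_card _).trans (le_of_eq (by simp))).trans
    (Finset.single_le_sum (fun i _ => Nat.zero_le ((c i).n)) (Finset.mem_univ a))

theorem isCompact_le_cnt (U : X.Opens) (hU : IsCompact (U : Set X)) (k : ℕ) :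
    IsCompact {y | k ≤ cnt f U y} := by
  classical
  have : IsAffine X := isAffine_of_isAffineHom f
  obtain ⟨N, c, hc⟩ := exists_finite_charts f
  have e : {y | k ≤ cnt f U y} = ⋃ a, ⋃ I : {I : Finset (Fin (c a).n) // k ≤ I.card},
      (c a).g '' ⋂ i ∈ I.1, (c a).t i ⁻¹' (U : Set X) := by
    ext y
    simp only [Set.mem_iUnion, Set.mem_image, Set.mem_iInter, Set.mem_preimage, Set.mem_ofPred_eq]
    constructor
    · intro hy
      obtain ⟨a, v, rfl⟩ := hc y
      rw [(c a).cnt_eq, Set.ncard_eq_toFinset_card'] at hy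
      exact ⟨a, ⟨((c a).idx U v).toFinset, hy⟩, v, fun i hi => (Set.mem_toFinset.1 hi : i ∈ (c a).idx U v), rfl⟩
    · rintro ⟨a, ⟨I, hI⟩, v, hv, rfl⟩
      rw [(c a).cnt_eq, Set.ncard_eq_toFinset_card']
      exact hI.trans (Finset.card_le_card fun i hi => Set.mem_toFinset.2 (hv i hi))
  rw [e]
  refine isCompact_iUnion fun a => isCompact_iUnion fun I => IsCompact.image ?_ (c a).g.continuous
  have := (c a).affine
  have hpre : ∀ i, IsCompact ((c a).t i ⁻¹' (U : Set X)) := fun i =>
    (c a).t i |>.isCompact_preimage hU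
  generalize I.1 = J
  induction J using Finset.induction with
  | empty => simpa using isCompact_univ
  | @insert i J _ ih =>
    rw [Finset.set_biInter_insert]
    exact QuasiSeparatedSpace.inter_isCompact _ _ (U.2.preimage ((c a).t i).continuous) (hpre i)
      (isOpen_biInter_finset fun j _ => U.2.preimage ((c a).t j).continuous) ih

omit [IsAffine Y] in
theorem mem_iff_of_cnt_eq (U : X.Opens) {x' x : X} (h : x' ⤳ x)
    (hc : cnt f U (f x') = cnt f U (f x)) : x ∈ U ↔ x' ∈ U := by
  obtain ⟨c, v, hv⟩ := exists_chart f (f x)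
  have := c.etale
  obtain ⟨z, hz1, hz2⟩ := Scheme.Pullback.exists_preimage_pullback x v hv.symm
  have : Etale (pullback.fst f c.g) := MorphismProperty.pullback_fst _ _ inferInstance
  obtain ⟨z', hz', hzx'⟩ := Flat.generalizingMap (pullback.fst f c.g) (hz1.symm ▸ h)
  obtain ⟨i, hi, -⟩ := c.cover z
  obtain ⟨j, hj, hjuniq⟩ := c.cover z'
  have : Etale (pullback.snd f c.g) := MorphismProperty.pullback_snd _ _ inferInstance
  have : IsOpenImmersion (pullback.lift (c.t i) (𝟙 c.V) ((c.comm i).trans (Category.id_comp c.g).symm)) :=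
    isOpenImmersion_of_section (pullback.snd f c.g) _ (pullback.lift_snd _ _ _)
  obtain ⟨w, hw⟩ := hz'.mem_open (pullback.lift (c.t i) (𝟙 c.V)
    ((c.comm i).trans (Category.id_comp c.g).symm)).isOpenEmbedding.isOpen_range ⟨_, hi.symm⟩
  have hw' : pullback.snd f c.g z' = w := by
    rw [← hw, ← Scheme.Hom.comp_apply, pullback.lift_snd]; rfl
  have hij : i = j := hjuniq i (by rw [hw']; exact hw.symm)
  subst hij
  have hvv : pullback.snd f c.g z' ⤳ v := hz2 ▸ hz'.map (pullback.snd f c.g).continuous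
  have e : ∀ p, p = pullback.lift (c.t i) (𝟙 c.V) ((c.comm i).trans (Category.id_comp c.g).symm)
      (pullback.snd f c.g p) → pullback.fst f c.g p = c.t i (pullback.snd f c.g p) := fun p hp => by
    conv_lhs => rw [hp]
    rw [← Scheme.Hom.comp_apply, pullback.lift_fst]
  have hx : x = c.t i v := by rw [← hz1, e z hi, hz2]
  have hx' : x' = c.t i (pullback.snd f c.g z') := by rw [← hzx', e z' hj]
  have hg : c.g (pullback.snd f c.g z') = f x' := by
    rw [← hzx', ← Scheme.Hom.comp_apply, ← Scheme.Hom.comp_apply, pullback.condition]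
  have hcard : (c.idx U (pullback.snd f c.g z')).ncard ≤ (c.idx U v).ncard := by
    rw [← c.cnt_eq, ← c.cnt_eq, hg, hv, hc]
  have hidx := Set.eq_of_subset_of_ncard_le (c.idx_subset U hvv) hcard (Set.toFinite _)
  rw [hx, hx']
  exact Set.ext_iff.1 hidx i

theorem isConstructible_push_affine (F : EtCoh.Ab X) (hF : EtPBC.IsConstructible F) :
    EtPBC.IsConstructible ((EtCoh.push f).obj F) := by
  classical
  have : IsAffine X := isAffine_of_isAffineHom f
  obtain ⟨n, Zs, hZc, hZF, hZu⟩ :=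
    Strata.exists_cover_of_adapted ((StrataLocal.isConstructible_iff_adapted_univ F).1 hF)
  have hZc' : ∀ i, IsConstructible (Zs i) := fun i => by
    have := (hZc i).image_of_isOpenEmbedding isOpen_univ.isOpenEmbedding_subtypeVal
      (by rw [Subtype.range_coe]; exact fun _ hc' _ => by rwa [Set.univ_inter])
    rwa [Subtype.image_preimage_coe, Set.univ_inter] at this
  choose S hSf hSc hS using fun i => exists_opens (hZc' i)
  let κ := {U : X.Opens // ∃ i, U ∈ S i}
  have : Finite κ := ((Set.finite_iUnion hSf).subset fun U (hU : ∃ i, U ∈ S i) =>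
    Set.mem_iUnion.2 hU).to_subtype
  obtain ⟨B, hB⟩ := exists_bound f
  have hcU : ∀ U : κ, IsCompact (U.1 : Set X) := fun U => U.2.elim fun i hi => hSc i _ hi
  let Z : (κ → Fin (B + 1)) → Set Y := fun k => {y | ∀ U : κ, cnt f U.1 y = k U}
  have e : ∀ k, Z k = ⋂ U : κ, {y | (k U : ℕ) ≤ cnt f U.1 y} ∩ {y | (k U : ℕ) + 1 ≤ cnt f U.1 y}ᶜ := by
    intro k
    ext y
    simp only [Z, Set.mem_ofPred_eq, Set.mem_iInter, Set.mem_inter_iff, Set.mem_compl_iff]
    exact forall_congr' fun U => by omega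
  have hcon : ∀ k, IsConstructible (Z k) := fun k => by
    rw [e]
    exact IsConstructible.iInter fun U =>
      (((isCompact_le_cnt f U.1 (hcU U) _).isRetrocompact (isOpen_le_cnt f U.1 _)).isConstructible
        (isOpen_le_cnt f U.1 _)).inter
      (((isCompact_le_cnt f U.1 (hcU U) _).isRetrocompact (isOpen_le_cnt f U.1 _)).isConstructible
        (isOpen_le_cnt f U.1 _)).compl
  have hlc : ∀ k, IsLocallyClosed (Z k) := fun k => by
    rw [e, Set.iInter_inter_distrib]
    exact ⟨⋂ U : κ, {y | (k U : ℕ) ≤ cnt f U.1 y},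
      ⋂ U : κ, {y | (k U : ℕ) + 1 ≤ cnt f U.1 y}ᶜ,
      isOpen_iInter_of_finite fun U : κ => isOpen_le_cnt f U.1 (k U : ℕ),
      isClosed_iInter fun U : κ => (isOpen_le_cnt f U.1 ((k U : ℕ) + 1)).isClosed_compl, rfl⟩
  rw [StrataLocal.isConstructible_iff_adapted_univ]
  refine Strata.adapted_of_cover isOpen_univ Z
    (fun k => (hcon k).preimage_of_isOpenEmbedding isOpen_univ.isOpenEmbedding_subtypeVal) (fun k => ?_)
    (fun y _ => Set.mem_iUnion.2 ⟨fun U => ⟨cnt f U.1 y, Nat.lt_succ_of_le (hB _ _)⟩, fun U => rfl⟩)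
  refine Strata.FLCOn.mono (Z := Z k) ?_ (by simp)
  obtain ⟨T, g, hg, hT, hr⟩ := ReducedFLC.exists_reduced_immersion (hlc k)
  refine ⟨T, g, hg, hr.ge, ?_⟩
  have : CompactSpace T := ⟨(g.isEmbedding.isInducing.isCompact_iff).2 (by
    rw [Set.image_univ, hr]
    simpa using ConstrBasics.isRetrocompact_of_isConstructible (hcon k) isCompact_univ isOpen_univ)⟩
  let P : Scheme.{u} := pullback f g
  let f' : P ⟶ T := pullback.snd f g
  let g' : P ⟶ X := pullback.fst f g
  have : Etale f' := MorphismProperty.pullback_snd _ _ inferInstance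
  have : IsFinite f' := MorphismProperty.pullback_snd _ _ inferInstance
  have : AlgebraicGeometry.IsReduced P := ReducedFLC.isReduced_of_etale f'
  have : QuasiSeparatedSpace T := quasiSeparatedSpace_of_quasiSeparated g
  have : QuasiSeparatedSpace P := quasiSeparatedSpace_of_quasiSeparated f'
  have : QuasiCompact g' := inferInstanceAs (QuasiCompact (pullback.fst f g))
  have hstab : ∀ (U : κ) {p' p : P}, p' ⤳ p → (g' p ∈ U.1 ↔ g' p' ∈ U.1) := fun U p' p hp => by
    have hmem : ∀ q, cnt f U.1 (f (g' q)) = k U := fun q => by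
      have : f (g' q) = g (f' q) := by
        rw [← Scheme.Hom.comp_apply, ← Scheme.Hom.comp_apply]
        exact congrArg (fun m : P ⟶ Y => m q) pullback.condition
      rw [this]
      exact (hr.le ⟨_, rfl⟩ : g (f' q) ∈ Z k) U
    exact mem_iff_of_cnt_eq f U.1 (hp.map g'.continuous) ((hmem p').trans (hmem p).symm)
  have hclopen : ∀ U : κ, IsClopen (g' ⁻¹' (U.1 : Set X)) := fun U => by
    refine ⟨⟨isOpen_iff_forall_mem_open.2 fun p hp => ?_⟩, U.1.2.preimage g'.continuous⟩
    obtain ⟨A, hA, hpA, -⟩ := exists_isAffineOpen_mem_and_subset (x := p) (U := ⊤) trivial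
    have : IsAffine A.toScheme := hA
    have hc2 : IsConstructible (A.ι ⁻¹' (g' ⁻¹' (U.1 : Set X))ᶜ) := by
      rw [Set.preimage_compl]
      refine IsConstructible.compl ((IsCompact.isRetrocompact ?_ ?_).isConstructible ?_)
      · have : CompactSpace A.toScheme := isCompact_iff_compactSpace.1 hA.isCompact
        have : QuasiCompact A.ι := quasiCompact_of_compactSpace A.ι
        exact A.ι.isCompact_preimage (g'.isCompact_preimage (hcU U))
      all_goals exact (U.1.2.preimage g'.continuous).preimage A.ι.continuous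
    have hint := SpecConstr.mem_interior_of_generizations hc2 (w := (⟨p, hpA⟩ : A.toScheme))
      fun q hq => fun h => hp ((hstab U (hq.map A.ι.continuous)).2 h)
    exact ⟨A.ι '' interior (A.ι ⁻¹' (g' ⁻¹' (U.1 : Set X))ᶜ),
      by rintro _ ⟨q, hq, rfl⟩; exact interior_subset (s := A.ι ⁻¹' (g' ⁻¹' (U.1 : Set X))ᶜ) hq,
      A.ι.isOpenEmbedding.isOpenMap _ isOpen_interior, ⟨_, hint, rfl⟩⟩
  have hflc : EtCoh.IsFiniteLocallyConstant ((EtCoh.pull g').obj F) := by
    refine ReducedFLC.isFLC_of_open_cover fun p => ?_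
    obtain ⟨i, hi⟩ := Set.mem_iUnion.1 (hZu.ge (Set.mem_univ (g' p)))
    let O : P.Opens := ⟨g' ⁻¹' Zs i, (hS i g' fun U hU => hclopen ⟨U, i, hU⟩).2⟩
    have : AlgebraicGeometry.IsReduced O.toScheme := isReduced_of_isOpenImmersion O.ι
    refine ⟨O, hi, FLCBasic.isFLC_of_iso ((EtCore.pullComp O.ι g').app F)
      (ReducedFLC.isFLC_pull_of_flcOn (hZF i) (O.ι ≫ g') ?_)⟩
    rintro _ ⟨q, rfl⟩
    rw [Scheme.Hom.comp_apply]
    exact q.2
  have := isIso_baseChange0 f g f' g' (IsPullback.of_hasPullback f g) F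
  exact FLCBasic.isFLC_of_iso (asIso (EtCoh.baseChange0 f g f' g'
    (IsPullback.of_hasPullback f g).w F)).symm (FLCPush.isFLC_push f' hflc)

omit [IsAffine Y] in
theorem isConstructible_push (F : EtCoh.Ab X) (hF : EtPBC.IsConstructible F) :
    EtPBC.IsConstructible ((EtCoh.push f).obj F) := by
  refine StrataLocal.isConstructible_of_open_cover (fun V : Y.affineOpens => V.1)
    (iSup_affineOpens_eq_top Y) fun V => ?_
  have : IsAffine V.1.toScheme := V.2
  have h : IsPullback (f ⁻¹ᵁ V.1).ι (f ∣_ V.1) f V.1.ι := (isPullback_morphismRestrict f V.1).flip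
  have : Etale (f ∣_ V.1) := MorphismProperty.of_isPullback h inferInstance
  have := isIso_baseChange0 f V.1.ι (f ∣_ V.1) (f ⁻¹ᵁ V.1).ι h F
  exact isConstructible_of_iso (asIso (EtCoh.baseChange0 f V.1.ι (f ∣_ V.1) (f ⁻¹ᵁ V.1).ι h.w F)).symm
    (isConstructible_push_affine (f ∣_ V.1) _ (StrataLocal.isConstructible_pull _ hF))

end Groth.Agent.EtSite.PushConstr
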