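import Groth.Prelude.Def_PBC
import Groth.Agent.EtSite.Sect
import Groth.Agent.EtSite.StrataLocus
import Groth.Agent.EtSite.StrataAb
import Groth.Agent.EtSite.SpecConstr
import Groth.Agent.EtSite.SamePoint
import Groth.Agent.EtSite.ConstrDescent
import Groth.Agent.S0133
import Mathlib.CategoryTheory.Abelian.Basic

/-!
# Presentations of constructible sheaves by extensions by zero of constant sheaves
-/

set_option autoImplicit false
universe u

open CategoryTheory CategoryTheory.Limits AlgebraicGeometry Opposite Topology TopologicalSpace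

namespace Groth.Agent.EtSite.Present

open FLCOps

variable {X : Scheme.{u}}

/-- `j_!` of constant sheaves against sections. -/
noncomputable def secAdj (U : X.Etale) :=
  (constantSheafAdj (X.smallEtaleTopology.over U) AddCommGrpCat.{u + 1}
    (Over.mkIdTerminal (X := U))).comp (EtPBC.extZeroAdj U)

/-- The value group of `j_! ℤ/n`. -/
noncomputable abbrev zmodObj (n : ℕ) : AddCommGrpCat.{u + 1} :=
  AddCommGrpCat.of (ULift.{u + 1} (ZMod n))

/-- The tautological section of `j_! ℤ/n` over `U`. -/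
noncomputable def canSec (U : X.Etale) (n : ℕ) : EtCoh.sect (EtPBC.extZeroConst U (ZMod n)) U :=
  ((secAdj U).unit.app (zmodObj n)) ⟨1⟩

theorem desc_spec (U : X.Etale) (n : ℕ) {F : EtCoh.Ab X}
    (φ : EtPBC.extZeroConst U (ZMod n) ⟶ F) :
    φ.hom.app (op U) (canSec U n) = ((secAdj U).homEquiv _ _ φ) ⟨1⟩ := by
  rw [Adjunction.homEquiv_unit]
  rfl

theorem exists_map (U : X.Etale) (n : ℕ) {F : EtCoh.Ab X} (s : EtCoh.sect F U) (hs : n • s = 0) :
    ∃ φ : EtPBC.extZeroConst U (ZMod n) ⟶ F, φ.hom.app (op U) (canSec U n) = s := by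
  let g : {f : ℤ →+ EtCoh.sect F U // f n = 0} := ⟨zmultiplesHom _ s, by simp [hs]⟩
  let θ : ULift.{u + 1} (ZMod n) →+ EtCoh.sect F U :=
    (ZMod.lift n g).comp AddEquiv.ulift.toAddMonoidHom
  refine ⟨((secAdj U).homEquiv _ _).symm (AddCommGrpCat.ofHom θ), ?_⟩
  rw [desc_spec, Equiv.apply_symm_apply]
  change θ ⟨1⟩ = s
  exact (congrArg (ZMod.lift n g) Int.cast_one.symm).trans ((ZMod.lift_coe n g 1).trans (one_zsmul s))

theorem map_ext {U : X.Etale} {n : ℕ} {F : EtCoh.Ab X}
    {φ ψ : EtPBC.extZeroConst U (ZMod n) ⟶ F}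
    (h : φ.hom.app (op U) (canSec U n) = ψ.hom.app (op U) (canSec U n)) : φ = ψ := by
  refine ((secAdj U).homEquiv _ _).injective ?_
  rw [desc_spec, desc_spec] at h
  refine AddCommGrpCat.hom_ext (AddMonoidHom.ext fun ⟨z⟩ => ?_)
  obtain ⟨m, rfl⟩ := ZMod.intCast_surjective z
  have e : (⟨(m : ZMod n)⟩ : ULift.{u + 1} (ZMod n)) = m • (⟨1⟩ : ULift.{u + 1} (ZMod n)) :=
    ULift.ext _ _ (by simp)
  rw [e, map_zsmul, map_zsmul]
  exact congrArg _ h

theorem nsmul_app {F G : EtCoh.Ab X} (n : ℕ) (φ : F ⟶ G) (U : X.Etale) (s : EtCoh.sect F U) :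
    (n • φ).hom.app (op U) s = n • φ.hom.app (op U) s := by
  induction n with
  | zero => simp only [zero_smul]; rfl
  | succ k ih => rw [succ_nsmul, succ_nsmul, ← ih]; rfl

theorem killedBy_iff (F : EtCoh.Ab X) (n : ℕ) : EtCoh.KilledBy n F ↔ n • 𝟙 F = 0 := by
  refine ⟨fun h => ?_, fun h U s => ?_⟩
  · ext ⟨U⟩ s
    exact (nsmul_app n (𝟙 F) U s).trans (h U s)
  · exact (nsmul_app n (𝟙 F) U s).symm.trans (by rw [h]; rfl)

theorem nsmul_canSec (U : X.Etale) (n : ℕ) : n • canSec U n = 0 := by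
  have h0 : n • (⟨1⟩ : ULift.{u + 1} (ZMod n)) = 0 := ULift.ext _ _ (by simp)
  exact (map_nsmul ((secAdj U).unit.app (zmodObj n)).hom n _).symm.trans
    ((congrArg ((secAdj U).unit.app (zmodObj n)).hom h0).trans (map_zero _))

theorem nsmul_extZeroConst (U : X.Etale) (n : ℕ) : n • 𝟙 (EtPBC.extZeroConst U (ZMod n)) = 0 :=
  map_ext ((nsmul_app n _ U _).trans ((nsmul_canSec U n).trans rfl))

theorem isConstructible_of_isZero {F : EtCoh.Ab X} [CompactSpace X] [QuasiSeparatedSpace X]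
    (h : IsZero F) : EtPBC.IsConstructible F := by
  let A : AddCommGrpCat.{u + 1} := AddCommGrpCat.of PUnit.{u + 2}
  have hA : IsZero A := @AddCommGrpCat.isZero_of_subsingleton A (inferInstanceAs (Subsingleton PUnit.{u + 2}))
  have hz : IsZero ((constantSheaf X.smallEtaleTopology AddCommGrpCat.{u + 1}).obj A) :=
    Functor.map_isZero _ hA
  refine PushConstr.isConstructible_of_iso (hz.iso h) ?_
  exact ConstrDescent.isConstructible_of_pointwise fun x => ⟨Set.univ, IsConstructible.univ, trivial,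
    X, 𝟙 X, inferInstance, fun y _ => ⟨y, rfl⟩, FLCBasic.isFLC_pull (𝟙 X) (ConstFLC.isFLC_const X A)⟩

theorem isConstructible_biproduct [CompactSpace X] [QuasiSeparatedSpace X] :
    ∀ {b : ℕ} (f : Fin b → EtCoh.Ab X), (∀ i, EtPBC.IsConstructible (f i)) →
      EtPBC.IsConstructible (⨁ f) := by
  intro b
  induction b with
  | zero =>
    intro f _
    refine isConstructible_of_isZero ((IsZero.iff_id_eq_zero _).2 (biproduct.hom_ext _ _ fun i => i.elim0))
  | succ k ih =>
    intro f hf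
    let S : ShortComplex (EtCoh.Ab X) := ShortComplex.mk
      (biproduct.desc (f := fun i => f (Fin.succ i)) fun i => biproduct.ι f i.succ)
      (biproduct.π f 0) (biproduct.hom_ext' _ _ fun i => by
        rw [biproduct.ι_desc_assoc, comp_zero, biproduct.ι_π_ne _ (Fin.succ_ne_zero i)])
    let σ : S.Splitting :=
      { r := biproduct.lift fun i : Fin k => biproduct.π f i.succ
        s := biproduct.ι f 0
        f_r := biproduct.hom_ext' _ _ fun i => biproduct.hom_ext _ _ fun l => by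
          simp only [S, biproduct.ι_desc_assoc, Category.assoc, biproduct.lift_π, Category.comp_id]
          by_cases hil : i = l
          · subst hil; simp
          · rw [biproduct.ι_π_ne _ (fun e => hil (Fin.succ_injective _ e)), biproduct.ι_π_ne _ hil]
        s_g := biproduct.ι_π_self _ _
        id := by
          simp only [S, biproduct.lift_desc]
          exact (add_comm _ _).trans <| (Fin.sum_univ_succ fun i => biproduct.π f i ≫ biproduct.ι f i).symm.trans
            biproduct.total }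
    exact StrataAb.isConstructible_of_shortExact σ.shortExact (ih _ fun i => hf i.succ) (hf 0)

theorem nsmul_biproduct {b : ℕ} (U : Fin b → X.Etale) (n : ℕ) :
    n • 𝟙 (⨁ fun i => EtPBC.extZeroConst (U i) (ZMod n)) = 0 :=
  biproduct.hom_ext' _ _ fun i => by
    rw [Preadditive.comp_nsmul, Category.comp_id, comp_zero]
    calc n • biproduct.ι (fun i => EtPBC.extZeroConst (U i) (ZMod n)) i
        = (n • 𝟙 _) ≫ biproduct.ι (fun i => EtPBC.extZeroConst (U i) (ZMod n)) i := by
          rw [Preadditive.nsmul_comp, Category.id_comp]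
      _ = 0 := by rw [nsmul_extZeroConst, zero_comp]

theorem isConstructible_extZeroConst [CompactSpace X] [QuasiSeparatedSpace X] (U : X.Etale)
    (hU : IsAffine U.left) {n : ℕ} (hn : 0 < n) :
    EtPBC.IsConstructible (EtPBC.extZeroConst U (ZMod n)) :=
  haveI : NeZero n := ⟨hn.ne'⟩
  haveI : CompactSpace U.left := inferInstance
  Groth.Agent.S0133.result X U (ZMod n)

theorem stalk_map_surjective_of_isZero {F G : EtCoh.Ab X} (φ : F ⟶ G) {Ω : Type u} [Field Ω]
    [IsSepClosed Ω] (ξ : Spec (CommRingCat.of Ω) ⟶ X)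
    (h : IsZero ((EtCoh.stalk ξ).obj (cokernel φ))) :
    Function.Surjective ((EtCoh.stalk ξ).map φ) :=
  haveI : Epi ((EtCoh.stalk ξ).map φ) :=
    Abelian.epi_of_cokernel_π_eq_zero _ ((h.of_iso (PreservesCokernel.iso (EtCoh.stalk ξ) φ).symm).eq_of_tgt _ _)
  (AddCommGrpCat.epi_iff_surjective _).1 inferInstance

theorem isZero_cokernel_of_surjective {F G : EtCoh.Ab X} (φ : F ⟶ G) {Ω : Type u} [Field Ω]
    [IsSepClosed Ω] (ξ : Spec (CommRingCat.of Ω) ⟶ X)
    (h : Function.Surjective ((EtCoh.stalk ξ).map φ)) : IsZero ((EtCoh.stalk ξ).obj (cokernel φ)) :=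
  haveI : Epi ((EtCoh.stalk ξ).map φ) := (AddCommGrpCat.epi_iff_surjective _).2 h
  (isZero_cokernel_of_epi _).of_iso (PreservesCokernel.iso (EtCoh.stalk ξ) φ)

/-- A constructible sheaf killed by `n` receives an epimorphism from a finite sum of `j_! ℤ/n`. -/
theorem exists_epi [CompactSpace X] [QuasiSeparatedSpace X] {n : ℕ} (hn : 0 < n) (F : EtCoh.Ab X)
    (hF : EtPBC.IsConstructible F) (hFn : EtCoh.KilledBy n F) :
    ∃ (b : ℕ) (U : Fin b → X.Etale) (_ : ∀ i, IsAffine (U i).left)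
      (π : (⨁ fun i => EtPBC.extZeroConst (U i) (ZMod n)) ⟶ F), Epi π := by
  classical
  let hP : ∀ {A B : AddCommGrpCat.{u + 1}}, (A ≅ B) → IsZero A → IsZero B := fun e h => h.of_iso e.symm
  have key : ∀ x : X, ∃ (b : ℕ) (U : Fin b → X.Etale) (_ : ∀ i, IsAffine (U i).left)
      (π : (⨁ fun i => EtPBC.extZeroConst (U i) (ZMod n)) ⟶ F),
      x ∈ StrataLocus.locus (fun A => IsZero A) (cokernel π) := by
    intro x
    let ξ := gpt x
    have := SpecConstr.finite_stalk hF ξ
    choose A t s hA hs using fun p => Sect.exists_gm F ξ p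
    obtain ⟨b, ⟨e⟩⟩ := Finite.exists_equiv_fin ((EtCoh.stalk ξ).obj F : AddCommGrpCat.{u + 1})
    choose φ hφ using fun p => exists_map (A p) n (s p) (hFn _ _)
    let π : (⨁ fun i => EtPBC.extZeroConst (A (e.symm i)) (ZMod n)) ⟶ F :=
      biproduct.desc fun i => φ (e.symm i)
    refine ⟨b, fun i => A (e.symm i), fun i => hA _, π, fun Ω _ _ ξ' hξ' => ?_⟩
    obtain ⟨ε⟩ := SamePoint.nonempty_stalk_iso (cokernel π) (ξ := ξ) (ξ' := ξ')
      ((gpt_apply x _).trans hξ'.symm)
    refine (isZero_cokernel_of_surjective π ξ fun p => ?_).of_iso ε.symm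
    have hp : (EtCoh.stalk ξ).map (φ p) (gm ξ _ (A p) (t p) (canSec (A p) n)) = p :=
      ((gm_map (φ p) ξ (t p) _).trans (congrArg _ (hφ p))).trans (hs p)
    obtain ⟨i, rfl⟩ := e.symm.surjective p
    refine ⟨(EtCoh.stalk ξ).map (biproduct.ι (fun i => EtPBC.extZeroConst (A (e.symm i)) (ZMod n)) i)
      (gm ξ _ _ (t (e.symm i)) (canSec _ n)), ?_⟩
    rw [← ConcreteCategory.comp_apply, ← Functor.map_comp, biproduct.ι_desc]
    exact hp
  choose b U hU π hx using key
  have hcon : ∀ x, EtPBC.IsConstructible (cokernel (π x)) := fun x =>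
    StrataAb.isConstructible_cokernel _
      (isConstructible_biproduct _ fun i => isConstructible_extZeroConst _ (hU x i) hn) hF
  let τ : X → WithConstructibleTopology X := WithTopology.toTopology _
  have hopen : ∀ x, IsOpen (τ '' StrataLocus.locus (fun A => IsZero A) (cokernel (π x))) := fun x => by
    rw [WithConstructibleTopology.isOpen_iff, Set.preimage_image_eq _ (WithTopology.toTopology_injective _)]
    exact (StrataImmersion.isOpen_constructibleTopology
      (StrataLocus.isConstructible_locus hP (hcon x))).1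
  obtain ⟨T, hT⟩ := isCompact_univ.elim_finite_subcover _ hopen fun z _ => by
    obtain ⟨y, rfl⟩ := WithTopology.toTopology_surjective _ z
    exact Set.mem_iUnion.2 ⟨y, y, hx y, rfl⟩
  obtain ⟨B, ⟨e⟩⟩ := Finite.exists_equiv_fin (Σ x : {x // x ∈ T}, Fin (b x.1))
  refine ⟨B, fun i => U (e.symm i).1.1 (e.symm i).2, fun i => hU _ _,
    biproduct.desc fun i => biproduct.ι (fun l => EtPBC.extZeroConst (U (e.symm i).1.1 l) (ZMod n))
      (e.symm i).2 ≫ π (e.symm i).1.1, ?_⟩
  refine epi_of_stalks _ fun Ω _ _ ξ p => ?_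
  obtain ⟨x, hxT, y, hy, hyξ⟩ := Set.mem_iUnion₂.1 (hT (Set.mem_univ (τ (ξ default))))
  have hy' := WithTopology.toTopology_injective _ hyξ
  subst hy'
  obtain ⟨q, hq⟩ := stalk_map_surjective_of_isZero (π x) ξ (hy Ω ξ rfl) p
  let P := fun l => EtPBC.extZeroConst (U x l) (ZMod n)
  let Q := fun i => EtPBC.extZeroConst (U (e.symm i).1.1 (e.symm i).2) (ZMod n)
  let inc : (⨁ P) ⟶ ⨁ Q := biproduct.desc fun l =>
    eqToHom (congrArg (fun p : Σ x : {x // x ∈ T}, Fin (b x.1) =>
      EtPBC.extZeroConst (U p.1.1 p.2) (ZMod n)) (e.symm_apply_apply ⟨⟨x, hxT⟩, l⟩).symm) ≫ biproduct.ι Q (e ⟨⟨x, hxT⟩, l⟩)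
  refine ⟨(EtCoh.stalk ξ).map inc q, ?_⟩
  rw [← ConcreteCategory.comp_apply, ← Functor.map_comp]
  refine Eq.trans ?_ hq
  refine congrArg (fun m => (EtCoh.stalk ξ).map m q) ?_
  refine biproduct.hom_ext' _ _ fun l => ?_
  simp only [inc, biproduct.ι_desc_assoc, Category.assoc]
  rw [biproduct.ι_desc]
  have key2 : ∀ (p₁ p₂ : Σ x : {x // x ∈ T}, Fin (b x.1)) (h : p₁ = p₂),
      eqToHom (by rw [h]) ≫ biproduct.ι (fun m => EtPBC.extZeroConst (U p₂.1.1 m) (ZMod n)) p₂.2 ≫
        π p₂.1.1 =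
      biproduct.ι (fun m => EtPBC.extZeroConst (U p₁.1.1 m) (ZMod n)) p₁.2 ≫ π p₁.1.1 := by
    rintro p₁ _ rfl
    simp
  exact key2 ⟨⟨x, hxT⟩, l⟩ _ (e.symm_apply_apply _).symm

theorem killedBy_of_mono {F G : EtCoh.Ab X} (i : F ⟶ G) [Mono i] {n : ℕ} (h : n • 𝟙 G = 0) :
    EtCoh.KilledBy n F := by
  rw [killedBy_iff, ← cancel_mono i, Preadditive.nsmul_comp, Category.id_comp, zero_comp]
  calc n • i = i ≫ (n • 𝟙 G) := by rw [Preadditive.comp_nsmul, Category.comp_id]
    _ = 0 := by rw [h, comp_zero]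

/-- The presentation of a constructible sheaf killed by `n`. -/
theorem exists_presentation [CompactSpace X] [QuasiSeparatedSpace X] {n : ℕ} (hn : 0 < n)
    (F : EtCoh.Ab X) (hF : EtPBC.IsConstructible F) (hFn : EtCoh.KilledBy n F) :
    ∃ (a b : ℕ) (V : Fin a → X.Etale) (U : Fin b → X.Etale) (_ : ∀ j, IsAffine (V j).left)
      (_ : ∀ i, IsAffine (U i).left)
      (φ : (⨁ fun j => EtPBC.extZeroConst (V j) (ZMod n)) ⟶ ⨁ fun i => EtPBC.extZeroConst (U i) (ZMod n)),
      Nonempty (F ≅ cokernel φ) := by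
  obtain ⟨b, U, hU, π, _⟩ := exists_epi hn F hF hFn
  have hK : EtPBC.IsConstructible (kernel π) := StrataAb.isConstructible_kernel _
    (isConstructible_biproduct _ fun i => isConstructible_extZeroConst _ (hU i) hn) hF
  obtain ⟨a, V, hV, ρ, _⟩ := exists_epi hn (kernel π) hK
    (killedBy_of_mono (kernel.ι π) (nsmul_biproduct U n))
  refine ⟨a, b, V, U, hV, hU, ρ ≫ kernel.ι π, ⟨?_⟩⟩
  exact (asIso (cokernel.desc (kernel.ι π) π (kernel.condition π))).symm ≪≫
    (cokernelEpiComp ρ (kernel.ι π)).symm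

end Groth.Agent.EtSite.Present
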