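import Groth.Prelude.Def_EtGm
import Groth.Agent.EtSite.ConstFLC
import Groth.Agent.EtSite.Present
import Mathlib.RingTheory.Polynomial.Cyclotomic.Expand
import Mathlib.RingTheory.RootsOfUnity.PrimitiveRoots
import Mathlib.Algebra.Ring.GeomSum

/-!
# Roots of unity form a constant sheaf when there is a primitive root
-/

set_option autoImplicit false
universe u

open CategoryTheory CategoryTheory.Limits AlgebraicGeometry Opposite

namespace Groth.Agent.EtSite.MuConst

open FLCOps LocConst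

/-- In a local ring where `n` is a unit, the roots of `X ^ n - 1` are the powers of a root of the
cyclotomic polynomial. -/
theorem exists_pow_eq {R : Type*} [CommRing R] [IsLocalRing R] {n : ℕ} (hn : 0 < n)
    (hu : IsUnit (n : R)) {ζ : R} (hζ : Polynomial.aeval ζ (Polynomial.cyclotomic n ℤ) = 0)
    {x : R} (hx : x ^ n = 1) (hζn : ζ ^ n = 1) : ∃ i < n, x = ζ ^ i := by
  let k := IsLocalRing.ResidueField R
  let π : R →+* k := IsLocalRing.residue R
  have hnk : (n : k) ≠ 0 := by
    rw [← map_natCast π n]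
    exact (hu.map π).ne_zero
  have : NeZero (n : k) := ⟨hnk⟩
  have hroot : (Polynomial.cyclotomic n k).IsRoot (π ζ) := by
    rw [← Polynomial.map_cyclotomic_int n k, Polynomial.IsRoot, Polynomial.eval_map, ← map_zero π,
      ← hζ, Polynomial.aeval_def, Polynomial.hom_eval₂]
    congr 1
  have hprim : IsPrimitiveRoot (π ζ) n := Polynomial.isRoot_cyclotomic_iff.1 hroot
  have : NeZero n := ⟨hn.ne'⟩
  obtain ⟨i, hi, hix⟩ := hprim.eq_pow_of_pow_eq_one (ξ := π x) (by rw [← map_pow, hx, map_one])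
  refine ⟨i, hi, ?_⟩
  obtain ⟨j, hj⟩ : ∃ j, i + j = n := ⟨n - i, Nat.add_sub_cancel' hi.le⟩
  let y := x * ζ ^ j
  have hy : y ^ n = 1 := by rw [mul_pow, hx, one_mul, ← pow_mul, mul_comm, pow_mul, hζn, one_pow]
  have hy1 : π y = 1 := by
    rw [map_mul, map_pow, ← hix, ← pow_add, hj, ← map_pow, hζn, map_one]
  have hsum : IsUnit (∑ m ∈ Finset.range n, y ^ m) := by
    have hne : π (∑ m ∈ Finset.range n, y ^ m) ≠ 0 := by
      simp [map_sum, map_pow, hy1, hnk]
    exact (IsLocalRing.residue_ne_zero_iff_isUnit _).1 hne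
  have : y - 1 = 0 := by
    refine hsum.mul_left_eq_zero.1 ?_
    rw [mul_geom_sum, hy, sub_self]
  have hy' : x * ζ ^ j = 1 := sub_eq_zero.1 this
  calc x = x * ζ ^ n := by rw [hζn, mul_one]
    _ = ζ ^ i := by rw [← hj, pow_add, mul_left_comm, hy', mul_one]

theorem pow_eq_one_iff' {R : Type*} [CommRing R] [Nontrivial R] {n : ℕ} (hn : 0 < n)
    (hu : IsUnit (n : R)) {ζ : R} (hζ : Polynomial.aeval ζ (Polynomial.cyclotomic n ℤ) = 0)
    {i : ℕ} (h : ζ ^ i = 1) : n ∣ i := by
  obtain ⟨m, hm⟩ := Ideal.exists_maximal R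
  let π : R →+* R ⧸ m := Ideal.Quotient.mk m
  letI := Ideal.Quotient.field m
  have hnk : (n : R ⧸ m) ≠ 0 := by
    rw [← map_natCast π n]
    exact (hu.map π).ne_zero
  have : NeZero (n : R ⧸ m) := ⟨hnk⟩
  have hroot : (Polynomial.cyclotomic n (R ⧸ m)).IsRoot (π ζ) := by
    rw [← Polynomial.map_cyclotomic_int n (R ⧸ m), Polynomial.IsRoot, Polynomial.eval_map, ← map_zero π,
      ← hζ, Polynomial.aeval_def, Polynomial.hom_eval₂]
    congr 1
  exact (Polynomial.isRoot_cyclotomic_iff.1 hroot).dvd_of_pow_eq_one i (by rw [← map_pow, h, map_one])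

theorem aeval_map {R S : Type*} [CommRing R] [CommRing S] (f : R →+* S) {p : Polynomial ℤ} {ζ : R}
    (h : Polynomial.aeval ζ p = 0) : Polynomial.aeval (f ζ) p = 0 :=
  (Polynomial.aeval_algHom_apply f.toIntAlgHom ζ p).trans ((congrArg f h).trans (map_zero f))

theorem pow_eq_one_of_root {R : Type*} [CommRing R] {n : ℕ} {ζ : R}
    (hζ : Polynomial.aeval ζ (Polynomial.cyclotomic n ℤ) = 0) : ζ ^ n = 1 := by
  obtain ⟨q, hq⟩ := Polynomial.cyclotomic.dvd_X_pow_sub_one n ℤ
  have := congrArg (Polynomial.aeval ζ) hq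
  rw [map_mul, hζ, zero_mul, map_sub, map_pow, map_one, Polynomial.aeval_X] at this
  exact sub_eq_zero.1 this

variable {X : Scheme.{u}} {n : ℕ}

/-- The unit of global functions underlying a section of `μ_n`. -/
noncomputable def val {U : X.Etale} (s : EtCoh.sect (EtCoh.mu X n) U) : (Γ(U.left, ⊤))ˣ :=
  Additive.toMul ((EtCoh.muι X n).hom.app (op U) s).down

theorem val_injective (U : X.Etale) : Function.Injective (val (X := X) (n := n) (U := U)) := by
  intro s t h
  have : Mono (EtCoh.muι X n) := inferInstanceAs (Mono (kernel.ι _))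
  have : Mono ((EtCoh.muι X n).hom.app (op U)) :=
    inferInstanceAs (Mono ((sheafToPresheaf X.smallEtaleTopology AddCommGrpCat.{u + 1} ⋙
      (evaluation _ _).obj (op U)).map (EtCoh.muι X n)))
  exact (AddCommGrpCat.mono_iff_injective _).1 this (ULift.ext _ _ (Additive.toMul.injective h))

theorem val_map {U V : X.Etale} (g : V ⟶ U) (s : EtCoh.sect (EtCoh.mu X n) U) :
    val ((EtCoh.mu X n).obj.map g.op s) = Units.map (g.left.appTop).hom.toMonoidHom (val s) := by
  rw [val, NatTrans.naturality_apply]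
  rfl

theorem val_add {U : X.Etale} (s t : EtCoh.sect (EtCoh.mu X n) U) : val (s + t) = val s * val t := by
  rw [val, map_add]
  rfl

theorem val_zero (U : X.Etale) : val (0 : EtCoh.sect (EtCoh.mu X n) U) = 1 := by
  rw [val, map_zero]
  rfl

theorem val_nsmul {U : X.Etale} (s : EtCoh.sect (EtCoh.mu X n) U) (i : ℕ) : val (i • s) = val s ^ i := by
  induction i with
  | zero => rw [zero_nsmul, val_zero, pow_zero]
  | succ i ih => rw [succ_nsmul, val_add, ih, pow_succ]

theorem val_pow {U : X.Etale} (s : EtCoh.sect (EtCoh.mu X n) U) : val s ^ n = 1 := by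
  have h0 : (EtCoh.powMap X n).hom.app (op U) ((EtCoh.muι X n).hom.app (op U) s) = 0 := by
    exact congr($(kernel.condition (EtCoh.powMap X n)).hom.app (op U) s)
  rw [EtCoh.powMap, Present.nsmul_app] at h0
  exact congrArg (fun z => Additive.toMul z.down) h0

theorem exists_val {U : X.Etale} (x : (Γ(U.left, ⊤))ˣ) (hx : x ^ n = 1) :
    ∃ s : EtCoh.sect (EtCoh.mu X n) U, val s = x := by
  let g : EtCoh.sect (EtCoh.Gm X) U := ⟨Additive.ofMul x⟩
  have hg : n • g = 0 := ULift.ext _ _ (congrArg Additive.ofMul hx)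
  obtain ⟨φ, hφ⟩ := Present.exists_map U n g hg
  have h0 : φ ≫ EtCoh.powMap X n = 0 := Present.map_ext (by
    change (EtCoh.powMap X n).hom.app (op U) (φ.hom.app (op U) (Present.canSec U n)) = 0
    rw [hφ, EtCoh.powMap, Present.nsmul_app]
    exact hg)
  refine ⟨(kernel.lift _ φ h0).hom.app (op U) (Present.canSec U n), ?_⟩
  have : (EtCoh.muι X n).hom.app (op U) ((kernel.lift _ φ h0).hom.app (op U) (Present.canSec U n)) = g := by
    change ((kernel.lift _ φ h0) ≫ kernel.ι (EtCoh.powMap X n)).hom.app (op U) (Present.canSec U n) = g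
    rw [kernel.lift_ι]
    exact hφ
  rw [val, this]
  rfl

variable (hn : 0 < n) (hu : IsUnit (n : Γ(X, ⊤))) {ζ : Γ(X, ⊤)}
  (hζ : Polynomial.aeval ζ (Polynomial.cyclotomic n ℤ) = 0)

include hn hu hζ

theorem nonempty_iso : Nonempty (EtCoh.mu X n ≅ EtCoh.const X (ZMod n)) := by
  let T := EtCoh.top X
  let hT := topTerminal X
  let M : EtCoh.Ab X := EtCoh.mu X n
  let A : AddCommGrpCat.{u + 1} := AddCommGrpCat.of (ULift.{u + 1} (ZMod n))
  have hζn := pow_eq_one_of_root hζ
  let ζu : (Γ(T.left, ⊤))ˣ := Units.mk ζ (ζ ^ (n - 1))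
    ((pow_succ' ζ (n - 1)).symm.trans ((congrArg (ζ ^ ·) (Nat.sub_add_cancel hn)).trans hζn))
    ((pow_succ ζ (n - 1)).symm.trans ((congrArg (ζ ^ ·) (Nat.sub_add_cancel hn)).trans hζn))
  obtain ⟨z, hz⟩ := exists_val (X := X) (n := n) ζu (Units.ext (by rw [Units.val_pow_eq_pow_val]; exact hζn))
  have hnz : n • z = 0 := val_injective T (by rw [val_nsmul, val_pow, val_zero])
  let gz : {f : ℤ →+ EtCoh.sect M T // f n = 0} := ⟨zmultiplesHom _ z, by simp [hnz]⟩
  let θ : A ⟶ M.obj.obj (op T) :=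
    AddCommGrpCat.ofHom ((ZMod.lift n gz).comp AddEquiv.ulift.toAddMonoidHom)
  let ψ : (Functor.const X.Etaleᵒᵖ).obj A ⟶ M.obj :=
    { app := fun U => θ ≫ M.obj.map (hT.from U.unop).op
      naturality := fun U V g => by
        dsimp
        rw [Category.id_comp, Category.assoc, ← Functor.map_comp]
        congr 2
        exact Quiver.Hom.unop_inj (hT.hom_ext _ _) }
  let φ : EtCoh.const X (ZMod n) ⟶ M := ⟨sheafifyLift X.smallEtaleTopology ψ M.property⟩
  have hψ : ∀ (U : X.Etale) (m : A),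
      φ.hom.app (op U) ((ConstFLC.unitMap X A).app (op U) m) = M.obj.map (hT.from U).op (θ m) :=
    fun U m => congr($(congrArg (fun f => NatTrans.app f (op U))
      (toSheafify_sheafifyLift X.smallEtaleTopology ψ M.property)) m)
  have hθ : ∀ i : ℕ, θ ⟨(i : ZMod n)⟩ = i • z := fun i => by
    refine (congrArg (ZMod.lift n gz) (Int.cast_natCast i).symm).trans ?_
    refine (ZMod.lift_coe n gz i).trans ?_
    exact natCast_zsmul z i
  have hval : ∀ {U : X.Etale} (g : U ⟶ T) (i : ℕ),
      (val (M.obj.map g.op (i • z)) : Γ(U.left, ⊤)) = g.left.appTop ζ ^ i := by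
    intro U g i
    rw [val_map, val_nsmul, hz, map_pow, Units.val_pow_eq_pow_val]
    rfl
  have hloc : ∀ {U : X.Etale} (g : U ⟶ T),
      IsUnit (n : Γ(U.left, ⊤)) ∧
        Polynomial.aeval (g.left.appTop ζ) (Polynomial.cyclotomic n ℤ) = 0 := fun {U} g => by
    refine ⟨by simpa only [map_natCast] using hu.map g.left.appTop.hom, ?_⟩
    exact aeval_map g.left.appTop.hom hζ
  have : IsIso φ := isIso_of_stalks φ fun Ω _ _ ξ => by
    let t : (Scheme.pointSmallEtale ξ).fiber.obj T := Over.homMk ξ (Category.comp_id _)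
    have e : ∀ m : A, (EtCoh.stalk ξ).map φ (gm ξ _ T t ((ConstFLC.unitMap X A).app (op T) m)) =
        gm ξ M T t (θ m) := fun m => by
      rw [gm_map, hψ]
      exact gm_res M (hT.from T) (Over.OverMorphism.ext ((Category.comp_id _).symm.trans
        ((Over.w ((Scheme.pointSmallEtale ξ).fiber.map (hT.from T) t)).trans
          ((Over.w t).symm.trans (Category.comp_id _))))) _
    have hb := gm_bijective (ConstFLC.germBij_const X A) ξ t
    rw [ConcreteCategory.isIso_iff_bijective]
    suffices h : Function.Bijective (fun m : A => gm ξ M T t (θ m)) by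
      refine ⟨fun p q hpq => ?_, fun p => ?_⟩
      · obtain ⟨a, rfl⟩ := hb.2 p
        obtain ⟨b, rfl⟩ := hb.2 q
        exact congrArg _ (h.1 ((e a).symm.trans (hpq.trans (e b))))
      · obtain ⟨m, rfl⟩ := h.2 p
        exact ⟨_, e m⟩
    have hlift : ∀ {V : X.Etale} (v : (Scheme.pointSmallEtale ξ).fiber.obj V),
        (Scheme.pointSmallEtale ξ).fiber.map (hT.from V) v = t := fun v =>
      Over.OverMorphism.ext ((Category.comp_id _).symm.trans ((Over.w ((Scheme.pointSmallEtale ξ).fiber.map _ v)).trans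
        ((Over.w t).symm.trans (Category.comp_id _))))
    refine ⟨(injective_iff_map_eq_zero ((gm ξ M T t).comp θ.hom)).2 fun ⟨m⟩ hm => ?_, fun p => ?_⟩
    · obtain ⟨i, rfl⟩ : ∃ i : ℕ, (i : ZMod n) = m := by
        have : NeZero n := ⟨hn.ne'⟩
        exact ⟨m.val, ZMod.natCast_zmod_val m⟩
      obtain ⟨V, g, v, -, hg⟩ := ((Scheme.pointSmallEtale ξ).toPresheafFiber_eq_iff' T t (θ ⟨(i : ZMod n)⟩) 0).1
        (hm.trans (map_zero (gm ξ M T t)).symm)
      rw [map_zero, hθ] at hg
      have h1 := congrArg (fun s => (val s : Γ(V.left, ⊤))) hg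
      simp only [hval g i, val_zero, Units.val_one] at h1
      have : Nonempty V.left := ⟨Sect.pt v⟩
      have : Nontrivial Γ(V.left, ⊤) := by
        by_contra hnt
        rw [not_nontrivial_iff_subsingleton] at hnt
        let φz := (V.left.presheaf.germ ⊤ (Sect.pt v) trivial).hom
        have := congrArg φz (Subsingleton.elim (1 : Γ(V.left, ⊤)) 0)
        rw [map_one, map_zero] at this
        exact one_ne_zero this
      exact ULift.ext _ _ ((ZMod.natCast_eq_zero_iff _ _).2 (pow_eq_one_iff' hn (hloc g).1 (hloc g).2 h1)).symm.symm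
    · obtain ⟨A₀, t₀, s, -, rfl⟩ := Sect.exists_gm M ξ p
      let x := Sect.pt t₀
      let γ := (A₀.left.presheaf.germ ⊤ x trivial).hom
      let g₀ := hT.from A₀
      obtain ⟨i, -, hi⟩ := exists_pow_eq hn (by simpa only [map_natCast] using (hloc g₀).1.map γ)
        (ζ := γ (g₀.left.appTop ζ)) (aeval_map γ (hloc g₀).2)
        (x := γ (val s : Γ(A₀.left, ⊤))) (by rw [← map_pow, ← Units.val_pow_eq_pow_val, val_pow, Units.val_one, map_one])
        (by rw [← map_pow, pow_eq_one_of_root (hloc g₀).2, map_one])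
      rw [← map_pow] at hi
      obtain ⟨W', hxW, iU, iV, hW⟩ := TopCat.Presheaf.germ_eq A₀.left.presheaf (U := ⊤) (V := ⊤) x trivial trivial _ _ hi
      let W : A₀.left.Opens := W'
      obtain ⟨v, hv⟩ := Sect.exists_pt (AllPoints.resι A₀ W) t₀ ((AllPoints.range_resι A₀ W).ge hxW)
      refine ⟨⟨(i : ZMod n)⟩, (congrArg (gm ξ M T t) (hθ i)).trans ?_⟩
      rw [← gm_res M (AllPoints.resι A₀ W) hv s,
        ← gm_res M (hT.from (AllPoints.res A₀ W)) (hlift v) (i • z)]
      congr 1
      refine val_injective _ (Units.ext ?_)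
      rw [hval, val_map]
      have e1 : hT.from (AllPoints.res A₀ W) = AllPoints.resι A₀ W ≫ g₀ := hT.hom_ext _ _
      rw [e1]
      change (((W.ι).appTop) ((g₀.left).appTop ζ)) ^ i = (W.ι).appTop (val s : Γ(A₀.left, ⊤))
      rw [← map_pow]
      have e2 : ∀ a b : Γ(A₀.left, ⊤), A₀.left.presheaf.map iU.op a = A₀.left.presheaf.map iV.op b →
          W.ι.appTop a = W.ι.appTop b := fun a b hab => by
        simp only [Scheme.Opens.ι_appTop]
        have hh := congrArg (A₀.left.presheaf.map (eqToHom W.ι.image_top_eq_opensRange ≫ eqToHom W.opensRange_ι).op) hab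
        rw [← Functor.map_comp_apply, ← Functor.map_comp_apply, ← op_comp, ← op_comp] at hh
        exact hh
      exact (e2 _ _ hW).symm
  exact ⟨(asIso φ).symm⟩

end Groth.Agent.EtSite.MuConst
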