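import Groth.Agent.EtSite.GaAcyclic
import Groth.Agent.EtSite.MuConst
import Groth.Agent.RedPts.ArtinSchreier
import Mathlib.AlgebraicGeometry.Morphisms.Etale
import Mathlib.RingTheory.Etale.StandardEtale
import Mathlib.FieldTheory.IsAlgClosed.AlgebraicClosure

/-!
# The Artin–Schreier sequence on the small étale site
-/

set_option autoImplicit false
universe u

open CategoryTheory CategoryTheory.Limits AlgebraicGeometry Opposite
open Groth.Agent.RedPts.AS (ofZMod idem sub_pow_p add_pow_p ofZMod_pow map_ofZMod sub_mul_idem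
  isOpenCover_idem cast_eq_zero)

namespace Groth.Agent.EtSite.ASSheaf

open FLCOps LocConst

/-- The standard étale pair `(T ^ p - T + a, 1)` in characteristic `p`. -/
noncomputable def asPair {B : Type u} [CommRing B] {p : ℕ} [Fact p.Prime] (hp : (p : B) = 0) (a : B) :
    StandardEtalePair B where
  f := Polynomial.X ^ p - (Polynomial.X - Polynomial.C a)
  monic_f := Polynomial.monic_X_pow_sub (lt_of_le_of_lt (Polynomial.degree_X_sub_C_le _)
    (by exact_mod_cast (Fact.out : p.Prime).one_lt))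
  g := 1
  cond := ⟨-1, 0, 0, by
    rw [Polynomial.derivative_sub, Polynomial.derivative_X_pow, hp, map_zero, zero_mul,
      Polynomial.derivative_sub, Polynomial.derivative_X, Polynomial.derivative_C]
    ring⟩

variable {p : ℕ} [Fact p.Prime] {X : Scheme.{u}} (hp : (p : Γ(X, ⊤)) = 0)

/-- The function underlying a section. -/
def val {U : X.Etale} (s : EtCoh.sect (EtCoh.Ga X) U) : Γ(U.left, ⊤) := s.down

/-- The section given by a function. -/
def mk {U : X.Etale} (c : Γ(U.left, ⊤)) : EtCoh.sect (EtCoh.Ga X) U := ULift.up c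

/-- `s ↦ s - s ^ p`. -/
noncomputable def P : EtCoh.Ga X ⟶ EtCoh.Ga X :=
  ⟨{ app := fun U => AddCommGrpCat.ofHom (AddMonoidHom.mk' (fun s : EtCoh.sect (EtCoh.Ga X) U.unop =>
        mk (val s - val s ^ p)) fun s t => by
          refine ULift.ext _ _ ?_
          change (val s + val t) - (val s + val t) ^ p = (val s - val s ^ p) + (val t - val t ^ p)
          rw [add_pow_p (cast_eq_zero hp U.unop.hom)]
          ring)
     naturality := fun U V g => by
       refine AddCommGrpCat.ext fun s => ULift.ext _ _ ?_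
       change g.unop.left.appTop (val (U := U.unop) s) - (g.unop.left.appTop (val (U := U.unop) s)) ^ p =
         g.unop.left.appTop (val (U := U.unop) s - val (U := U.unop) s ^ p)
       rw [map_sub, map_pow] }⟩

theorem P_app (U : X.Etale) (s : EtCoh.sect (EtCoh.Ga X) U) :
    val ((P hp).hom.app (op U) s) = val s - val s ^ p := rfl

/-- The constants, as a map of presheaves. -/
noncomputable def cst : (Functor.const X.Etaleᵒᵖ).obj
    (AddCommGrpCat.of (ULift.{u + 1} (ZMod p))) ⟶ (EtCoh.Ga X).obj where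
  app U := AddCommGrpCat.ofHom ((AddEquiv.ulift.symm.toAddMonoidHom.comp
    (ofZMod p (cast_eq_zero hp U.unop.hom)).toAddMonoidHom).comp AddEquiv.ulift.toAddMonoidHom)
  naturality U V g := by
    refine AddCommGrpCat.ext fun s => ULift.ext _ _ ?_
    exact (map_ofZMod g.unop.left.appTop.hom (cast_eq_zero hp U.unop.hom)
      (cast_eq_zero hp V.unop.hom) s.down).symm

/-- The inclusion of the constants. -/
noncomputable def ι : EtCoh.const X (ZMod p) ⟶ EtCoh.Ga X :=
  ⟨sheafifyLift X.smallEtaleTopology (cst hp) (EtCoh.Ga X).property⟩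

theorem ι_unit (U : X.Etale) (m : ULift.{u + 1} (ZMod p)) :
    val ((ι hp).hom.app (op U) ((ConstFLC.unitMap X _).app (op U) m)) =
      ofZMod p (cast_eq_zero hp U.hom) m.down :=
  congrArg ULift.down (congr($(congrArg (fun f => NatTrans.app f (op U))
    (toSheafify_sheafifyLift X.smallEtaleTopology (cst hp) (EtCoh.Ga X).property)) m))

theorem ι_P : ι hp ≫ P hp = 0 := by
  refine Sheaf.hom_ext (sheafify_hom_ext _ _ _ (EtCoh.Ga X).property ?_)
  refine NatTrans.ext (funext fun U => AddCommGrpCat.ext fun m => ULift.ext _ _ ?_)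
  change val (U := U.unop) ((P hp).hom.app U ((ι hp).hom.app U ((ConstFLC.unitMap X _).app U m))) = 0
  rw [P_app, ι_unit hp U.unop m, ofZMod_pow, sub_self]

theorem epi_P : Epi (P hp) := by
  have : Presheaf.IsLocallySurjective X.smallEtaleTopology (P hp).hom := by
    refine ⟨fun {U} s => mem_smallEtaleTopology_of_points U _ fun x => ?_⟩
    obtain ⟨W, hW, hxW, -⟩ := exists_isAffineOpen_mem_and_subset (U := (⊤ : U.left.Opens)) (x := x) trivial
    have : IsAffine W := hW
    let B := Γ((W : Scheme.{u}), ⊤)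
    let k : Spec B ⟶ U.left := (W : Scheme.{u}).isoSpec.inv ≫ W.ι
    let ρ : Γ(U.left, ⊤) →+* B := ((Scheme.ΓSpecIso B).hom.hom).comp k.appTop.hom
    have hpB : (p : B) = 0 := by
      rw [← map_natCast ρ, cast_eq_zero hp U.hom, map_zero]
    let z : W := ⟨x, hxW⟩
    let q₀ : PrimeSpectrum B := (W : Scheme.{u}).isoSpec.hom z
    let a0 : Γ(U.left, ⊤) := val s
    let a : B := ρ a0
    let Q := asPair hpB a
    let φ : B →+* Q.Ring := algebraMap B Q.Ring
    have hroot : Q.X - Q.X ^ p = φ a := by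
      have h := Q.hasMap_X.1
      rw [show Q.f = Polynomial.X ^ p - (Polynomial.X - Polynomial.C a) from rfl, map_sub, map_sub,
        map_pow, Polynomial.aeval_X, Polynomial.aeval_C] at h
      linear_combination -h
    let g : Spec (CommRingCat.of Q.Ring) ⟶ U.left := Spec.map (CommRingCat.ofHom φ) ≫ k
    have : Etale (Spec.map (CommRingCat.ofHom φ)) :=
      (HasRingHomProperty.Spec_iff (P := @Etale)).2 (RingHom.etale_algebraMap.2 inferInstance)
    have : Etale g := inferInstanceAs (Etale (Spec.map (CommRingCat.ofHom φ) ≫ _ ≫ W.ι))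
    have : Etale U.hom := U.prop
    let K := AlgebraicClosure q₀.asIdeal.ResidueField
    obtain ⟨x0, hx0⟩ := IsAlgClosed.exists_root
      (Polynomial.X ^ p - (Polynomial.X - Polynomial.C (algebraMap B K a))) (by
        rw [Polynomial.degree_sub_eq_left_of_degree_lt, Polynomial.degree_X_pow]
        · exact_mod_cast (Fact.out : p.Prime).ne_zero
        · rw [Polynomial.degree_X_sub_C, Polynomial.degree_X_pow]
          exact_mod_cast (Fact.out : p.Prime).one_lt)
    have hmap : Q.HasMap x0 := by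
      refine ⟨?_, ?_⟩
      · rw [show Q.f = Polynomial.X ^ p - (Polynomial.X - Polynomial.C a) from rfl, map_sub, map_sub,
          map_pow, Polynomial.aeval_X, Polynomial.aeval_C]
        simpa [Polynomial.IsRoot] using hx0
      · rw [show Q.g = 1 from rfl, map_one]
        exact isUnit_one
    let q : PrimeSpectrum Q.Ring := ⟨RingHom.ker (Q.lift x0 hmap).toRingHom, RingHom.ker_isPrime _⟩
    have hq : (Spec.map (CommRingCat.ofHom φ)) q = q₀ := PrimeSpectrum.ext (by
      show Ideal.comap φ (RingHom.ker (Q.lift x0 hmap).toRingHom) = q₀.asIdeal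
      rw [RingHom.comap_ker, show (Q.lift x0 hmap).toRingHom.comp φ = algebraMap B K from
        (Q.lift x0 hmap).comp_algebraMap, IsScalarTower.algebraMap_eq B q₀.asIdeal.ResidueField K,
        RingHom.ker_comp_of_injective _ (algebraMap q₀.asIdeal.ResidueField K).injective,
        Ideal.ker_algebraMap_residueField])
    let V : X.Etale := Scheme.Etale.mk (g ≫ U.hom)
    let π : V ⟶ U := MorphismProperty.Over.homMk g rfl
    refine ⟨V, π, q, ⟨ULift.up ((Scheme.ΓSpecIso (CommRingCat.of Q.Ring)).inv.hom Q.X),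
      ULift.ext _ _ ?_⟩, ?_⟩
    · show (Scheme.ΓSpecIso (CommRingCat.of Q.Ring)).inv.hom Q.X -
        ((Scheme.ΓSpecIso (CommRingCat.of Q.Ring)).inv.hom Q.X) ^ p = g.appTop a0
      rw [← map_pow, ← map_sub, hroot, Scheme.Hom.comp_appTop, CommRingCat.comp_apply,
        show (Spec.map (CommRingCat.ofHom φ)).appTop = (Scheme.ΓSpecIso B).hom ≫ CommRingCat.ofHom φ ≫
          (Scheme.ΓSpecIso (CommRingCat.of Q.Ring)).inv by
        rw [← Scheme.ΓSpecIso_naturality_assoc, Iso.hom_inv_id, Category.comp_id]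
        rfl]
      rfl
    · show g q = x
      rw [show g q = k ((Spec.map (CommRingCat.ofHom φ)) q) from Scheme.Hom.comp_apply _ _ _, hq]
      show ((W : Scheme.{u}).isoSpec.inv ≫ W.ι) ((W : Scheme.{u}).isoSpec.hom z) = x
      rw [← Scheme.Hom.comp_apply, Iso.hom_inv_id_assoc]
      rfl
  have : Sheaf.IsLocallySurjective (P hp) := this
  infer_instance

section stalk

variable {Ω : Type u} [Field Ω] [IsSepClosed Ω] (ξ : Spec (CommRingCat.of Ω) ⟶ X)

/-- The constants in the stalk. -/
theorem stalk_ι {A : X.Etale} (t : (Scheme.pointSmallEtale ξ).fiber.obj A) (m : ULift.{u + 1} (ZMod p)) :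
    ((EtCoh.stalk ξ).map (ι hp)) (gm ξ (EtCoh.const X (ZMod p)) A t ((ConstFLC.unitMap X _).app (op A) m)) =
      gm ξ (EtCoh.Ga X) A t (mk (ofZMod p (cast_eq_zero hp A.hom) m.down)) :=
  (gm_map _ ξ t _).trans (congrArg _ (ULift.ext _ _ (ι_unit hp A m)))

end stalk

theorem mono_ι : Mono (ι hp) := mono_of_stalks _ fun Ω _ _ ξ => by
  let T := EtCoh.top X
  let t : (Scheme.pointSmallEtale ξ).fiber.obj T := Over.homMk ξ (Category.comp_id _)
  have hb := gm_bijective (ConstFLC.germBij_const X (AddCommGrpCat.of (ULift.{u + 1} (ZMod p)))) ξ t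
  refine (injective_iff_map_eq_zero ((EtCoh.stalk ξ).map (ι hp)).hom).2 fun q hq => ?_
  obtain ⟨m, rfl⟩ := hb.2 q
  obtain ⟨V, g, v, -, hg⟩ := ((Scheme.pointSmallEtale ξ).toPresheafFiber_eq_iff' T t
    (P := (EtCoh.Ga X).obj) (mk (U := T) (ofZMod p (cast_eq_zero hp T.hom) m.down)) 0).1
      (((stalk_ι hp ξ t m).symm.trans hq).trans (map_zero (gm ξ (EtCoh.Ga X) T t)).symm)
  rw [map_zero] at hg
  have h1 : g.left.appTop.hom (ofZMod p (cast_eq_zero hp T.hom) m.down) = 0 := congrArg ULift.down hg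
  rw [map_ofZMod g.left.appTop.hom _ (cast_eq_zero hp V.hom)] at h1
  have : Nontrivial Γ(V.left, ⊤) :=
    (V.left.evaluation ⊤ (Sect.pt v) (TopologicalSpace.Opens.mem_top _)).hom.domain_nontrivial
  have h2 : m = 0 := ULift.ext _ _ ((map_eq_zero_iff _ (RingHom.injective _)).1 h1)
  rw [h2, map_zero]

theorem exact : (ShortComplex.mk (ι hp) (P hp) (ι_P hp)).Exact := by
  rw [exact_iff_stalks]
  intro Ω _ _ ξ
  refine (ShortComplex.ab_exact_iff _).2 fun q hq => ?_
  obtain ⟨A₀, t₀, s, -, rfl⟩ := Sect.exists_gm (EtCoh.Ga X) ξ q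
  obtain ⟨A, a, t, ha, hs⟩ := ((Scheme.pointSmallEtale ξ).toPresheafFiber_eq_iff' A₀ t₀
    (P := (EtCoh.Ga X).obj) ((P hp).hom.app (op A₀) s) 0).1 (((gm_map (P hp) ξ t₀ s).symm.trans hq).trans
      (map_zero (gm ξ (EtCoh.Ga X) A₀ t₀)).symm)
  rw [map_zero, ← NatTrans.naturality_apply] at hs
  let s' : EtCoh.sect (EtCoh.Ga X) A := (EtCoh.Ga X).obj.map a.op s
  let c : Γ(A.left, ⊤) := val s'
  have hc : c ^ p = c := by
    have h := congrArg ULift.down hs
    exact (sub_eq_zero.1 h).symm
  obtain ⟨m, hm⟩ := isOpenCover_idem (cast_eq_zero hp A.hom) hc (Sect.pt t)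
  let W := A.left.basicOpen (idem (cast_eq_zero hp A.hom) c m)
  obtain ⟨w, hw⟩ := Sect.exists_pt (AllPoints.resι A W) t ((AllPoints.range_resι A W).ge hm)
  refine ⟨gm ξ (EtCoh.const X (ZMod p)) _ w ((ConstFLC.unitMap X _).app (op (AllPoints.res A W)) ⟨m⟩),
    (stalk_ι hp ξ w ⟨m⟩).trans ?_⟩
  rw [← gm_res (EtCoh.Ga X) a ha s, ← gm_res (EtCoh.Ga X) (AllPoints.resι A W) hw]
  refine congrArg _ (ULift.ext _ _ ?_)
  let r : Γ(A.left, ⊤) →+* Γ((AllPoints.res A W).left, ⊤) := (AllPoints.resι A W).left.appTop.hom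
  have hu : IsUnit (r (idem (cast_eq_zero hp A.hom) c m)) := by
    have : IsUnit (W.ι.appTop.hom (idem (cast_eq_zero hp A.hom) c m)) := by
      refine RingedSpace.isUnit_of_isUnit_germ W.toScheme.toRingedSpace ⊤ _ fun x _ => ?_
      refine (W.toScheme.mem_basicOpen_top _ x).1 ?_
      rw [← Scheme.preimage_basicOpen_top]
      exact x.2
    exact this
  have h3 : (r c - r (ofZMod p (cast_eq_zero hp A.hom) m)) * r (idem (cast_eq_zero hp A.hom) c m) = 0 := by
    rw [← map_sub, ← map_mul, sub_mul_idem _ hc m, map_zero]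
  exact ((sub_eq_zero.1 (hu.mul_left_eq_zero.1 h3)).trans (map_ofZMod r _ _ m)).symm

theorem shortExact : (ShortComplex.mk (ι hp) (P hp) (ι_P hp)).ShortExact :=
  { exact := exact hp, mono_f := mono_ι hp, epi_g := epi_P hp }

end Groth.Agent.EtSite.ASSheaf
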