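import Groth.Agent.EtSite.BigExact
import Mathlib.Algebra.Homology.ShortComplex.ExactFunctor
import Mathlib.CategoryTheory.Abelian.RightDerived
import Mathlib.CategoryTheory.Preadditive.Injective.Preserves

/-!
# Exactness of the big-site comparison functors; derived functors and exact functors
-/

set_option autoImplicit false
universe u

open CategoryTheory CategoryTheory.Limits AlgebraicGeometry Opposite

namespace Groth.Agent.EtSite.BigBC

/-- A left adjoint preserving monomorphisms is exact. -/
theorem exact_left {A B : Type*} [Category A] [Category B] [Abelian A] [Abelian B] {L : A ⥤ B} {R : B ⥤ A}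
    (adj : L ⊣ R) [L.PreservesMonomorphisms] :
    L.Additive ∧ PreservesFiniteLimits L ∧ PreservesFiniteColimits L := by
  have : PreservesColimitsOfSize.{0, 0} L := adj.leftAdjoint_preservesColimits
  have : PreservesFiniteColimits L := PreservesColimitsOfSize.preservesFiniteColimits _
  have : L.Additive :=
    have : PreservesBinaryBiproducts L := preservesBinaryBiproducts_of_preservesBinaryCoproducts _
    Functor.additive_of_preservesBinaryBiproducts _
  refine ⟨‹_›, ?_, ‹_›⟩
  rw [Functor.preservesFiniteLimits_iff_forall_exact_map_and_mono]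
  intro S hS
  have := hS.mono_f
  have := hS.epi_g
  exact ⟨((Functor.preservesFiniteColimits_iff_forall_exact_map_and_epi _).1 inferInstance S hS).1,
    inferInstanceAs (Mono (L.map S.f))⟩

/-- An exact functor preserving injectives, intertwining `P` and `P'`, intertwines their derived functors. -/
theorem nonempty_rightDerived_iso {A A' B B' : Type*} [Category A] [Category A'] [Category B] [Category B']
    [Abelian A] [Abelian A'] [Abelian B] [Abelian B'] [EnoughInjectives A] [EnoughInjectives A']
    {P : A ⥤ B} [P.Additive] {P' : A' ⥤ B'} [P'.Additive] {H : A ⥤ A'} {G : B ⥤ B'}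
    [H.Additive] [G.Additive] [H.PreservesInjectiveObjects] [PreservesFiniteLimits H]
    [PreservesFiniteColimits H] [PreservesFiniteLimits G] [PreservesFiniteColimits G]
    (e : P ⋙ G ≅ H ⋙ P') (F : A) (q : ℕ) :
    Nonempty (G.obj ((P.rightDerived q).obj F) ≅ (P'.rightDerived q).obj (H.obj F)) := by
  let I := injectiveResolution F
  let J : InjectiveResolution (H.obj F) :=
    { cocomplex := (H.mapHomologicalComplex (ComplexShape.up ℕ)).obj I.cocomplex
      injective := fun n => Functor.injective_obj_of_injective H (I.injective n)
      ι := (HomologicalComplex.singleMapHomologicalComplex H (ComplexShape.up ℕ) 0).inv.app F ≫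
        (H.mapHomologicalComplex (ComplexShape.up ℕ)).map I.ι
      quasiIso := by
        haveI := HomologicalComplex.quasiIso_map_of_preservesHomology I.ι H
        exact quasiIso_comp _ _ }
  let c : (G.mapHomologicalComplex (ComplexShape.up ℕ)).obj
        ((P.mapHomologicalComplex (ComplexShape.up ℕ)).obj I.cocomplex) ≅
      (P'.mapHomologicalComplex (ComplexShape.up ℕ)).obj J.cocomplex :=
    HomologicalComplex.Hom.isoOfComponents (fun n => e.app (I.cocomplex.X n))
      (fun i j _ => (e.hom.naturality (I.cocomplex.d i j)).symm)
  exact ⟨G.mapIso (I.isoRightDerivedObj P q) ≪≫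
    ((((P.mapHomologicalComplex (ComplexShape.up ℕ)).obj I.cocomplex).sc q).mapHomologyIso G).symm ≪≫
    (HomologicalComplex.homologyFunctor B' _ q).mapIso c ≪≫ (J.isoRightDerivedObj P' q).symm⟩

variable {S T : Scheme.{u}} (f : T ⟶ S)

theorem resEt_exact (S : Scheme.{u}) :
    PreservesFiniteLimits (BigSite.resEt Scheme.etalePrecoverage S) ∧
      PreservesFiniteColimits (BigSite.resEt Scheme.etalePrecoverage S) := by
  have : PreservesColimitsOfSize.{0, 0} (BigSite.resEt Scheme.etalePrecoverage S) :=
    (BigSite.iEtAdj Scheme.etalePrecoverage S).leftAdjoint_preservesColimits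
  have : PreservesLimitsOfSize.{0, 0} (BigSite.resEt Scheme.etalePrecoverage S) :=
    (BigSite.piEtAdj Scheme.etalePrecoverage S).rightAdjoint_preservesLimits
  exact ⟨PreservesLimitsOfSize.preservesFiniteLimits _, PreservesColimitsOfSize.preservesFiniteColimits _⟩

theorem pullBig_exact :
    PreservesFiniteLimits (BigSite.pullBig Scheme.etalePrecoverage f AddCommGrpCat.{u + 1}) ∧
      PreservesFiniteColimits (BigSite.pullBig Scheme.etalePrecoverage f AddCommGrpCat.{u + 1}) := by
  have : PreservesLimitsOfSize.{0, 0} (BigSite.pullBig Scheme.etalePrecoverage f AddCommGrpCat.{u + 1}) :=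
    (BigSite.shriekAbAdj Scheme.etalePrecoverage f).rightAdjoint_preservesLimits
  have : PreservesColimitsOfSize.{0, 0} (BigSite.pullBig Scheme.etalePrecoverage f AddCommGrpCat.{u + 1}) :=
    (BigSite.bigAdj Scheme.etalePrecoverage f AddCommGrpCat.{u + 1}).leftAdjoint_preservesColimits
  exact ⟨PreservesLimitsOfSize.preservesFiniteLimits _, PreservesColimitsOfSize.preservesFiniteColimits _⟩

theorem shriekAb_mono : (BigSite.shriekAb Scheme.etalePrecoverage f).PreservesMonomorphisms :=
  have := BigExact.lan_map_mono f
  BigExact.sheafPullback_mono (Over.map f)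

theorem pullBig_injective :
    (BigSite.pullBig Scheme.etalePrecoverage f AddCommGrpCat.{u + 1}).PreservesInjectiveObjects :=
  have := shriekAb_mono f
  Functor.preservesInjectiveObjects_of_adjunction_of_preservesMonomorphisms
    (BigSite.shriekAbAdj Scheme.etalePrecoverage f)

theorem resEt_injective (S : Scheme.{u}) :
    (BigSite.resEt Scheme.etalePrecoverage S).PreservesInjectiveObjects :=
  have := BigExact.piEtPull_mono S
  Functor.preservesInjectiveObjects_of_adjunction_of_preservesMonomorphisms
    (BigSite.piEtAdj Scheme.etalePrecoverage S)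

end Groth.Agent.EtSite.BigBC
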