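import Groth.Prelude.Def_BigSite
import Mathlib.CategoryTheory.Abelian.GrothendieckAxioms.Colim
import Mathlib.CategoryTheory.Abelian.GrothendieckAxioms.Basic
import Mathlib.CategoryTheory.Limits.Final
import Mathlib.Algebra.Category.Grp.AB
import Mathlib.CategoryTheory.Functor.Flat
import Mathlib.CategoryTheory.Functor.KanExtension.Adjunction
import Mathlib.CategoryTheory.Sites.Pullback

/-!
# Inverse image to the big étale site is left exact
-/

set_option autoImplicit false
set_option backward.isDefEq.respectTransparency.types false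
universe v u

open CategoryTheory CategoryTheory.Limits AlgebraicGeometry Opposite

namespace Groth.Agent.EtSite.BigExact

section

variable {C D : Type (u + 1)} [Category.{u} C] [Category.{u} D] (G : C ⥤ D)

/-- Left Kan extension preserves monomorphisms if pointwise the colimits are exact. -/
theorem lan_mono
    (h : ∀ W : D, ∃ (J : Type (u + 1)) (_ : Category.{v} J) (E : J ⥤ CostructuredArrow G.op (op W))
      (_ : E.Final) (_ : HasColimitsOfShape J AddCommGrpCat.{u + 1}),
        HasExactColimitsOfShape J AddCommGrpCat.{u + 1}) :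
    (G.op.lan : (Cᵒᵖ ⥤ AddCommGrpCat.{u + 1}) ⥤ _).PreservesMonomorphisms where
  preserves {P Q} f _ := by
    have : ∀ W, Mono ((G.op.lan.map f).app W) := fun ⟨W⟩ => by
      obtain ⟨J, _, E, _, _, _⟩ := h W
      have hP := G.op.isPointwiseLeftKanExtensionLeftKanExtensionUnit P (op W)
      have hQ := G.op.isPointwiseLeftKanExtensionLeftKanExtensionUnit Q (op W)
      have : Mono (Functor.whiskerLeft (E ⋙ CostructuredArrow.proj _ _) f) := by
        have : ∀ x, Mono ((Functor.whiskerLeft (E ⋙ CostructuredArrow.proj _ _) f).app x) :=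
          fun x => by rw [Functor.whiskerLeft_app]; infer_instance
        exact NatTrans.mono_of_mono_app _
      refine colim.map_mono' (Functor.whiskerLeft (E ⋙ CostructuredArrow.proj _ _) f)
        ((Functor.Final.isColimitWhiskerEquiv E _).symm hP)
        ((Functor.Final.isColimitWhiskerEquiv E _).symm hQ) _ fun x => ?_
      have hn := congr_app (G.op.lanUnit.naturality f) (E.obj x).left
      have hn2 := (G.op.lan.map f).naturality (E.obj x).hom
      show ((G.op.lanUnit.app P).app _ ≫ _) ≫ _ = f.app _ ≫ _ ≫ _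
      erw [Category.assoc, hn2]
      exact (Category.assoc _ _ _).symm.trans
        (congrArg (· ≫ (G.op.lan.obj Q).map (E.obj x).hom) hn.symm)
    exact NatTrans.mono_of_mono_app _

variable {J : GrothendieckTopology C} {K : GrothendieckTopology D} [G.IsContinuous J K]
  [(G.sheafPushforwardContinuous AddCommGrpCat.{u + 1} J K).IsRightAdjoint]
  [HasSheafify K AddCommGrpCat.{u + 1}] [HasSheafify J AddCommGrpCat.{u + 1}]

/-- The inverse image preserves monomorphisms. -/
theorem sheafPullback_mono
    [(G.op.lan : (Cᵒᵖ ⥤ AddCommGrpCat.{u + 1}) ⥤ _).PreservesMonomorphisms] :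
    (G.sheafPullback AddCommGrpCat.{u + 1} J K).PreservesMonomorphisms := by
  have : (Functor.sheafPullbackConstruction.sheafPullback G AddCommGrpCat.{u + 1} J K).PreservesMonomorphisms :=
    ⟨fun f _ => by
      show Mono ((presheafToSheaf _ _).map (G.op.lan.map ((sheafToPresheaf _ _).map f)))
      infer_instance⟩
  exact Functor.PreservesMonomorphisms.of_iso
    (Functor.sheafPullbackConstruction.sheafPullbackIso G AddCommGrpCat.{u + 1} J K).symm

end

theorem piEtPull_mono (S : Scheme.{u}) :
    (BigSite.piEtPull Scheme.etalePrecoverage S).PreservesMonomorphisms := by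
  have : PreservesFiniteLimits (EtFppf.a S) :=
    inferInstanceAs (PreservesFiniteLimits (Scheme.Etale.forget S))
  have := flat_of_preservesFiniteLimits (EtFppf.a S)
  have := lan_mono (EtFppf.a S) fun W => by
    have : IsFiltered (CostructuredArrow (EtFppf.a S).op (op W)) :=
      IsFiltered.of_equivalence (structuredArrowOpEquivalence (EtFppf.a S) W)
    have : AB5OfSize.{u, u + 1} AddCommGrpCat.{u + 1} := AB5OfSize_shrink.{u, u + 1, u + 1, u + 1} _
    exact ⟨_, _, 𝟭 _, inferInstance, inferInstance, AB5OfSize.ofShape _⟩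
  exact sheafPullback_mono (EtFppf.a S)

variable {S T : Scheme.{u}} (f : T ⟶ S)

/-- The factorisations through `f` inside the indexing category. -/
noncomputable def facFunctor (W : Over S) :
    Discrete (ULift.{u + 1} {φ : W.left ⟶ T // φ ≫ f = W.hom}) ⥤ CostructuredArrow (Over.map f).op (op W) :=
  Discrete.functor fun φ => CostructuredArrow.mk (Y := op (Over.mk φ.down.1))
    ((Over.homMk (U := W) (V := (Over.map f).obj (Over.mk φ.down.1)) (𝟙 W.left)
      ((Category.id_comp _).trans φ.down.2)).op)

theorem facFunctor_final (W : Over S) : (facFunctor f W).Final := by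
  refine ⟨fun k => ?_⟩
  let g : W ⟶ (Over.map f).obj k.left.unop := k.hom.unop
  let φ : ULift.{u + 1} {φ : W.left ⟶ T // φ ≫ f = W.hom} := ⟨⟨g.left ≫ k.left.unop.hom, by
    rw [Category.assoc]; exact Over.w g⟩⟩
  have key : ∀ s : StructuredArrow k (facFunctor f W),
      s.hom.left.unop.left = g.left ∧ s.right.as = φ := by
    intro s
    have h1 := congrArg Quiver.Hom.unop (CostructuredArrow.w s.hom)
    have h2 : s.hom.left.unop.left = g.left :=
      (Category.id_comp _).symm.trans (congrArg (fun m : W ⟶ _ => m.left) h1)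
    refine ⟨h2, ULift.ext _ _ (Subtype.ext ?_)⟩
    show s.right.as.down.1 = g.left ≫ k.left.unop.hom
    rw [← h2]
    exact (Over.w s.hom.left.unop).symm
  have : Nonempty (StructuredArrow k (facFunctor f W)) := ⟨StructuredArrow.mk (Y := ⟨φ⟩)
    (CostructuredArrow.homMk (Quiver.Hom.op (Over.homMk (U := Over.mk φ.down.1)
      (V := k.left.unop) g.left rfl)) (by
        apply Quiver.Hom.unop_inj
        exact Over.OverMorphism.ext (Category.id_comp _)))⟩
  refine zigzag_isConnected fun s t => ?_
  obtain ⟨hs, hs'⟩ := key s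
  obtain ⟨ht, ht'⟩ := key t
  have hst : s = t := by
    obtain ⟨⟨⟨⟩⟩, ⟨a⟩, p⟩ := s
    obtain ⟨⟨⟨⟩⟩, ⟨b⟩, p'⟩ := t
    obtain rfl : a = b := hs'.trans ht'.symm
    congr 1
    apply CostructuredArrow.hom_ext
    apply Quiver.Hom.unop_inj
    exact Over.OverMorphism.ext (hs.trans ht.symm)
  rw [hst]

theorem lan_map_mono :
    ((Over.map f).op.lan : ((Over T)ᵒᵖ ⥤ AddCommGrpCat.{u + 1}) ⥤ _).PreservesMonomorphisms :=
  lan_mono (Over.map f) fun W => by
    have : AB4OfSize.{u + 1} AddCommGrpCat.{u + 1} := inferInstance
    exact ⟨_, _, facFunctor f W, facFunctor_final f W, inferInstance, inferInstance⟩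

end Groth.Agent.EtSite.BigExact
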