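import Groth.Agent.EtSite.ColimH

/-!
# Cartan's criterion on affine objects
-/

set_option autoImplicit false
universe u

open CategoryTheory CategoryTheory.Limits AlgebraicGeometry Opposite CategoryTheory.Abelian

namespace Groth.Agent.EtSite.Cartan

open FLCOps FreeOn CechRes ColimH

variable {X : Scheme.{u}}

/-- The Čech complexes of single affine coverings of affine objects are exact in positive degrees. -/
def CechExact (F : EtCoh.Ab X) : Prop :=
  ∀ {U V : X.Etale} [IsAffine U.left] [IsAffine V.left] (g : V ⟶ U),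
    Function.Surjective g.left.base → ∀ (p : ℕ) (φ : P (M g (p + 1)).1 ⟶ F),
      d g (p + 1) ≫ φ = 0 → ∃ ψ : P (M g p).1 ⟶ F, d g p ≫ ψ = φ

theorem isAffine_M {U V : X.Etale} [IsAffine U.left] [IsAffine V.left] (g : V ⟶ U) :
    ∀ p, IsAffine (M g p).1.left
  | 0 => ‹_›
  | p + 1 => by
    have := isAffine_M g p
    exact inferInstanceAs (IsAffine (pullback g.left (M g p).2.left))

variable {F : EtCoh.Ab X}

theorem ext_one_eq_zero (hF : CechExact F) {U V : X.Etale} [IsAffine U.left] [IsAffine V.left]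
    (g : V ⟶ U) (hg : Function.Surjective g.left.base) (p : ℕ)
    (x : Ext (K g p) F 1) (hx : (Ext.mk₀ (epiK g p)).comp x (zero_add 1) = 0) : x = 0 := by
  have hS := shortExact_K g hg
  obtain ⟨y, rfl⟩ := Ext.contravariant_sequence_exact₃ (hS p) _ x hx (show 1 + 0 = 1 from rfl)
  obtain ⟨φ, rfl⟩ := (Ext.mk₀_bijective _ _).2 y
  obtain ⟨ψ, hψ⟩ := hF g hg (p + 1) (epiK g (p + 1) ≫ φ)
    (by rw [← Category.assoc, d_epiK, zero_comp])
  have : Epi (epiK g (p + 1)) := (hS (p + 1)).epi_g
  have hφ : incl g p ≫ ψ = φ := by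
    rw [← cancel_epi (epiK g (p + 1)), ← Category.assoc, epiK_incl, hψ]
  rw [← hφ, ← Ext.mk₀_comp_mk₀, (hS p).extClass_comp_assoc]

theorem acyclic (hF : CechExact F) : ∀ (n : ℕ) (U : X.Etale) [IsAffine U.left]
    (α : Ext (P U) F (n + 1)), α = 0 := by
  intro n
  induction n using Nat.strong_induction_on with
  | _ n ih =>
    intro U _ α
    obtain ⟨V, g, hV, hg, hkill⟩ := exists_cover_kill n F U α
    have hS := shortExact_K g hg
    have hd : (Ext.mk₀ (epiK g 0)).comp α (zero_add (n + 1)) = 0 := by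
      let pr : (M g 1).1 ⟶ V := MorphismProperty.Over.homMk (pullback.fst g.left (𝟙 U : U ⟶ U).left)
        (by
          have : g.left ≫ U.hom = V.hom := Over.w g.toCommaMorphism
          exact ((congrArg (pullback.fst g.left (𝟙 U : U ⟶ U).left ≫ ·) this.symm).trans
            ((Category.assoc _ _ _).symm.trans ((congrArg (· ≫ U.hom) pullback.condition).trans
              (congrArg (fun m => m ≫ U.hom) (Category.comp_id _)))))) trivial
      have e : epiK g 0 = pmap (face g 0 0).1 := by
        change d g 0 = _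
        rw [d, Fin.sum_univ_one, Fin.val_zero, pow_zero, one_zsmul]
      have e2 : (face g 0 0).1 = (pr ≫ g : (M g 1).1 ⟶ U) :=
        MorphismProperty.Over.Hom.ext (pullback.condition.trans (Category.comp_id _)).symm
      rw [e, e2]
      exact (congrArg (fun z => (Ext.mk₀ z).comp α (zero_add (n + 1))) (pmap_comp pr g)).trans
        (by rw [← Ext.mk₀_comp_mk₀, Ext.comp_assoc_of_second_deg_zero, hkill, Ext.comp_zero])
    cases n with
    | zero => exact ext_one_eq_zero hF g hg 0 α hd
    | succ n =>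
      have key : ∀ m, m ≤ n → ∀ p, ∀ x : Ext (K g p) F (m + 1), x = 0 := by
        intro m
        induction m with
        | zero =>
          intro _ p x
          have := isAffine_M g (p + 1)
          exact ext_one_eq_zero hF g hg p x (ih 0 (by omega) (M g (p + 1)).1 _)
        | succ m ihm =>
          intro hm p x
          have := isAffine_M g (p + 1)
          obtain ⟨y, rfl⟩ := Ext.contravariant_sequence_exact₃ (hS p) _ x
            (ih (m + 1) (by omega) (M g (p + 1)).1 _) (show 1 + (m + 1) = m + 1 + 1 by omega)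
          rw [ihm (by omega) (p + 1) y, Ext.comp_zero]
      obtain ⟨y, rfl⟩ := Ext.contravariant_sequence_exact₃ (hS 0) _ α hd
        (show 1 + (n + 1) = n + 1 + 1 by omega)
      rw [key n le_rfl 1 y, Ext.comp_zero]
      rfl

theorem subsingleton_H [IsAffine X] (hF : CechExact F) (n : ℕ) :
    Subsingleton (EtCoh.H X F (n + 1)) := by
  obtain ⟨e⟩ := FreeOn.nonempty_top_iso (X := X)
  have : IsAffine (EtCoh.top X).left := ‹IsAffine X›
  refine subsingleton_of_forall_eq 0 fun z => ?_
  have h1 := acyclic hF n (EtCoh.top X) ((Ext.mk₀ e.hom).comp z (zero_add (n + 1)))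
  rw [← Ext.mk₀_id_comp z, ← e.inv_hom_id, ← Ext.mk₀_comp_mk₀_assoc]
  exact (congrArg (fun t => (Ext.mk₀ e.inv).comp t (zero_add (n + 1))) h1).trans (Ext.comp_zero ..)

/-- The pullback of a section along the differential. -/
theorem d_comp_app {U V : X.Etale} (g : V ⟶ U) (p : ℕ) (φ : P (M g p).1 ⟶ F) :
    (d g p ≫ φ).hom.app (op (M g (p + 1)).1) (can _) =
      ∑ i : Fin (p + 1), ((-1 : ℤ) ^ (i : ℕ)) •
        F.obj.map (face g p i).1.op (φ.hom.app (op (M g p).1) (can _)) := by
  let ev : (P (M g (p + 1)).1 ⟶ F) →+ EtCoh.sect F (M g (p + 1)).1 :=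
    { toFun := fun k => k.hom.app (op (M g (p + 1)).1) (can _)
      map_zero' := rfl
      map_add' := fun _ _ => rfl }
  change ev (d g p ≫ φ) = _
  rw [d, Preadditive.sum_comp, map_sum]
  refine Finset.sum_congr rfl fun i _ => ?_
  rw [Preadditive.zsmul_comp, map_zsmul]
  exact congrArg _ (pmap_comp_app (face g p i).1 φ)

end Groth.Agent.EtSite.Cartan
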