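import Groth.Agent.EtSite.FreeOn
import Mathlib.AlgebraicGeometry.Limits
import Mathlib.AlgebraicGeometry.Morphisms.QuasiSeparated

/-!
# The Čech resolution of a free sheaf by free sheaves
-/

set_option autoImplicit false
universe u

open CategoryTheory CategoryTheory.Limits AlgebraicGeometry Opposite

namespace Groth.Agent.EtSite.CechRes

open FLCOps FreeOn

variable {X : Scheme.{u}} {U V : X.Etale} (g : V ⟶ U)

/-- `V ×_U W`. -/
noncomputable def TObj (W : Σ W : X.Etale, W ⟶ U) : Σ W : X.Etale, W ⟶ U :=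
  have : Etale W.1.hom := W.1.prop
  have : Etale g.left := (inferInstance : EtCoh.etaleMP g.left)
  let Z : X.Etale := MorphismProperty.Over.mk ⊤ (pullback.snd g.left W.2.left ≫ W.1.hom) inferInstance
  let q : Z ⟶ W.1 := MorphismProperty.Over.homMk (pullback.snd g.left W.2.left) rfl trivial
  ⟨Z, q ≫ W.2⟩

/-- The projection to the second factor. -/
noncomputable def q (W : Σ W : X.Etale, W ⟶ U) : (TObj g W).1 ⟶ W.1 :=
  MorphismProperty.Over.homMk (pullback.snd g.left W.2.left) rfl trivial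

theorem q_comp (W : Σ W : X.Etale, W ⟶ U) : q g W ≫ W.2 = (TObj g W).2 := rfl

/-- Functoriality of `V ×_U -`. -/
noncomputable def TMap {W W' : Σ W : X.Etale, W ⟶ U} (f : W.1 ⟶ W'.1) (hf : f ≫ W'.2 = W.2) :
    (TObj g W).1 ⟶ (TObj g W').1 :=
  MorphismProperty.Over.homMk
    (pullback.lift (pullback.fst g.left W.2.left) (pullback.snd g.left W.2.left ≫ f.left) (by
      have h : f.left ≫ W'.2.left = W.2.left := congrArg (fun m : W.1 ⟶ U => m.left) hf
      exact pullback.condition.trans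
        ((congrArg (pullback.snd g.left W.2.left ≫ ·) h.symm).trans (Category.assoc _ _ _).symm)))
    (by
      change pullback.lift _ _ _ ≫ pullback.snd g.left W'.2.left ≫ W'.1.hom =
        pullback.snd g.left W.2.left ≫ W.1.hom
      refine (pullback.lift_snd_assoc _ _ _ _).trans ((Category.assoc _ _ _).trans ?_)
      exact congrArg (fun m => pullback.snd g.left W.2.left ≫ m) (Over.w f.toCommaMorphism)) trivial

theorem TMap_q {W W' : Σ W : X.Etale, W ⟶ U} (f : W.1 ⟶ W'.1) (hf : f ≫ W'.2 = W.2) :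
    TMap g f hf ≫ q g W' = q g W ≫ f :=
  MorphismProperty.Over.Hom.ext (pullback.lift_snd _ _ _)

theorem TMap_comp {W W' : Σ W : X.Etale, W ⟶ U} (f : W.1 ⟶ W'.1) (hf : f ≫ W'.2 = W.2) :
    TMap g f hf ≫ (TObj g W').2 = (TObj g W).2 := by
  rw [← q_comp g W', ← Category.assoc, TMap_q, Category.assoc, hf]
  rfl

/-- The objects of the resolution. -/
noncomputable def M : ℕ → Σ W : X.Etale, W ⟶ U
  | 0 => ⟨U, 𝟙 U⟩
  | p + 1 => TObj g (M p)

/-- The faces, with the compatibility with the maps to `U`. -/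
noncomputable def face : ∀ (p : ℕ), Fin (p + 1) →
    {f : (M g (p + 1)).1 ⟶ (M g p).1 // f ≫ (M g p).2 = (M g (p + 1)).2}
  | 0 => fun _ => ⟨q g (M g 0), rfl⟩
  | p + 1 => Fin.cases ⟨q g (M g (p + 1)), rfl⟩ fun i =>
      ⟨TMap g (face p i).1 (face p i).2, TMap_comp g _ _⟩

/-- The differentials. -/
noncomputable def d (p : ℕ) : P (M g (p + 1)).1 ⟶ P (M g p).1 :=
  ∑ i : Fin (p + 1), ((-1 : ℤ) ^ (i : ℕ)) • pmap (face g p i).1

section stalk

variable {Ω : Type u} [Field Ω] [IsSepClosed Ω] (ξ : Spec (CommRingCat.of Ω) ⟶ X)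

/-- The element `(v, x)` of the fibre of `V ×_U W`. -/
noncomputable def pair (W : Σ W : X.Etale, W ⟶ U) (v : (Scheme.pointSmallEtale ξ).fiber.obj V)
    (x : (Scheme.pointSmallEtale ξ).fiber.obj W.1)
    (h : (Scheme.pointSmallEtale ξ).fiber.map g v = (Scheme.pointSmallEtale ξ).fiber.map W.2 x) :
    (Scheme.pointSmallEtale ξ).fiber.obj (TObj g W).1 :=
  Over.homMk
    (pullback.lift (show Spec (CommRingCat.of Ω) ⟶ V.left from v.left)
      (show Spec (CommRingCat.of Ω) ⟶ W.1.left from x.left)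
      (congrArg CommaMorphism.left h :))
    (by
      change pullback.lift _ _ _ ≫ pullback.snd g.left W.2.left ≫ W.1.hom = ξ
      rw [pullback.lift_snd_assoc]
      exact Over.w x)

theorem map_q_pair (W : Σ W : X.Etale, W ⟶ U) (v : (Scheme.pointSmallEtale ξ).fiber.obj V)
    (x : (Scheme.pointSmallEtale ξ).fiber.obj W.1)
    (h : (Scheme.pointSmallEtale ξ).fiber.map g v = (Scheme.pointSmallEtale ξ).fiber.map W.2 x) :
    (Scheme.pointSmallEtale ξ).fiber.map (q g W) (pair g ξ W v x h) = x :=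
  Over.OverMorphism.ext (pullback.lift_snd _ _ _)

theorem map_TMap_pair {W W' : Σ W : X.Etale, W ⟶ U} (f : W.1 ⟶ W'.1) (hf : f ≫ W'.2 = W.2)
    (v : (Scheme.pointSmallEtale ξ).fiber.obj V) (x : (Scheme.pointSmallEtale ξ).fiber.obj W.1)
    (h : (Scheme.pointSmallEtale ξ).fiber.map g v = (Scheme.pointSmallEtale ξ).fiber.map W.2 x)
    (h' : (Scheme.pointSmallEtale ξ).fiber.map g v =
      (Scheme.pointSmallEtale ξ).fiber.map W'.2 ((Scheme.pointSmallEtale ξ).fiber.map f x)) :
    (Scheme.pointSmallEtale ξ).fiber.map (TMap g f hf) (pair g ξ W v x h) =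
      pair g ξ W' v ((Scheme.pointSmallEtale ξ).fiber.map f x) h' := by
  refine Over.OverMorphism.ext (pullback.hom_ext ?_ ?_)
  · exact (Category.assoc _ _ _).trans ((congrArg _ (pullback.lift_fst _ _ _)).trans
      ((pullback.lift_fst _ _ _).trans (pullback.lift_fst _ _ _).symm))
  · refine (Category.assoc _ _ _).trans ((congrArg _ (pullback.lift_snd _ _ _)).trans ?_)
    refine ((Category.assoc _ _ _).symm.trans ?_).trans (pullback.lift_snd _ _ _).symm
    exact congrArg (fun m => m ≫ f.left) (pullback.lift_snd _ _ _)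

theorem exists_pair (W : Σ W : X.Etale, W ⟶ U)
    (y : (Scheme.pointSmallEtale ξ).fiber.obj (TObj g W).1) :
    ∃ v x h, y = pair g ξ W v x h := by
  let yl : Spec (CommRingCat.of Ω) ⟶ pullback g.left W.2.left := y.left
  have hx : (yl ≫ pullback.snd g.left W.2.left) ≫ W.1.hom = ξ :=
    (Category.assoc _ _ _).trans (Over.w y)
  have hv : (yl ≫ pullback.fst g.left W.2.left) ≫ V.hom = ξ := by
    refine Eq.trans ?_ hx
    have e1 : g.left ≫ U.hom = V.hom := Over.w g.toCommaMorphism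
    have e2 : W.2.left ≫ U.hom = W.1.hom := Over.w W.2.toCommaMorphism
    rw [← e1, ← e2]
    simp only [Category.assoc]
    rw [pullback.condition_assoc]
  refine ⟨Over.homMk _ hv, Over.homMk _ hx, Over.OverMorphism.ext ?_, Over.OverMorphism.ext ?_⟩
  · exact (Category.assoc _ _ _).trans ((congrArg _ pullback.condition).trans (Category.assoc _ _ _).symm)
  · exact pullback.hom_ext (pullback.lift_fst _ _ _).symm (pullback.lift_snd _ _ _).symm

theorem map_face_comp (p : ℕ) (i : Fin (p + 1))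
    (x : (Scheme.pointSmallEtale ξ).fiber.obj (M g (p + 1)).1) :
    (Scheme.pointSmallEtale ξ).fiber.map (M g p).2
        ((Scheme.pointSmallEtale ξ).fiber.map (face g p i).1 x) =
      (Scheme.pointSmallEtale ξ).fiber.map (M g (p + 1)).2 x := by
  rw [← ConcreteCategory.comp_apply, ← Functor.map_comp, (face g p i).2]

omit [IsSepClosed Ω] in
theorem sum_hom_apply {A B : AddCommGrpCat.{u + 1}} {ι : Type*} (s : Finset ι) (f : ι → (A ⟶ B))
    (a : A) : (∑ i ∈ s, f i) a = ∑ i ∈ s, f i a := by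
  classical
  induction s using Finset.induction_on with
  | empty => simp only [Finset.sum_empty]; rfl
  | insert i t hi ih => rw [Finset.sum_insert hi, Finset.sum_insert hi, AddCommGrpCat.hom_add_apply, ih]

theorem d_e (p : ℕ) (x : (Scheme.pointSmallEtale ξ).fiber.obj (M g (p + 1)).1) :
    (EtCoh.stalk ξ).map (d g p) (e ξ _ x) =
      ∑ i : Fin (p + 1), ((-1 : ℤ) ^ (i : ℕ)) •
        e ξ _ ((Scheme.pointSmallEtale ξ).fiber.map (face g p i).1 x) := by
  rw [d, Functor.map_sum]
  rw [sum_hom_apply]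
  refine Finset.sum_congr rfl fun i _ => ?_
  rw [Functor.map_zsmul, ← map_pmap_e]
  rfl

/-- The contracting map attached to a lift. -/
noncomputable def hval (p : ℕ) (v : (Scheme.pointSmallEtale ξ).fiber.obj V)
    (x : (Scheme.pointSmallEtale ξ).fiber.obj (M g p).1) :
    ((EtCoh.stalk ξ).obj (P (M g (p + 1)).1) : AddCommGrpCat.{u + 1}) :=
  open Classical in
  if h : (Scheme.pointSmallEtale ξ).fiber.map g v = (Scheme.pointSmallEtale ξ).fiber.map (M g p).2 x then
    e ξ (M g (p + 1)).1 (pair g ξ (M g p) v x h) else 0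

/-- The contracting homotopy attached to a lift. -/
noncomputable def H (p : ℕ) (v : (Scheme.pointSmallEtale ξ).fiber.obj V) :
    (EtCoh.stalk ξ).obj (P (M g p).1) ⟶ (EtCoh.stalk ξ).obj (P (M g (p + 1)).1) :=
  (FreeOn.exists_stalk_desc ξ (hval g ξ p v)).choose

theorem H_e (p : ℕ) (v : (Scheme.pointSmallEtale ξ).fiber.obj V)
    (x : (Scheme.pointSmallEtale ξ).fiber.obj (M g p).1)
    (h : (Scheme.pointSmallEtale ξ).fiber.map g v = (Scheme.pointSmallEtale ξ).fiber.map (M g p).2 x) :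
    H g ξ p v (e ξ _ x) = e ξ (M g (p + 1)).1 (pair g ξ (M g p) v x h) :=
  ((FreeOn.exists_stalk_desc ξ (hval g ξ p v)).choose_spec x).trans (dif_pos h)

theorem d_H_e_succ (p : ℕ) (v : (Scheme.pointSmallEtale ξ).fiber.obj V)
    (x : (Scheme.pointSmallEtale ξ).fiber.obj (M g (p + 1)).1)
    (h : (Scheme.pointSmallEtale ξ).fiber.map g v = (Scheme.pointSmallEtale ξ).fiber.map (M g (p + 1)).2 x) :
    (EtCoh.stalk ξ).map (d g (p + 1)) (e ξ _ (pair g ξ (M g (p + 1)) v x h)) +
      H g ξ p v ((EtCoh.stalk ξ).map (d g p) (e ξ _ x)) = e ξ _ x := by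
  rw [d_e, Fin.sum_univ_succ, d_e, map_sum]
  have e0 : (Scheme.pointSmallEtale ξ).fiber.map (face g (p + 1) 0).1 (pair g ξ (M g (p + 1)) v x h) = x :=
    map_q_pair g ξ _ v x h
  rw [e0, Fin.val_zero, pow_zero, one_zsmul, add_assoc, ← Finset.sum_add_distrib]
  refine add_eq_left.2 (Finset.sum_eq_zero fun i _ => ?_)
  have h' : (Scheme.pointSmallEtale ξ).fiber.map g v = (Scheme.pointSmallEtale ξ).fiber.map (M g p).2
      ((Scheme.pointSmallEtale ξ).fiber.map (face g p i).1 x) := h.trans (map_face_comp g ξ p i x).symm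
  have e1 : (Scheme.pointSmallEtale ξ).fiber.map (face g (p + 1) i.succ).1 (pair g ξ (M g (p + 1)) v x h) =
      pair g ξ (M g p) v ((Scheme.pointSmallEtale ξ).fiber.map (face g p i).1 x) h' :=
    map_TMap_pair g ξ (face g p i).1 (face g p i).2 v x h h'
  rw [e1, map_zsmul, H_e g ξ p v _ h', Fin.val_succ, pow_succ, mul_neg_one, neg_zsmul]
  exact neg_add_cancel _

theorem d_d_e : ∀ (p : ℕ) (y : (Scheme.pointSmallEtale ξ).fiber.obj (M g (p + 2)).1),
    (EtCoh.stalk ξ).map (d g p) ((EtCoh.stalk ξ).map (d g (p + 1)) (e ξ _ y)) = 0 := by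
  intro p
  induction p with
  | zero =>
    intro y
    rw [d_e, Fin.sum_univ_two, map_add, map_zsmul, map_zsmul, d_e, d_e, Fin.sum_univ_one, Fin.sum_univ_one]
    simp only [Fin.val_zero, Fin.val_one, pow_zero, pow_one, one_zsmul, neg_zsmul]
    have key : ∀ i : Fin 2, (Scheme.pointSmallEtale ξ).fiber.map (face g 0 0).1
        ((Scheme.pointSmallEtale ξ).fiber.map (face g 1 i).1 y) =
        (Scheme.pointSmallEtale ξ).fiber.map (M g 2).2 y := by
      intro i
      rw [← map_face_comp g ξ 1 i y, ← map_face_comp g ξ 0 0]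
      change _ = (Scheme.pointSmallEtale ξ).fiber.map (𝟙 U) _
      rw [CategoryTheory.Functor.map_id]
      rfl
    rw [key 0, key 1]
    exact add_neg_cancel _
  | succ p ih =>
    intro y
    obtain ⟨v, x, h, rfl⟩ := exists_pair g ξ (M g (p + 2)) y
    have e1 := d_H_e_succ g ξ (p + 1) v x h
    have e2 : (EtCoh.stalk ξ).map (d g (p + 1))
          (H g ξ (p + 1) v ((EtCoh.stalk ξ).map (d g (p + 1)) (e ξ _ x))) +
        H g ξ p v ((EtCoh.stalk ξ).map (d g p) ((EtCoh.stalk ξ).map (d g (p + 1)) (e ξ _ x))) =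
          (EtCoh.stalk ξ).map (d g (p + 1)) (e ξ _ x) := by
      rw [d_e g ξ (p + 1) x]
      simp only [map_sum, map_zsmul]
      rw [← Finset.sum_add_distrib]
      refine Finset.sum_congr rfl fun i _ => ?_
      have h' : (Scheme.pointSmallEtale ξ).fiber.map g v = (Scheme.pointSmallEtale ξ).fiber.map (M g (p + 1)).2
          ((Scheme.pointSmallEtale ξ).fiber.map (face g (p + 1) i).1 x) :=
        h.trans (map_face_comp g ξ (p + 1) i x).symm
      rw [H_e g ξ (p + 1) v _ h', ← smul_add, d_H_e_succ g ξ p v _ h']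
    rw [ih x, map_zero, add_zero] at e2
    rw [eq_sub_of_add_eq e1, map_sub, e2]
    exact sub_self _

end stalk

theorem d_comp_d (p : ℕ) : d g (p + 1) ≫ d g p = 0 := by
  refine Present.map_ext ?_
  refine Eq.trans ?_ rfl
  have h : ∀ (Ω : Type u) [Field Ω] [IsSepClosed Ω] (ξ : Spec (CommRingCat.of Ω) ⟶ X),
      (EtCoh.stalk ξ).map (d g (p + 1) ≫ d g p) = 0 := fun Ω _ _ ξ => by
    refine FreeOn.stalk_hom_ext ξ fun y => ?_
    rw [Functor.map_comp, ConcreteCategory.comp_apply, d_d_e]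
    rfl
  have : d g (p + 1) ≫ d g p = 0 := by
    have : Epi (kernel.ι (d g (p + 1) ≫ d g p)) := epi_of_stalks _ fun Ω _ _ ξ z => by
      obtain ⟨w, hw⟩ := (ShortComplex.ab_exact_iff _).1 ((exact_iff_stalks _).1
        (ShortComplex.exact_of_f_is_kernel (ShortComplex.mk (kernel.ι _) _ (kernel.condition (d g (p + 1) ≫ d g p)))
          (kernelIsKernel _)) Ω ξ) z (by
        change (EtCoh.stalk ξ).map _ z = 0
        rw [h Ω ξ]; rfl)
      exact ⟨w, hw⟩
    exact zero_of_epi_comp _ (kernel.condition _)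
  rw [this]

theorem exact_d (hg : Function.Surjective g.left.base) (p : ℕ) :
    (ShortComplex.mk (d g (p + 1)) (d g p) (d_comp_d g p)).Exact := by
  rw [exact_iff_stalks]
  intro Ω _ _ ξ
  rw [ShortComplex.ab_exact_iff]
  intro z hz
  change ((EtCoh.stalk ξ).map (d g p)) z = 0 at hz
  by_cases hU : Nonempty ((Scheme.pointSmallEtale ξ).fiber.obj U)
  swap
  · have : (𝟙 ((EtCoh.stalk ξ).obj (P (M g (p + 1)).1))) = 0 :=
      FreeOn.stalk_hom_ext ξ fun x => (hU ⟨(Scheme.pointSmallEtale ξ).fiber.map (M g (p + 1)).2 x⟩).elim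
    exact ⟨0, by rw [map_zero, show z = 0 from congr($this z)]⟩
  obtain ⟨s, hs⟩ : ∃ s : (Scheme.pointSmallEtale ξ).fiber.obj U → (Scheme.pointSmallEtale ξ).fiber.obj V,
      ∀ u, (Scheme.pointSmallEtale ξ).fiber.map g (s u) = u := by
    choose s hs using fun u : (Scheme.pointSmallEtale ξ).fiber.obj U => Sect.exists_pt g u (hg _)
    exact ⟨s, hs⟩
  let H1 := fun p => (FreeOn.exists_stalk_desc ξ
    (fun x : (Scheme.pointSmallEtale ξ).fiber.obj (M g p).1 =>
      e ξ (M g (p + 1)).1 (pair g ξ (M g p) (s ((Scheme.pointSmallEtale ξ).fiber.map (M g p).2 x)) x (hs _))))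
  have hH1 := fun p => (H1 p).choose_spec
  refine ⟨(H1 (p + 1)).choose z, ?_⟩
  have key : (H1 (p + 1)).choose ≫ (EtCoh.stalk ξ).map (d g (p + 1)) +
      (EtCoh.stalk ξ).map (d g p) ≫ (H1 p).choose = 𝟙 _ := FreeOn.stalk_hom_ext ξ fun x => by
    rw [AddCommGrpCat.hom_add_apply, ConcreteCategory.comp_apply, ConcreteCategory.comp_apply, hH1]
    refine Eq.trans ?_ (d_H_e_succ g ξ p _ x (hs _))
    congr 1
    rw [d_e, map_sum, map_sum]
    refine Finset.sum_congr rfl fun i _ => ?_
    have h' : (Scheme.pointSmallEtale ξ).fiber.map g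
        (s ((Scheme.pointSmallEtale ξ).fiber.map (M g (p + 1)).2 x)) =
        (Scheme.pointSmallEtale ξ).fiber.map (M g p).2
          ((Scheme.pointSmallEtale ξ).fiber.map (face g p i).1 x) :=
      (hs _).trans (map_face_comp g ξ p i x).symm
    rw [map_zsmul, map_zsmul, hH1, H_e g ξ p _ _ h']
    congr 2
    simp [map_face_comp]
  have h2 := congr($key z)
  rw [AddCommGrpCat.hom_add_apply, ConcreteCategory.comp_apply, ConcreteCategory.comp_apply, hz,
    map_zero, add_zero] at h2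
  exact h2

theorem epi_d_zero (hg : Function.Surjective g.left.base) : Epi (d g 0) :=
  epi_of_stalks _ fun Ω _ _ ξ z => by
    by_cases hU : Nonempty ((Scheme.pointSmallEtale ξ).fiber.obj U)
    swap
    · have : (𝟙 ((EtCoh.stalk ξ).obj (P (M g 0).1))) = 0 :=
        FreeOn.stalk_hom_ext ξ fun x => (hU ⟨x⟩).elim
      exact ⟨0, by rw [map_zero, show z = 0 from congr($this z)]⟩
    choose s hs using fun u : (Scheme.pointSmallEtale ξ).fiber.obj U => Sect.exists_pt g u (hg _)
    obtain ⟨h, hh⟩ := FreeOn.exists_stalk_desc ξ (fun x : (Scheme.pointSmallEtale ξ).fiber.obj (M g 0).1 =>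
      e ξ (M g 1).1 (pair g ξ (M g 0) (s x) x ((hs x).trans (by
        change x = (Scheme.pointSmallEtale ξ).fiber.map (𝟙 U) x
        rw [CategoryTheory.Functor.map_id]; rfl))))
    refine ⟨h z, ?_⟩
    have key : h ≫ (EtCoh.stalk ξ).map (d g 0) = 𝟙 _ := FreeOn.stalk_hom_ext ξ fun x => by
      rw [ConcreteCategory.comp_apply, hh, d_e, Fin.sum_univ_one, Fin.val_zero, pow_zero, one_zsmul]
      exact congrArg (e ξ _) (map_q_pair g ξ (M g 0) (s x) x _)
    exact congr($key z)

theorem qcqs_M [IsAffine V.left] [CompactSpace U.left] [QuasiSeparatedSpace U.left] :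
    ∀ p, CompactSpace (M g p).1.left ∧ QuasiSeparatedSpace (M g p).1.left
  | 0 => ⟨‹_›, ‹_›⟩
  | p + 1 => by
    obtain ⟨_, _⟩ := qcqs_M p
    have : QuasiCompact g.left := quasiCompact_of_compactSpace g.left
    have : QuasiSeparated g.left := inferInstance
    have h : ∀ Z : Scheme.{u}, ∀ r : Z ⟶ (M g p).1.left, QuasiCompact r → QuasiSeparated r →
        CompactSpace Z ∧ QuasiSeparatedSpace Z := fun Z r _ _ =>
      ⟨QuasiCompact.compactSpace_of_compactSpace r, quasiSeparatedSpace_of_quasiSeparated r⟩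
    exact h _ (pullback.snd g.left (M g p).2.left)
      (MorphismProperty.pullback_snd (P := @QuasiCompact) _ _ inferInstance)
      (MorphismProperty.pullback_snd (P := @QuasiSeparated) _ _ inferInstance)

theorem exists_sigma {I : Type u} [Finite I] (W : I → X.Etale) (w : ∀ i, W i ⟶ U)
    [∀ i, IsAffine (W i).left] (hw : ∀ x : U.left, ∃ i, x ∈ Set.range (w i).left.base) :
    ∃ (S : X.Etale) (s : S ⟶ U) (ι : ∀ i, W i ⟶ S), IsAffine S.left ∧
      Function.Surjective s.left.base ∧ (∀ i, ι i ≫ s = w i) ∧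
      IsIso (biproduct.desc fun i => pmap (ι i)) := by
  classical
  have := Fintype.ofFinite I
  have : ∀ i, Etale (W i).hom := fun i => (W i).prop
  let F : I → Scheme.{u} := fun i => (W i).left
  have het : Etale (Sigma.desc (fun i => (W i).hom) : ∐ F ⟶ X) :=
    IsZariskiLocalAtSource.sigmaDesc fun i => (W i).prop
  let S : X.Etale := MorphismProperty.Over.mk ⊤ (Sigma.desc (fun i => (W i).hom)) het
  let ι : ∀ i, W i ⟶ S := fun i =>
    MorphismProperty.Over.homMk (Sigma.ι F i) (Sigma.ι_desc _ _) trivial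
  let s : S ⟶ U := MorphismProperty.Over.homMk (Sigma.desc fun i => (w i).left) (Sigma.hom_ext _ _ fun i => by
    change Sigma.ι F i ≫ Sigma.desc _ ≫ U.hom = Sigma.ι F i ≫ Sigma.desc _
    rw [Sigma.ι_desc_assoc, Sigma.ι_desc]
    exact Over.w (w i).toCommaMorphism) trivial
  have : IsAffine S.left := inferInstanceAs (IsAffine (∐ F))
  refine ⟨S, s, ι, this, fun x => ?_, fun i => MorphismProperty.Over.Hom.ext (Sigma.ι_desc _ _), ?_⟩
  · obtain ⟨i, y, hy⟩ := hw x
    exact ⟨Sigma.ι F i y, (Scheme.Hom.comp_apply _ _ _).symm.trans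
      ((congrArg (fun m : F i ⟶ U.left => m.base y) (Sigma.ι_desc _ i)).trans hy)⟩
  refine isIso_of_stalks _ fun Ω _ _ ξ => ?_
  let θ := biproduct.desc fun i => pmap (ι i)
  let B := fun i => P (W i)
  let Φ := Scheme.pointSmallEtale ξ
  have key : ∀ x : Φ.fiber.obj S, ∃ i, ∃ w' : Φ.fiber.obj (W i), Φ.fiber.map (ι i) w' = x := by
    intro x
    obtain ⟨⟨i, y⟩, hy⟩ := (sigmaMk F).surjective (Sect.pt x)
    rw [sigmaMk_mk] at hy
    exact ⟨i, Sect.exists_pt (ι i) x ⟨y, hy⟩⟩
  choose ix wx hwx using key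
  obtain ⟨h, hh⟩ := FreeOn.exists_stalk_desc ξ
    (fun x => (EtCoh.stalk ξ).map (biproduct.ι B (ix x)) (e ξ (W (ix x)) (wx x)))
  refine ⟨h, ?_, FreeOn.stalk_hom_ext ξ fun x => ?_⟩
  · let Φb := (EtCoh.stalk ξ)
    have hsum : ∀ i, Φb.map (biproduct.ι B i) ≫ Φb.map θ ≫ h = Φb.map (biproduct.ι B i) := by
      intro i
      refine FreeOn.stalk_hom_ext ξ fun y => ?_
      rw [ConcreteCategory.comp_apply, ConcreteCategory.comp_apply, ← ConcreteCategory.comp_apply
        (Φb.map (biproduct.ι B i)), ← Functor.map_comp, biproduct.ι_desc, map_pmap_e, hh]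
      have hi : ix (Φ.fiber.map (ι i) y) = i := by
        by_contra hne
        refine Set.disjoint_left.1 (disjoint_iff.2 (congrArg SetLike.coe
          (disjoint_iff.1 (disjoint_opensRange_sigmaι F _ _ hne)))) ⟨Sect.pt (wx (Φ.fiber.map (ι i) y)), rfl⟩
          ⟨Sect.pt y, ?_⟩
        exact ((Scheme.Hom.comp_apply _ _ _).symm.trans (congrArg
          (fun z : Φ.fiber.obj S => Sect.pt z) (hwx (Φ.fiber.map (ι i) y)).symm)).trans
          (Scheme.Hom.comp_apply _ _ _)
      have hval : ∀ i' (w' : Φ.fiber.obj (W i')), i' = i → Φ.fiber.map (ι i') w' = Φ.fiber.map (ι i) y →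
          Φb.map (biproduct.ι B i') (e ξ (W i') w') = Φb.map (biproduct.ι B i) (e ξ (W i) y) := by
        rintro i' w' rfl he
        have : w' = y := Over.OverMorphism.ext
          ((cancel_mono (Sigma.ι F i')).1 (congrArg CommaMorphism.left he :))
        rw [this]
      exact hval _ _ hi (hwx _)
    have htot : (𝟙 (⨁ B)) = ∑ i, biproduct.π B i ≫ biproduct.ι B i := by
      refine biproduct.hom_ext _ _ fun l => ?_
      simp [Preadditive.sum_comp, biproduct.ι_π, dite_comp, comp_dite]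
    calc Φb.map θ ≫ h = Φb.map (𝟙 (⨁ B)) ≫ Φb.map θ ≫ h := by
          rw [CategoryTheory.Functor.map_id, Category.id_comp]
      _ = Φb.map (𝟙 (⨁ B)) := by
          rw [htot, Functor.map_sum, Preadditive.sum_comp]
          refine Finset.sum_congr rfl fun i _ => ?_
          rw [Functor.map_comp, Category.assoc, hsum]
      _ = 𝟙 _ := Φb.map_id _
  · rw [ConcreteCategory.comp_apply, hh, ← ConcreteCategory.comp_apply, ← Functor.map_comp,
      biproduct.ι_desc, map_pmap_e, hwx]
    rfl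

end Groth.Agent.EtSite.CechRes
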