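import Groth.Agent.EtSite.ColimH
import Mathlib.CategoryTheory.Limits.Types.Filtered

/-!
# Cohomology and filtered colimits
-/

set_option autoImplicit false
universe v u

open CategoryTheory CategoryTheory.Limits AlgebraicGeometry Opposite CategoryTheory.Abelian ZeroObject

namespace Groth.Agent.EtSite.ColimCohom

open FreeOn ColimH

variable {X : Scheme.{u}}

/-- The arrow to zero, functorially. -/
noncomputable def toArrow (X : Scheme.{u}) : EtCoh.Ab X ⥤ Arrow (EtCoh.Ab X) where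
  obj F := Arrow.mk (0 : F ⟶ (0 : EtCoh.Ab X))
  map f := Arrow.homMk f (𝟙 (0 : EtCoh.Ab X)) ((isZero_zero _).eq_of_tgt _ _)
  map_id _ := by ext <;> rfl
  map_comp f g := Arrow.hom_ext _ _ rfl (Category.comp_id (𝟙 (0 : EtCoh.Ab X))).symm

theorem sub_comp' {A B C : EtCoh.Ab X} {n : ℕ} (α β : Ext A B n) (f : B ⟶ C) :
    (α - β).comp (Ext.mk₀ f) (add_zero n) =
      α.comp (Ext.mk₀ f) (add_zero n) - β.comp (Ext.mk₀ f) (add_zero n) :=
  map_sub ((Ext.mk₀ f).postcomp A (add_zero n)) α β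

/-- A functorial embedding into injective objects. -/
noncomputable def hull (X : Scheme.{u}) : EtCoh.Ab X ⥤ EtCoh.Ab X :=
  toArrow X ⋙
    (MorphismProperty.functorialFactorizationData (MorphismProperty.monomorphisms (EtCoh.Ab X))
      (MorphismProperty.monomorphisms (EtCoh.Ab X)).rlp).Z

/-- The embedding. -/
noncomputable def hullι (X : Scheme.{u}) : 𝟭 (EtCoh.Ab X) ⟶ hull X :=
  Functor.whiskerLeft (toArrow X)
    (MorphismProperty.functorialFactorizationData (MorphismProperty.monomorphisms (EtCoh.Ab X))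
      (MorphismProperty.monomorphisms (EtCoh.Ab X)).rlp).i

instance (F : EtCoh.Ab X) : Mono ((hullι X).app F) :=
  (MorphismProperty.functorialFactorizationData (MorphismProperty.monomorphisms (EtCoh.Ab X))
      (MorphismProperty.monomorphisms (EtCoh.Ab X)).rlp).hi (Arrow.mk (0 : F ⟶ 0))

instance (F : EtCoh.Ab X) : Injective ((hull X).obj F) :=
  inferInstanceAs (Injective (IsGrothendieckAbelian.monoMapFactorizationDataRlp (0 : F ⟶ 0)).Z)

variable {J : Type v} [SmallCategory J] [IsFiltered J]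
  [∀ {Ω : Type u} [Field Ω] [IsSepClosed Ω] (ξ : Spec (CommRingCat.of Ω) ⟶ X),
    PreservesColimitsOfShape J (EtCoh.stalk ξ)]
  [PreservesColimitsOfShape J (CategoryTheory.forget AddCommGrpCat.{u + 1})]
  [HasColimitsOfShape J (EtCoh.Ab X)] [HasExactColimitsOfShape J (EtCoh.Ab X)]

/-- The property that degree `n` cohomology commutes with the colimit of `D`. -/
def Commutes (n : ℕ) (D : J ⥤ EtCoh.Ab X) (U : X.Etale) : Prop :=
  (∀ x : Ext (P U) (colimit D) n, ∃ (j : J) (y : Ext (P U) (D.obj j) n),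
      y.comp (Ext.mk₀ (colimit.ι D j)) (add_zero n) = x) ∧
    (∀ (j : J) (y : Ext (P U) (D.obj j) n), y.comp (Ext.mk₀ (colimit.ι D j)) (add_zero n) = 0 →
      ∃ (k : J) (a : j ⟶ k), y.comp (Ext.mk₀ (D.map a)) (add_zero n) = 0)

omit [∀ {Ω : Type u} [Field Ω] [IsSepClosed Ω] (ξ : Spec (CommRingCat.of Ω) ⟶ X),
    PreservesColimitsOfShape J (EtCoh.stalk ξ)]
  [PreservesColimitsOfShape J (CategoryTheory.forget AddCommGrpCat.{u + 1})]
  [HasExactColimitsOfShape J (EtCoh.Ab X)] in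
theorem step (n : ℕ) {D I K : J ⥤ EtCoh.Ab X} (i : D ⟶ I) (q : I ⟶ K)
    (wj : ∀ j, i.app j ≫ q.app j = 0) (w₀ : colimMap i ≫ colimMap q = 0)
    (hSj : ∀ j, (ShortComplex.mk (i.app j) (q.app j) (wj j)).ShortExact)
    (hS₀ : (ShortComplex.mk (colimMap i) (colimMap q) w₀).ShortExact) (U : X.Etale)
    (hI : ∀ j, ∀ x : Ext (P U) (I.obj j) (n + 1), x = 0)
    (hac : ∀ x : Ext (P U) (colimit I) (n + 1), x = 0)
    (hIn : Commutes n I U) (hKn : Commutes n K U) : Commutes (n + 1) D U := by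
  have ext_nat : ∀ j, (hSj j).extClass.comp (Ext.mk₀ (colimit.ι D j)) (add_zero 1) =
      (Ext.mk₀ (colimit.ι K j)).comp hS₀.extClass (zero_add 1) := fun j =>
    ShortComplex.ShortExact.extClass_naturality (hSj j) hS₀
      { τ₁ := colimit.ι D j, τ₂ := colimit.ι I j, τ₃ := colimit.ι K j
        comm₁₂ := ι_colimMap i j
        comm₂₃ := ι_colimMap q j }
  refine ⟨fun x => ?_, fun j y hy => ?_⟩
  · obtain ⟨z, rfl⟩ := Ext.covariant_sequence_exact₁ _ hS₀ x (hac _) rfl
    obtain ⟨j, w, rfl⟩ := hKn.1 z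
    refine ⟨j, w.comp (hSj j).extClass rfl, ?_⟩
    rw [Ext.comp_assoc _ _ _ rfl (add_zero 1) (by omega), ext_nat,
      Ext.comp_assoc _ _ _ (add_zero n) (zero_add 1) (by omega)]
  · obtain ⟨w, rfl⟩ := Ext.covariant_sequence_exact₁ _ (hSj j) y (hI j _) rfl
    rw [Ext.comp_assoc _ _ _ rfl (add_zero 1) (by omega), ext_nat,
      ← Ext.comp_assoc _ _ _ (add_zero n) (zero_add 1) (by omega)] at hy
    obtain ⟨z, hz⟩ := Ext.covariant_sequence_exact₃ _ hS₀ _ rfl hy
    obtain ⟨k₁, z₁, rfl⟩ := hIn.1 z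
    let m := IsFiltered.max j k₁
    let a := IsFiltered.leftToMax j k₁
    let b := IsFiltered.rightToMax j k₁
    have e : colimit.ι I k₁ ≫ colimMap q = (I.map b ≫ q.app m) ≫ colimit.ι K m := by
      rw [ι_colimMap, ← colimit.w K b, ← Category.assoc, q.naturality]
    replace hz : z₁.comp (Ext.mk₀ ((I.map b ≫ q.app m) ≫ colimit.ι K m)) (add_zero n) =
        w.comp (Ext.mk₀ (K.map a ≫ colimit.ι K m)) (add_zero n) := by
      rw [← e, ← Ext.mk₀_comp_mk₀, ← Ext.comp_assoc_of_second_deg_zero, colimit.w]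
      exact hz
    obtain ⟨k, c, hc⟩ := hKn.2 m (w.comp (Ext.mk₀ (K.map a)) (add_zero n) -
      z₁.comp (Ext.mk₀ (I.map b ≫ q.app m)) (add_zero n)) (by
        rw [sub_comp', sub_eq_zero]
        simp only [Ext.comp_assoc_of_second_deg_zero, Ext.mk₀_comp_mk₀]
        exact hz.symm)
    refine ⟨k, a ≫ c, ?_⟩
    have en : (hSj j).extClass.comp (Ext.mk₀ (D.map (a ≫ c))) (add_zero 1) =
        (Ext.mk₀ (K.map (a ≫ c))).comp (hSj k).extClass (zero_add 1) :=
      ShortComplex.ShortExact.extClass_naturality (hSj j) (hSj k)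
        { τ₁ := D.map (a ≫ c), τ₂ := I.map (a ≫ c), τ₃ := K.map (a ≫ c)
          comm₁₂ := i.naturality _
          comm₂₃ := q.naturality _ }
    rw [Ext.comp_assoc _ _ _ rfl (add_zero 1) (by omega), en,
      ← Ext.comp_assoc _ _ _ (add_zero n) (zero_add 1) (by omega)]
    have e1 : w.comp (Ext.mk₀ (K.map (a ≫ c))) (add_zero n) =
        (z₁.comp (Ext.mk₀ (I.map (b ≫ c))) (add_zero n)).comp (Ext.mk₀ (q.app k)) (add_zero n) := by
      rw [sub_comp', sub_eq_zero] at hc
      simp only [Ext.comp_assoc_of_second_deg_zero, Ext.mk₀_comp_mk₀] at hc ⊢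
      rw [Functor.map_comp, hc, Functor.map_comp, Category.assoc, Category.assoc, q.naturality]
    rw [e1, Ext.comp_assoc _ _ _ (add_zero n) (zero_add 1) (by omega), (hSj k).comp_extClass,
      Ext.comp_zero]

theorem surj_inj_colimit : ∀ (n : ℕ) (D : J ⥤ EtCoh.Ab X) (U : X.Etale) [CompactSpace U.left]
    [QuasiSeparatedSpace U.left], Commutes n D U := by
  intro n
  induction n with
  | zero =>
    intro D U _ _
    refine ⟨fun x => ?_, fun j y hy => ?_⟩
    · obtain ⟨φ, rfl⟩ := (Ext.mk₀_bijective _ _).2 x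
      obtain ⟨k, ψ, hψ⟩ := exists_fac_P (colimit.isColimit D) U φ
      exact ⟨k, Ext.mk₀ ψ, by rw [Ext.mk₀_comp_mk₀]; exact congrArg Ext.mk₀ hψ⟩
    · obtain ⟨φ, rfl⟩ := (Ext.mk₀_bijective _ _).2 y
      rw [Ext.mk₀_comp_mk₀, Ext.mk₀_eq_zero_iff] at hy
      obtain ⟨k, a, ha⟩ := exists_zero_P (colimit.isColimit D) U φ hy
      exact ⟨k, a, by rw [Ext.mk₀_comp_mk₀, ha, Ext.mk₀_zero]⟩
  | succ n ih =>
    intro D U _ _
    let η : D ⟶ D ⋙ hull X := Functor.whiskerLeft D (hullι X)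
    have : ∀ j, Mono (η.app j) := fun j => inferInstanceAs (Mono ((hullι X).app (D.obj j)))
    have : Mono η := NatTrans.mono_of_mono_app η
    have hS : (ShortComplex.mk η (cokernel.π η) (cokernel.condition η)).ShortExact :=
      { exact := ShortComplex.exact_of_g_is_cokernel _ (cokernelIsCokernel η) }
    have : ∀ j, Injective ((D ⋙ hull X).obj j) := fun j =>
      inferInstanceAs (Injective ((hull X).obj (D.obj j)))
    exact step n η (cokernel.π η)
      (fun j => (NatTrans.comp_app η (cokernel.π η) j).symm.trans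
        (congrArg (fun t => NatTrans.app t j) (cokernel.condition η)))
      ((colim.map_comp η (cokernel.π η)).symm.trans (by rw [cokernel.condition, Functor.map_zero]))
      (fun j => hS.map_of_exact ((evaluation J (EtCoh.Ab X)).obj j)) (hS.map_of_exact colim) U
      (fun j x => Ext.eq_zero_of_injective x)
      (fun x => acyclic_colim (colimit.isColimit (D ⋙ hull X)) n U x) (ih _ U) (ih _ U)

variable {D : J ⥤ EtCoh.Ab X} {c : Cocone D} (hc : IsColimit c)

include hc

theorem exists_lift (n : ℕ) (U : X.Etale) [CompactSpace U.left] [QuasiSeparatedSpace U.left]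
    (x : Ext (P U) c.pt n) : ∃ (j : J) (y : Ext (P U) (D.obj j) n),
      y.comp (Ext.mk₀ (c.ι.app j)) (add_zero n) = x := by
  let e := (colimit.isColimit D).coconePointUniqueUpToIso hc
  obtain ⟨j, y, hy⟩ := (surj_inj_colimit n D U).1 (x.comp (Ext.mk₀ e.inv) (add_zero n))
  refine ⟨j, y, ?_⟩
  have := congrArg (fun z : Ext (P U) (colimit D) n => z.comp (Ext.mk₀ e.hom) (add_zero n)) hy
  simp only [Ext.comp_assoc_of_second_deg_zero, Ext.mk₀_comp_mk₀] at this
  have h1 : colimit.ι D j ≫ e.hom = c.ι.app j :=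
    IsColimit.comp_coconePointUniqueUpToIso_hom (colimit.isColimit D) hc j
  rw [h1] at this
  rw [this, show e.inv ≫ e.hom = 𝟙 c.pt from e.inv_hom_id, Ext.comp_mk₀_id]

theorem exists_zero (n : ℕ) (U : X.Etale) [CompactSpace U.left] [QuasiSeparatedSpace U.left] {j : J}
    (y : Ext (P U) (D.obj j) n) (hy : y.comp (Ext.mk₀ (c.ι.app j)) (add_zero n) = 0) :
    ∃ (k : J) (a : j ⟶ k), y.comp (Ext.mk₀ (D.map a)) (add_zero n) = 0 := by
  let e := (colimit.isColimit D).coconePointUniqueUpToIso hc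
  refine (surj_inj_colimit n D U).2 j y ?_
  have h1 : c.ι.app j ≫ e.inv = colimit.ι D j :=
    IsColimit.comp_coconePointUniqueUpToIso_inv (colimit.isColimit D) hc j
  rw [← h1, ← Ext.mk₀_comp_mk₀, ← Ext.comp_assoc_of_second_deg_zero, hy, Ext.zero_comp]

section top

variable [CompactSpace X] [QuasiSeparatedSpace X]

theorem exists_lift_H (n : ℕ) (x : EtCoh.H X c.pt n) : ∃ (j : J) (y : EtCoh.H X (D.obj j) n),
    (EtCoh.HF X n).map (c.ι.app j) y = x := by
  obtain ⟨e⟩ := FreeOn.nonempty_top_iso (X := X)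
  have : CompactSpace (EtCoh.top X).left := ‹CompactSpace X›
  have : QuasiSeparatedSpace (EtCoh.top X).left := ‹QuasiSeparatedSpace X›
  obtain ⟨j, y, hy⟩ := exists_lift hc n (EtCoh.top X) ((Ext.mk₀ e.hom).comp x (zero_add n))
  refine ⟨j, (Ext.mk₀ e.inv).comp y (zero_add n), ?_⟩
  change ((Ext.mk₀ e.inv).comp y (zero_add n)).comp (Ext.mk₀ (c.ι.app j)) (add_zero n) = x
  rw [Ext.comp_assoc_of_third_deg_zero, hy, Ext.mk₀_comp_mk₀_assoc, Iso.inv_hom_id, Ext.mk₀_id_comp]

theorem exists_zero_H (n : ℕ) {j : J} (y : EtCoh.H X (D.obj j) n)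
    (hy : (EtCoh.HF X n).map (c.ι.app j) y = 0) :
    ∃ (k : J) (a : j ⟶ k), (EtCoh.HF X n).map (D.map a) y = 0 := by
  obtain ⟨e⟩ := FreeOn.nonempty_top_iso (X := X)
  have : CompactSpace (EtCoh.top X).left := ‹CompactSpace X›
  have : QuasiSeparatedSpace (EtCoh.top X).left := ‹QuasiSeparatedSpace X›
  change Ext.comp y (Ext.mk₀ (c.ι.app j)) (add_zero n) = 0 at hy
  obtain ⟨k, a, ha⟩ := exists_zero hc n (EtCoh.top X) ((Ext.mk₀ e.hom).comp y (zero_add n)) (by
    rw [Ext.comp_assoc_of_third_deg_zero, hy, Ext.comp_zero])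
  refine ⟨k, a, ?_⟩
  change Ext.comp y (Ext.mk₀ (D.map a)) (add_zero n) = 0
  have h2 := congrArg (fun z : Ext (P (EtCoh.top X)) (D.obj k) n => (Ext.mk₀ e.inv).comp z (zero_add n)) ha
  simp only [Ext.comp_zero] at h2
  rwa [Ext.comp_assoc_of_third_deg_zero, Ext.mk₀_comp_mk₀_assoc, Iso.inv_hom_id, Ext.mk₀_id_comp] at h2

omit hc in
theorem preservesColimitsOfShape_HF [HasColimitsOfShape J AddCommGrpCat.{u + 1}] (n : ℕ) :
    PreservesColimitsOfShape J (EtCoh.HF X n) :=
  have := reflectsColimitsOfShape_of_reflectsIsomorphisms (J := J) (G := CategoryTheory.forget AddCommGrpCat.{u + 1})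
  ⟨fun {D} => ⟨fun {c} hc => ⟨isColimitOfReflects (CategoryTheory.forget AddCommGrpCat.{u + 1})
    (Types.FilteredColimit.isColimitOf' _ _
      (fun x => by
        obtain ⟨j, y, hy⟩ := exists_lift_H hc n x
        exact ⟨j, y, hy.symm⟩)
      fun j x y e => by
        let x' : EtCoh.H X (D.obj j) n := x
        let y' : EtCoh.H X (D.obj j) n := y
        obtain ⟨k, a, ha⟩ := exists_zero_H hc n (x' - y') ((map_sub ((EtCoh.HF X n).map (c.ι.app j)).hom x' y').trans
          (sub_eq_zero.2 e))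
        exact ⟨k, a, sub_eq_zero.1 ((map_sub ((EtCoh.HF X n).map (D.map a)).hom x' y').symm.trans ha)⟩)⟩⟩⟩

end top

end Groth.Agent.EtSite.ColimCohom
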