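import Groth.Agent.EtSite.FLCAb
import Groth.Agent.EtSite.AllPoints
import Mathlib.AlgebraicGeometry.Morphisms.QuasiFinite

/-!
# Subsheaves of finite locally constant sheaves near a generic point
-/

set_option autoImplicit false
universe u

open CategoryTheory CategoryTheory.Limits AlgebraicGeometry Opposite

namespace Groth.Agent.EtSite.GenericSub

open LocConst FLCBasic FLCOps

variable {T : Scheme.{u}}

/-- The point of `W` under an element of the fibre. -/
noncomputable def ptOf {Ω : Type u} [Field Ω] [IsSepClosed Ω] {ξ : Spec (CommRingCat.of Ω) ⟶ T}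
    {W : T.Etale} (t : (Scheme.pointSmallEtale ξ).fiber.obj W) : W.left :=
  let tl : Spec (CommRingCat.of Ω) ⟶ W.left := t.left
  tl default

/-- Around a point of an étale scheme over `T` lying over a point `τ` of every nonempty open, there is
an open all of whose nonempty opens contain it. -/
theorem exists_small (τ : T) (hτ : ∀ O : T.Opens, (O : Set T).Nonempty → τ ∈ O) (W : T.Etale)
    (w₀ : W.left) (hw : W.hom.base w₀ = τ) :
    ∃ O : W.left.Opens, w₀ ∈ O ∧ ∀ O' : W.left.Opens, O' ≤ O → (O' : Set W.left).Nonempty → w₀ ∈ O' := by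
  have : Etale W.hom := W.prop
  have hd := W.hom.isDiscrete_preimage_singleton τ
  obtain ⟨U, hU, hUw⟩ := isOpen_induced_iff.1
    ((discreteTopology_iff_isOpen_singleton.1 hd.to_subtype) ⟨w₀, hw⟩)
  refine ⟨⟨U, hU⟩, ((Set.ext_iff.1 hUw) ⟨w₀, hw⟩).2 rfl, fun O' hO' hne => ?_⟩
  obtain ⟨z, hz⟩ := hne
  obtain ⟨q, hq, hqτ⟩ := hτ ⟨W.hom '' (O' : Set W.left), W.hom.isOpenMap _ O'.2⟩ ⟨_, z, hz, rfl⟩
  have e : (⟨q, hqτ⟩ : W.hom ⁻¹' {τ}) = ⟨w₀, hw⟩ := (Set.ext_iff.1 hUw ⟨q, hqτ⟩).1 (hO' hq)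
  exact (show q = w₀ from congrArg Subtype.val e) ▸ hq

theorem mem_range_of_generic {F G : EtCoh.Ab T} (ι : G ⟶ F) {W : T.Etale} (w₀ : W.left)
    (hgen : ∀ O : W.left.Opens, (O : Set W.left).Nonempty → w₀ ∈ O) {M : Type (u + 1)}
    [AddCommGroup M] (φ : M →+ EtCoh.sect F W) {Ω : Type u} [Field Ω] [IsSepClosed Ω]
    {ξ : Spec (CommRingCat.of Ω) ⟶ T} (t₀ : (Scheme.pointSmallEtale ξ).fiber.obj W)
    (ht₀ : ptOf t₀ = w₀)
    {Ω' : Type u} [Field Ω'] [IsSepClosed Ω'] {ξ' : Spec (CommRingCat.of Ω') ⟶ T}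
    (s : (Scheme.pointSmallEtale ξ').fiber.obj W) (m : M)
    (h : gm ξ' F W s (φ m) ∈ Set.range ((EtCoh.stalk ξ').map ι).hom) :
    gm ξ F W t₀ (φ m) ∈ Set.range ((EtCoh.stalk ξ).map ι).hom := by
  let Φ := Scheme.pointSmallEtale ξ
  let Φ' := Scheme.pointSmallEtale ξ'
  obtain ⟨p, hp⟩ := h
  obtain ⟨V, v, z, rfl⟩ := Φ'.toPresheafFiber_jointly_surjective (P := G.obj) p
  obtain ⟨⟨V₁, v₁⟩, ⟨a, ha⟩, ⟨b, hb⟩, -⟩ := IsCofilteredOrEmpty.cone_objs (C := Φ'.fiber.Elements)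
    ⟨W, s⟩ ⟨V, v⟩
  dsimp only at a b ha hb
  have e : gm ξ' F V₁ v₁ (ι.hom.app (op V₁) (G.obj.map b.op z)) =
      gm ξ' F V₁ v₁ (F.obj.map a.op (φ m)) :=
    (gm_map ι ξ' v₁ _).symm.trans ((congrArg _ (gm_res G b hb z)).trans
      (hp.trans (gm_res F a ha _).symm))
  obtain ⟨V₂, c, v₂, -, hc⟩ := (Φ'.toPresheafFiber_eq_iff' _ _ _ _).1 e
  let k : V₂ ⟶ W := c ≫ a
  have : Etale k.left := (inferInstance : EtCoh.etaleMP k.left)
  obtain ⟨x, hx⟩ := hgen ⟨Set.range k.left.base, k.left.isOpenMap.isOpen_range⟩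
    ⟨_, ptOf v₂, rfl⟩
  let tl : Spec (CommRingCat.of Ω) ⟶ W.left := t₀.left
  obtain ⟨l, hl, -⟩ := Scheme.exists_fac_of_etale_of_isSepClosed k.left tl x (hx.trans ht₀.symm)
  let t₂ : Φ.fiber.obj V₂ := Over.homMk l ((congrArg (l ≫ ·) (Over.w k.toCommaMorphism)).symm.trans
    ((Category.assoc _ _ _).symm.trans ((congrArg (· ≫ W.hom) hl).trans (Over.w t₀))))
  have ek : Φ.fiber.map k t₂ = t₀ := Over.OverMorphism.ext hl
  refine ⟨gm ξ G V₂ t₂ (G.obj.map c.op (G.obj.map b.op z)), ?_⟩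
  rw [gm_map, ← gm_res F k ek (φ m)]
  refine congrArg _ ((NatTrans.naturality_apply ι.hom c.op _).trans (hc.trans ?_))
  exact (Functor.map_comp_apply F.obj a.op c.op _).symm

/-- Data of a subsheaf of a finite locally constant sheaf near a generic point: on an étale
neighbourhood, `G ↪ F` is the inclusion of constant sheaves of a subgroup. -/
theorem exists_subgroup {F G : EtCoh.Ab T} (ι : G ⟶ F) [Mono ι] {W : T.Etale} (w₀ : W.left)
    (hgen : ∀ O : W.left.Opens, (O : Set W.left).Nonempty → w₀ ∈ O) {M : Type (u + 1)}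
    [AddCommGroup M] [Finite M] {φ : M →+ EtCoh.sect F W} (hφ : GermBij F W φ)
    {Ω : Type u} [Field Ω] [IsSepClosed Ω] {ξ : Spec (CommRingCat.of Ω) ⟶ T}
    (t₀ : (Scheme.pointSmallEtale ξ).fiber.obj W)
    (ht₀ : ptOf t₀ = w₀) :
    ∃ (W' : T.Etale) (t' : (Scheme.pointSmallEtale ξ).fiber.obj W') (g : W' ⟶ W)
      (κ : AddSubgroup.comap ((gm ξ F W t₀).comp φ) ((EtCoh.stalk ξ).map ι).hom.range →+
        EtCoh.sect G W'),
      (Scheme.pointSmallEtale ξ).fiber.map g t' = t₀ ∧ GermBij G W' κ := by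
  let H := AddSubgroup.comap ((gm ξ F W t₀).comp φ) ((EtCoh.stalk ξ).map ι).hom.range
  have hinj := fun (Ω : Type u) [Field Ω] [IsSepClosed Ω] (ξ : Spec (CommRingCat.of Ω) ⟶ T) =>
    FLCAb.stalk_injective ι Ω ξ
  choose p hp using fun m : H => m.2
  let θ : H →+ ((EtCoh.stalk ξ).obj G : AddCommGrpCat.{u + 1}) :=
    AddMonoidHom.mk' p fun m n => hinj Ω ξ (by
      rw [map_add, hp, hp, hp]
      exact map_add ((gm ξ F W t₀).comp φ) _ _)
  obtain ⟨W₁, t₁, g₁, κ₁, hg₁, hκ₁⟩ := exists_hom_of_finite G W t₀ θ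
  obtain ⟨W', t', g, hg, hk⟩ := exists_equalize F W₁ t₁
    (fun m : H => ι.hom.app (op W₁) (κ₁ m)) (fun m => F.obj.map g₁.op (φ m)) fun m =>
      (gm_map ι ξ t₁ _).symm.trans ((congrArg _ (hκ₁ m)).trans ((hp m).trans (gm_res F g₁ hg₁ _).symm))
  refine ⟨W', t', g ≫ g₁, (G.obj.map g.op).hom.comp κ₁,
    by rw [Functor.map_comp]; exact (congrArg _ hg).trans hg₁, fun Ω' _ _ ξ' s => ?_⟩
  suffices HB : Function.Bijective ((gm ξ' G W' s).comp ((G.obj.map g.op).hom.comp κ₁)) from HB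
  let s₀ := (Scheme.pointSmallEtale ξ').fiber.map (g ≫ g₁) s
  have key : ∀ m : H, ((EtCoh.stalk ξ').map ι).hom (gm ξ' G W' s (G.obj.map g.op (κ₁ m))) =
      gm ξ' F W s₀ (φ m) := fun m => by
    rw [gm_map, ← gm_res F (g ≫ g₁) (rfl : _ = s₀), op_comp, Functor.map_comp_apply]
    exact congrArg _ ((NatTrans.naturality_apply ι.hom g.op _).trans (hk m))
  refine ⟨fun m n e => Subtype.ext ((gm_bijective hφ ξ' s₀).1 ?_), fun q => ?_⟩
  · exact (key m).symm.trans ((congrArg _ e).trans (key n))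
  · obtain ⟨m, hm⟩ := (gm_bijective hφ ξ' s₀).2 (((EtCoh.stalk ξ').map ι).hom q)
    exact ⟨⟨m, mem_range_of_generic ι w₀ hgen φ t₀ ht₀ s₀ m ⟨q, hm.symm⟩⟩,
      hinj Ω' ξ' ((key _).trans hm)⟩

/-- An étale neighbourhood gives a finite locally constant restriction to an open. -/
theorem isFLC_on_image {F : EtCoh.Ab T} {W : T.Etale} {M : Type (u + 1)} [AddCommGroup M] [Finite M]
    {φ : M →+ EtCoh.sect F W} (hφ : GermBij F W φ) (O : T.Opens)
    (hO : (O : Set T) ⊆ Set.range W.hom.base) :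
    EtCoh.IsFiniteLocallyConstant ((EtCoh.pull O.ι).obj F) := by
  refine isFLC_of_forall_point fun x => ?_
  obtain ⟨y, hy⟩ := hO x.2
  obtain ⟨z, -, hz⟩ := Scheme.Pullback.exists_preimage_pullback (f := W.hom) (g := O.ι) y x hy
  exact ⟨(EtCoh.bc O.ι).obj W, z, M, inferInstance, inferInstance, _, hz, germBij_pull O.ι hφ⟩

/-- Near a generic point, a finite locally constant sheaf is constant on a small neighbourhood. -/
theorem exists_generic_data (τ : T) (hτ : ∀ O : T.Opens, (O : Set T).Nonempty → τ ∈ O)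
    {F : EtCoh.Ab T} (hF : EtCoh.IsFiniteLocallyConstant F) :
    ∃ (W : T.Etale) (w₀ : W.left) (M : Type (u + 1)) (_ : AddCommGroup M) (_ : Finite M)
      (φ : M →+ EtCoh.sect F W) (t₀ : (Scheme.pointSmallEtale (gpt τ)).fiber.obj W),
      GermBij F W φ ∧ (∀ O : W.left.Opens, (O : Set W.left).Nonempty → w₀ ∈ O) ∧
        W.hom.base w₀ = τ ∧
        ptOf t₀ = w₀ := by
  obtain ⟨W, t, M, _, _, φ, hφ⟩ := localData_of_isFLC hF _ (gpt τ)
  let tl : Spec (CommRingCat.of (SeparableClosure (T.residueField τ))) ⟶ W.left := t.left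
  have hw : W.hom.base (tl default) = τ := (Scheme.Hom.comp_apply _ _ _).symm.trans
    ((congrArg (fun m : Spec (CommRingCat.of (SeparableClosure (T.residueField τ))) ⟶ T => m.base _)
      (Over.w t)).trans (gpt_apply τ _))
  obtain ⟨O, hwO, hO⟩ := exists_small τ hτ W (tl default) hw
  have hr : Set.range tl ⊆ Set.range O.ι := by
    rintro _ ⟨p, rfl⟩
    rw [Scheme.Opens.range_ι, Subsingleton.elim p default]
    exact hwO
  let l := IsOpenImmersion.lift O.ι tl hr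
  have hl : l ≫ O.ι = tl := IsOpenImmersion.lift_fac _ _ _
  let t' : (Scheme.pointSmallEtale (gpt τ)).fiber.obj (AllPoints.res W O) := Over.homMk l
    ((Category.assoc _ _ _).symm.trans ((congrArg (· ≫ W.hom) hl).trans (Over.w t)))
  refine ⟨AllPoints.res W O, l default, M, inferInstance, inferInstance, _, t',
    hφ.map (AllPoints.resι W O), fun O' hne => ?_, ?_, rfl⟩
  · have hle : (O.ι ''ᵁ O') ≤ O := by
      rintro _ ⟨a, -, rfl⟩; exact a.2
    obtain ⟨a, ha, e⟩ := hO (O.ι ''ᵁ O') hle (hne.image _)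
    have : O.ι (l default) = tl default :=
      (Scheme.Hom.comp_apply _ _ _).symm.trans (congrArg (fun m : _ ⟶ W.left => m default) hl)
    exact O.ι.isOpenEmbedding.injective (e.trans this.symm) ▸ ha
  · exact (Scheme.Hom.comp_apply _ _ _).symm.trans
      ((congrArg (fun m : Spec (CommRingCat.of (SeparableClosure (T.residueField τ))) ⟶ T => m.base _)
        (Over.w t')).trans (gpt_apply τ _))

/-- A subsheaf of a finite locally constant sheaf is finite locally constant on an open containing the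
generic point. -/
theorem exists_open_isFLC (τ : T) (hτ : ∀ O : T.Opens, (O : Set T).Nonempty → τ ∈ O)
    {F G : EtCoh.Ab T} (ι : G ⟶ F) [Mono ι] (hF : EtCoh.IsFiniteLocallyConstant F) :
    ∃ O : T.Opens, τ ∈ O ∧ EtCoh.IsFiniteLocallyConstant ((EtCoh.pull O.ι).obj G) := by
  obtain ⟨W, w₀, M, _, _, φ, t₀, hφ, hgen, -, ht₀⟩ := exists_generic_data τ hτ hF
  obtain ⟨W', t', g, κ, -, hκ⟩ := exists_subgroup ι w₀ hgen hφ t₀ ht₀
  have : Etale W'.hom := W'.prop
  refine ⟨⟨Set.range W'.hom.base, W'.hom.isOpenMap.isOpen_range⟩, ?_, isFLC_on_image hκ _ (by rfl)⟩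
  exact ⟨ptOf t',
    (Scheme.Hom.comp_apply _ _ _).symm.trans
    ((congrArg (fun m : Spec (CommRingCat.of (SeparableClosure (T.residueField τ))) ⟶ T => m.base _)
      (Over.w t')).trans (gpt_apply τ _))⟩

end Groth.Agent.EtSite.GenericSub
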