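import Groth.Agent.EtSite.StrataAb
import Groth.Agent.EtSite.GenericSub
import Mathlib.AlgebraicGeometry.Noetherian

/-!
# Constructible sheaves on locally noetherian schemes
-/

set_option autoImplicit false
universe u

open CategoryTheory CategoryTheory.Limits AlgebraicGeometry Opposite Topology TopologicalSpace

namespace Groth.Agent.EtSite.StrataNoeth

open FLCBasic Strata StrataLocal

variable {X : Scheme.{u}}

/-- In a noetherian space, a property of locally closed sets which holds near every point on its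
closure gives a finite cover. -/
theorem exists_finite_cover {S : Type u} [TopologicalSpace S] [NoetherianSpace S] [QuasiSober S]
    (P : Set S → Prop) (h : ∀ x : S, ∃ O : Set S, IsOpen O ∧ x ∈ O ∧ P (O ∩ closure {x})) :
    ∃ (ι : Type u) (_ : Finite ι) (Z : ι → Set S), (∀ i, IsConstructible (Z i)) ∧ (∀ i, P (Z i)) ∧
      (⋃ i, Z i) = Set.univ := by
  classical
  let κ := {Z : Set S // IsLocallyClosed Z ∧ P Z}
  have hκ : ∀ z : κ, IsConstructible z.1 := fun z =>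
    (ConstrBasics.isConstructible_iff_of_noetherianSpace _).2
      ⟨1, fun _ => z.1, fun _ => z.2.1, (Set.iUnion_const _).symm⟩
  let E : Finset κ → Set S := fun t => ⋃ z : t, z.1.1
  obtain ⟨t, ht⟩ := ConstrBasics.eq_univ_of_directed E
    (fun t t' htt => Set.iUnion_subset fun z =>
      Set.subset_iUnion (fun z : t' => z.1.1) ⟨z.1, Finset.mem_of_subset htt z.2⟩)
    (fun t => IsConstructible.iUnion fun z => hκ z.1) fun Y hY hYi => by
      obtain ⟨η, hη⟩ := QuasiSober.sober hYi hY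
      obtain ⟨O, hO, hηO, hP⟩ := h η
      let z : κ := ⟨O ∩ closure {η}, ⟨O, _, hO, isClosed_closure, rfl⟩, hP⟩
      refine ⟨{z}, hη.def.ge.trans (closure_mono ?_)⟩
      rintro _ rfl
      exact ⟨Set.mem_iUnion.2 ⟨⟨z, Finset.mem_singleton_self z⟩, hηO, subset_closure rfl⟩,
        hη.def.le (subset_closure rfl)⟩
  exact ⟨t, inferInstance, fun z => z.1.1, fun z => hκ z.1, fun z => z.1.2.2, ht⟩

theorem isConstructible_of_generic [IsLocallyNoetherian X] {F : EtCoh.Ab X}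
    (h : ∀ x : X, ∃ V : X.Opens, x ∈ V ∧ FLCOn F ((V : Set X) ∩ closure {x})) :
    EtPBC.IsConstructible F := by
  intro U hU
  have : IsAffine U.toScheme := hU
  have : IsNoetherian U.toScheme := {}
  obtain ⟨ι, _, Z, hZc, hZ, hu⟩ := exists_finite_cover (S := U.toScheme)
    (fun Z => FLCOn F (U.ι '' Z)) fun x => by
      obtain ⟨V, hxV, hF⟩ := h (U.ι x)
      refine ⟨U.ι ⁻¹' V, V.2.preimage U.ι.continuous, hxV, hF.mono ?_⟩
      rintro _ ⟨y, ⟨hy, hy'⟩, rfl⟩
      refine ⟨hy, ?_⟩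
      have := image_closure_subset_closure_image U.ι.continuous ⟨y, hy', rfl⟩
      rwa [Set.image_singleton] at this
  refine adapted_of_cover U.2 (fun i => U.ι '' Z i) (fun i => ?_)
    (fun i => (hZ i).mono Set.inter_subset_right) fun x hx => ?_
  · have e : (Subtype.val ⁻¹' (U.ι '' Z i) : Set (U : Set X)) = Z i :=
      U.ι.isOpenEmbedding.injective.preimage_image (Z i)
    exact (congrArg IsConstructible e).mpr (hZc i)
  · obtain ⟨i, hi⟩ := Set.mem_iUnion.1 (hu.ge (Set.mem_univ (⟨x, hx⟩ : U.toScheme)))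
    exact Set.mem_iUnion.2 ⟨i, ⟨x, hx⟩, hi, rfl⟩

theorem exists_piece [IsLocallyNoetherian X] {F : EtCoh.Ab X} (hF : EtPBC.IsConstructible F) (x : X) :
    ∃ (V : X.Opens) (T : Scheme.{u}) (g : T ⟶ X), IsImmersion g ∧ x ∈ V ∧
      Set.range g = (V : Set X) ∩ closure {x} ∧
      EtCoh.IsFiniteLocallyConstant ((EtCoh.pull g).obj F) := by
  obtain ⟨U, hU, hxU, -⟩ := exists_isAffineOpen_mem_and_subset (x := x) (U := ⊤) trivial
  have : IsAffine U.toScheme := hU
  have : IsNoetherian U.toScheme := {}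
  obtain ⟨n, Z, hc, hZ, hu⟩ := exists_cover_of_adapted (hF U hU)
  obtain ⟨i, hi⟩ := Set.mem_iUnion.1 (hu.ge hxU)
  let x' : U.toScheme := ⟨x, hxU⟩
  obtain ⟨O, hO, ⟨y, hyY, hyO⟩, hOE⟩ := ConstrBasics.exists_open_of_subset_closure
    (X := U.toScheme) (E := Subtype.val ⁻¹' Z i) (isIrreducible_singleton (x := x')).closure (hc i)
    (closure_mono (by rintro _ rfl; exact ⟨hi, subset_closure rfl⟩))
  have hxO : x' ∈ O := by
    obtain ⟨z, hzO, rfl⟩ := mem_closure_iff.1 hyY O hO hyO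
    exact hzO
  let V : X.Opens := U.ι ''ᵁ ⟨O, hO⟩
  have hsub : (V : Set X) ∩ closure {x} ⊆ Z i := by
    rintro _ ⟨⟨z, hz, rfl⟩, hzc⟩
    refine hOE ⟨?_, hz⟩
    rw [U.ι.isEmbedding.closure_eq_preimage_closure_image {x'}, Set.image_singleton]
    exact hzc
  obtain ⟨T, g, hg, hr, hF'⟩ := exists_exact (L := (V : Set X) ∩ closure {x}) ((hZ i).mono hsub)
    ⟨V, _, V.2, isClosed_closure, rfl⟩
  exact ⟨V, T, g, hg, ⟨x', hxO, rfl⟩, hr, hF'⟩

theorem isConstructible_of_mono [IsLocallyNoetherian X] {F G : EtCoh.Ab X} (ι : G ⟶ F) [Mono ι]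
    (hF : EtPBC.IsConstructible F) : EtPBC.IsConstructible G := by
  refine isConstructible_of_generic fun x => ?_
  obtain ⟨V, T, g, hg, hxV, hr, hFg⟩ := exists_piece hF x
  obtain ⟨τ, hτx⟩ : x ∈ Set.range g := hr.ge ⟨hxV, subset_closure rfl⟩
  have hτ : ∀ O : T.Opens, (O : Set T).Nonempty → τ ∈ O := fun O ⟨y, hy⟩ => by
    obtain ⟨O', hO', e⟩ := g.isEmbedding.isInducing.isOpen_iff.1 O.2
    obtain ⟨z, hz, rfl⟩ := mem_closure_iff.1 (hr.le ⟨y, rfl⟩).2 O' hO' (e.ge hy)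
    exact e.le (show g τ ∈ O' from hτx ▸ hz)
  have : Mono ((EtCoh.pull g).map ι) := pull_mono g ι
  obtain ⟨O, hτO, hG⟩ := GenericSub.exists_open_isFLC τ hτ ((EtCoh.pull g).map ι) hFg
  obtain ⟨O', hO', e⟩ := g.isEmbedding.isInducing.isOpen_iff.1 O.2
  refine ⟨V ⊓ ⟨O', hO'⟩, ⟨hxV, show x ∈ O' from hτx ▸ e.ge hτO⟩, O.toScheme, O.ι ≫ g,
    inferInstance, ?_, isFLC_of_iso ((EtCore.pullComp O.ι g).app G).symm hG⟩
  rintro z ⟨⟨hzV, hzO⟩, hzc⟩
  obtain ⟨y, rfl⟩ := hr.ge ⟨hzV, hzc⟩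
  exact ⟨⟨y, e.le hzO⟩, rfl⟩

theorem isConstructible_of_epi [IsLocallyNoetherian X] {F Q : EtCoh.Ab X} (π : F ⟶ Q) [Epi π]
    (hF : EtPBC.IsConstructible F) : EtPBC.IsConstructible Q := by
  refine StrataAb.isConstructible_of_two (isConstructible_of_mono (kernel.ι π) hF) hF
    fun _ g h₁ h₂ => ?_
  exact isFLC_of_iso ((PreservesCokernel.iso (EtCoh.pull g) (kernel.ι π)).symm ≪≫
    (EtCoh.pull g).mapIso
    (IsColimit.coconePointUniqueUpToIso (cokernelIsCokernel (kernel.ι π))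
      (Abelian.epiIsCokernelOfKernel (KernelFork.ofι _ (kernel.condition π)) (kernelIsKernel π))))
    (FLCAb.isFLC_cokernel ((EtCoh.pull g).map (kernel.ι π)) h₁ h₂)

end Groth.Agent.EtSite.StrataNoeth
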