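import Groth.Agent.EtSite.Torsion
import Groth.Agent.EtSite.StrataNoeth

/-!
# Torsion sheaves with bounded support
-/

set_option autoImplicit false
universe u

open CategoryTheory CategoryTheory.Limits AlgebraicGeometry Opposite Topology TopologicalSpace

namespace Groth.Agent.EtSite.Support

open FLCOps Present

variable {X : Scheme.{u}}

theorem exists_specializes_of_mem_closure [CompactSpace X] [QuasiSeparatedSpace X] {C : Set X}
    (hC : IsConstructible C) {z : X} (hz : z ∈ closure C) : ∃ y ∈ C, y ⤳ z := by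
  by_contra hne
  push Not at hne
  obtain ⟨U, hU, hzU, -⟩ := exists_isAffineOpen_mem_and_subset (x := z) (U := ⊤) trivial
  have : IsAffine U.toScheme := hU
  have h := SpecConstr.mem_interior_of_generizations (S := U.toScheme)
    (hC.compl.preimage_of_isOpenEmbedding U.ι.isOpenEmbedding) (w := ⟨z, hzU⟩)
    fun p hp hpC => hne _ hpC (hp.map U.ι.continuous)
  obtain ⟨O, hO, hOo, hzO⟩ := mem_interior.1 h
  obtain ⟨y, hy, hyC⟩ := mem_closure_iff.1 hz _ (U.ι.isOpenEmbedding.isOpenMap O hOo)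
    ⟨⟨z, hzU⟩, hzO, rfl⟩
  obtain ⟨w, hw, rfl⟩ := hy
  exact hO hw hyC

theorem supp_eq_compl_locus (F : EtCoh.Ab X) :
    EtPBC.supp F = (StrataLocus.locus (fun A => IsZero A) F)ᶜ := by
  ext y
  refine ⟨fun ⟨Ω, _, _, ξ, hr, hne⟩ hy => hne (hy Ω ξ
    ((StrataLocus.range_eq_singleton_iff ξ y).1 hr)), fun hy => ?_⟩
  simp only [StrataLocus.locus, Set.mem_compl_iff, Set.mem_ofPred_eq, not_forall] at hy
  obtain ⟨Ω, i1, i2, ξ, hr, hne⟩ := hy
  exact ⟨Ω, i1, i2, ξ, (StrataLocus.range_eq_singleton_iff ξ y).2 hr, hne⟩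

theorem isConstructible_supp [CompactSpace X] [QuasiSeparatedSpace X] {F : EtCoh.Ab X}
    (hF : EtPBC.IsConstructible F) : IsConstructible (EtPBC.supp F) := by
  rw [supp_eq_compl_locus]
  exact (StrataLocus.isConstructible_locus (P := fun A => IsZero A) (fun e h => h.of_iso e.symm) hF).compl

theorem supp_subset_of_mono {F G : EtCoh.Ab X} (i : F ⟶ G) [Mono i] :
    EtPBC.supp F ⊆ EtPBC.supp G := by
  rw [supp_eq_compl_locus, supp_eq_compl_locus, Set.compl_subset_compl]
  intro x hx Ω _ _ ξ hξ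
  have : Mono ((EtCoh.stalk ξ).map i) := inferInstance
  exact IsZero.of_mono ((EtCoh.stalk ξ).map i) (hx Ω ξ hξ)

theorem supp_iso {F G : EtCoh.Ab X} (e : F ≅ G) : EtPBC.supp G ⊆ EtPBC.supp F :=
  supp_subset_of_mono e.inv

/-- A torsion sheaf supported in a specialisation closed subset of a noetherian scheme. -/
theorem exists_colimit_of_subset [IsNoetherian X] {E : Set X} (hE : StableUnderSpecialization E)
    (F : EtCoh.Ab X) (hF : EtCoh.IsTorsion F) (hsupp : EtPBC.supp F ⊆ E) :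
    ∃ (J : Type (u + 1)) (_ : SmallCategory J) (_ : IsFiltered J) (D : J ⥤ EtCoh.Ab X)
      (c : Cocone D) (_ : IsColimit c), Nonempty (c.pt ≅ F) ∧
      ∀ j, EtPBC.IsConstructible (D.obj j) ∧
        ∃ Z : Set X, IsClosed Z ∧ Z ⊆ E ∧ EtPBC.supp (D.obj j) ⊆ Z :=
  Torsion.exists_filtered_colimit_of F hF
    (fun G => ∃ Z : Set X, IsClosed Z ∧ Z ⊆ E ∧ EtPBC.supp G ⊆ Z)
    (fun G f hG => by
      have hI : EtPBC.IsConstructible (Abelian.image f) :=
        StrataNoeth.isConstructible_of_epi (Abelian.factorThruImage f) hG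
      refine ⟨Abelian.image f, Abelian.image.ι f, Abelian.factorThruImage f, Abelian.image.fac f, hI,
        closure (EtPBC.supp (Abelian.image f)), isClosed_closure, fun z hz => ?_, subset_closure⟩
      obtain ⟨y, hy, hyz⟩ := exists_specializes_of_mem_closure (isConstructible_supp hI) hz
      exact hE hyz (hsupp (supp_subset_of_mono (Abelian.image.ι f) hy)))
    fun e ⟨Z, h1, h2, h3⟩ => ⟨Z, h1, h2, (supp_iso e).trans h3⟩

/-- A torsion sheaf vanishing at the generic point. -/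
theorem exists_colimit_of_generic [CompactSpace X] [QuasiSeparatedSpace X] [IrreducibleSpace X]
    (F : EtCoh.Ab X) (hF : EtCoh.IsTorsion F) (hη : genericPoint X ∉ EtPBC.supp F) :
    ∃ (J : Type (u + 1)) (_ : SmallCategory J) (_ : IsFiltered J) (D : J ⥤ EtCoh.Ab X)
      (c : Cocone D) (_ : IsColimit c), Nonempty (c.pt ≅ F) ∧
      ∀ j, EtPBC.IsConstructible (D.obj j) ∧
        ∃ Z : Set X, IsClosed Z ∧ genericPoint X ∉ Z ∧ EtPBC.supp (D.obj j) ⊆ Z := by
  refine Torsion.exists_filtered_colimit_of F hF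
    (fun G => ∃ Z : Set X, IsClosed Z ∧ genericPoint X ∉ Z ∧ EtPBC.supp G ⊆ Z) (fun G h hG => ?_)
    fun e ⟨Z, h1, h2, h3⟩ => ⟨Z, h1, h2, (supp_iso e).trans h3⟩
  let η := genericPoint X
  let ξ := gpt η
  have hz : Subsingleton ((EtCoh.stalk ξ).obj F : AddCommGrpCat.{u + 1}) := by
    refine AddCommGrpCat.subsingleton_of_isZero ?_
    rw [supp_eq_compl_locus, Set.mem_compl_iff, not_not] at hη
    exact hη _ ξ (gpt_apply η _)
  have := SpecConstr.finite_stalk hG ξ
  obtain ⟨n, hn, hGn⟩ := Compact.exists_killed G hG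
  have key : ∀ p : ((EtCoh.stalk ξ).obj G : AddCommGrpCat.{u + 1}),
      ∃ (A : X.Etale) (_ : IsAffine A.left) (κ : EtPBC.extZeroConst A (ZMod n) ⟶ G),
        κ ≫ h = 0 ∧ p ∈ Set.range ((EtCoh.stalk ξ).map κ) := by
    intro p
    obtain ⟨A₀, t₀, s, -, rfl⟩ := Sect.exists_gm G ξ p
    have e : gm ξ F A₀ t₀ (h.hom.app (op A₀) s) = gm ξ F A₀ t₀ 0 := Subsingleton.elim _ _
    obtain ⟨V, g, v, hv, hg⟩ := ((Scheme.pointSmallEtale ξ).toPresheafFiber_eq_iff' _ _ _ _).1 e
    obtain ⟨A, b, hA, hb⟩ := Sect.exists_affine_nbhd V (Sect.pt v)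
    obtain ⟨t, ht⟩ := Sect.exists_pt b v hb
    obtain ⟨κ, hκ⟩ := exists_map A n (G.obj.map b.op (G.obj.map g.op s)) (hGn _ _)
    refine ⟨A, hA, κ, map_ext ?_, gm ξ _ A t (canSec A n), ?_⟩
    · change h.hom.app (op A) (κ.hom.app (op A) (canSec A n)) = 0
      rw [hκ, NatTrans.naturality_apply, NatTrans.naturality_apply]
      exact (congrArg (F.obj.map b.op).hom (hg.trans (map_zero _))).trans (map_zero _)
    · exact (gm_map κ ξ t _).trans ((congrArg _ hκ).trans ((gm_res G b ht _).trans (gm_res G g hv s)))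
  choose A hA κ hκh hκp using key
  obtain ⟨b, ⟨e⟩⟩ := Finite.exists_equiv_fin ((EtCoh.stalk ξ).obj G : AddCommGrpCat.{u + 1})
  let K : (⨁ fun i => EtPBC.extZeroConst (A (e.symm i)) (ZMod n)) ⟶ G :=
    biproduct.desc fun i => κ (e.symm i)
  have hK : K ≫ h = 0 := biproduct.hom_ext' _ _ fun i => by
    rw [biproduct.ι_desc_assoc, hκh, comp_zero]
  have hG' : EtPBC.IsConstructible (cokernel K) := StrataAb.isConstructible_cokernel _
    (isConstructible_biproduct _ fun i => isConstructible_extZeroConst _ (hA _) hn) hG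
  refine ⟨cokernel K, cokernel.desc K h hK, cokernel.π K, cokernel.π_desc _ _ _, hG',
    closure (EtPBC.supp (cokernel K)), isClosed_closure, fun hcl => ?_, subset_closure⟩
  obtain ⟨y, hy, hyη⟩ := exists_specializes_of_mem_closure (isConstructible_supp hG') hcl
  obtain rfl : y = η := hyη.antisymm (genericPoint_specializes y) |>.eq
  rw [supp_eq_compl_locus] at hy
  refine hy fun Ω _ _ ξ' hξ' => ?_
  obtain ⟨ε⟩ := SamePoint.nonempty_stalk_iso (cokernel K) (ξ := ξ) (ξ' := ξ')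
    ((gpt_apply _ _).trans hξ'.symm)
  refine (Present.isZero_cokernel_of_surjective K ξ fun p => ?_).of_iso ε.symm
  obtain ⟨r, hr⟩ := hκp p
  obtain ⟨i, rfl⟩ := e.symm.surjective p
  refine ⟨(EtCoh.stalk ξ).map (biproduct.ι (fun i => EtPBC.extZeroConst (A (e.symm i)) (ZMod n)) i) r, ?_⟩
  rw [← ConcreteCategory.comp_apply, ← Functor.map_comp, biproduct.ι_desc]
  exact hr

end Groth.Agent.EtSite.Support
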