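import Groth.Agent.EtSite.Henselian
import Groth.Agent.EtSite.PushEpi
import Groth.Agent.EtSite.PushFinite
import Groth.Agent.Rigidity.Basic
import Mathlib.AlgebraicGeometry.Morphisms.FormallyUnramified
import Mathlib.AlgebraicGeometry.Morphisms.QuasiFinite

/-!
# Étale morphisms over zero-dimensional schemes with separably closed residue fields
-/

set_option autoImplicit false
universe u

open CategoryTheory CategoryTheory.Limits AlgebraicGeometry Opposite

namespace Groth.Agent.EtSite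

theorem t2Space_primeSpectrum (R : Type u) [CommRing R] (h : ∀ p : PrimeSpectrum R, p.asIdeal.IsMaximal) :
    T2Space (PrimeSpectrum R) := by
  refine ⟨fun p q hpq => ?_⟩
  obtain ⟨b, hbp, hbq⟩ : ∃ b ∈ p.asIdeal, b ∉ q.asIdeal := by
    by_contra hc
    push_neg at hc
    exact hpq (PrimeSpectrum.ext ((h p).eq_of_le (h q).ne_top hc))
  have hnil : IsNilpotent (algebraMap R (Localization.AtPrime p.asIdeal) b) := by
    rw [nilpotent_iff_mem_prime]
    intro J hJ
    have := hJ
    have hJle := (IsLocalization.AtPrime.orderIsoOfPrime (Localization.AtPrime p.asIdeal) p.asIdeal ⟨J, hJ⟩).2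
    have heq : J.comap (algebraMap R (Localization.AtPrime p.asIdeal)) = p.asIdeal :=
      ((h ⟨_, hJle.1⟩).eq_of_le p.2.ne_top hJle.2)
    have hb : b ∈ J.comap (algebraMap R (Localization.AtPrime p.asIdeal)) := heq.symm ▸ hbp
    exact hb
  obtain ⟨n, hn⟩ := hnil
  rw [← map_pow, IsLocalization.map_eq_zero_iff p.asIdeal.primeCompl] at hn
  obtain ⟨⟨a, ha⟩, hab⟩ := hn
  refine ⟨PrimeSpectrum.basicOpen a, PrimeSpectrum.basicOpen b, (PrimeSpectrum.basicOpen a).2,
    (PrimeSpectrum.basicOpen b).2, ha, hbq, Set.disjoint_left.2 fun r hra hrb => ?_⟩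
  have h0 : a * b ^ n ∈ r.asIdeal := by
    rw [hab]
    exact r.asIdeal.zero_mem
  exact (r.2.mem_or_mem h0).elim hra fun hb => hrb (r.2.mem_of_pow_mem n hb)

theorem t2Space_of_isAffine (X : Scheme.{u}) [IsAffine X] (h : ∀ x : X, IsClosed ({x} : Set X)) :
    T2Space X := by
  have := t2Space_primeSpectrum Γ(X, ⊤) fun p => (PrimeSpectrum.isClosed_singleton_iff_isMaximal p).1 (by
    let e := Scheme.homeoOfIso X.isoSpec
    have : IsClosed (e '' {e.symm p}) := e.isClosed_image.2 (h _)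
    rw [Set.image_singleton, e.apply_symm_apply] at this
    exact this)
  have h2 : T2Space (Spec Γ(X, ⊤)) := this
  exact (Scheme.homeoOfIso X.isoSpec).symm.t2Space

theorem isClosed_singleton_of_locallyQuasiFinite {U S : Scheme.{u}} (q : U ⟶ S) [LocallyQuasiFinite q]
    (hS : ∀ s : S, IsClosed ({s} : Set S)) (x : U) : IsClosed ({x} : Set U) := by
  rw [← closure_eq_iff_isClosed]
  refine Set.Subset.antisymm (fun y hy => ?_) subset_closure
  have hxy : x ⤳ y := specializes_iff_mem_closure.2 hy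
  have hq : q y = q x := by
    have := (hxy.map q.continuous).mem_closed (hS (q x)) rfl
    exact this
  exact ((q.isDiscrete_preimage_singleton (q x)).eq_of_specializes hxy rfl hq).symm

variable {S : Scheme.{u}}

/-- Two field valued points with the same image in `U` and in `S` agree. -/
theorem eq_of_same_point {U : Scheme.{u}} (q : U ⟶ S) [Etale q]
    (hs : ∀ s : S, IsSepClosed (S.residueField s)) {K : Type u} [Field K]
    (g₁ g₂ : Spec (CommRingCat.of K) ⟶ U)
    (hx : g₁ (IsLocalRing.closedPoint K) = g₂ (IsLocalRing.closedPoint K))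
    (hg : g₁ ≫ q = g₂ ≫ q) : g₁ = g₂ := by
  obtain ⟨e, h⟩ := Scheme.SpecToEquivOfField_eq_iff.mp congr((S.SpecToEquivOfField K) $(hg))
  apply (U.SpecToEquivOfField K).injective
  dsimp [Scheme.SpecToEquivOfField] at e h
  simp only [Scheme.descResidueField_stalkClosedPointTo_comp] at e h
  rw [← q.residueFieldMap_congr'_assoc hx, CommRingCat.hom_ext_iff] at h
  rw [Scheme.SpecToEquivOfField_eq_iff]
  refine ⟨hx, CommRingCat.hom_ext (RingHom.ext fun r => ?_)⟩
  let x := g₁ (IsLocalRing.closedPoint K)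
  algebraize [(q.residueFieldMap x).hom]
  have := hs (q x)
  obtain ⟨r', hr'⟩ := IsSepClosed.algebraMap_surjective (S.residueField (q x)) (U.residueField x) r
  rw [← hr']
  exact RingHom.congr_fun h r'

theorem mem_range_diagonal_of_eq {U : Scheme.{u}} (r : U ⟶ S) [Etale r]
    (hs : ∀ s : S, IsSepClosed (S.residueField s)) (z : ↥(pullback r r))
    (hz : (pullback.fst r r).base z = (pullback.snd r r).base z) :
    z ∈ Set.range (pullback.diagonal r).base := by
  let φ := Weighting.geoPt (pullback r r) z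
  have hp : φ (IsLocalRing.closedPoint _) = z := Weighting.pt_geoPt (pullback r r) z
  have h1 : φ ≫ pullback.fst r r = φ ≫ pullback.snd r r :=
    eq_of_same_point r hs _ _ ((Scheme.Hom.comp_apply _ _ _).trans
      ((congrArg _ hp).trans (hz.trans ((congrArg _ hp.symm).trans (Scheme.Hom.comp_apply _ _ _).symm))))
      (by simp [pullback.condition])
  have h2 : φ = (φ ≫ pullback.fst r r) ≫ pullback.diagonal r := by
    apply pullback.hom_ext
    · simp
    · simp [h1]
  refine ⟨(φ ≫ pullback.fst r r) (IsLocalRing.closedPoint _), ?_⟩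
  rw [← Scheme.Hom.comp_apply, ← h2]
  exact hp

/-- An étale morphism is an open immersion near each point. -/
theorem exists_isOpenImmersion_nhd (hS : ∀ s : S, IsClosed ({s} : Set S))
    (hs : ∀ s : S, IsSepClosed (S.residueField s)) {U : Scheme.{u}} (q : U ⟶ S) [Etale q] [IsAffine S]
    (u : U) : ∃ W : U.Opens, u ∈ W ∧ IsOpenImmersion (W.ι ≫ q) := by
  obtain ⟨U₁, hU₁, hu₁, -⟩ := exists_isAffineOpen_mem_and_subset (U := (⊤ : U.Opens)) (x := u) trivial
  have : IsAffine U₁ := hU₁
  let r : (U₁ : Scheme.{u}) ⟶ S := U₁.ι ≫ q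
  have : Etale r := inferInstanceAs (Etale (U₁.ι ≫ q))
  have hcl := isClosed_singleton_of_locallyQuasiFinite r hS
  have := t2Space_of_isAffine (U₁ : Scheme.{u}) hcl
  let Δ := pullback.diagonal r
  have : IsOpenImmersion Δ := inferInstanceAs (IsOpenImmersion (pullback.diagonal r))
  let rest : Set ↥(pullback r r) := (Set.range Δ.base)ᶜ
  have hrc : IsCompact rest := (Δ.isOpenEmbedding.isOpen_range.isClosed_compl).isCompact
  let u₁ : (U₁ : Scheme.{u}) := ⟨u, hu₁⟩
  have hdiag : ∀ z, (pullback.fst r r).base z = (pullback.snd r r).base z → z ∈ Set.range Δ.base :=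
    mem_range_diagonal_of_eq r hs
  -- a neighbourhood `W` of `u₁` meeting no point of `rest` twice
  have key : ∀ z ∈ rest, ∃ (O : Set ↥(pullback r r)) (C : Set (U₁ : Scheme.{u})),
      IsOpen O ∧ IsOpen C ∧ z ∈ O ∧ u₁ ∈ C ∧
        ∀ z' ∈ O, ¬ (pullback.fst r r z' ∈ C ∧ pullback.snd r r z' ∈ C) := by
    intro z hz
    have : pullback.fst r r z ≠ u₁ ∨ pullback.snd r r z ≠ u₁ := by
      by_contra hc
      push_neg at hc
      exact hz (hdiag z (hc.1.trans hc.2.symm))
    rcases this with h | h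
    · obtain ⟨A, C, hA, hC, hzA, huC, hAC⟩ := t2_separation h
      exact ⟨_, C, hA.preimage (pullback.fst r r).continuous, hC, hzA, huC,
        fun z' hz' hc => Set.disjoint_left.1 hAC hz' hc.1⟩
    · obtain ⟨A, C, hA, hC, hzA, huC, hAC⟩ := t2_separation h
      exact ⟨_, C, hA.preimage (pullback.snd r r).continuous, hC, hzA, huC,
        fun z' hz' hc => Set.disjoint_left.1 hAC hz' hc.2⟩
  choose O C hO hC hzO huC hOC using key
  obtain ⟨t, ht⟩ := hrc.elim_finite_subcover (fun z : rest => O z z.2) (fun z => hO z z.2)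
    (fun z hz => Set.mem_iUnion.2 ⟨⟨z, hz⟩, hzO z hz⟩)
  let W₁ : (U₁ : Scheme.{u}).Opens :=
    ⟨⋂ z ∈ t, C z.1 z.2, isOpen_biInter_finset fun z _ => hC z.1 z.2⟩
  have : UniversallyInjective (W₁.ι ≫ r) := by
    rw [UniversallyInjective.iff_diagonal]
    constructor
    intro z
    let m : pullback (W₁.ι ≫ r) (W₁.ι ≫ r) ⟶ pullback r r :=
      pullback.lift (pullback.fst _ _ ≫ W₁.ι) (pullback.snd _ _ ≫ W₁.ι) (by simp [pullback.condition])
    have h1 : pullback.fst r r (m z) = W₁.ι ((pullback.fst (W₁.ι ≫ r) (W₁.ι ≫ r)).base z) := by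
      rw [← Scheme.Hom.comp_apply, ← Scheme.Hom.comp_apply, pullback.lift_fst]
    have h2 : pullback.snd r r (m z) = W₁.ι ((pullback.snd (W₁.ι ≫ r) (W₁.ι ≫ r)).base z) := by
      rw [← Scheme.Hom.comp_apply, ← Scheme.Hom.comp_apply, pullback.lift_snd]
    have hmem : m z ∈ Set.range Δ.base := by
      by_contra hmz
      have := ht hmz
      simp only [Set.mem_iUnion] at this
      obtain ⟨z', hz't, hz'⟩ := this
      refine hOC z'.1 z'.2 _ hz' ⟨?_, ?_⟩
      · rw [h1]
        exact Set.mem_iInter₂.1 ((pullback.fst (W₁.ι ≫ r) (W₁.ι ≫ r)).base z).2 z' hz't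
      · rw [h2]
        exact Set.mem_iInter₂.1 ((pullback.snd (W₁.ι ≫ r) (W₁.ι ≫ r)).base z).2 z' hz't
    obtain ⟨b, hb⟩ := hmem
    have heq : pullback.fst (W₁.ι ≫ r) (W₁.ι ≫ r) z = pullback.snd (W₁.ι ≫ r) (W₁.ι ≫ r) z := by
      apply W₁.ι.isOpenEmbedding.injective
      rw [← h1, ← h2, ← hb]
      rw [← Scheme.Hom.comp_apply, ← Scheme.Hom.comp_apply]
      simp [Δ]
    have : Etale (W₁.ι ≫ r) := inferInstance
    exact mem_range_diagonal_of_eq (W₁.ι ≫ r) hs z heq
  have : Etale (W₁.ι ≫ r) := inferInstance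
  have hW : IsOpenImmersion (W₁.ι ≫ r) := Rigidity.isOpenImmersion_of_etale_of_universallyInjective _
  refine ⟨(W₁.ι ≫ U₁.ι).opensRange, ⟨⟨u₁, Set.mem_iInter₂.2 fun z _ => huC z.1 z.2⟩, rfl⟩, ?_⟩
  rw [← Scheme.Hom.isoOpensRange_inv_comp (W₁.ι ≫ U₁.ι), Category.assoc, Category.assoc]
  exact inferInstanceAs (IsOpenImmersion ((W₁.ι ≫ U₁.ι).isoOpensRange.inv ≫ W₁.ι ≫ r))

/-- Covering sieves split Zariski locally. -/
theorem exists_open_section [IsAffine S] (hS : ∀ s : S, IsClosed ({s} : Set S))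
    (hs : ∀ s : S, IsSepClosed (S.residueField s)) (R : Sieve (EtCoh.top S))
    (hR : R ∈ S.smallEtaleTopology (EtCoh.top S)) (x : S) :
    ∃ O : S.Opens, x ∈ O ∧ R (Y := Scheme.Etale.mk O.ι) (MorphismProperty.Over.homMk O.ι (Category.comp_id _)) := by
  obtain ⟨V, g, v, hg, -, hv⟩ := exists_mem_of_mem_smallEtaleTopology hR x
  have : Etale V.hom := V.prop
  obtain ⟨W, hvW, hW⟩ := exists_isOpenImmersion_nhd hS hs V.hom v
  have hgV : g.left = V.hom := (Category.comp_id _).symm.trans (MorphismProperty.Over.w g)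
  refine ⟨(W.ι ≫ V.hom).opensRange, ⟨⟨v, hvW⟩, ?_⟩, ?_⟩
  · exact ((congrArg (fun m : V.left ⟶ S => m v) hgV).symm.trans hv :)
  · let l : (Scheme.Etale.mk (W.ι ≫ V.hom).opensRange.ι : S.Etale) ⟶ V := MorphismProperty.Over.homMk
      ((W.ι ≫ V.hom).isoOpensRange.inv ≫ W.ι)
      ((Category.assoc _ _ _).trans (Scheme.Hom.isoOpensRange_inv_comp _))
    have := R.downward_closed hg l
    convert this using 1
    refine MorphismProperty.Over.Hom.ext ?_
    show _ = ((W.ι ≫ V.hom).isoOpensRange.inv ≫ W.ι) ≫ g.left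
    rw [hgV]
    exact ((Category.assoc _ _ _).trans (Scheme.Hom.isoOpensRange_inv_comp _)).symm

/-- On such schemes global sections preserve surjections. -/
theorem gsec_surjective [IsAffine S] (hS : ∀ s : S, IsClosed ({s} : Set S))
    (hs : ∀ s : S, IsSepClosed (S.residueField s)) {A B : EtCoh.Ab S} (a : A ⟶ B) [Epi a] :
    Function.Surjective (a.hom.app (op (EtCoh.top S))) := by
  classical
  intro z
  have : Sheaf.IsLocallySurjective a := (Sheaf.isLocallySurjective_iff_epi' _ a).2 inferInstance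
  have : Presheaf.IsLocallySurjective S.smallEtaleTopology a.hom := this
  choose O hxO hO using exists_open_section hS hs _ (Presheaf.imageSieve_mem S.smallEtaleTopology a.hom z)
  have := t2Space_of_isAffine S hS
  have hC : ∀ x, ∃ C : Set S, IsClopen C ∧ x ∈ C ∧ C ⊆ O x := fun x => by
    obtain ⟨r, hrO, hxr⟩ := (isAffineOpen_top S).exists_basicOpen_le (V := O x) ⟨x, hxO x⟩ trivial
    exact ⟨S.basicOpen r, ⟨((isAffineOpen_top S).basicOpen r).isCompact.isClosed,
      (S.basicOpen r).2⟩, hxr, hrO⟩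
  choose C hC hxC hCO using hC
  obtain ⟨t, ht⟩ := isCompact_univ.elim_finite_subcover C (fun x => (hC x).2)
    (fun x _ => Set.mem_iUnion.2 ⟨x, hxC x⟩)
  let e := t.equivFin.symm
  let κ := ULift.{u} (Fin t.card)
  let D : κ → Set S := fun k => disjointed (fun n => C (e n).1) k.down
  have hDo : ∀ k, IsOpen (D k) := fun k => by
    refine disjointedRec (f := fun n => C (e n).1) (p := IsOpen) ?_ (hC _).2
    intro t' i ht'
    exact ht'.sdiff (hC _).1
  let P : κ → S.Etale := fun k => Scheme.Etale.mk (Scheme.Opens.ι (⟨D k, hDo k⟩ : S.Opens))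
  let g : ∀ k, P k ⟶ EtCoh.top S := fun k =>
    MorphismProperty.Over.homMk (Scheme.Opens.ι (⟨D k, hDo k⟩ : S.Opens)) (Category.comp_id _)
  have hz : ∀ k, ∃ w, a.hom.app (op (P k)) w = B.obj.map (g k).op z := fun k => by
    let x := (e k.down).1
    have hle : (⟨D k, hDo k⟩ : S.Opens) ≤ O x :=
      fun y hy => hCO x (disjointed_le (fun n => C (e n).1) k.down hy)
    let l : P k ⟶ Scheme.Etale.mk (O x).ι := MorphismProperty.Over.homMk (S.homOfLE hle) (S.homOfLE_ι hle)
    obtain ⟨w, hw⟩ := hO x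
    refine ⟨A.obj.map l.op w, (NatTrans.naturality_apply a.hom l.op w).trans ?_⟩
    have e : l ≫ MorphismProperty.Over.homMk (B := EtCoh.top S) (O x).ι (Category.comp_id _) = g k :=
      MorphismProperty.Over.Hom.ext (S.homOfLE_ι hle)
    rw [hw, ← Functor.map_comp_apply, ← op_comp, e]
  choose w hw using hz
  have hopen : ∀ k, IsOpenImmersion (g k).left := fun k =>
    inferInstanceAs (IsOpenImmersion (Scheme.Opens.ι (⟨D k, hDo k⟩ : S.Opens)))
  have hd : Pairwise (Function.onFun Disjoint fun k => Set.range (g k).left.base) := fun k l hkl => by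
    show Disjoint (Set.range (Scheme.Opens.ι (⟨D k, hDo k⟩ : S.Opens)).base) (Set.range (Scheme.Opens.ι (⟨D l, hDo l⟩ : S.Opens)).base)
    rw [Scheme.Opens.range_ι, Scheme.Opens.range_ι]
    exact disjoint_disjointed (fun n => C (e n).1) fun h => hkl (ULift.ext _ _ h)
  have hcov : ∀ y : (EtCoh.top S).left, ∃ k, y ∈ Set.range (g k).left.base := fun y => by
    have hy : y ∈ ⋃ n, C (e n).1 := by
      have := ht (Set.mem_univ y)
      simp only [Set.mem_iUnion] at this
      obtain ⟨x, hx, hyx⟩ := this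
      refine Set.mem_iUnion.2 ⟨e.symm ⟨x, hx⟩, ?_⟩
      rwa [e.apply_symm_apply]
    rw [← iUnion_disjointed] at hy
    obtain ⟨n, hn⟩ := Set.mem_iUnion.1 hy
    refine ⟨⟨n⟩, ?_⟩
    show y ∈ Set.range (Scheme.Opens.ι (⟨D ⟨n⟩, hDo ⟨n⟩⟩ : S.Opens)).base
    rw [Scheme.Opens.range_ι]
    exact hn
  obtain ⟨p, hp⟩ := exists_glue_disjoint A g hopen hd hcov w
  refine ⟨p, ?_⟩
  obtain ⟨q, -, huniq⟩ := exists_glue_disjoint'
    ((isSheaf_iff_isSheaf_of_type _ _).1
      ((sheafCompose S.smallEtaleTopology (forget AddCommGrpCat.{u + 1})).obj B).property)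
    g hopen hd hcov (fun k => B.obj.map (g k).op z)
  refine (huniq _ fun k => ?_).trans (huniq _ fun k => rfl).symm
  exact (NatTrans.naturality_apply a.hom (g k).op p).symm.trans ((congrArg _ (hp k)).trans (hw k))

end Groth.Agent.EtSite
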