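import Groth.Agent.EtSite.HenselClosedPoint
import Groth.Agent.EtSite.ZeroDim
import Groth.Agent.EtSite.ColimCohom
import Groth.Agent.EtSite.Support
import Groth.Agent.S0088
import Groth.Agent.EtSite.Sections
import Mathlib.FieldTheory.PurelyInseparable.Basic
import Mathlib.AlgebraicGeometry.Morphisms.Finite

/-!
# Sheaves supported on closed points over a separably closed field
-/

set_option autoImplicit false
set_option backward.isDefEq.respectTransparency.types false

universe u

open CategoryTheory CategoryTheory.Limits AlgebraicGeometry Opposite CategoryTheory.Abelian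

namespace Groth.Agent.EtSite.ClosedSupport

open FLCOps Present

theorem isSepClosed_of_isIntegral (K L : Type u) [Field K] [Field L] [IsSepClosed K] [Algebra K L]
    [Algebra.IsIntegral K L] : IsSepClosed L := by
  let M := SeparableClosure L
  have : Algebra.IsAlgebraic K L := inferInstance
  have : Algebra.IsAlgebraic K M := Algebra.IsAlgebraic.trans K L M
  have : IsPurelyInseparable K M := isPurelyInseparable_iff.2 fun x =>
    ⟨Algebra.IsIntegral.isIntegral x, fun hx => minpoly.degree_eq_one_iff.1
      (IsSepClosed.degree_eq_one_of_irreducible K (minpoly.irreducible (Algebra.IsIntegral.isIntegral x)) hx)⟩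
  have : IsPurelyInseparable L M := IsPurelyInseparable.tower_top K L M
  refine IsSepClosed.of_exists_root _ fun p _ hp hs => ?_
  obtain ⟨x, hx⟩ := IsSepClosed.exists_aeval_eq_zero M p hp.degree_pos.ne' hs
  obtain ⟨y, rfl⟩ := IsPurelyInseparable.surjective_algebraMap_of_isSeparable L M x
  rw [Polynomial.aeval_algebraMap_apply, map_eq_zero_iff _ (algebraMap L M).injective] at hx
  exact ⟨y, by rwa [← Polynomial.coe_aeval_eq_eval]⟩

variable {K : Type u} [Field K] [IsSepClosed K] {X : Scheme.{u}}
    (a : X ⟶ Spec (CommRingCat.of K)) [LocallyOfFiniteType a]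

include a in
theorem isSepClosed_residueField (x : X) (hx : IsClosed ({x} : Set X)) :
    IsSepClosed (X.residueField x) := by
  have : IsFinite (X.fromSpecResidueField x ≫ a) := by
    rw [isClosed_singleton_iff_isClosedImmersion] at hx
    rw [isFinite_iff_locallyOfFiniteType_of_jacobsonSpace]
    infer_instance
  have h : (Spec.preimage (X.fromSpecResidueField x ≫ a)).hom.IsIntegral := by
    rw [← IsIntegralHom.SpecMap_iff, Spec.map_preimage]
    infer_instance
  let φ : K →+* X.residueField x := (Spec.preimage (X.fromSpecResidueField x ≫ a)).hom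
  algebraize [φ]
  have : Algebra.IsIntegral K (X.residueField x) := ⟨h⟩
  exact isSepClosed_of_isIntegral K (X.residueField x)

include a in
theorem H_push_subsingleton {Z : Scheme.{u}} (i : Z ⟶ X) [IsClosedImmersion i] [IsAffine Z]
    (hZ : ∀ z : Z, IsClosed ({z} : Set Z)) (G : EtCoh.Ab Z) (q : ℕ) (hq : 0 < q) :
    Subsingleton (EtCoh.H X ((EtCoh.push i).obj G) q) := by
  have := push_preservesFiniteLimits i
  have : (EtCoh.push i).PreservesEpimorphisms := push_preservesEpimorphisms_of_isFinite i
  have : (EtCoh.push i).PreservesHomology := Functor.preservesHomology_of_preservesEpis_and_kernels _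
  have : PreservesFiniteColimits (EtCoh.push i) := Functor.preservesFiniteColimits_of_preservesHomology _
  have hsep : ∀ z : Z, IsSepClosed (Z.residueField z) := fun z =>
    isSepClosed_residueField (i ≫ a) z (hZ z)
  have : Subsingleton (Ext (EtCoh.const Z ℤ) G q) := Groth.Agent.S0088.result Z hZ hsep G q hq
  have h1 := (HenselClosedPoint.precomp_iso_bijective (Y := G) (EtCore.pullConst i ℤ).symm q)
  have : Subsingleton (Ext ((EtCoh.pull i).obj (EtCoh.const X ℤ)) G q) := h1.1.subsingleton
  exact (EtMV.Φ_bijective (EtCoh.pullPushAdj i) (EtCoh.const X ℤ) G q).2.subsingleton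

include a in
theorem H_subsingleton_of_supp_finite {G : EtCoh.Ab X} {T : Set X} (hT : T.Finite)
    (hTc : ∀ x ∈ T, IsClosed ({x} : Set X)) (hG : EtPBC.supp G ⊆ T) (q : ℕ) (hq : 0 < q) :
    Subsingleton (EtCoh.H X G q) := by
  have hclosed : IsClosed T := by
    rw [← Set.biUnion_of_singleton T]
    exact hT.isClosed_biUnion hTc
  let I := Scheme.IdealSheafData.vanishingIdeal (X := X) ⟨T, hclosed⟩
  let i := I.subschemeι
  have hr : Set.range i = T :=
    I.range_subschemeι.trans (Scheme.IdealSheafData.coe_support_vanishingIdeal (X := X) ⟨T, hclosed⟩)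
  have hinj := i.isClosedEmbedding.injective
  have hfin : Finite I.subscheme := by
    have : Finite (Set.range i) := by rw [hr]; exact hT.to_subtype
    exact Finite.of_equiv _ (Equiv.ofInjective i hinj).symm
  have hpt : ∀ z : I.subscheme, IsClosed ({z} : Set I.subscheme) := fun z => by
    have h := hTc (i z) (hr ▸ Set.mem_range_self z)
    have e : ({z} : Set I.subscheme) = i ⁻¹' {i z} := by
      ext w; simp [hinj.eq_iff]
    rw [e]
    exact h.preimage i.continuous
  have : T1Space I.subscheme := ⟨hpt⟩
  have hop : ∀ z : I.subscheme, IsOpen ({z} : Set I.subscheme) := fun z => isOpen_discrete _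
  have : IsAffine I.subscheme := by
    let U : I.subscheme → I.subscheme.Opens := fun z => ⟨{z}, hop z⟩
    have hU : ∀ z, IsAffineOpen (U z) := fun z => by
      obtain ⟨V, hV, hz, hVU⟩ := exists_isAffineOpen_mem_and_subset (X := I.subscheme) (U := U z) (x := z) rfl
      rwa [show U z = V from le_antisymm (fun w hw => by rwa [Set.mem_singleton_iff.1 hw]) hVU]
    have h1 := IsAffineOpen.iSup_of_disjoint hU (fun z w h => by
      refine disjoint_iff_inf_le.2 fun p hp => ?_
      exact h ((Set.mem_singleton_iff.1 hp.1).symm.trans (Set.mem_singleton_iff.1 hp.2)))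
    have e : iSup U = ⊤ := top_unique fun z _ => TopologicalSpace.Opens.mem_iSup.2 ⟨z, rfl⟩
    rw [e] at h1
    have : IsAffine (⊤ : I.subscheme.Opens).toScheme := h1
    exact IsAffine.of_isIso I.subscheme.topIso.inv
  obtain ⟨G', ⟨e⟩⟩ := (essImage_push_closedImmersion i G).2 fun U hU => by
    suffices Subsingleton (EtCoh.sect G U) from AddCommGrpCat.isZero_of_subsingleton (G.obj.obj (op U))
    refine subsingleton_of_forall_eq 0 fun s => sect_eq_zero_of_germs G U s fun Ω _ _ ξ t => ?_
    refine @Subsingleton.elim _ (AddCommGrpCat.subsingleton_of_isZero ?_) _ _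
    by_contra hne
    obtain ⟨w, hw⟩ : ξ default ∈ Set.range i := hr.ge (hG ⟨Ω, inferInstance, inferInstance, ξ,
      (StrataLocus.range_eq_singleton_iff ξ (ξ default)).2 rfl, hne⟩)
    have h2 : U.hom (Sect.pt t) = ξ default :=
      (Scheme.Hom.comp_apply _ _ _).symm.trans (congrArg (fun m : _ ⟶ X => m default) (Over.w t))
    exact Set.disjoint_left.1 hU ⟨Sect.pt t, h2⟩ ⟨w, hw⟩
  have : Subsingleton ((EtCoh.HF X q).obj ((EtCoh.push i).obj G') : AddCommGrpCat.{u + 1}) :=
    H_push_subsingleton a i hpt G' q hq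
  exact (((EtCoh.HF X q).mapIso e).addCommGroupIsoToAddEquiv).symm.toEquiv.subsingleton

/-! ### The colimit of the parts with finite support -/

section colimit

variable (F : EtCoh.Ab X)

/-- Sections whose germs live over a finite set of closed points. -/
structure Good : Type (u + 1) where
  A : X.Etale
  s : EtCoh.sect F A
  T : Set X
  finite : T.Finite
  closed : ∀ x ∈ T, IsClosed ({x} : Set X)
  germ : ∀ ⦃Ω : Type u⦄ [Field Ω] [IsSepClosed Ω] (ξ : Spec (CommRingCat.of Ω) ⟶ X),
    ξ default ∉ T → ∀ t, gm ξ F A t s = 0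

variable {F}

/-- The map attached to a section. -/
noncomputable def Good.map (g : Good F) : FreeOn.P g.A ⟶ F := (FreeOn.exists_hom g.A g.s).choose

theorem Good.map_spec (g : Good F) : g.map.hom.app (op g.A) (FreeOn.can g.A) = g.s :=
  (FreeOn.exists_hom g.A g.s).choose_spec

theorem Good.stalk_map_eq_zero (g : Good F) {Ω : Type u} [Field Ω] [IsSepClosed Ω]
    (ξ : Spec (CommRingCat.of Ω) ⟶ X) (h : ξ default ∉ g.T) : (EtCoh.stalk ξ).map g.map = 0 :=
  FreeOn.stalk_hom_ext ξ fun t => by rw [FreeOn.map_e, g.map_spec, g.germ ξ h t]; rfl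

/-- The subobject generated by finitely many good sections. -/
noncomputable def sub (S : Finset (Good F)) : Subobject F :=
  S.sup fun g => imageSubobject g.map

theorem supp_sub_subset (S : Finset (Good F)) :
    EtPBC.supp (sub S : EtCoh.Ab X) ⊆ ⋃ g ∈ S, g.T := by
  classical
  intro x hx
  by_contra hc
  simp only [Set.mem_iUnion, not_exists] at hc
  rw [Support.supp_eq_compl_locus] at hx
  refine hx fun Ω _ _ ξ hξ => ?_
  suffices h0 : (EtCoh.stalk ξ).map (sub S).arrow = 0 from IsZero.of_mono_eq_zero _ h0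
  have hle : sub S ≤ kernelSubobject ((Scheme.pointSmallEtale ξ).skyscraperSheafAdjunction.unit.app F) := by
    refine Finset.sup_le fun g hg => imageSubobject_le _
      (factorThruKernelSubobject _ g.map ?_) (factorThruKernelSubobject_comp_arrow _ _ _)
    refine ((Scheme.pointSmallEtale ξ).skyscraperSheafAdjunction.homEquiv _ _).symm.injective ?_
    rw [Adjunction.homEquiv_naturality_left_symm]
    refine (congrArg (· ≫ _) (g.stalk_map_eq_zero ξ (hξ ▸ hc g hg))).trans ?_
    rw [zero_comp, Adjunction.homEquiv_counit]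
    exact ((congrArg (· ≫ _) ((EtCoh.stalk ξ).map_zero (FreeOn.P g.A) _)).trans zero_comp).symm
  have h1 : (sub S).arrow ≫ (Scheme.pointSmallEtale ξ).skyscraperSheafAdjunction.unit.app F = 0 := by
    rw [← Subobject.ofLE_arrow hle, Category.assoc, kernelSubobject_arrow_comp, comp_zero]
  have h2 := congrArg ((Scheme.pointSmallEtale ξ).skyscraperSheafAdjunction.homEquiv _ _).symm h1
  rw [Adjunction.homEquiv_naturality_left_symm, Adjunction.homEquiv_symm_apply,
    Adjunction.left_triangle_components] at h2
  refine (Category.comp_id _).symm.trans (h2.trans ((Adjunction.homEquiv_counit _ _ _ _).trans ?_))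
  exact (congrArg (· ≫ _) ((EtCoh.stalk ξ).map_zero _ _)).trans zero_comp

theorem sub_mono : Monotone (sub (F := F)) := fun _ _ h => Finset.sup_mono h

variable (F) in
/-- The diagram of subsheaves with finite support. -/
noncomputable def diagram : Finset (Good F) ⥤ EtCoh.Ab X :=
  sub_mono.functor ⋙ Subobject.underlying

variable (F) in
/-- The inclusions. -/
noncomputable def cocone : Cocone (diagram F) where
  pt := F
  ι := { app := fun S => (sub S).arrow
         naturality := fun S S' h => (Subobject.underlying_arrow _).trans (Category.comp_id _).symm }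

include a in
theorem exists_good [QuasiCompact a] (hF : ∀ x ∈ EtPBC.supp F, IsClosed ({x} : Set X)) (A : X.Etale)
    [IsAffine A.left] (s : EtCoh.sect F A) : ∃ g : Good F, g.A = A ∧ HEq g.s s := by
  let W : Set A.left := {y | ∃ (V : X.Etale) (f : V ⟶ A) (v : V.left),
    f.left.base v = y ∧ F.obj.map f.op s = 0}
  have hW : IsOpen W := isOpen_iff_forall_mem_open.2 fun y ⟨V, f, v, hv, hf⟩ => by
    have : Etale f.left := (inferInstance : EtCoh.etaleMP f.left)
    exact ⟨Set.range f.left.base, fun _ ⟨w, hw⟩ => ⟨V, f, w, hw, hf⟩,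
      f.left.isOpenMap.isOpen_range, v, hv⟩
  have : Etale A.hom := A.prop
  have hpts : ∀ y : A.left, y ∉ W → A.hom y ∈ EtPBC.supp F := fun y hy => by
    let ξ := gpt y ≫ A.hom
    have hξ : ξ default = A.hom y :=
      (Scheme.Hom.comp_apply _ _ _).trans (congrArg _ (gpt_apply y _))
    refine ⟨_, inferInstance, inferInstance, ξ, (StrataLocus.range_eq_singleton_iff ξ _).2 hξ, fun hz => hy ?_⟩
    have e : gm ξ F A (tautPt A y) s = gm ξ F A (tautPt A y) 0 :=
      @Subsingleton.elim _ (AddCommGrpCat.subsingleton_of_isZero hz) _ _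
    obtain ⟨V, f, v, hv, hf⟩ := ((Scheme.pointSmallEtale ξ).toPresheafFiber_eq_iff' _ _ _ _).1 e
    refine ⟨V, f, Sect.pt v, ?_, hf.trans (map_zero _)⟩
    have hl : v.left ≫ f.left = gpt y := congrArg CommaMorphism.left hv
    exact (Scheme.Hom.comp_apply _ _ _).symm.trans
      ((congrArg (fun m : Spec (CommRingCat.of (SeparableClosure (A.left.residueField y))) ⟶ A.left =>
        m default) hl).trans (gpt_apply y _))
  have hclosed : ∀ y ∈ Wᶜ, IsClosed ({y} : Set A.left) := fun y hy => by
    rw [← closure_eq_iff_isClosed]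
    refine Set.Subset.antisymm (fun z hz => ?_) subset_closure
    have hyz : y ⤳ z := specializes_iff_mem_closure.2 hz
    have hq : A.hom z = A.hom y := (hyz.map A.hom.continuous).mem_closed (hF _ (hpts y hy)) rfl
    exact ((A.hom.isDiscrete_preimage_singleton (A.hom y)).eq_of_specializes hyz rfl hq).symm
  have : IsNoetherian A.left := by
    have : LocallyOfFiniteType (A.hom ≫ a) := inferInstance
    have : IsLocallyNoetherian A.left := LocallyOfFiniteType.isLocallyNoetherian (A.hom ≫ a)
    exact ⟨⟩
  have hfin : (Wᶜ).Finite := by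
    obtain ⟨S, hSf, hS, hI, e⟩ :=
      TopologicalSpace.NoetherianSpace.exists_finite_set_isClosed_irreducible hW.isClosed_compl
    rw [e]
    refine hSf.sUnion fun C hC => ?_
    obtain ⟨g, hg⟩ : ∃ g, IsGenericPoint g C := ⟨(hI C hC).genericPoint, by
      simpa [(hS C hC).closure_eq] using (hI C hC).isGenericPoint_genericPoint_closure⟩
    have hgW : g ∈ Wᶜ := e ▸ Set.mem_sUnion.2 ⟨C, hC, hg.mem⟩
    have : C = {g} := by rw [← hg.def, closure_eq_iff_isClosed.2 (hclosed g hgW)]
    rw [this]
    exact Set.finite_singleton g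
  refine ⟨⟨A, s, A.hom '' Wᶜ, hfin.image _, ?_, fun Ω _ _ ξ hξ t => ?_⟩, rfl, HEq.rfl⟩
  · rintro _ ⟨y, hy, rfl⟩
    exact hF _ (hpts y hy)
  · have hyW : Sect.pt t ∈ W := by
      by_contra h
      exact hξ ⟨_, h, (Scheme.Hom.comp_apply _ _ _).symm.trans
        (congrArg (fun m : _ ⟶ X => m default) (Over.w t))⟩
    obtain ⟨V, f, v, hv, hf⟩ := hyW
    obtain ⟨t', ht'⟩ := Sect.exists_pt f t ⟨v, hv⟩
    rw [← gm_res F f ht' s, hf]
    exact map_zero _

include a in
theorem isColimit_cocone [QuasiCompact a] (hF : ∀ x ∈ EtPBC.supp F, IsClosed ({x} : Set X)) :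
    Nonempty (IsColimit (cocone F)) := by
  classical
  let L := colimit.cocone (diagram F)
  let hL := colimit.isColimit (diagram F)
  let γ : L.pt ⟶ F := hL.desc (cocone F)
  have hγ : ∀ S, L.ι.app S ≫ γ = (sub S).arrow := fun S => hL.fac (cocone F) S
  have : IsIso γ := isIso_of_stalks γ fun Ω _ _ ξ => by
    let hS : IsColimit ((EtCoh.stalk ξ).mapCocone L) := isColimitOfPreserves _ hL
    rw [ConcreteCategory.isIso_iff_bijective]
    refine ⟨(injective_iff_map_eq_zero ((EtCoh.stalk ξ).map γ).hom).2 fun q hq => ?_, fun p => ?_⟩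
    · obtain ⟨S, x, rfl⟩ := Concrete.isColimit_exists_rep (diagram F ⋙ EtCoh.stalk ξ) hS q
      have hx : (EtCoh.stalk ξ).map (sub S).arrow x = 0 := by
        refine (congrArg (fun m => (ConcreteCategory.hom ((EtCoh.stalk ξ).map m)) x) (hγ S).symm).trans ?_
        exact (ConcreteCategory.congr_hom ((EtCoh.stalk ξ).map_comp (L.ι.app S) γ) x).trans hq
      have : Mono ((EtCoh.stalk ξ).map (sub S).arrow) := inferInstance
      have hx0 : x = 0 := (AddCommGrpCat.mono_iff_injective _).1 this (hx.trans (map_zero _).symm)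
      rw [hx0]
      exact map_zero _
    · obtain ⟨A, t, s, hA, rfl⟩ := Sect.exists_gm F ξ p
      obtain ⟨g, rfl, hg⟩ := exists_good a hF A s
      cases eq_of_heq hg
      let r : FreeOn.P g.A ⟶ (sub {g} : EtCoh.Ab X) :=
        factorThruImageSubobject g.map ≫ Subobject.ofLE _ _
          (Finset.le_sup (f := fun g => imageSubobject g.map) (Finset.mem_singleton_self g))
      refine ⟨(EtCoh.stalk ξ).map (r ≫ L.ι.app {g}) (FreeOn.e ξ g.A t), ?_⟩
      refine (ConcreteCategory.congr_hom ((EtCoh.stalk ξ).map_comp (r ≫ L.ι.app {g}) γ) _).symm.trans ?_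
      have h' : (r ≫ L.ι.app {g}) ≫ γ = g.map :=
        (Category.assoc _ _ _).trans ((congrArg (r ≫ ·) (hγ {g})).trans (by simp [r]))
      rw [h', FreeOn.map_e, g.map_spec]
  exact ⟨@IsColimit.ofPointIso _ _ _ _ _ _ _ hL this⟩

include a in
theorem H_subsingleton [QuasiCompact a] (hF : ∀ x ∈ EtPBC.supp F, IsClosed ({x} : Set X))
    (q : ℕ) (hq : 0 < q) : Subsingleton (EtCoh.H X F q) := by
  classical
  have : CompactSpace X := QuasiCompact.compactSpace_of_compactSpace a
  have : IsLocallyNoetherian X := LocallyOfFiniteType.isLocallyNoetherian a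
  obtain ⟨hc⟩ := isColimit_cocone a hF
  refine subsingleton_of_forall_eq 0 fun x => ?_
  obtain ⟨S, y, hy⟩ := ColimCohom.exists_lift_H hc q x
  have := H_subsingleton_of_supp_finite a (S.finite_toSet.biUnion fun g _ => g.finite)
    (fun x hx => by
      obtain ⟨g, -, hxg⟩ := Set.mem_iUnion₂.1 hx
      exact g.closed x hxg)
    (supp_sub_subset S) q hq
  rw [← hy, @Subsingleton.elim _ this y 0]
  exact map_zero _

end colimit

end Groth.Agent.EtSite.ClosedSupport
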