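import Groth.Agent.EtSite.CechRes
import Groth.Agent.EtSite.Sect
import Mathlib.Algebra.Homology.DerivedCategory.Ext.EnoughInjectives
import Mathlib.Algebra.Homology.DerivedCategory.Ext.ExactSequences
import Mathlib.CategoryTheory.Abelian.GrothendieckCategory.EnoughInjectives
import Mathlib.CategoryTheory.Abelian.GrothendieckAxioms.Basic
import Mathlib.CategoryTheory.Abelian.FunctorCategory

/-!
# Cohomology over quasi-compact quasi-separated objects commutes with filtered colimits
-/

set_option autoImplicit false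
universe v u

open CategoryTheory CategoryTheory.Limits AlgebraicGeometry Opposite CategoryTheory.Abelian

namespace Groth.Agent.EtSite.ColimH

open FLCOps FreeOn CechRes

variable {X : Scheme.{u}}

theorem pmap_comp {A B C : X.Etale} (f : A ⟶ B) (g : B ⟶ C) : pmap (f ≫ g) = pmap f ≫ pmap g := by
  refine Present.map_ext ?_
  change (pmap (f ≫ g)).hom.app (op A) (can A) = (pmap f ≫ pmap g).hom.app (op A) (can A)
  rw [pmap_comp_app, pmap_can, pmap_can, op_comp, Functor.map_comp_apply]

/-- A cohomology class of positive degree over a quasi-compact object dies on a finite affine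
covering. -/
theorem exists_cover_kill : ∀ (n : ℕ) (F : EtCoh.Ab X) (U : X.Etale) [CompactSpace U.left]
    (α : Ext (P U) F (n + 1)), ∃ (V : X.Etale) (g : V ⟶ U), IsAffine V.left ∧
      Function.Surjective g.left.base ∧ (Ext.mk₀ (pmap g)).comp α (zero_add (n + 1)) = 0 := by
  intro n
  induction n with
  | zero =>
    intro F U _ α
    let S := ShortComplex.mk (Injective.ι F) (cokernel.π (Injective.ι F)) (cokernel.condition _)
    have hS : S.ShortExact := { exact := ShortComplex.exact_of_g_is_cokernel _ (cokernelIsCokernel _) }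
    obtain ⟨β, rfl⟩ := Ext.covariant_sequence_exact₁ _ hS α (Ext.eq_zero_of_injective _) (zero_add 1)
    obtain ⟨φ, rfl⟩ := (Ext.mk₀_bijective _ _).2 β
    have key : ∀ x : U.left, ∃ (A : X.Etale) (w : A ⟶ U), IsAffine A.left ∧ x ∈ Set.range w.left.base ∧
        ∃ ψ : P A ⟶ S.X₂, ψ ≫ S.g = pmap w ≫ φ := by
      intro x
      let s := φ.hom.app (op U) (can U)
      let ξ := gpt x ≫ U.hom
      have : Epi S.g := hS.epi_g
      obtain ⟨p, hp⟩ := (epi_iff_stalks S.g).1 inferInstance _ ξ (gm ξ S.X₃ U (tautPt U x) s)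
      obtain ⟨A₀, t₀, σ, -, rfl⟩ := Sect.exists_gm S.X₂ ξ p
      obtain ⟨⟨W, w⟩, ⟨f₁, hf₁⟩, ⟨f₂, hf₂⟩, -⟩ := IsCofilteredOrEmpty.cone_objs
        (C := (Scheme.pointSmallEtale ξ).fiber.Elements) ⟨A₀, t₀⟩ ⟨U, tautPt U x⟩
      have e : gm ξ S.X₃ W w (S.g.hom.app (op W) (S.X₂.obj.map f₁.op σ)) =
          gm ξ S.X₃ W w (S.X₃.obj.map f₂.op s) := by
        rw [gm_res S.X₃ f₂ hf₂, ← gm_map, gm_res S.X₂ f₁ hf₁]
        exact hp
      obtain ⟨V, g, v, hv, hg⟩ := ((Scheme.pointSmallEtale ξ).toPresheafFiber_eq_iff' _ _ _ _).1 e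
      obtain ⟨B, b, hB, β, hβ⟩ := Sect.exists_affine_nbhd V (Sect.pt v)
      refine ⟨B, b ≫ g ≫ f₂, hB, ⟨β, ?_⟩, ?_⟩
      · have hl : v.left ≫ g.left ≫ f₂.left = gpt x := by
          have h1 : v.left ≫ g.left = w.left := congrArg CommaMorphism.left hv
          have h2 : w.left ≫ f₂.left = gpt x := congrArg CommaMorphism.left hf₂
          exact (Category.assoc _ _ _).symm.trans ((congrArg (fun m => m ≫ f₂.left) h1).trans h2)
        change (b.left ≫ g.left ≫ f₂.left).base β = x
        refine (Scheme.Hom.comp_apply _ _ _).trans ?_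
        refine (congrArg (fun z => (g.left ≫ f₂.left).base z) hβ).trans ?_
        exact (Scheme.Hom.comp_apply _ _ _).symm.trans
          ((congrArg (fun m : _ ⟶ U.left => m.base (default : Spec (CommRingCat.of (SeparableClosure (U.left.residueField x))))) hl).trans (gpt_apply x _))
      · obtain ⟨ψ, hψ⟩ := exists_hom B (S.X₂.obj.map (b ≫ g ≫ f₁).op σ)
        refine ⟨ψ, Present.map_ext ?_⟩
        change S.g.hom.app (op B) (ψ.hom.app (op B) (can B)) = (pmap (b ≫ g ≫ f₂) ≫ φ).hom.app (op B) (can B)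
        rw [hψ, pmap_comp_app, NatTrans.naturality_apply]
        rw [NatTrans.naturality_apply] at hg
        simp only [op_comp, Functor.map_comp_apply] at hg ⊢
        exact congrArg _ hg
    choose A w hA hxw ψ hψ using key
    obtain ⟨t, ht⟩ := isCompact_univ.elim_finite_subcover (fun x => Set.range (w x).left.base)
      (fun x => Sect.isOpen_range (w x)) fun x _ => Set.mem_iUnion.2 ⟨x, hxw x⟩
    have : ∀ i : {x // x ∈ t}, IsAffine (A i.1).left := fun i => hA i.1
    obtain ⟨V, g, ι, hV, hg, hι, hiso⟩ := exists_sigma (I := {x // x ∈ t}) (fun i => A i.1)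
      (fun i => w i.1) fun x => by
        obtain ⟨i, hi, hx⟩ := Set.mem_iUnion₂.1 (ht (Set.mem_univ x))
        exact ⟨⟨i, hi⟩, hx⟩
    refine ⟨V, g, hV, hg, ?_⟩
    let θ := biproduct.desc fun i : {x // x ∈ t} => pmap (ι i)
    have hfac : (inv θ ≫ biproduct.desc fun i : {x // x ∈ t} => ψ i.1) ≫ S.g = pmap g ≫ φ := by
      rw [Category.assoc, IsIso.inv_comp_eq]
      refine biproduct.hom_ext' _ _ fun i => ?_
      rw [biproduct.ι_desc_assoc, hψ, biproduct.ι_desc_assoc, ← Category.assoc, ← pmap_comp, hι]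
    rw [← Ext.comp_assoc_of_second_deg_zero, Ext.mk₀_comp_mk₀, ← hfac, ← Ext.mk₀_comp_mk₀,
      Ext.comp_assoc_of_second_deg_zero, hS.comp_extClass, Ext.comp_zero]
  | succ n ih =>
    intro F U _ α
    let S := ShortComplex.mk (Injective.ι F) (cokernel.π (Injective.ι F)) (cokernel.condition _)
    have hS : S.ShortExact := { exact := ShortComplex.exact_of_g_is_cokernel _ (cokernelIsCokernel _) }
    obtain ⟨β, rfl⟩ := Ext.covariant_sequence_exact₁ _ hS α (Ext.eq_zero_of_injective _) rfl
    obtain ⟨V, g, hV, hg, h⟩ := ih S.X₃ U β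
    refine ⟨V, g, hV, hg, ?_⟩
    rw [← Ext.comp_assoc (Ext.mk₀ (pmap g)) β hS.extClass (zero_add (n + 1)) rfl (by omega), h,
      Ext.zero_comp]

variable {J : Type v} [SmallCategory J] [IsFiltered J]
  [∀ {Ω : Type u} [Field Ω] [IsSepClosed Ω] (ξ : Spec (CommRingCat.of Ω) ⟶ X),
    PreservesColimitsOfShape J (EtCoh.stalk ξ)]
  [PreservesColimitsOfShape J (CategoryTheory.forget AddCommGrpCat.{u + 1})]

theorem exists_fac_P {D : J ⥤ EtCoh.Ab X} {c : Cocone D} (hc : IsColimit c) (W : X.Etale)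
    [CompactSpace W.left] [QuasiSeparatedSpace W.left] (φ : P W ⟶ c.pt) :
    ∃ (k : J) (ψ : P W ⟶ D.obj k), ψ ≫ c.ι.app k = φ := by
  obtain ⟨k, t, ht⟩ := Sect.exists_lift hc W (φ.hom.app (op W) (can W))
  obtain ⟨ψ, hψ⟩ := exists_hom W t
  exact ⟨k, ψ, Present.map_ext ((congrArg ((c.ι.app k).hom.app (op W)) hψ).trans ht)⟩

theorem exists_zero_P {D : J ⥤ EtCoh.Ab X} {c : Cocone D} (hc : IsColimit c) (W : X.Etale)
    [CompactSpace W.left] {j : J} (ψ : P W ⟶ D.obj j) (h : ψ ≫ c.ι.app j = 0) :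
    ∃ (k : J) (a : j ⟶ k), ψ ≫ D.map a = 0 := by
  obtain ⟨k, a, ha⟩ := Sect.exists_eq_zero hc W (ψ.hom.app (op W) (can W)) (by
    change (ψ ≫ c.ι.app j).hom.app (op W) (can W) = 0
    rw [h]; rfl)
  exact ⟨k, a, Present.map_ext (ha.trans rfl)⟩

section res

variable {U V : X.Etale} (g : V ⟶ U)

/-- The syzygies of the Čech resolution. -/
noncomputable def K : ℕ → EtCoh.Ab X
  | 0 => P (M g 0).1
  | p + 1 => kernel (d g p)

/-- The covering of the syzygies. -/
noncomputable def epiK : ∀ p : ℕ, P (M g (p + 1)).1 ⟶ K g p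
  | 0 => d g 0
  | p + 1 => kernel.lift (d g p) (d g (p + 1)) (d_comp_d g p)

/-- The inclusion of the syzygies. -/
noncomputable def incl (p : ℕ) : K g (p + 1) ⟶ P (M g (p + 1)).1 := kernel.ι (d g p)

theorem incl_epiK : ∀ p : ℕ, incl g p ≫ epiK g p = 0
  | 0 => kernel.condition (d g 0)
  | p + 1 => by
    have : Mono (incl g p) := inferInstanceAs (Mono (kernel.ι _))
    rw [← cancel_mono (incl g p), Category.assoc, zero_comp]
    exact (congrArg (incl g (p + 1) ≫ ·) (kernel.lift_ι _ _ _)).trans (kernel.condition _)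

theorem epiK_incl (p : ℕ) : epiK g (p + 1) ≫ incl g p = d g (p + 1) := kernel.lift_ι _ _ _

theorem d_epiK : ∀ p : ℕ, d g (p + 1) ≫ epiK g p = 0
  | 0 => d_comp_d g 0
  | p + 1 => by
    have : Mono (incl g p) := inferInstanceAs (Mono (kernel.ι _))
    rw [← cancel_mono (incl g p), Category.assoc, epiK_incl, zero_comp]
    exact d_comp_d g (p + 1)

theorem shortExact_K (hg : Function.Surjective g.left.base) (p : ℕ) :
    (ShortComplex.mk (incl g p) (epiK g p) (incl_epiK g p)).ShortExact := by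
  have : Mono (incl g p) := inferInstanceAs (Mono (kernel.ι _))
  cases p with
  | zero =>
    have : Epi (epiK g 0) := epi_d_zero g hg
    exact { exact := ShortComplex.exact_of_f_is_kernel _ (kernelIsKernel (d g 0)) }
  | succ p =>
    have : Epi (epiK g (p + 1)) := (ShortComplex.exact_iff_epi_kernel_lift _).1 (exact_d g hg p)
    have : Mono (incl g p) := inferInstanceAs (Mono (kernel.ι _))
    exact { exact := ShortComplex.exact_of_f_is_kernel _ (isKernelOfComp (incl g p) (d g (p + 1))
      (kernelIsKernel (d g (p + 1))) (incl_epiK g (p + 1)) (epiK_incl g p)) }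

end res

theorem ext_one_eq_zero {D : J ⥤ EtCoh.Ab X} [hI : ∀ j, Injective (D.obj j)] {c : Cocone D}
    (hc : IsColimit c) {U V : X.Etale} [IsAffine V.left] [CompactSpace U.left]
    [QuasiSeparatedSpace U.left] (g : V ⟶ U) (hg : Function.Surjective g.left.base) (p : ℕ)
    (x : Ext (K g p) c.pt 1) (hx : (Ext.mk₀ (epiK g p)).comp x (zero_add 1) = 0) : x = 0 := by
  have hS := shortExact_K g hg
  have := (qcqs_M g (p + 2)).1
  have := (qcqs_M g (p + 2)).2
  have := (qcqs_M g (p + 3)).1
  obtain ⟨y, rfl⟩ := Ext.contravariant_sequence_exact₃ (hS p) _ x hx (show 1 + 0 = 1 from rfl)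
  obtain ⟨φ, rfl⟩ := (Ext.mk₀_bijective _ _).2 y
  obtain ⟨k, ψ, hψ⟩ := exists_fac_P hc (M g (p + 2)).1 (epiK g (p + 1) ≫ φ)
  obtain ⟨k', a, ha⟩ := exists_zero_P hc (M g (p + 3)).1 (d g (p + 2) ≫ ψ) (by
    rw [Category.assoc, hψ, ← Category.assoc, d_epiK, zero_comp])
  have : Epi (epiK g (p + 1)) := (hS (p + 1)).epi_g
  have : Epi (epiK g (p + 2)) := (hS (p + 2)).epi_g
  have hk : incl g (p + 1) ≫ ψ ≫ D.map a = 0 := by
    rw [← cancel_epi (epiK g (p + 2)), comp_zero, ← Category.assoc, epiK_incl]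
    exact (Category.assoc _ _ _).symm.trans ha
  let ψ' : K g (p + 1) ⟶ D.obj k' := (hS (p + 1)).exact.desc (ψ ≫ D.map a) hk
  have hψ' : epiK g (p + 1) ≫ ψ' = ψ ≫ D.map a := (hS (p + 1)).exact.g_desc _ _
  have : Mono (incl g p) := (hS p).mono_f
  have hφ : incl g p ≫ Injective.factorThru ψ' (incl g p) ≫ c.ι.app k' = φ := by
    rw [← Category.assoc, Injective.comp_factorThru, ← cancel_epi (epiK g (p + 1)),
      ← Category.assoc, hψ', Category.assoc, c.w, hψ]
  rw [← hφ, ← Ext.mk₀_comp_mk₀, (hS p).extClass_comp_assoc]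

/-- Filtered colimits of injective sheaves are acyclic over quasi-compact quasi-separated objects. -/
theorem acyclic_colim {D : J ⥤ EtCoh.Ab X} [hI : ∀ j, Injective (D.obj j)] {c : Cocone D}
    (hc : IsColimit c) : ∀ (n : ℕ) (U : X.Etale) [CompactSpace U.left] [QuasiSeparatedSpace U.left]
      (α : Ext (P U) c.pt (n + 1)), α = 0 := by
  intro n
  induction n using Nat.strong_induction_on with
  | _ n ih =>
    intro U _ _ α
    obtain ⟨V, g, hV, hg, hkill⟩ := exists_cover_kill n c.pt U α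
    have hS := shortExact_K g hg
    have hd : (Ext.mk₀ (epiK g 0)).comp α (zero_add (n + 1)) = 0 := by
      let pr : (M g 1).1 ⟶ V := MorphismProperty.Over.homMk (pullback.fst g.left (𝟙 U : U ⟶ U).left)
        (by
          have : g.left ≫ U.hom = V.hom := Over.w g.toCommaMorphism
          exact ((congrArg (pullback.fst g.left (𝟙 U : U ⟶ U).left ≫ ·) this.symm).trans
            ((Category.assoc _ _ _).symm.trans ((congrArg (· ≫ U.hom) pullback.condition).trans
              (congrArg (fun m => m ≫ U.hom) (Category.comp_id _)))))) trivial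
      have e : epiK g 0 = pmap (face g 0 0).1 := by
        change d g 0 = _
        rw [d, Fin.sum_univ_one, Fin.val_zero, pow_zero, one_zsmul]
      have e2 : (face g 0 0).1 = (pr ≫ g : (M g 1).1 ⟶ U) :=
        MorphismProperty.Over.Hom.ext (pullback.condition.trans (Category.comp_id _)).symm
      rw [e, e2]
      exact (congrArg (fun z => (Ext.mk₀ z).comp α (zero_add (n + 1))) (pmap_comp pr g)).trans
        (by rw [← Ext.mk₀_comp_mk₀, Ext.comp_assoc_of_second_deg_zero, hkill, Ext.comp_zero])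
    cases n with
    | zero => exact ext_one_eq_zero hc g hg 0 α hd
    | succ n =>
      have key : ∀ m, m ≤ n → ∀ p, ∀ x : Ext (K g p) c.pt (m + 1), x = 0 := by
        intro m
        induction m with
        | zero =>
          intro _ p x
          have := (qcqs_M g (p + 1)).1
          have := (qcqs_M g (p + 1)).2
          exact ext_one_eq_zero hc g hg p x (ih 0 (by omega) (M g (p + 1)).1 _)
        | succ m ihm =>
          intro hm p x
          have := (qcqs_M g (p + 1)).1
          have := (qcqs_M g (p + 1)).2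
          obtain ⟨y, rfl⟩ := Ext.contravariant_sequence_exact₃ (hS p) _ x
            (ih (m + 1) (by omega) (M g (p + 1)).1 _) (show 1 + (m + 1) = m + 1 + 1 by omega)
          rw [ihm (by omega) (p + 1) y, Ext.comp_zero]
      obtain ⟨y, rfl⟩ := Ext.contravariant_sequence_exact₃ (hS 0) _ α hd
        (show 1 + (n + 1) = n + 1 + 1 by omega)
      rw [key n le_rfl 1 y, Ext.comp_zero]
      rfl

end Groth.Agent.EtSite.ColimH
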