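import Groth.Agent.EtSite.Present
import Mathlib.CategoryTheory.Limits.Types.Filtered

/-!
# Constructible sheaves are compact
-/

set_option autoImplicit false
universe v u

open CategoryTheory CategoryTheory.Limits AlgebraicGeometry Opposite Topology TopologicalSpace

namespace Groth.Agent.EtSite.Compact

open FLCOps Present

variable {X : Scheme.{u}}

/-- A constructible sheaf on a quasi-compact quasi-separated scheme is killed by a positive
integer. -/
theorem exists_killed [CompactSpace X] [QuasiSeparatedSpace X] (F : EtCoh.Ab X)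
    (hF : EtPBC.IsConstructible F) : ∃ n : ℕ, 0 < n ∧ EtCoh.KilledBy n F := by
  classical
  let P : ℕ → AddCommGrpCat.{u + 1} → Prop := fun m A => ∀ a : A, m • a = 0
  have hP : ∀ m, ∀ {A B : AddCommGrpCat.{u + 1}}, (A ≅ B) → P m A → P m B := by
    intro m A B e h b
    obtain ⟨a, rfl⟩ := ((ConcreteCategory.isIso_iff_bijective e.hom).1 inferInstance).2 b
    rw [← map_nsmul, h a, map_zero]
  have key : ∀ x : X, ∃ m : ℕ, 0 < m ∧ x ∈ StrataLocus.locus (P m) F := by
    intro x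
    have := SpecConstr.finite_stalk hF (gpt x)
    refine ⟨Nat.card ((EtCoh.stalk (gpt x)).obj F : AddCommGrpCat.{u + 1}), Nat.card_pos,
      fun Ω _ _ ξ hξ => ?_⟩
    obtain ⟨ε⟩ := SamePoint.nonempty_stalk_iso F (ξ := gpt x) (ξ' := ξ) ((gpt_apply x _).trans hξ.symm)
    exact hP _ ε fun a => card_nsmul_eq_zero'
  choose m hm hx using key
  let τ : X → WithConstructibleTopology X := WithTopology.toTopology _
  have hopen : ∀ x, IsOpen (τ '' StrataLocus.locus (P (m x)) F) := fun x => by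
    rw [WithConstructibleTopology.isOpen_iff, Set.preimage_image_eq _ (WithTopology.toTopology_injective _)]
    exact (StrataImmersion.isOpen_constructibleTopology
      (StrataLocus.isConstructible_locus (hP (m x)) hF)).1
  obtain ⟨T, hT⟩ := isCompact_univ.elim_finite_subcover _ hopen fun z _ => by
    obtain ⟨y, rfl⟩ := WithTopology.toTopology_surjective _ z
    exact Set.mem_iUnion.2 ⟨y, y, hx y, rfl⟩
  refine ⟨T.prod m, Finset.prod_pos fun x _ => hm x, ?_⟩
  intro U s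
  have key2 : ∀ z : U.left, ∃ (V : X.Etale) (g : V ⟶ U), z ∈ Set.range g.left.base ∧
      F.obj.map g.op (T.prod m • s) = 0 := by
    intro z
    refine Sect.gm_eq_zero_iff_locally F z _ ?_
    let ξ := gpt z ≫ U.hom
    obtain ⟨x, hxT, y, hy, hyξ⟩ := Set.mem_iUnion₂.1 (hT (Set.mem_univ (τ (ξ default))))
    have hy' := WithTopology.toTopology_injective _ hyξ
    subst hy'
    obtain ⟨c, hc⟩ := Finset.dvd_prod_of_mem m hxT
    rw [map_nsmul, hc, mul_comm, mul_nsmul', hy _ ξ rfl, smul_zero]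
  choose V g hz hg using key2
  refine Sect.ext_of_cover F (g := g) (mem_smallEtaleTopology_of_points _ _ fun z => ?_) fun z => ?_
  · obtain ⟨v, hv⟩ := hz z
    exact ⟨V z, g z, v, Sieve.ofArrows_mk _ _ z, hv⟩
  · rw [map_zero]
    exact hg z

variable {J : Type v} [SmallCategory J] [IsFiltered J]
  [∀ {Ω : Type u} [Field Ω] [IsSepClosed Ω] (ξ : Spec (CommRingCat.of Ω) ⟶ X),
    PreservesColimitsOfShape J (EtCoh.stalk ξ)]
  [PreservesColimitsOfShape J (CategoryTheory.forget AddCommGrpCat.{u + 1})]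
  {D : J ⥤ EtCoh.Ab X} {c : Cocone D}

theorem comp_ι_map {F : EtCoh.Ab X} {j k : J} (ψ : F ⟶ D.obj j) (a : j ⟶ k) :
    (ψ ≫ D.map a) ≫ c.ι.app k = ψ ≫ c.ι.app j := by
  rw [Category.assoc, c.w]

/-- A map from `j_! ℤ/n` to a filtered colimit which is zero vanishes at a finite stage. -/
theorem exists_zero_of_extZero (hc : IsColimit c) (U : X.Etale) (hU : IsAffine U.left) (n : ℕ)
    {j : J} (ψ : EtPBC.extZeroConst U (ZMod n) ⟶ D.obj j) (h : ψ ≫ c.ι.app j = 0) :
    ∃ (k : J) (a : j ⟶ k), ψ ≫ D.map a = 0 := by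
  have : CompactSpace U.left := inferInstance
  obtain ⟨k, a, ha⟩ := Sect.exists_eq_zero hc U (ψ.hom.app (op U) (canSec U n)) (by
    change (ψ ≫ c.ι.app j).hom.app (op U) (canSec U n) = 0
    rw [h]; rfl)
  exact ⟨k, a, map_ext (ha.trans rfl)⟩

/-- A map from `j_! ℤ/n` to a filtered colimit factors through a finite stage. -/
theorem exists_fac_extZero (hc : IsColimit c) (U : X.Etale) (hU : IsAffine U.left) (n : ℕ)
    (φ : EtPBC.extZeroConst U (ZMod n) ⟶ c.pt) :
    ∃ (k : J) (ψ : EtPBC.extZeroConst U (ZMod n) ⟶ D.obj k), ψ ≫ c.ι.app k = φ := by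
  have : CompactSpace U.left := inferInstance
  have : QuasiSeparatedSpace U.left := inferInstance
  obtain ⟨k₀, t, ht⟩ := Sect.exists_lift hc U (φ.hom.app (op U) (canSec U n))
  obtain ⟨k, a, ha⟩ := Sect.exists_eq_zero hc U (n • t) (by
    rw [map_nsmul, ht, ← map_nsmul, nsmul_canSec, map_zero])
  obtain ⟨ψ, hψ⟩ := exists_map U n ((D.map a).hom.app (op U) t) (by rw [← map_nsmul, ha])
  refine ⟨k, ψ, map_ext ?_⟩
  change (c.ι.app k).hom.app (op U) (ψ.hom.app (op U) (canSec U n)) = _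
  rw [hψ, ← ht, ← c.w a]
  rfl

theorem exists_zero_of_sum (hc : IsColimit c) (n : ℕ) :
    ∀ {b : ℕ} (U : Fin b → X.Etale) (_ : ∀ i, IsAffine (U i).left) {j : J}
      (ψ : (⨁ fun i => EtPBC.extZeroConst (U i) (ZMod n)) ⟶ D.obj j), ψ ≫ c.ι.app j = 0 →
      ∃ (k : J) (a : j ⟶ k), ψ ≫ D.map a = 0 := by
  classical
  intro b U hU j ψ h
  have h1 := fun i => exists_zero_of_extZero hc (U i) (hU i) n
    (biproduct.ι (fun i => EtPBC.extZeroConst (U i) (ZMod n)) i ≫ ψ) (by rw [Category.assoc, h, comp_zero])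
  choose k a hk using h1
  obtain ⟨K, T, hT⟩ := IsFiltered.sup_exists (insert j (Finset.univ.image k))
    (Finset.univ.image fun i : Fin b =>
      (⟨j, k i, Finset.mem_insert_self _ _, Finset.mem_insert_of_mem
        (Finset.mem_image_of_mem k (Finset.mem_univ i)), a i⟩ :
        Σ' (X Y : J) (_ : X ∈ insert j (Finset.univ.image k)) (_ : Y ∈ insert j (Finset.univ.image k)),
          X ⟶ Y))
  refine ⟨K, T (Finset.mem_insert_self _ _), biproduct.hom_ext' _ _ fun i => ?_⟩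
  have e : a i ≫ T (Finset.mem_insert_of_mem (Finset.mem_image_of_mem k (Finset.mem_univ i))) =
      T (Finset.mem_insert_self j _) := hT _ _ (Finset.mem_image.2 ⟨i, Finset.mem_univ i, rfl⟩)
  rw [comp_zero, ← e, Functor.map_comp, ← Category.assoc, ← Category.assoc, hk, zero_comp]

theorem exists_fac_sum (hc : IsColimit c) (n : ℕ) {b : ℕ} (U : Fin b → X.Etale)
    (hU : ∀ i, IsAffine (U i).left) (φ : (⨁ fun i => EtPBC.extZeroConst (U i) (ZMod n)) ⟶ c.pt) :
    ∃ (k : J) (ψ : (⨁ fun i => EtPBC.extZeroConst (U i) (ZMod n)) ⟶ D.obj k), ψ ≫ c.ι.app k = φ := by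
  classical
  choose k ψ hψ using fun i => exists_fac_extZero hc (U i) (hU i) n
    (biproduct.ι (fun i => EtPBC.extZeroConst (U i) (ZMod n)) i ≫ φ)
  obtain ⟨K, hK⟩ := IsFiltered.sup_objs_exists (Finset.univ.image k)
  let r : ∀ i, k i ⟶ K := fun i => (hK (Finset.mem_image_of_mem k (Finset.mem_univ i))).some
  refine ⟨K, biproduct.desc fun i => ψ i ≫ D.map (r i), biproduct.hom_ext' _ _ fun i => ?_⟩
  rw [biproduct.ι_desc_assoc, comp_ι_map, hψ]

variable [CompactSpace X] [QuasiSeparatedSpace X] {F : EtCoh.Ab X}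

theorem exists_fac (hc : IsColimit c) (hF : EtPBC.IsConstructible F) (φ : F ⟶ c.pt) :
    ∃ (k : J) (ψ : F ⟶ D.obj k), ψ ≫ c.ι.app k = φ := by
  obtain ⟨n, hn, hFn⟩ := exists_killed F hF
  obtain ⟨a, b, V, U, hV, hU, ρ, ⟨e⟩⟩ := exists_presentation hn F hF hFn
  obtain ⟨k₀, ψ₀, hψ₀⟩ := exists_fac_sum hc n U hU (cokernel.π ρ ≫ e.inv ≫ φ)
  obtain ⟨k, g, hg⟩ := exists_zero_of_sum hc n V hV (ρ ≫ ψ₀) (by
    rw [Category.assoc, hψ₀, cokernel.condition_assoc, zero_comp])
  refine ⟨k, e.hom ≫ cokernel.desc ρ (ψ₀ ≫ D.map g) (by rw [← Category.assoc, hg]), ?_⟩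
  have h2 : cokernel.desc ρ (ψ₀ ≫ D.map g) (by rw [← Category.assoc, hg]) ≫ c.ι.app k = e.inv ≫ φ := by
    rw [← cancel_epi (cokernel.π ρ), cokernel.π_desc_assoc, comp_ι_map, hψ₀]
  rw [Category.assoc, h2, Iso.hom_inv_id_assoc]

theorem exists_zero (hc : IsColimit c) (hF : EtPBC.IsConstructible F) {j : J} (ψ : F ⟶ D.obj j)
    (h : ψ ≫ c.ι.app j = 0) : ∃ (k : J) (a : j ⟶ k), ψ ≫ D.map a = 0 := by
  obtain ⟨n, hn, hFn⟩ := exists_killed F hF
  obtain ⟨a, b, V, U, hV, hU, ρ, ⟨e⟩⟩ := exists_presentation hn F hF hFn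
  obtain ⟨k, g, hg⟩ := exists_zero_of_sum hc n U hU (cokernel.π ρ ≫ e.inv ≫ ψ) (by
    rw [Category.assoc, Category.assoc, h, comp_zero, comp_zero])
  refine ⟨k, g, ?_⟩
  rw [← cancel_epi e.inv, ← cancel_epi (cokernel.π ρ), comp_zero, comp_zero]
  simpa only [Category.assoc] using hg

theorem exists_eq (hc : IsColimit c) (hF : EtPBC.IsConstructible F) {j : J} (x y : F ⟶ D.obj j)
    (h : x ≫ c.ι.app j = y ≫ c.ι.app j) : ∃ (k : J) (a : j ⟶ k), x ≫ D.map a = y ≫ D.map a := by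
  obtain ⟨k, a, ha⟩ := exists_zero hc hF (x - y) (by rw [Preadditive.sub_comp, h, sub_self])
  exact ⟨k, a, sub_eq_zero.1 (by rw [← Preadditive.sub_comp, ha])⟩

theorem preservesColimitsOfShape_coyoneda {J : Type u} [SmallCategory J] [IsFiltered J] (hF : EtPBC.IsConstructible F) :
    PreservesColimitsOfShape J (coyoneda.obj (op F)) :=
  ⟨fun {D} => ⟨fun {c} hc => ⟨Types.FilteredColimit.isColimitOf' _ _
    (fun φ => by
      obtain ⟨k, ψ, hψ⟩ := exists_fac hc hF φ
      exact ⟨k, ψ, hψ.symm⟩)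
    fun j x y e => exists_eq hc hF x y e⟩⟩⟩

end Groth.Agent.EtSite.Compact
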