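import Groth.Agent.EtSite.FLCBasic
import Groth.Prelude.Def_EtCore

/-!
# A sheaf with a global trivialisation on germs is constant
-/

set_option autoImplicit false
universe u

open CategoryTheory CategoryTheory.Limits AlgebraicGeometry Opposite

namespace Groth.Agent.EtSite.ConstSheafIso

open LocConst

variable {X : Scheme.{u}}

/-- The unique map to the terminal object. -/
noncomputable def toTop (W : X.Etale) : W ⟶ EtCoh.top X :=
  (EtCore.topIsTerminal X).from W

theorem nonempty_iso {F : EtCoh.Ab X} {A : Type (u + 1)} [AddCommGroup A]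
    {φ : A →+ EtCoh.sect F (EtCoh.top X)} (h : GermBij F (EtCoh.top X) φ) :
    Nonempty (F ≅ (constantSheaf X.smallEtaleTopology AddCommGrpCat.{u + 1}).obj (AddCommGrpCat.of A)) := by
  let J := X.smallEtaleTopology
  let τ : (Functor.const X.Etaleᵒᵖ).obj (AddCommGrpCat.of A) ⟶ F.obj :=
    { app := fun W => AddCommGrpCat.ofHom ((F.obj.map (toTop W.unop).op).hom.comp φ)
      naturality := fun W W' k => by
        ext m
        change F.obj.map (toTop W'.unop).op (φ m) = F.obj.map k (F.obj.map (toTop W.unop).op (φ m))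
        rw [← Functor.map_comp_apply]
        exact congrArg (fun a => F.obj.map a (φ m))
          (Quiver.Hom.unop_inj ((EtCore.topIsTerminal X).hom_ext _ _)) }
  have hτ : ∀ (W : X.Etale) (g : W ⟶ EtCoh.top X) (m : A),
      τ.app (op W) m = F.obj.map g.op (φ m) := fun W g m =>
    congrArg (fun a => F.obj.map (Quiver.Hom.op a) (φ m)) ((EtCore.topIsTerminal X).hom_ext _ _)
  have hi : Presheaf.IsLocallyInjective J τ :=
    ⟨fun {W} m m' hm => by
      refine mem_smallEtaleTopology_of_points _ _ fun x => ⟨W.unop, 𝟙 _, x, ?_, rfl⟩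
      change m = m'
      exact (h.map (toTop W.unop) _ _ (tautPt W.unop x)).1 (congrArg _ hm)⟩
  have hs : Presheaf.IsLocallySurjective J τ :=
    ⟨fun {W} s => by
      refine mem_smallEtaleTopology_of_points _ _ fun x => ?_
      let Φ := Scheme.pointSmallEtale (gpt x ≫ W.hom)
      obtain ⟨m, hm⟩ := (h.map (toTop W) _ _ (tautPt W x)).2 (Φ.toPresheafFiber W (tautPt W x) F.obj s)
      obtain ⟨W', g, w, hw, hg⟩ := (Φ.toPresheafFiber_eq_iff' _ _ _ _).1 hm
      refine ⟨W', g, w.left (default : Spec (CommRingCat.of (SeparableClosure (W.left.residueField x)))),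
        ⟨m, ?_⟩, ?_⟩
      · refine (hτ W' (g ≫ toTop W) m).trans ?_
        exact (Functor.map_comp_apply F.obj _ _ _).trans hg
      · have hl : w.left ≫ g.left = gpt x := congrArg CommaMorphism.left hw
        exact (Scheme.Hom.comp_apply _ _ _).symm.trans
          ((congrArg (fun m : _ ⟶ W.left => m.base _) hl).trans (gpt_apply x _))⟩
  have : IsIso ((presheafToSheaf J AddCommGrpCat.{u + 1}).map τ) :=
    (J.W_iff _).1 (J.W_of_isLocallyBijective _)
  exact ⟨sheafificationIso _ ≪≫ (asIso ((presheafToSheaf J AddCommGrpCat.{u + 1}).map τ)).symm⟩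

end Groth.Agent.EtSite.ConstSheafIso
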