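import Groth.Prelude.Def_RDer

/-!
# The second edge map when the lower cohomology vanishes
-/

set_option autoImplicit false
universe v₁ v₂ u₁ u₂

open CategoryTheory CategoryTheory.Limits HomologicalComplex

namespace Groth.Agent.EtSite.EdgeSplit

variable {B : Type u₁} [Category.{v₁} B] [Abelian B]

/-- In a complex of injectives exact below `n`, boundaries split off the cycles in degree `n`. -/
theorem exists_split (K : CochainComplex B ℕ) [∀ i, Injective (K.X i)] :
    ∀ n : ℕ, (∀ i, i < n → K.ExactAt i) →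
      ∃ r : K.cycles n ⟶ K.X ((ComplexShape.up ℕ).prev n),
        K.toCycles ((ComplexShape.up ℕ).prev n) n ≫ r ≫ K.toCycles ((ComplexShape.up ℕ).prev n) n =
          K.toCycles ((ComplexShape.up ℕ).prev n) n := by
  intro n
  induction n with
  | zero =>
    intro _
    refine ⟨0, ?_⟩
    have : K.toCycles ((ComplexShape.up ℕ).prev 0) 0 = 0 := by
      rw [← cancel_mono (K.iCycles 0), toCycles_i, zero_comp]
      exact K.shape _ _ (by simp)
    rw [this]; simp
  | succ i ih =>
    intro hex
    rw [CochainComplex.prev_nat_succ]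
    obtain ⟨r, hr⟩ := ih fun q hq => hex q (by omega)
    let t := K.toCycles ((ComplexShape.up ℕ).prev i) i
    have he : Epi t := by
      have : Epi (K.sc i).toCycles := ((K.sc i).exact_iff_epi_toCycles).1 (hex i (by omega))
      exact this
    have hrt : r ≫ t = 𝟙 _ := by rw [← cancel_epi t, Category.comp_id]; exact hr
    let p : K.X i ⟶ K.cycles i := Injective.factorThru r (K.iCycles i) ≫ t
    have hp : K.iCycles i ≫ p = 𝟙 _ := by
      rw [← Category.assoc, Injective.comp_factorThru, hrt]
    let S := ShortComplex.mk (K.iCycles i) (K.toCycles i (i + 1)) (by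
      rw [← cancel_mono (K.iCycles (i + 1)), Category.assoc, toCycles_i, zero_comp, iCycles_d])
    have hS : S.Exact := by
      refine ShortComplex.exact_of_f_is_kernel S (KernelFork.IsLimit.ofι' _ _ fun {A} x hx => ?_)
      have hd : x ≫ K.d i (i + 1) = 0 := by
        rw [← K.toCycles_i i (i + 1)]
        exact (Category.assoc _ _ _).symm.trans ((congrArg (· ≫ K.iCycles (i + 1)) hx).trans zero_comp)
      exact ⟨K.liftCycles x (i + 1) (by simp) hd, K.liftCycles_i _ _ _ _⟩
    let w := hS.descToInjective (𝟙 (K.X i) - p ≫ K.iCycles i) (by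
      change K.iCycles i ≫ _ = 0
      rw [Preadditive.comp_sub, Category.comp_id, ← Category.assoc, hp, Category.id_comp, sub_self])
    refine ⟨w, ?_⟩
    have hw : K.toCycles i (i + 1) ≫ w = 𝟙 (K.X i) - p ≫ K.iCycles i := hS.comp_descToInjective _ _
    rw [← Category.assoc, hw, Preadditive.sub_comp, Category.id_comp, Category.assoc]
    have hz : K.iCycles i ≫ K.toCycles i (i + 1) = 0 := S.zero
    rw [hz, comp_zero, sub_zero]

variable {C : Type u₂} [Category.{v₂} C] [Abelian C] (Ψ : B ⥤ C) [Ψ.Additive] [PreservesFiniteLimits Ψ]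

theorem isIso_homologyComparison (K : CochainComplex B ℕ) [∀ i, Injective (K.X i)] (n : ℕ)
    (hex : ∀ i, i < n → K.ExactAt i) : IsIso (RDer.homologyComparison Ψ K n) := by
  obtain ⟨r, hr⟩ := exists_split K n hex
  let K' := (Ψ.mapHomologicalComplex (ComplexShape.up ℕ)).obj K
  let p := (ComplexShape.up ℕ).prev n
  let t := K.toCycles p n
  let π := K.homologyπ n
  let s : K.homology n ⟶ K.cycles n := (K.homologyIsCokernel p n rfl).desc
    (CokernelCofork.ofπ (𝟙 (K.cycles n) - r ≫ t) (by
      rw [Preadditive.comp_sub, Category.comp_id, hr, sub_self]))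
  have hπs : π ≫ s = 𝟙 _ - r ≫ t := (K.homologyIsCokernel p n rfl).fac _ WalkingParallelPair.one
  have hsπ : s ≫ π = 𝟙 _ := by
    rw [← cancel_epi π, ← Category.assoc, hπs, Preadditive.sub_comp, Category.id_comp, Category.assoc,
      toCycles_comp_homologyπ, comp_zero, sub_zero, Category.comp_id]
  let cc := RDer.cyclesComparison Ψ K n
  let cinv : Ψ.obj (K.cycles n) ⟶ K'.cycles n := K'.liftCycles (Ψ.map (K.iCycles n))
    ((ComplexShape.up ℕ).next n) rfl (by
      change Ψ.map (K.iCycles n) ≫ Ψ.map (K.d n _) = 0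
      rw [← Ψ.map_comp, iCycles_d, Ψ.map_zero])
  have hci : cinv ≫ K'.iCycles n = Ψ.map (K.iCycles n) := K'.liftCycles_i _ _ _ _
  have h1 : cc ≫ cinv = 𝟙 _ := by
    rw [← cancel_mono (K'.iCycles n), Category.assoc, hci, Category.id_comp]
    exact RDer.cyclesComparison_i Ψ K n
  have h2 : cinv ≫ cc = 𝟙 _ := by
    have : Mono (Ψ.map (K.iCycles n)) := inferInstance
    rw [← cancel_mono (Ψ.map (K.iCycles n)), Category.assoc, Category.id_comp]
    exact (congrArg (cinv ≫ ·) (RDer.cyclesComparison_i Ψ K n)).trans hci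
  let t' : Ψ.obj (K.X p) ⟶ K'.cycles n := K'.toCycles p n
  have ht : Ψ.map t ≫ cinv = t' := by
    refine (cancel_mono (K'.iCycles n)).1 ((Category.assoc _ _ _).trans ((congrArg (Ψ.map t ≫ ·) hci).trans ?_))
    exact ((Ψ.map_comp _ _).symm.trans (congrArg Ψ.map (K.toCycles_i p n))).trans (K'.toCycles_i p n).symm
  have hz : t' ≫ K'.homologyπ n = 0 := K'.toCycles_comp_homologyπ p n
  have e1 : Ψ.map (π ≫ s) ≫ cinv ≫ K'.homologyπ n = cinv ≫ K'.homologyπ n := by
    have e0 : Ψ.map t ≫ cinv ≫ K'.homologyπ n = 0 :=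
      (Category.assoc _ _ _).symm.trans ((congrArg (· ≫ K'.homologyπ n) ht).trans hz)
    rw [hπs, Functor.map_sub, Ψ.map_id, Preadditive.sub_comp, Category.id_comp, Ψ.map_comp,
      Category.assoc, e0, comp_zero, sub_zero]
  refine ⟨Ψ.map s ≫ cinv ≫ K'.homologyπ n, ?_, ?_⟩
  · refine (cancel_epi (K'.homologyπ n)).1 ?_
    refine (RDer.homologyπ_homologyComparison_assoc Ψ K n _).trans ?_
    rw [← Ψ.map_comp_assoc, e1]
    refine ((Category.assoc _ _ _).symm.trans ((congrArg (· ≫ K'.homologyπ n) h1).trans ?_))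
    rw [Category.id_comp]
    exact (Category.comp_id _).symm
  · refine (Category.assoc _ _ _).trans ?_
    refine (congrArg (Ψ.map s ≫ ·) ((Category.assoc _ _ _).trans
      ((congrArg (cinv ≫ ·) (RDer.homologyπ_homologyComparison Ψ K n)).trans
        ((Category.assoc _ _ _).symm.trans ((congrArg (· ≫ Ψ.map π) h2).trans (Category.id_comp _)))))).trans ?_
    rw [← Ψ.map_comp, hsπ, Ψ.map_id]

end Groth.Agent.EtSite.EdgeSplit
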