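import Groth.Agent.EtSite.Compact
import Groth.Agent.EtSite.StrataACC
import Mathlib.CategoryTheory.Subobject.NoetherianObject
import Mathlib.CategoryTheory.Subobject.Limits
import Mathlib.CategoryTheory.Comma.Over.Basic
import Mathlib.CategoryTheory.Filtered.Final

/-!
# Torsion sheaves and constructible sheaves
-/

set_option autoImplicit false
universe u

open CategoryTheory CategoryTheory.Limits AlgebraicGeometry Opposite

namespace Groth.Agent.EtSite.Torsion

open FLCOps Present

variable {X : Scheme.{u}}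

theorem exists_map_germ {F : EtCoh.Ab X} (hF : EtCoh.IsTorsion F) {Ω : Type u} [Field Ω]
    [IsSepClosed Ω] (ξ : Spec (CommRingCat.of Ω) ⟶ X)
    (p : ((EtCoh.stalk ξ).obj F : AddCommGrpCat.{u + 1})) :
    ∃ (A : X.Etale) (_ : IsAffine A.left) (n : ℕ) (_ : 0 < n)
      (φ : EtPBC.extZeroConst A (ZMod n) ⟶ F), p ∈ Set.range ((EtCoh.stalk ξ).map φ) := by
  obtain ⟨A₀, t₀, s, -, rfl⟩ := Sect.exists_gm F ξ p
  obtain ⟨V, g, ⟨v, hv⟩, hfin⟩ := hF A₀ s (Sect.pt t₀)
  obtain ⟨n, hn, hns⟩ := hfin.exists_nsmul_eq_zero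
  obtain ⟨t₁, ht₁⟩ := Sect.exists_pt g t₀ ⟨v, hv⟩
  obtain ⟨A, b, hA, hb⟩ := Sect.exists_affine_nbhd V (Sect.pt t₁)
  obtain ⟨t, ht⟩ := Sect.exists_pt b t₁ hb
  obtain ⟨φ, hφ⟩ := exists_map A n (F.obj.map b.op (F.obj.map g.op s)) (by
    rw [← map_nsmul, hns, map_zero])
  refine ⟨A, hA, n, hn, φ, gm ξ _ A t (canSec A n), ?_⟩
  exact (gm_map φ ξ t _).trans ((congrArg _ hφ).trans ((gm_res F b ht _).trans (gm_res F g ht₁ s)))

theorem isConstructible_biprod [CompactSpace X] [QuasiSeparatedSpace X] {G K : EtCoh.Ab X}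
    (hG : EtPBC.IsConstructible G) (hK : EtPBC.IsConstructible K) :
    EtPBC.IsConstructible (G ⊞ K) :=
  StrataAb.isConstructible_of_shortExact
    ({ r := biprod.fst
       s := biprod.inr
       f_r := biprod.inl_fst
       s_g := biprod.inr_snd
       id := biprod.total } :
      (ShortComplex.mk (biprod.inl : G ⟶ G ⊞ K) biprod.snd biprod.inl_snd).Splitting).shortExact
    hG hK

theorem isConstructible_of_isNoetherianObject [IsNoetherian X] {F : EtCoh.Ab X}
    (hF : EtCoh.IsTorsion F) [IsNoetherianObject F] : EtPBC.IsConstructible F := by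
  let S : Set (Subobject F) :=
    {M | ∃ (G : EtCoh.Ab X) (ψ : G ⟶ F), EtPBC.IsConstructible G ∧ M = imageSubobject ψ}
  let Z : EtCoh.Ab X := EtPBC.extZeroConst (EtCoh.top X) (ZMod 1)
  have hZ : IsZero Z := (IsZero.iff_id_eq_zero _).2 (by simpa using nsmul_extZeroConst (EtCoh.top X) 1)
  obtain ⟨M, ⟨G, ψ, hG, rfl⟩, hmax⟩ := (wellFounded_gt (α := Subobject F)).has_min S
    ⟨_, Z, 0, isConstructible_of_isZero hZ, rfl⟩
  have : Epi ψ := epi_of_stalks _ fun Ω _ _ ξ p => by
    obtain ⟨A, hA, n, hn, φ, r, hr⟩ := exists_map_germ hF ξ p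
    have hle : imageSubobject ψ ≤ imageSubobject (biprod.desc ψ φ) :=
      imageSubobject_le _ (biprod.inl ≫ factorThruImageSubobject (biprod.desc ψ φ)) (by simp)
    have heq : imageSubobject (biprod.desc ψ φ) = imageSubobject ψ :=
      (hle.lt_or_eq.resolve_left (hmax _ ⟨_, biprod.desc ψ φ,
        isConstructible_biprod hG (isConstructible_extZeroConst A hA hn), rfl⟩)).symm
    let e := factorThruImageSubobject ψ
    obtain ⟨q, hq⟩ := (epi_iff_stalks e).1 inferInstance Ω ξ
      ((EtCoh.stalk ξ).map (biprod.inr ≫ factorThruImageSubobject (biprod.desc ψ φ) ≫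
        Subobject.ofLE _ _ heq.le) r)
    refine ⟨q, ?_⟩
    have e1 : (biprod.inr ≫ factorThruImageSubobject (biprod.desc ψ φ) ≫
        Subobject.ofLE _ _ heq.le) ≫ (imageSubobject ψ).arrow = φ := by simp
    calc (EtCoh.stalk ξ).map ψ q
        = (EtCoh.stalk ξ).map (imageSubobject ψ).arrow ((EtCoh.stalk ξ).map e q) := by
          rw [← ConcreteCategory.comp_apply, ← Functor.map_comp, imageSubobject_arrow_comp]
      _ = p := by
          rw [hq, ← ConcreteCategory.comp_apply, ← Functor.map_comp, e1, hr]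
  exact StrataNoeth.isConstructible_of_epi ψ hG

theorem isConstructible_iff_isNoetherianObject [IsNoetherian X] {F : EtCoh.Ab X}
    (hF : EtCoh.IsTorsion F) : EtPBC.IsConstructible F ↔ IsNoetherianObject F := by
  refine ⟨fun h => (isNoetherianObject_iff_monotone_chain_condition F).2 fun c => ?_,
    fun _ => isConstructible_of_isNoetherianObject hF⟩
  obtain ⟨N, hN⟩ := StrataACC.eventually_const h c
  exact ⟨N, fun m hm => (hN m hm).symm⟩

/-! ### A torsion sheaf as a filtered colimit of constructible sheaves -/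

section Colim

variable (F : EtCoh.Ab X)

/-- Presented sheaves over `F`. -/
structure Pres : Type (u + 1) where
  n : ℕ
  hn : 0 < n
  a : ℕ
  b : ℕ
  V : Fin a → X.Etale
  U : Fin b → X.Etale
  hV : ∀ j, IsAffine (V j).left
  hU : ∀ i, IsAffine (U i).left
  rel : (⨁ fun j => EtPBC.extZeroConst (V j) (ZMod n)) ⟶ ⨁ fun i => EtPBC.extZeroConst (U i) (ZMod n)
  gen : (⨁ fun i => EtPBC.extZeroConst (U i) (ZMod n)) ⟶ F
  w : rel ≫ gen = 0

variable {F}

/-- The object over `F` attached to a presentation. -/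
noncomputable def Pres.over (o : Pres F) : Over F := Over.mk (cokernel.desc o.rel o.gen o.w)

/-- The index category: presented sheaves over `F`. -/
abbrev Idx (F : EtCoh.Ab X) : Type (u + 1) := InducedCategory (Over F) (Pres.over (F := F))

/-- The diagram of presented sheaves. -/
noncomputable def diagram (F : EtCoh.Ab X) : Idx F ⥤ EtCoh.Ab X :=
  inducedFunctor _ ⋙ Over.forget F

/-- The tautological cocone. -/
noncomputable def taut (F : EtCoh.Ab X) : Cocone (diagram F) where
  pt := F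
  ι := { app := fun o => (Pres.over o).hom, naturality := fun _ _ f => by
          dsimp [diagram]
          exact (Over.w _).trans (Category.comp_id _).symm }

variable [CompactSpace X] [QuasiSeparatedSpace X]

theorem isConstructible_obj (o : Idx F) : EtPBC.IsConstructible ((diagram F).obj o) :=
  StrataAb.isConstructible_cokernel (Pres.rel o)
    (isConstructible_biproduct _ fun j => isConstructible_extZeroConst _ (o.hV j) o.hn)
    (isConstructible_biproduct _ fun i => isConstructible_extZeroConst _ (o.hU i) o.hn)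

theorem exists_iso {G : EtCoh.Ab X} (hG : EtPBC.IsConstructible G) (h : G ⟶ F) :
    ∃ (o : Idx F), Nonempty (Over.mk h ≅ Pres.over o) := by
  obtain ⟨n, hn, hGn⟩ := Compact.exists_killed G hG
  obtain ⟨a, b, V, U, hV, hU, φ, ⟨e⟩⟩ := exists_presentation hn G hG hGn
  refine ⟨⟨n, hn, a, b, V, U, hV, hU, φ, cokernel.π φ ≫ e.inv ≫ h,
    by rw [cokernel.condition_assoc, zero_comp]⟩, ⟨Over.isoMk e ?_⟩⟩
  change e.hom ≫ cokernel.desc _ _ _ = h
  rw [← cancel_epi e.inv, Iso.inv_hom_id_assoc, ← cancel_epi (cokernel.π φ), cokernel.π_desc]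

theorem isFiltered_idx : IsFiltered (Idx F) where
  cocone_objs o₁ o₂ := by
    obtain ⟨o, ⟨e⟩⟩ := exists_iso (isConstructible_biprod (isConstructible_obj o₁)
      (isConstructible_obj o₂)) (biprod.desc (taut F |>.ι.app o₁) (taut F |>.ι.app o₂))
    exact ⟨o, InducedCategory.homMk (Over.homMk biprod.inl (biprod.inl_desc _ _) ≫ e.hom),
      InducedCategory.homMk (Over.homMk biprod.inr (biprod.inr_desc _ _) ≫ e.hom), trivial⟩
  cocone_maps {o₁ o₂} f g := by
    let f' := (diagram F).map f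
    let g' := (diagram F).map g
    have hfg : (f' - g') ≫ (taut F).ι.app o₂ = 0 := by
      rw [Preadditive.sub_comp, sub_eq_zero]
      exact ((taut F).w f).trans ((taut F).w g).symm
    obtain ⟨o, ⟨e⟩⟩ := exists_iso (StrataAb.isConstructible_cokernel (f' - g')
      (isConstructible_obj o₁) (isConstructible_obj o₂)) (cokernel.desc _ _ hfg)
    let q : Pres.over o₂ ⟶ Over.mk (cokernel.desc _ _ hfg) :=
      Over.homMk (cokernel.π (f' - g')) (cokernel.π_desc _ _ _)
    refine ⟨o, InducedCategory.homMk (q ≫ e.hom), InducedCategory.hom_ext ?_⟩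
    have h0 : f' ≫ cokernel.π (f' - g') = g' ≫ cokernel.π (f' - g') :=
      sub_eq_zero.1 ((Preadditive.sub_comp _ _ _).symm.trans (cokernel.condition (f' - g')))
    change f.hom ≫ q ≫ e.hom = g.hom ≫ q ≫ e.hom
    rw [← Category.assoc, ← Category.assoc]
    exact congrArg (· ≫ e.hom) (Over.OverMorphism.ext h0)
  nonempty := by
    let Z : EtCoh.Ab X := EtPBC.extZeroConst (EtCoh.top X) (ZMod 1)
    have hZ : IsZero Z := (IsZero.iff_id_eq_zero _).2 (by simpa using nsmul_extZeroConst (EtCoh.top X) 1)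
    obtain ⟨o, -⟩ := exists_iso (F := F) (isConstructible_of_isZero hZ) 0
    exact ⟨o⟩

theorem nonempty_colimit_iso (F : EtCoh.Ab X) (hF : EtCoh.IsTorsion F) :
    Nonempty ((colimit.cocone (diagram F)).pt ≅ F) := by
  have := isFiltered_idx (F := F)
  let L := colimit.cocone (diagram F)
  let hL := colimit.isColimit (diagram F)
  let γ : L.pt ⟶ F := hL.desc (taut F)
  have hγ : ∀ o, L.ι.app o ≫ γ = (taut F).ι.app o := fun o => hL.fac (taut F) o
  refine ⟨?_⟩
  have : IsIso γ := isIso_of_stalks γ fun Ω _ _ ξ => by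
    let hS : IsColimit ((EtCoh.stalk ξ).mapCocone L) := isColimitOfPreserves _ hL
    rw [ConcreteCategory.isIso_iff_bijective]
    refine ⟨(injective_iff_map_eq_zero ((EtCoh.stalk ξ).map γ).hom).2 fun q hq => ?_, fun p => ?_⟩
    · obtain ⟨o, x, rfl⟩ := Concrete.isColimit_exists_rep (diagram F ⋙ EtCoh.stalk ξ) hS q
      let h := (taut F).ι.app o
      have hx : (EtCoh.stalk ξ).map h x = 0 := by
        refine (congrArg (fun m => (ConcreteCategory.hom ((EtCoh.stalk ξ).map m)) x) (hγ o).symm).trans ?_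
        refine (ConcreteCategory.congr_hom ((EtCoh.stalk ξ).map_comp (L.ι.app o) γ) x).trans ?_
        exact hq
      obtain ⟨y, hy⟩ := (ShortComplex.ab_exact_iff _).1 ((exact_iff_stalks _).1
        (ShortComplex.exact_of_f_is_kernel (ShortComplex.mk (kernel.ι h) h (kernel.condition h))
          (kernelIsKernel h)) Ω ξ) x hx
      obtain ⟨n, hn, hn'⟩ := Compact.exists_killed _ (isConstructible_obj o)
      obtain ⟨A, t, k, hA, rfl⟩ := Sect.exists_gm (kernel h) ξ y
      obtain ⟨κ, hκ⟩ := exists_map A n k (killedBy_of_mono (kernel.ι h) ((killedBy_iff _ n).1 hn') A k)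
      have hz : (κ ≫ kernel.ι h) ≫ h = 0 := by rw [Category.assoc, kernel.condition, comp_zero]
      obtain ⟨o', ⟨e⟩⟩ := exists_iso (StrataAb.isConstructible_cokernel (κ ≫ kernel.ι h)
        (isConstructible_extZeroConst A hA hn) (isConstructible_obj o)) (cokernel.desc _ h hz)
      let q : o ⟶ o' := InducedCategory.homMk (Over.homMk (U := Pres.over o)
        (V := Over.mk (cokernel.desc _ h hz)) (cokernel.π _) (cokernel.π_desc _ _ _) ≫ e.hom)
      change (EtCoh.stalk ξ).map (L.ι.app o) x = 0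
      rw [← L.w q, Functor.map_comp, ConcreteCategory.comp_apply]
      have h0 : (EtCoh.stalk ξ).map ((diagram F).map q) x = 0 := by
        change (EtCoh.stalk ξ).map (cokernel.π (κ ≫ kernel.ι h) ≫ e.hom.left) x = 0
        rw [Functor.map_comp, ConcreteCategory.comp_apply, ← hy]
        change (EtCoh.stalk ξ).map e.hom.left ((EtCoh.stalk ξ).map (cokernel.π (κ ≫ kernel.ι h))
          ((EtCoh.stalk ξ).map (kernel.ι h) (gm ξ (kernel h) A t k))) = 0
        rw [← hκ, ← gm_map κ ξ t]
        have h1 : κ ≫ kernel.ι h ≫ cokernel.π (κ ≫ kernel.ι h) = 0 := by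
          rw [← Category.assoc, cokernel.condition]
        refine (congrArg ((EtCoh.stalk ξ).map e.hom.left) ?_).trans (map_zero ((EtCoh.stalk ξ).map e.hom.left).hom)
        refine Eq.trans ?_ ((congrArg (fun m => (ConcreteCategory.hom ((EtCoh.stalk ξ).map m))
          (gm ξ _ A t (canSec A n))) h1).trans (by rw [Functor.map_zero]; rfl))
        rw [Functor.map_comp, Functor.map_comp]
        rfl
      rw [h0, map_zero]
    · obtain ⟨A, hA, n, hn, φ, r, hr⟩ := exists_map_germ hF ξ p
      obtain ⟨o, ⟨e⟩⟩ := exists_iso (isConstructible_extZeroConst A hA hn) φ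
      refine ⟨(EtCoh.stalk ξ).map (e.hom.left ≫ L.ι.app o) r, ?_⟩
      rw [← ConcreteCategory.comp_apply, ← Functor.map_comp]
      refine Eq.trans ?_ hr
      refine congrArg (fun m => (ConcreteCategory.hom ((EtCoh.stalk ξ).map m)) r) ?_
      exact (Category.assoc _ _ _).trans ((congrArg (e.hom.left ≫ ·) (hγ o)).trans (Over.w e.hom))
  exact asIso γ

theorem exists_filtered_colimit (F : EtCoh.Ab X) (hF : EtCoh.IsTorsion F) :
    ∃ (J : Type (u + 1)) (_ : SmallCategory J) (_ : IsFiltered J) (D : J ⥤ EtCoh.Ab X)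
      (c : Cocone D) (_ : IsColimit c), (∀ j, EtPBC.IsConstructible (D.obj j)) ∧ Nonempty (c.pt ≅ F) :=
  ⟨Idx F, inferInstance, isFiltered_idx, diagram F, _, colimit.isColimit _, isConstructible_obj,
    nonempty_colimit_iso F hF⟩

/-- Colimit over a cofinal class of presented sheaves over a torsion sheaf. -/
theorem exists_filtered_colimit_of (F : EtCoh.Ab X) (hF : EtCoh.IsTorsion F)
    (Q : EtCoh.Ab X → Prop) (h : ∀ (G : EtCoh.Ab X) (f : G ⟶ F), EtPBC.IsConstructible G →
      ∃ (G' : EtCoh.Ab X) (f' : G' ⟶ F) (q : G ⟶ G'), q ≫ f' = f ∧ EtPBC.IsConstructible G' ∧ Q G')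
    (hQ : ∀ {G G' : EtCoh.Ab X}, (G ≅ G') → Q G → Q G') :
    ∃ (J : Type (u + 1)) (_ : SmallCategory J) (_ : IsFiltered J) (D : J ⥤ EtCoh.Ab X)
      (c : Cocone D) (_ : IsColimit c), Nonempty (c.pt ≅ F) ∧
        ∀ j, EtPBC.IsConstructible (D.obj j) ∧ Q (D.obj j) := by
  have := isFiltered_idx (F := F)
  let P : ObjectProperty (Idx F) := fun o => Q ((diagram F).obj o)
  have hP : ∀ o, ∃ c : P.FullSubcategory, Nonempty (o ⟶ P.ι.obj c) := fun o => by
    obtain ⟨G', f', q, hq, hG', hQ'⟩ := h _ ((taut F).ι.app o) (isConstructible_obj o)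
    obtain ⟨o', ⟨e⟩⟩ := exists_iso hG' f'
    exact ⟨⟨o', hQ ((Over.forget F).mapIso e) hQ'⟩,
      ⟨InducedCategory.homMk (Over.homMk (U := Pres.over o) (V := Over.mk f') q hq ≫ e.hom)⟩⟩
  have hf : IsFiltered P.FullSubcategory :=
    IsFiltered.of_exists_of_isFiltered_of_fullyFaithful P.ι hP
  have : P.ι.Final := Functor.final_of_exists_of_isFiltered_of_fullyFaithful _ hP
  exact ⟨P.FullSubcategory, inferInstance, hf, P.ι ⋙ diagram F, _,
    (Functor.Final.isColimitWhiskerEquiv P.ι _).symm (colimit.isColimit _),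
    nonempty_colimit_iso F hF, fun j => ⟨isConstructible_obj j.obj, j.property⟩⟩

end Colim

end Groth.Agent.EtSite.Torsion
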