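import Groth.Agent.EtSite.ColimCohom
import Groth.Agent.EtSite.Torsion

/-!
# Effacing cohomology of constructible sheaves by torsion sheaves
-/

set_option autoImplicit false
universe u

open CategoryTheory CategoryTheory.Limits AlgebraicGeometry Opposite CategoryTheory.Abelian

namespace Groth.Agent.EtSite.Efface

open FLCOps Present

variable {X : Scheme.{u}}

theorem injective_app {F G : EtCoh.Ab X} (f : F ⟶ G) [Mono f] (U : X.Etale) :
    Function.Injective (f.hom.app (op U)) := by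
  have : Mono f.hom := inferInstanceAs (Mono ((sheafToPresheaf _ _).map f))
  exact (AddCommGrpCat.mono_iff_injective _).1 (inferInstanceAs (Mono (f.hom.app (op U))))

/-- Multiplication by a positive integer is injective on a free sheaf. -/
theorem mono_nsmul_P (W : X.Etale) {N : ℕ} (hN : 0 < N) : Mono (N • 𝟙 (FreeOn.P W)) := by
  refine mono_of_stalks _ fun Ω _ _ ξ => ?_
  let T := (Scheme.pointSmallEtale ξ).fiber.obj W
  let A := AddCommGrpCat.of (T →₀ ULift.{u + 1} ℤ)
  obtain ⟨h, hh⟩ := FreeOn.exists_stalk_desc ξ (A := A) (fun x => Finsupp.single x (1 : ULift ℤ))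
  let g : A ⟶ (EtCoh.stalk ξ).obj (FreeOn.P W) := AddCommGrpCat.ofHom
    (Finsupp.liftAddHom fun x => (zmultiplesHom _ (FreeOn.e ξ W x)).comp AddEquiv.ulift.toAddMonoidHom)
  have hgh : h ≫ g = 𝟙 _ := FreeOn.stalk_hom_ext ξ fun x => by
    change g (h (FreeOn.e ξ W x)) = _
    rw [hh]
    change (Finsupp.liftAddHom _ : _ →+ _) (Finsupp.single x (1 : ULift ℤ)) = _
    rw [Finsupp.liftAddHom_apply_single]
    exact one_zsmul _
  rw [injective_iff_map_eq_zero]
  intro p hp
  rw [Functor.map_nsmul, CategoryTheory.Functor.map_id] at hp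
  have hp' : N • p = 0 := by exact hp
  have h0 : h p = 0 := by
    have h1 : N • h p = 0 := by rw [← map_nsmul, hp', map_zero]
    ext x
    have h2 : N • (h p x).down = 0 := congrArg (fun q : T →₀ ULift ℤ => (q x).down) h1
    exact (nsmul_eq_zero_iff_right hN.ne').1 h2
  rw [← ConcreteCategory.id_apply (C := AddCommGrpCat) p, ← hgh, ConcreteCategory.comp_apply, h0,
    map_zero]

theorem exists_divide (W : X.Etale) {N : ℕ} (hN : 0 < N) {I : EtCoh.Ab X} [Injective I]
    (φ : FreeOn.P W ⟶ I) : ∃ ψ : FreeOn.P W ⟶ I, N • ψ = φ := by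
  have := mono_nsmul_P W hN
  refine ⟨Injective.factorThru φ (N • 𝟙 (FreeOn.P W)), ?_⟩
  have := Injective.comp_factorThru φ (N • 𝟙 (FreeOn.P W))
  rwa [Preadditive.nsmul_comp, Category.id_comp] at this

/-- The multiplications used to invert all positive integers. -/
noncomputable abbrev mulDiagram (I : EtCoh.Ab X) : ℕ ⥤ EtCoh.Ab X :=
  Functor.ofSequence (X := fun _ => I) fun k => (k + 1) • 𝟙 I

theorem mulDiagram_map (I : EtCoh.Ab X) (k : ℕ) :
    (mulDiagram I).map (homOfLE (Nat.zero_le k)) = k.factorial • 𝟙 I := by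
  induction k with
  | zero => rw [Nat.factorial_zero, one_smul]; exact (mulDiagram I).map_id 0
  | succ k ih =>
    rw [← homOfLE_comp (Nat.zero_le k) (Nat.le_succ k), Functor.map_comp, ih,
      Functor.ofSequence_map_homOfLE_succ]
    erw [Preadditive.nsmul_comp, Category.id_comp, smul_smul]
    rw [Nat.factorial_succ, mul_comm (k + 1)]
    rfl

instance preservesFiltered₀ : PreservesFilteredColimitsOfSize.{0, 0} (CategoryTheory.forget AddCommGrpCat.{u + 1}) :=
  preservesFilteredColimitsOfSize_shrink.{0, u + 1, 0, u + 1} _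

/-- The `k`-th map into the localisation. -/
noncomputable def ιk (I : EtCoh.Ab X) (k : ℕ) : I ⟶ colimit (mulDiagram I) := colimit.ι (mulDiagram I) k

theorem nsmul_ιk (I : EtCoh.Ab X) (k : ℕ) : k.factorial • ιk I k = ιk I 0 := by
  have h := colimit.w (mulDiagram I) (homOfLE (Nat.zero_le k))
  rw [mulDiagram_map] at h
  calc k.factorial • ιk I k = k.factorial • (𝟙 I ≫ ιk I k) := by rw [Category.id_comp]
    _ = (k.factorial • 𝟙 I) ≫ ιk I k := (Preadditive.nsmul_comp ..).symm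
    _ = ιk I 0 := h

theorem exists_lift_P (W : X.Etale) [CompactSpace W.left] [QuasiSeparatedSpace W.left]
    {I : EtCoh.Ab X} [Injective I] (φ : FreeOn.P W ⟶ colimit (mulDiagram I)) :
    ∃ ψ : FreeOn.P W ⟶ I, ψ ≫ ιk I 0 = φ := by
  obtain ⟨k, ψ₁, hψ₁⟩ := ColimH.exists_fac_P (colimit.isColimit (mulDiagram I)) W φ
  let ψ : FreeOn.P W ⟶ I := ψ₁
  have hψ : ψ ≫ ιk I k = φ := hψ₁
  obtain ⟨ψ', hd⟩ := exists_divide W k.factorial_pos ψ
  rw [← hd] at hψ
  refine ⟨ψ', ?_⟩
  rw [← hψ, ← nsmul_ιk I k, Preadditive.comp_nsmul]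
  exact (Preadditive.nsmul_comp _ _ _).symm

instance epi_ι (I : EtCoh.Ab X) [Injective I] : Epi (ιk I 0) :=
  epi_of_stalks _ fun Ω _ _ ξ p => by
    obtain ⟨A₀, t₀, s, -, rfl⟩ := Sect.exists_gm (colimit (mulDiagram I)) ξ p
    obtain ⟨A, b, hA, hb⟩ := Sect.exists_affine_nbhd A₀ (Sect.pt t₀)
    obtain ⟨t, ht⟩ := Sect.exists_pt b t₀ hb
    obtain ⟨φ, hφ⟩ := FreeOn.exists_hom A ((colimit (mulDiagram I)).obj.map b.op s)
    obtain ⟨ψ, rfl⟩ := exists_lift_P A φ
    refine ⟨gm ξ I A t (ψ.hom.app (op A) (FreeOn.can A)), ?_⟩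
    exact (gm_map _ ξ t _).trans ((congrArg _ hφ).trans (gm_res _ b ht s))

theorem acyclic_kernel [CompactSpace X] [QuasiSeparatedSpace X] (I : EtCoh.Ab X) [Injective I]
    (q : ℕ) (x : EtCoh.H X (kernel (ιk I 0)) (q + 1)) : x = 0 := by
  let f := ιk I 0
  have hS : (ShortComplex.mk (kernel.ι f) f (kernel.condition f)).ShortExact :=
    { exact := ShortComplex.exact_of_f_is_kernel _ (kernelIsKernel f) }
  obtain ⟨e⟩ := FreeOn.nonempty_top_iso (X := X)
  have : CompactSpace (EtCoh.top X).left := ‹CompactSpace X›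
  have : QuasiSeparatedSpace (EtCoh.top X).left := ‹QuasiSeparatedSpace X›
  obtain ⟨z, rfl⟩ := Ext.covariant_sequence_exact₁ _ hS x (Ext.eq_zero_of_injective _) rfl
  cases q with
  | zero =>
    obtain ⟨φ, rfl⟩ := (Ext.mk₀_bijective _ _).2 z
    obtain ⟨ψ, hψ⟩ := exists_lift_P (EtCoh.top X) (e.hom ≫ φ)
    have hφ : φ = (e.inv ≫ ψ) ≫ f := by rw [Category.assoc, hψ, Iso.inv_hom_id_assoc]
    rw [hφ, ← Ext.mk₀_comp_mk₀]
    exact (Ext.comp_assoc _ _ _ (zero_add 0) (zero_add 1) (by omega)).trans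
      (by rw [hS.comp_extClass, Ext.comp_zero])
  | succ q =>
    have : ∀ k, Injective ((mulDiagram I).obj k) := fun _ => ‹Injective I›
    have h1 := ColimH.acyclic_colim (colimit.isColimit (mulDiagram I)) q (EtCoh.top X)
      ((Ext.mk₀ e.hom).comp z (zero_add (q + 1)))
    have h2 : z = 0 := by
      rw [← Ext.mk₀_id_comp z, ← e.inv_hom_id, ← Ext.mk₀_comp_mk₀_assoc]
      exact (congrArg (fun t => (Ext.mk₀ e.inv).comp t (zero_add (q + 1))) h1).trans (Ext.comp_zero ..)
    rw [h2, Ext.zero_comp]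

theorem isTorsion_kernel (I : EtCoh.Ab X) :
    EtCoh.IsTorsion (kernel (ιk I 0)) := by
  intro U s x
  let f := ιk I 0
  obtain ⟨A, g, hA, v, hv⟩ := Sect.exists_affine_nbhd U x
  refine ⟨A, g, ⟨v, hv⟩, ?_⟩
  let s' := (kernel f).obj.map g.op s
  have hf : f.hom.app (op A) ((kernel.ι f).hom.app (op A) s') = 0 := by
    change (kernel.ι f ≫ f).hom.app (op A) s' = 0
    rw [kernel.condition]; rfl
  obtain ⟨k, a, ha⟩ := Sect.exists_eq_zero (colimit.isColimit (mulDiagram I)) A _ hf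
  rw [Subsingleton.elim a (homOfLE (Nat.zero_le k)), mulDiagram_map] at ha
  replace ha := (nsmul_app k.factorial (𝟙 I) A _).symm.trans ha
  refine isOfFinAddOrder_iff_nsmul_eq_zero.2 ⟨_, k.factorial_pos, ?_⟩
  refine injective_app (kernel.ι f) A ?_
  rw [map_nsmul, map_zero]
  exact ha

theorem exists_efface [CompactSpace X] [QuasiSeparatedSpace X] (F : EtCoh.Ab X) {n : ℕ} (hn : 0 < n)
    (hF : EtCoh.KilledBy n F) :
    ∃ (T : EtCoh.Ab X) (v : F ⟶ T), Mono v ∧ EtCoh.IsTorsion T ∧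
      ∀ (q : ℕ) (x : EtCoh.H X T (q + 1)), x = 0 := by
  let I := Injective.under F
  let f := ιk I 0
  have h0 : Injective.ι F ≫ f = 0 := by
    obtain ⟨c, hc⟩ := Nat.dvd_factorial hn le_rfl
    change Injective.ι F ≫ ιk I 0 = 0
    rw [← nsmul_ιk I n, Preadditive.comp_nsmul, ← Category.id_comp (Injective.ι F ≫ _),
      ← Preadditive.nsmul_comp, hc, mul_comm, mul_nsmul', (killedBy_iff F n).1 hF, smul_zero, zero_comp]
  exact ⟨kernel f, kernel.lift f (Injective.ι F) h0, mono_of_mono_fac (kernel.lift_ι f _ h0),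
    isTorsion_kernel I, acyclic_kernel I⟩

end Groth.Agent.EtSite.Efface
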