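import Groth.Agent.EtSite.SuppPull
import Groth.Agent.EtSite.PushEpi
import Groth.Agent.EtMV.EtaleRestr

/-!
# Étale excision for sections with support
-/

set_option autoImplicit false
universe u

open CategoryTheory CategoryTheory.Limits AlgebraicGeometry Opposite EtShriek

namespace Groth.Agent.EtSite.Excision

variable {X X' U U' : Scheme.{u}} (f : X' ⟶ X) [Etale f] [JCont f] (j : U ⟶ X) [IsOpenImmersion j]
  (j' : U' ⟶ X') (hU' : Set.range j'.base = f.base ⁻¹' Set.range j.base)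
  (hZ : Set.BijOn f.base (Set.range j'.base)ᶜ (Set.range j.base)ᶜ)
  (hκ : ∀ x' : ↥X', x' ∉ Set.range j'.base → Function.Surjective (f.residueFieldMap x'))

/-- Restriction of global sections along an étale morphism. -/
noncomputable def tMap : (compEtale f).obj (EtCoh.top X') ⟶ EtCoh.top X :=
  MorphismProperty.Over.homMk f ((Category.comp_id _).trans (Category.id_comp _).symm) trivial

include hU' hZ hκ in
/-- A geometric point outside `U` lifts uniquely. -/
theorem lift_unique {Ω : Type u} [Field Ω] (l₁ l₂ : Spec (CommRingCat.of Ω) ⟶ X')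
    (h : l₁ ≫ f = l₂ ≫ f) (hout : f.base (l₁.base default) ∉ Set.range j.base) : l₁ = l₂ := by
  obtain ⟨⟨x₁, a₁⟩, rfl⟩ := (Scheme.SpecToEquivOfField Ω X').symm.surjective l₁
  obtain ⟨⟨x₂, a₂⟩, rfl⟩ := (Scheme.SpecToEquivOfField Ω X').symm.surjective l₂
  let E := Scheme.SpecToEquivOfField Ω X
  have key : ∀ (x : X') (a : X'.residueField x ⟶ CommRingCat.of Ω),
      E.symm ⟨f.base x, f.residueFieldMap x ≫ a⟩ = (Spec.map a ≫ X'.fromSpecResidueField x) ≫ f := by
    intro x a
    rw [Category.assoc, ← Scheme.Hom.SpecMap_residueFieldMap_fromSpecResidueField, ← Category.assoc,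
      ← Spec.map_comp]
    rfl
  have hx₁ : ((Scheme.SpecToEquivOfField Ω X').symm ⟨x₁, a₁⟩).base default = x₁ :=
    (Scheme.Hom.comp_apply _ _ _).trans (Scheme.fromSpecResidueField_apply x₁ _)
  rw [hx₁] at hout
  have h' : E.symm ⟨f.base x₁, f.residueFieldMap x₁ ≫ a₁⟩ = E.symm ⟨f.base x₂, f.residueFieldMap x₂ ≫ a₂⟩ :=
    (key x₁ a₁).trans (h.trans (key x₂ a₂).symm)
  have hs := E.symm.injective h'
  have h1 : x₁ ∉ Set.range j'.base := by rw [hU']; exact hout
  have h2 : x₂ ∉ Set.range j'.base := by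
    rw [hU', Set.mem_preimage, ← show f.base x₁ = f.base x₂ from congrArg Sigma.fst hs]
    exact hout
  obtain rfl : x₁ = x₂ := hZ.injOn h1 h2 (congrArg Sigma.fst hs)
  have ha : f.residueFieldMap x₁ ≫ a₁ = f.residueFieldMap x₁ ≫ a₂ := eq_of_heq (Sigma.mk.inj hs).2
  have : a₁ = a₂ := by
    ext y
    obtain ⟨z, rfl⟩ := hκ x₁ h1 y
    exact ConcreteCategory.congr_hom ha z
  rw [this]

variable (G : EtCoh.Ab X)
  (hG : ∀ (W : X.Etale) (s : EtCoh.sect G W) (Ω : Type u) [Field Ω] [IsSepClosed Ω]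
    (ξ : Spec (CommRingCat.of Ω) ⟶ X) (t : (Scheme.pointSmallEtale ξ).fiber.obj W),
    ξ.base default ∈ Set.range j.base → (Scheme.pointSmallEtale ξ).toPresheafFiber W t G.obj s = 0)

include hU' hZ hκ hG in
/-- A sheaf supported on `Z` has the same sections on `X` and on `X'`. -/
theorem bijective_res : Function.Bijective (G.obj.map (tMap f).op) := by
  let W₀ := (compEtale f).obj (EtCoh.top X')
  refine ⟨(injective_iff_map_eq_zero (G.obj.map (tMap f).op).hom).2 fun s hs => ?_, fun s' => ?_⟩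
  · refine SuppPull.sect_eq_zero G _ s fun Ω _ _ ξ t => ?_
    by_cases hx : ξ.base default ∈ Set.range j.base
    · exact hG _ s Ω ξ t hx
    obtain ⟨x', -, hx'⟩ := hZ.surjOn hx
    obtain ⟨l, hl, -⟩ := Scheme.exists_fac_of_etale_of_isSepClosed f ξ x' hx'
    let Φ := Scheme.pointSmallEtale ξ
    let τ : Φ.fiber.obj W₀ := Over.homMk l ((congrArg (l ≫ ·) (Category.id_comp f)).trans hl)
    have ht : Φ.fiber.map (tMap f) τ = t := Over.OverMorphism.ext
      ((hl.trans (Over.w t).symm).trans (Category.comp_id _))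
    rw [← ht, ← Φ.toPresheafFiber_w_apply]
    exact (congrArg (Φ.toPresheafFiber W₀ τ G.obj).hom hs).trans (map_zero (Φ.toPresheafFiber W₀ τ G.obj).hom)
  -- `σ` on `V` has everywhere the germs of `s'`
  let P : ∀ (V : X.Etale), EtCoh.sect G V → Prop := fun V σ =>
    ∀ (Ω : Type u) [Field Ω] [IsSepClosed Ω] (ξ : Spec (CommRingCat.of Ω) ⟶ X)
      (t : (Scheme.pointSmallEtale ξ).fiber.obj V) (τ : (Scheme.pointSmallEtale ξ).fiber.obj W₀),
      (Scheme.pointSmallEtale ξ).toPresheafFiber V t G.obj σ =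
        (Scheme.pointSmallEtale ξ).toPresheafFiber W₀ τ G.obj s'
  have hres : ∀ {V V' : X.Etale} (g : V' ⟶ V) (σ : EtCoh.sect G V), P V σ → P V' (G.obj.map g.op σ) :=
    fun g σ h Ω _ _ ξ t τ => ((Scheme.pointSmallEtale ξ).toPresheafFiber_w_apply g t G.obj σ).trans (h Ω ξ _ τ)
  have huniq : ∀ (V : X.Etale) (σ σ' : EtCoh.sect G V), P V σ → P V σ' → σ = σ' := fun V σ σ' h h' => by
    refine sub_eq_zero.1 (SuppPull.sect_eq_zero G V (σ - σ') fun Ω _ _ ξ t => ?_)
    refine (map_sub ((Scheme.pointSmallEtale ξ).toPresheafFiber V t G.obj).hom σ σ').trans (sub_eq_zero.2 ?_)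
    by_cases hx : ξ.base default ∈ Set.range j.base
    · exact (hG V σ Ω ξ t hx).trans (hG V σ' Ω ξ t hx).symm
    obtain ⟨x', -, hx'⟩ := hZ.surjOn hx
    obtain ⟨l, hl, -⟩ := Scheme.exists_fac_of_etale_of_isSepClosed f ξ x' hx'
    let τ : (Scheme.pointSmallEtale ξ).fiber.obj W₀ :=
      Over.homMk l ((congrArg (l ≫ ·) (Category.id_comp f)).trans hl)
    exact (h Ω ξ t τ).trans (h' Ω ξ t τ).symm
  have hP₀ : P W₀ s' := fun Ω _ _ ξ t τ => by
    by_cases hx : ξ.base default ∈ Set.range j.base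
    · exact (hG W₀ s' Ω ξ t hx).trans (hG W₀ s' Ω ξ τ hx).symm
    have et : t.left ≫ f = ξ := (congrArg (t.left ≫ ·) (Category.id_comp f).symm).trans (Over.w t)
    have eτ : τ.left ≫ f = ξ := (congrArg (τ.left ≫ ·) (Category.id_comp f).symm).trans (Over.w τ)
    have : t = τ := Over.OverMorphism.ext (lift_unique f j j' hU' hZ hκ t.left τ.left (et.trans eτ.symm) (by
      have e0 : f.base (t.left.base (default : Spec (CommRingCat.of Ω))) = ξ.base default :=
        (Scheme.Hom.comp_apply _ _ _).symm.trans (congrArg (fun m : Spec (CommRingCat.of Ω) ⟶ X => m.base default) et)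
      exact fun hm => hx (e0 ▸ hm)))
    rw [this]
  let WU : X.Etale := Scheme.Etale.mk j
  have hPU : P WU 0 := fun Ω _ _ ξ t τ => by
    have hx : ξ.base default ∈ Set.range j.base :=
      ⟨t.left.base (default : Spec (CommRingCat.of Ω)), (Scheme.Hom.comp_apply _ _ _).symm.trans
        (congrArg (fun m : Spec (CommRingCat.of Ω) ⟶ X => m.base default) (Over.w t))⟩
    exact (map_zero ((Scheme.pointSmallEtale ξ).toPresheafFiber WU t G.obj).hom).trans (hG W₀ s' Ω ξ τ hx).symm
  let R : Sieve (EtCoh.top X) :=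
    { arrows := fun V _ => ∃ σ, P V σ
      downward_closed := fun {V V' _} h g => ⟨_, hres g h.choose h.choose_spec⟩ }
  have hR : R ∈ X.smallEtaleTopology (EtCoh.top X) := by
    refine mem_smallEtaleTopology_of_points _ _ fun x => ?_
    by_cases hx : x ∈ Set.range j.base
    · obtain ⟨u, hu⟩ := hx
      exact ⟨WU, MorphismProperty.Over.homMk j (Category.comp_id _) trivial, u, ⟨0, hPU⟩, hu⟩
    · obtain ⟨x', -, hx'⟩ := hZ.surjOn hx
      exact ⟨W₀, tMap f, x', ⟨s', hP₀⟩, hx'⟩
  have hs : Presieve.IsSheaf X.smallEtaleTopology (G.obj ⋙ forget AddCommGrpCat.{u + 1}) :=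
    (isSheaf_iff_isSheaf_of_type _ _).1
      ((Presheaf.isSheaf_iff_isSheaf_forget _ _ (forget _)).1 G.property)
  let x : Presieve.FamilyOfElements (G.obj ⋙ forget AddCommGrpCat.{u + 1}) R.arrows :=
    fun V g hg => hg.choose
  have hx : x.Compatible := by
    rw [Presieve.compatible_iff_sieveCompatible]
    intro V V' g k hg
    exact huniq _ _ _ (R.downward_closed hg k).choose_spec (hres k _ hg.choose_spec)
  obtain ⟨s, hs', -⟩ := hs R hR x hx
  have h0 : R.arrows (tMap f) := ⟨s', hP₀⟩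
  exact ⟨s, (hs' (tMap f) h0).trans (huniq _ _ _ h0.choose_spec hP₀)⟩

end Groth.Agent.EtSite.Excision
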