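import Groth.Agent.EtSite.ExtZeroStalk
import Groth.Agent.EtSite.PushFinite
import Groth.Agent.EtSite.TopInv
import Groth.Agent.EtSite.PushEpi
import Mathlib.Algebra.DirectSum.Basic

/-!
# The comparison `j_! ⟶ j_*` for separated étale morphisms
-/

set_option autoImplicit false
universe u

open CategoryTheory CategoryTheory.Limits AlgebraicGeometry Opposite EtShriek

namespace Groth.Agent.EtSite

variable {U X : Scheme.{u}} (j : U ⟶ X) [Etale j] [IsSeparated j]

/-- The graph of `V → U` in `V ×_X U`. -/
noncomputable def graphHom (V : U.Etale) : V ⟶ (EtCoh.bc j).obj ((compEtale j).obj V) :=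
  MorphismProperty.Over.homMk (pullback.lift (𝟙 V.left) V.hom (Category.id_comp _))
    (pullback.lift_snd _ _ _)

theorem graphHom_fst (V : U.Etale) :
    (graphHom j V).left ≫ pullback.fst ((compEtale j).obj V).hom j = 𝟙 V.left :=
  pullback.lift_fst _ _ _

theorem graphHom_snd (V : U.Etale) :
    (graphHom j V).left ≫ pullback.snd ((compEtale j).obj V).hom j = V.hom :=
  pullback.lift_snd _ _ _

instance isOpenImmersion_graphHom (V : U.Etale) : IsOpenImmersion (graphHom j V).left := by
  exact @isOpenImmersion_of_section _ _ (pullback.fst ((compEtale j).obj V).hom j)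
    (MorphismProperty.pullback_fst _ _ (inferInstanceAs (Etale j))) _ (graphHom_fst j V)

theorem isClosed_range_graphHom (V : U.Etale) : IsClosed (Set.range (graphHom j V).left.base) := by
  have h1 : IsSeparated (pullback.fst ((compEtale j).obj V).hom j) :=
    MorphismProperty.pullback_fst _ _ (inferInstanceAs (IsSeparated j))
  have h2 : IsClosedImmersion ((graphHom j V).left ≫ pullback.fst ((compEtale j).obj V).hom j) :=
    (graphHom_fst j V).symm ▸ (inferInstanceAs (IsClosedImmersion (𝟙 V.left)))
  have : IsClosedImmersion (graphHom j V).left :=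
    @IsClosedImmersion.of_comp _ _ _ _ (pullback.fst ((compEtale j).obj V).hom j) h2 h1
  exact (graphHom j V).left.isClosedEmbedding.isClosed_range

theorem mem_range_graphHom_of_map {V V' : U.Etale} (g : V' ⟶ V)
    (y : ((EtCoh.bc j).obj ((compEtale j).obj V')).left)
    (h : ((EtCoh.bc j).map ((compEtale j).map g)).left y ∈ Set.range (graphHom j V).left.base) :
    y ∈ Set.range (graphHom j V').left.base := by
  obtain ⟨b, hb⟩ := h
  let m := ((EtCoh.bc j).map ((compEtale j).map g)).left
  obtain ⟨z, hz, -⟩ := Scheme.Pullback.exists_preimage_pullback (f := m) (g := (graphHom j V).left)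
    y b hb.symm
  let p := pullback.fst m (graphHom j V).left
  let q := pullback.snd m (graphHom j V).left
  let a := p ≫ pullback.fst ((compEtale j).obj V').hom j
  have hq : q = a ≫ g.left := by
    have := congrArg (· ≫ pullback.fst ((compEtale j).obj V).hom j)
      (pullback.condition (f := m) (g := (graphHom j V).left))
    refine ((congrArg (q ≫ ·) (graphHom_fst j V)).trans (Category.comp_id q)).symm.trans ?_
    refine ((Category.assoc _ _ _).symm.trans this.symm).trans ?_
    refine (Category.assoc _ _ _).trans ((congrArg (p ≫ ·)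
      (bc_map_left_fst j ((compEtale j).map g))).trans ?_)
    exact (Category.assoc _ _ _).symm
  have hp : p = a ≫ (graphHom j V').left := by
    refine pullback.hom_ext ?_ ?_
    · exact ((congrArg (a ≫ ·) (graphHom_fst j V')).trans (Category.comp_id a)).symm.trans
        (Category.assoc _ _ _).symm
    · have := congrArg (· ≫ pullback.snd ((compEtale j).obj V).hom j)
        (pullback.condition (f := m) (g := (graphHom j V).left))
      refine (((congrArg (p ≫ ·) (bc_map_left_snd j ((compEtale j).map g))).symm.trans
        (Category.assoc _ _ _).symm).trans this).trans ?_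
      refine (Category.assoc _ _ _).trans ((congrArg (q ≫ ·) (graphHom_snd j V)).trans ?_)
      rw [hq]
      refine (Category.assoc _ _ _).trans ((congrArg (a ≫ ·) (MorphismProperty.Over.w g)).trans ?_)
      exact (congrArg (a ≫ ·) (graphHom_snd j V')).symm.trans (Category.assoc _ _ _).symm
  refine ⟨a z, ?_⟩
  exact (Scheme.Hom.comp_apply _ _ _).symm.trans
    ((congrArg (fun r : pullback m (graphHom j V).left ⟶ _ => r z) hp.symm).trans hz)

variable (F : EtCoh.Ab U)

/-- `t` is the extension by zero of `s` from the graph. -/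
def IsGraphExt (V : U.Etale) (s : EtCoh.sect F V)
    (t : EtCoh.sect F ((EtCoh.bc j).obj ((compEtale j).obj V))) : Prop :=
  F.obj.map (graphHom j V).op t = s ∧
    ∀ (W : U.Etale) (m : W ⟶ (EtCoh.bc j).obj ((compEtale j).obj V)),
      Disjoint (Set.range m.left.base) (Set.range (graphHom j V).left.base) → F.obj.map m.op t = 0

/-- The complement of the graph. -/
noncomputable def graphCompl (V : U.Etale) :
    ((EtCoh.bc j).obj ((compEtale j).obj V)).left.Opens :=
  ⟨(Set.range (graphHom j V).left.base)ᶜ, (isClosed_range_graphHom j V).isOpen_compl⟩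

theorem range_ι_graphCompl (V : U.Etale) :
    Set.range (graphCompl j V).ι.base = (Set.range (graphHom j V).left.base)ᶜ :=
  Scheme.Opens.range_ι _

theorem exists_lift_graphCompl (V : U.Etale) {T : Scheme.{u}}
    (h : T ⟶ ((EtCoh.bc j).obj ((compEtale j).obj V)).left)
    (hr : Set.range h.base ⊆ Set.range (graphCompl j V).ι.base) :
    ∃ l, l ≫ (graphCompl j V).ι = h :=
  ⟨_, IsOpenImmersion.lift_fac _ h hr⟩

/-- The two pieces of `V ×_X U`. -/
noncomputable def piece (V : U.Etale) : Option PUnit.{u + 1} → U.Etale
  | none => V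
  | some _ => @Scheme.Etale.mk U (graphCompl j V) ((graphCompl j V).ι ≫ ((EtCoh.bc j).obj ((compEtale j).obj V)).hom)
      (MorphismProperty.comp_mem (W := EtCoh.etaleMP) _ _ (inferInstance : Etale (graphCompl j V).ι)
        ((EtCoh.bc j).obj ((compEtale j).obj V)).prop)

/-- The inclusions of the two pieces. -/
noncomputable def pieceHom (V : U.Etale) :
    ∀ k, piece j V k ⟶ (EtCoh.bc j).obj ((compEtale j).obj V)
  | none => graphHom j V
  | some _ => MorphismProperty.Over.homMk (graphCompl j V).ι rfl

theorem disjoint_some (V : U.Etale) :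
    Disjoint (Set.range (pieceHom j V (some PUnit.unit)).left.base) (Set.range (graphHom j V).left.base) := by
  show Disjoint (Set.range (graphCompl j V).ι.base) _
  rw [range_ι_graphCompl]
  exact disjoint_compl_left

theorem existsUnique_pieces (V : U.Etale) (z : ∀ k, EtCoh.sect F (piece j V k)) :
    ∃! t, ∀ k, F.obj.map (pieceHom j V k).op t = z k := by
  have hopen : ∀ k, IsOpenImmersion (pieceHom j V k).left
    | none => isOpenImmersion_graphHom j V
    | some _ => inferInstanceAs (IsOpenImmersion (graphCompl j V).ι)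
  have hd : Pairwise (Function.onFun Disjoint fun k => Set.range (pieceHom j V k).left.base) := by
    rintro (_ | ⟨⟨⟩⟩) (_ | ⟨⟨⟩⟩) h
    · exact absurd rfl h
    · exact (disjoint_some j V).symm
    · exact disjoint_some j V
    · exact absurd rfl h
  have hcov : ∀ y, ∃ k, y ∈ Set.range (pieceHom j V k).left.base := fun y => by
    by_cases hy : y ∈ Set.range (graphHom j V).left.base
    · exact ⟨none, hy⟩
    · refine ⟨some PUnit.unit, ?_⟩
      show y ∈ Set.range (graphCompl j V).ι.base
      rw [range_ι_graphCompl]
      exact hy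
  obtain ⟨t, h1, h2⟩ := exists_glue_disjoint'
    ((isSheaf_iff_isSheaf_of_type _ _).1
      ((sheafCompose U.smallEtaleTopology (forget AddCommGrpCat.{u + 1})).obj F).property)
    (pieceHom j V) hopen hd hcov z
  exact ⟨t, h1, h2⟩

theorem existsUnique_isGraphExt (V : U.Etale) (s : EtCoh.sect F V) :
    ∃! t, IsGraphExt j F V s t := by
  let z : ∀ k, EtCoh.sect F (piece j V k)
    | none => s
    | some _ => 0
  obtain ⟨t, ht, huniq⟩ := existsUnique_pieces j F V z
  refine ⟨t, ⟨ht none, fun W m hm => ?_⟩, fun t' ht' => huniq t' fun k => ?_⟩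
  · have hr : Set.range m.left.base ⊆ Set.range (graphCompl j V).ι.base := by
      rw [range_ι_graphCompl]
      exact Disjoint.subset_compl_right hm
    let l := IsOpenImmersion.lift (graphCompl j V).ι m.left hr
    let l' : W ⟶ piece j V (some PUnit.unit) := MorphismProperty.Over.homMk l
      ((Category.assoc _ _ _).symm.trans ((congrArg (· ≫ _) (IsOpenImmersion.lift_fac _ _ hr)).trans
        (MorphismProperty.Over.w m)))
    have e : m = l' ≫ pieceHom j V (some PUnit.unit) :=
      MorphismProperty.Over.Hom.ext (IsOpenImmersion.lift_fac _ _ hr).symm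
    rw [e, op_comp, Functor.map_comp_apply, ht]
    exact map_zero _
  · match k with
    | none => exact ht'.1
    | some ⟨⟩ => exact ht'.2 _ _ (disjoint_some j V)

/-- The extension by zero from the graph. -/
noncomputable def graphExt (V : U.Etale) :
    F.obj.obj (op V) ⟶ F.obj.obj (op ((EtCoh.bc j).obj ((compEtale j).obj V))) :=
  AddCommGrpCat.ofHom (AddMonoidHom.mk' (fun s => (existsUnique_isGraphExt j F V s).choose) fun a b => by
    have ha := (existsUnique_isGraphExt j F V a).choose_spec.1
    have hb := (existsUnique_isGraphExt j F V b).choose_spec.1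
    refine ((existsUnique_isGraphExt j F V (a + b)).choose_spec.2 _ ⟨?_, fun W m hm => ?_⟩).symm
    · exact (map_add _ _ _).trans (congrArg₂ (· + ·) ha.1 hb.1)
    · exact (map_add _ _ _).trans ((congrArg₂ (· + ·) (ha.2 W m hm) (hb.2 W m hm)).trans (add_zero 0)))

theorem isGraphExt_graphExt (V : U.Etale) (s : EtCoh.sect F V) : IsGraphExt j F V s (graphExt j F V s) :=
  (existsUnique_isGraphExt j F V s).choose_spec.1

theorem eq_graphExt {V : U.Etale} {s : EtCoh.sect F V}
    {t : EtCoh.sect F ((EtCoh.bc j).obj ((compEtale j).obj V))} (h : IsGraphExt j F V s t) :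
    t = graphExt j F V s :=
  (existsUnique_isGraphExt j F V s).choose_spec.2 t h

variable [JCont j]

/-- `F ⟶ j^{-1} j_* F`. -/
noncomputable def graphUnit : 𝟭 (EtCoh.Ab U) ⟶ EtCoh.push j ⋙ restrAlong j where
  app F := ⟨{
    app := fun V => graphExt j F V.unop
    naturality := fun V V' g => by
      ext s
      refine (eq_graphExt j F ⟨?_, fun W m hm => ?_⟩).symm
      · show F.obj.map (graphHom j V'.unop).op
            (F.obj.map ((EtCoh.bc j).map ((compEtale j).map g.unop)).op (graphExt j F V.unop s)) =
          F.obj.map g s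
        have e : graphHom j V'.unop ≫ (EtCoh.bc j).map ((compEtale j).map g.unop) =
            g.unop ≫ graphHom j V.unop := by
          refine MorphismProperty.Over.Hom.ext (pullback.hom_ext ?_ ?_)
          · refine ((Category.assoc _ _ _).trans ((congrArg (_ ≫ ·)
              (bc_map_left_fst j ((compEtale j).map g.unop))).trans ?_))
            refine ((Category.assoc _ _ _).symm.trans ((congrArg (· ≫ g.unop.left)
              (graphHom_fst j V'.unop)).trans (Category.id_comp _))).trans ?_
            exact ((Category.assoc _ _ _).trans ((congrArg (g.unop.left ≫ ·)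
              (graphHom_fst j V.unop)).trans (Category.comp_id _))).symm
          · refine ((Category.assoc _ _ _).trans ((congrArg (_ ≫ ·)
              (bc_map_left_snd j ((compEtale j).map g.unop))).trans (graphHom_snd j V'.unop))).trans ?_
            exact ((Category.assoc _ _ _).trans ((congrArg (g.unop.left ≫ ·)
              (graphHom_snd j V.unop)).trans (MorphismProperty.Over.w g.unop))).symm
        rw [← Functor.map_comp_apply, ← op_comp, e, op_comp, Functor.map_comp_apply,
          (isGraphExt_graphExt j F V.unop s).1]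
        rfl
      · show F.obj.map m.op
            (F.obj.map ((EtCoh.bc j).map ((compEtale j).map g.unop)).op (graphExt j F V.unop s)) = 0
        rw [← Functor.map_comp_apply, ← op_comp]
        refine (isGraphExt_graphExt j F V.unop s).2 W _ (Set.disjoint_left.2 ?_)
        rintro _ ⟨w, rfl⟩ h
        exact Set.disjoint_left.1 hm ⟨w, rfl⟩ (mem_range_graphHom_of_map j g.unop _
          ((Scheme.Hom.comp_apply _ _ _) ▸ h)) }⟩
  naturality {F G} a := by
    ext V s
    refine (eq_graphExt j G ⟨?_, fun W m hm => ?_⟩).symm
    · show G.obj.map (graphHom j V.unop).op (a.hom.app _ (graphExt j F V.unop s)) = a.hom.app _ s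
      rw [← NatTrans.naturality_apply, (isGraphExt_graphExt j F V.unop s).1]
    · show G.obj.map m.op (a.hom.app _ (graphExt j F V.unop s)) = 0
      rw [← NatTrans.naturality_apply, (isGraphExt_graphExt j F V.unop s).2 W m hm]
      exact map_zero _

/-- The comparison map `j_! ⟶ j_*`. -/
noncomputable def extZeroToPush : extZero j ⟶ EtCoh.push j :=
  Functor.whiskerRight (graphUnit j) (extZero j) ≫ Functor.whiskerLeft (EtCoh.push j) (extZeroAdj j).counit

theorem unit_extZeroToPush :
    (extZeroAdj j).unit.app F ≫ (restrAlong j).map ((extZeroToPush j).app F) = (graphUnit j).app F := by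
  refine ((extZeroAdj j).homEquiv_unit F _ _).symm.trans ?_
  exact (congrArg ((extZeroAdj j).homEquiv F _) ((extZeroAdj j).homEquiv_counit _ _ _).symm).trans
    (Equiv.apply_symm_apply _ _)

variable {Ω : Type u} [Field Ω] [IsSepClosed Ω] (ξ : Spec (CommRingCat.of Ω) ⟶ X)

theorem germ_projection (a b : Lift' j ξ) (V : U.Etale) (v : (Scheme.pointSmallEtale a.1).fiber.obj V)
    (s : EtCoh.sect F V) :
    (germMap j ξ b.1 b.2).app F ((EtCoh.stalk ξ).map ((extZeroToPush j).app F)
      (stalkExtZeroMap j ξ F a ((Scheme.pointSmallEtale a.1).toPresheafFiber V v F.obj s))) =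
    (Scheme.pointSmallEtale b.1).toPresheafFiber _
      (liftPt j ξ b.1 b.2 ((compEtale j).obj V) (compPt j ξ a V v)) F.obj (graphExt j F V s) := by
  refine (congrArg (fun q => (germMap j ξ b.1 b.2).app F ((EtCoh.stalk ξ).map ((extZeroToPush j).app F) q))
    (ConcreteCategory.congr_hom (germ_stalkExtZeroMap j ξ F a V v) s)).trans ?_
  refine (congrArg ((germMap j ξ b.1 b.2).app F) ((Scheme.pointSmallEtale ξ).toPresheafFiber_naturality_apply
    ((extZeroToPush j).app F).hom _ (compPt j ξ a V v) _)).trans ?_
  refine (germMap_germ j ξ b.1 b.2 F _ _ _).trans ?_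
  refine congrArg ((Scheme.pointSmallEtale b.1).toPresheafFiber _ _ F.obj) ?_
  exact congrArg (fun m : F ⟶ (restrAlong j).obj ((EtCoh.push j).obj F) => m.hom.app (op V) s)
    (unit_extZeroToPush j F)

theorem projection_self (a : Lift' j ξ) (x : (EtCoh.stalk a.1).obj F) :
    (germMap j ξ a.1 a.2).app F ((EtCoh.stalk ξ).map ((extZeroToPush j).app F)
      (stalkExtZeroMap j ξ F a x)) = x := by
  obtain ⟨V, v, s, rfl⟩ := (Scheme.pointSmallEtale a.1).toPresheafFiber_jointly_surjective (P := F.obj) x
  rw [germ_projection]
  have e : (Scheme.pointSmallEtale a.1).fiber.map (graphHom j V) v =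
      liftPt j ξ a.1 a.2 ((compEtale j).obj V) (compPt j ξ a V v) := by
    refine Over.OverMorphism.ext (pullback.hom_ext ?_ ?_)
    · exact ((Category.assoc _ _ _).trans ((congrArg (v.left ≫ ·) (graphHom_fst j V)).trans
        (Category.comp_id _))).trans (pullback.lift_fst _ _ _).symm
    · exact ((Category.assoc _ _ _).trans ((congrArg (v.left ≫ ·) (graphHom_snd j V)).trans
        (Over.w v))).trans (pullback.lift_snd _ _ _).symm
  rw [← e, ← GrothendieckTopology.Point.toPresheafFiber_w_apply, (isGraphExt_graphExt j F V s).1]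

theorem projection_ne (a b : Lift' j ξ) (hab : a ≠ b) (x : (EtCoh.stalk a.1).obj F) :
    (germMap j ξ b.1 b.2).app F ((EtCoh.stalk ξ).map ((extZeroToPush j).app F)
      (stalkExtZeroMap j ξ F a x)) = 0 := by
  obtain ⟨V, v, s, rfl⟩ := (Scheme.pointSmallEtale a.1).toPresheafFiber_jointly_surjective (P := F.obj) x
  rw [germ_projection]
  let y := liftPt j ξ b.1 b.2 ((compEtale j).obj V) (compPt j ξ a V v)
  have hr : Set.range y.left.base ⊆ Set.range (graphCompl j V).ι.base := by
    refine fun x hx => (Set.ext_iff.1 (range_ι_graphCompl j V) x).2 ?_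
    obtain ⟨p, rfl⟩ := hx
    intro hp
    apply hab
    let Γ := (graphHom j V).left
    have hsub : Set.range y.left.base ⊆ Set.range Γ.base := by
      rintro _ ⟨p', rfl⟩
      rwa [Weighting.point_eq p', ← Weighting.point_eq p]
    have hl : IsOpenImmersion.lift Γ y.left hsub ≫ Γ = y.left := IsOpenImmersion.lift_fac _ _ _
    have h1 : IsOpenImmersion.lift Γ y.left hsub = v.left := by
      refine ((congrArg (_ ≫ ·) (graphHom_fst j V)).trans (Category.comp_id _)).symm.trans ?_
      exact (Category.assoc _ _ _).symm.trans ((congrArg (· ≫ _) hl).trans (pullback.lift_fst _ _ _))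
    refine Subtype.ext ?_
    refine (Over.w v).symm.trans (Eq.trans ?_ (pullback.lift_snd _ _ _ :
      y.left ≫ pullback.snd ((compEtale j).obj V).hom j = b.1))
    refine (congrArg (v.left ≫ ·) (graphHom_snd j V)).symm.trans ?_
    exact (Category.assoc _ _ _).symm.trans (congrArg (· ≫ _) ((congrArg (· ≫ Γ) h1.symm).trans hl))
  obtain ⟨l, hl'⟩ := exists_lift_graphCompl j V y.left hr
  let w : (Scheme.pointSmallEtale b.1).fiber.obj (piece j V (some PUnit.unit)) :=
    Over.homMk l ((Category.assoc _ _ _).symm.trans ((congrArg (· ≫ _) hl').trans (Over.w y)))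
  have hwl : w.left ≫ (pieceHom j V (some PUnit.unit)).left = y.left := hl'
  have e : (Scheme.pointSmallEtale b.1).fiber.map (pieceHom j V (some PUnit.unit)) w = y :=
    Over.OverMorphism.ext hwl
  show (Scheme.pointSmallEtale b.1).toPresheafFiber _ y F.obj _ = 0
  rw [← e, ← GrothendieckTopology.Point.toPresheafFiber_w_apply,
    (isGraphExt_graphExt j F V s).2 _ _ (disjoint_some j V)]
  exact map_zero _

omit [Etale j] [IsSeparated j] [JCont j] [IsSepClosed Ω] in
theorem mem_of_forall_hom_eq_zero {A : AddCommGrpCat.{u + 1}} (H : AddSubgroup A)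
    (h : ∀ (Q : AddCommGrpCat.{u + 1}) (q : A ⟶ Q), (∀ x ∈ H, q x = 0) → q = 0) (p : A) : p ∈ H := by
  let q : A ⟶ AddCommGrpCat.of (A ⧸ H) := AddCommGrpCat.ofHom (QuotientAddGroup.mk' H)
  have := h _ q fun x hx => (QuotientAddGroup.eq_zero_iff x).2 hx
  exact (QuotientAddGroup.eq_zero_iff p).1 (ConcreteCategory.congr_hom this p)

theorem stalk_extZeroToPush_injective :
    Function.Injective ((EtCoh.stalk ξ).map ((extZeroToPush j).app F)) := by
  classical
  let M := fun a : Lift' j ξ => (EtCoh.stalk a.1).obj F
  let sumMap : (DirectSum (Lift' j ξ) fun a => M a) →+ (EtCoh.stalk ξ).obj ((extZero j).obj F) :=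
    DirectSum.toAddMonoid fun a => (stalkExtZeroMap j ξ F a).hom
  have hsurj : Function.Surjective sumMap := fun p =>
    mem_of_forall_hom_eq_zero sumMap.range (fun Q q hq => stalkExtZeroMap_hom_ext j ξ F q 0 fun a => by
      ext x
      exact hq _ ⟨DirectSum.of (fun a => M a) a x, DirectSum.toAddMonoid_of _ _ _⟩) p
  have key : ∀ (d : DirectSum (Lift' j ξ) fun a => M a) (b : Lift' j ξ),
      (germMap j ξ b.1 b.2).app F ((EtCoh.stalk ξ).map ((extZeroToPush j).app F) (sumMap d)) = d b := by
    intro d b
    induction d using DirectSum.induction_on with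
    | zero => simp only [map_zero]; rfl
    | add x y hx hy =>
      rw [map_add, map_add, map_add, hx, hy]
      rfl
    | of a x =>
      rw [DirectSum.toAddMonoid_of]
      by_cases hab : a = b
      · subst hab
        exact (projection_self j F ξ a x).trans (DirectSum.of_eq_same (β := fun a => M a) a x).symm
      · exact (projection_ne j F ξ a b hab x).trans (DirectSum.of_eq_of_ne (β := fun a => M a) a b x (Ne.symm hab)).symm
  rw [injective_iff_map_eq_zero]
  intro p hp
  obtain ⟨d, rfl⟩ := hsurj p
  have : d = 0 := DFinsupp.ext fun b => by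
    rw [← key d b, hp, map_zero]
    rfl
  rw [this, map_zero]

theorem mono_extZeroToPush : Mono ((extZeroToPush j).app F) :=
  mono_of_stalks _ fun _ _ _ ξ => stalk_extZeroToPush_injective j F ξ

end Groth.Agent.EtSite
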