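import Groth.Agent.EtSite.LocConst
import Groth.Agent.EtSite.PullStalk
import Mathlib.Algebra.Group.TransferInstance

/-!
# Finite locally constant sheaves
-/

set_option autoImplicit false
universe u

open CategoryTheory CategoryTheory.Limits AlgebraicGeometry Opposite

namespace Groth.Agent.EtSite.FLCBasic

open LocConst

variable {X : Scheme.{u}}

section nbhd

variable {Ω : Type u} [Field Ω] [IsSepClosed Ω] {ξ : Spec (CommRingCat.of Ω) ⟶ X}

/-- Finitely many stalk elements come from a common neighbourhood. -/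
theorem exists_common (G : EtCoh.Ab X) (U : X.Etale) (t : (Scheme.pointSmallEtale ξ).fiber.obj U)
    {κ : Type*} [Finite κ] (p : κ → ((EtCoh.stalk ξ).obj G : AddCommGrpCat.{u + 1})) :
    ∃ (W : X.Etale) (w : (Scheme.pointSmallEtale ξ).fiber.obj W) (a : W ⟶ U)
      (s : κ → EtCoh.sect G W), (Scheme.pointSmallEtale ξ).fiber.map a w = t ∧
        ∀ k, (Scheme.pointSmallEtale ξ).toPresheafFiber W w G.obj (s k) = p k := by
  classical
  let Φ := Scheme.pointSmallEtale ξ
  cases nonempty_fintype κ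
  suffices H : ∀ S : Finset κ, ∃ (W : X.Etale) (w : Φ.fiber.obj W) (a : W ⟶ U),
      Φ.fiber.map a w = t ∧ ∀ k ∈ S, ∃ s, Φ.toPresheafFiber W w G.obj s = p k by
    obtain ⟨W, w, a, ha, hs⟩ := H Finset.univ
    choose s hs using fun k => hs k (Finset.mem_univ k)
    exact ⟨W, w, a, s, ha, hs⟩
  intro S
  induction S using Finset.induction with
  | empty => exact ⟨U, t, 𝟙 U, by simp, fun k hk => absurd hk (Finset.notMem_empty k)⟩
  | @insert k₀ S _ ih =>
    obtain ⟨W, w, a, ha, hs⟩ := ih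
    obtain ⟨V, v, s₀, hs₀⟩ := Φ.toPresheafFiber_jointly_surjective (P := G.obj) (p k₀)
    obtain ⟨⟨T, r⟩, ⟨g, hg⟩, ⟨g', hg'⟩, -⟩ := IsCofilteredOrEmpty.cone_objs
      (C := Φ.fiber.Elements) ⟨W, w⟩ ⟨V, v⟩
    dsimp only at g g' hg hg'
    refine ⟨T, r, g ≫ a, by rw [Functor.map_comp]; exact (congrArg (Φ.fiber.map a) hg).trans ha,
      fun k hk => ?_⟩
    rcases Finset.mem_insert.1 hk with rfl | hk
    · exact ⟨G.obj.map g'.op s₀, (Φ.toPresheafFiber_w_apply g' r G.obj s₀).trans (by rw [hg', hs₀])⟩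
    · obtain ⟨q, hq⟩ := hs k hk
      exact ⟨G.obj.map g.op q, (Φ.toPresheafFiber_w_apply g r G.obj q).trans (by rw [hg, hq])⟩

/-- Finitely many equalities of germs hold on a common neighbourhood. -/
theorem exists_equalize (G : EtCoh.Ab X) (U : X.Etale) (t : (Scheme.pointSmallEtale ξ).fiber.obj U)
    {κ : Type*} [Finite κ] (a b : κ → EtCoh.sect G U)
    (h : ∀ k, (Scheme.pointSmallEtale ξ).toPresheafFiber U t G.obj (a k) =
      (Scheme.pointSmallEtale ξ).toPresheafFiber U t G.obj (b k)) :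
    ∃ (W : X.Etale) (w : (Scheme.pointSmallEtale ξ).fiber.obj W) (g : W ⟶ U),
      (Scheme.pointSmallEtale ξ).fiber.map g w = t ∧ ∀ k, G.obj.map g.op (a k) = G.obj.map g.op (b k) := by
  classical
  let Φ := Scheme.pointSmallEtale ξ
  cases nonempty_fintype κ
  suffices H : ∀ S : Finset κ, ∃ (W : X.Etale) (w : Φ.fiber.obj W) (g : W ⟶ U),
      Φ.fiber.map g w = t ∧ ∀ k ∈ S, G.obj.map g.op (a k) = G.obj.map g.op (b k) by
    obtain ⟨W, w, g, hg, hk⟩ := H Finset.univ
    exact ⟨W, w, g, hg, fun k => hk k (Finset.mem_univ k)⟩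
  intro S
  induction S using Finset.induction with
  | empty => exact ⟨U, t, 𝟙 U, by simp, fun k hk => absurd hk (Finset.notMem_empty k)⟩
  | @insert k₀ S _ ih =>
    obtain ⟨W, w, g, hg, hs⟩ := ih
    have e : Φ.toPresheafFiber W w G.obj (G.obj.map g.op (a k₀)) =
        Φ.toPresheafFiber W w G.obj (G.obj.map g.op (b k₀)) := by
      rw [Φ.toPresheafFiber_w_apply, Φ.toPresheafFiber_w_apply, hg]
      exact h k₀
    obtain ⟨T, c, r, hr, hc⟩ := (Φ.toPresheafFiber_eq_iff' _ _ _ _).1 e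
    refine ⟨T, r, c ≫ g, by rw [Functor.map_comp]; exact (congrArg (Φ.fiber.map g) hr).trans hg,
      fun k hk => ?_⟩
    rw [op_comp, Functor.map_comp_apply, Functor.map_comp_apply]
    rcases Finset.mem_insert.1 hk with rfl | hk
    · exact hc
    · rw [hs k hk]

/-- A map from a finite group to a stalk comes from a map to sections over a neighbourhood. -/
theorem exists_hom_of_finite (G : EtCoh.Ab X) (U : X.Etale)
    (t : (Scheme.pointSmallEtale ξ).fiber.obj U) {M : Type*} [AddCommGroup M] [Finite M]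
    (θ : M →+ ((EtCoh.stalk ξ).obj G : AddCommGrpCat.{u + 1})) :
    ∃ (W : X.Etale) (w : (Scheme.pointSmallEtale ξ).fiber.obj W) (a : W ⟶ U)
      (φ : M →+ EtCoh.sect G W), (Scheme.pointSmallEtale ξ).fiber.map a w = t ∧
        ∀ m, (Scheme.pointSmallEtale ξ).toPresheafFiber W w G.obj (φ m) = θ m := by
  let Φ := Scheme.pointSmallEtale ξ
  obtain ⟨W, w, a, s, ha, hs⟩ := exists_common G U t θ
  obtain ⟨T, r, g, hg, hk⟩ := exists_equalize G W w (fun p : M × M => s (p.1 + p.2))
    (fun p => s p.1 + s p.2) fun p => by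
      rw [hs, map_add, map_add]
      exact congrArg₂ (· + ·) (hs p.1).symm (hs p.2).symm
  refine ⟨T, r, g ≫ a, AddMonoidHom.mk' (fun m => G.obj.map g.op (s m))
    (fun m n => (hk (m, n)).trans (map_add _ _ _)), ?_, fun m => ?_⟩
  · rw [Functor.map_comp]; exact (congrArg (Φ.fiber.map a) hg).trans ha
  · exact (Φ.toPresheafFiber_w_apply g r G.obj (s m)).trans
      ((congrArg (fun y => Φ.toPresheafFiber W y G.obj (s m)) hg).trans (hs m))

theorem nonempty_fiber {U : X.Etale} (y : U.left) (hy : U.hom.base y = ξ.base default) :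
    Nonempty ((Scheme.pointSmallEtale ξ).fiber.obj U) := by
  obtain ⟨l, hl, -⟩ := Scheme.exists_fac_of_etale_of_isSepClosed U.hom ξ y hy
  exact ⟨Over.homMk l hl⟩

end nbhd

/-- Near every point there is a neighbourhood on which `F` is constant with finite value. -/
def LocalData (F : EtCoh.Ab X) : Prop :=
  ∀ (Ω : Type u) [Field Ω] [IsSepClosed Ω] (ξ : Spec (CommRingCat.of Ω) ⟶ X),
    ∃ (U : X.Etale) (_ : (Scheme.pointSmallEtale ξ).fiber.obj U) (M : Type (u + 1))
      (_ : AddCommGroup M) (_ : Finite M) (φ : M →+ EtCoh.sect F U), GermBij F U φ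

theorem localData_of_isFLC {F : EtCoh.Ab X} (h : EtCoh.IsFiniteLocallyConstant F) : LocalData F := by
  intro Ω _ _ ξ
  obtain ⟨ι, U, hU, hF⟩ := h
  obtain ⟨i, y, hy⟩ := hU (ξ.base default)
  obtain ⟨t⟩ := nonempty_fiber (ξ := ξ) y hy
  obtain ⟨M, _, _, ⟨e⟩⟩ := hF i
  obtain ⟨φ, hφ⟩ := exists_germBij_of_iso e
  exact ⟨U i, t, ULift.{u + 1} M, inferInstance, inferInstance, φ, hφ⟩

theorem isFLC_of_forall_point {F : EtCoh.Ab X}
    (h : ∀ x : X, ∃ (U : X.Etale) (y : U.left) (M : Type (u + 1))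
      (_ : AddCommGroup M) (_ : Finite M) (φ : M →+ EtCoh.sect F U),
      U.hom.base y = x ∧ GermBij F U φ) :
    EtCoh.IsFiniteLocallyConstant F := by
  choose U y M hM hfin φ hy hφ using h
  refine ⟨X, U, fun x => ⟨x, y x, hy x⟩, fun x => ?_⟩
  obtain ⟨n, ⟨e₀⟩⟩ := @Finite.exists_equiv_fin (M x) (hfin x)
  let N : Type := {i : Fin n // True}
  let e : M x ≃ N := e₀.trans (Equiv.subtypeUnivEquiv (fun _ => trivial)).symm
  let _ : AddCommGroup N := @Equiv.addCommGroup _ _ e.symm (hM x)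
  let e' : N →+ M x :=
    { toFun := e.symm
      map_zero' := e.symm.apply_symm_apply _
      map_add' := fun a b => e.symm.apply_symm_apply _ }
  let e'' : ULift.{u + 1} N →+ M x :=
    { toFun := fun a => e' a.down, map_zero' := map_zero e', map_add' := fun a b => map_add e' _ _ }
  have : Finite N := Finite.of_equiv _ e
  refine ⟨N, inferInstance, inferInstance, nonempty_iso_of_germBij
    (φ := (φ x).comp e'') fun Ω _ _ ξ t => ?_⟩
  exact (hφ x Ω ξ t).comp (e.symm.bijective.comp Equiv.ulift.bijective)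

theorem isFLC_of_localData {F : EtCoh.Ab X} (h : LocalData F) : EtCoh.IsFiniteLocallyConstant F := by
  refine isFLC_of_forall_point fun x => ?_
  obtain ⟨U, t, M, hM, hfin, φ, hφ⟩ := h _ (gpt x)
  refine ⟨U, t.left (default : Spec (CommRingCat.of (SeparableClosure (X.residueField x)))),
    M, hM, hfin, φ, ?_, hφ⟩
  exact (Scheme.Hom.comp_apply _ _ _).symm.trans
    ((congrArg (fun m : Spec (CommRingCat.of (SeparableClosure (X.residueField x))) ⟶ X => m.base _)
      (Over.w t)).trans (gpt_apply x _))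

theorem isFLC_iff {F : EtCoh.Ab X} : EtCoh.IsFiniteLocallyConstant F ↔ LocalData F :=
  ⟨localData_of_isFLC, isFLC_of_localData⟩

/-- The image of a homomorphism to sections under a map of sheaves. -/
noncomputable def push {F G : EtCoh.Ab X} (a : F ⟶ G) {U : X.Etale} {A : Type (u + 1)}
    [AddCommGroup A] (φ : A →+ EtCoh.sect F U) : A →+ EtCoh.sect G U :=
  (a.hom.app (op U)).hom.comp φ

theorem germ_map {F G : EtCoh.Ab X} (a : F ⟶ G) {U : X.Etale} {Ω : Type u} [Field Ω]
    [IsSepClosed Ω] (ξ : Spec (CommRingCat.of Ω) ⟶ X) (t : (Scheme.pointSmallEtale ξ).fiber.obj U)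
    (s : EtCoh.sect F U) :
    (EtCoh.stalk ξ).map a ((Scheme.pointSmallEtale ξ).toPresheafFiber U t F.obj s) =
      (Scheme.pointSmallEtale ξ).toPresheafFiber U t G.obj (a.hom.app (op U) s) :=
  (Scheme.pointSmallEtale ξ).toPresheafFiber_naturality_apply _ _ _ _

theorem germBij_of_isIso {F G : EtCoh.Ab X} (a : F ⟶ G) [IsIso a] {U : X.Etale} {A : Type (u + 1)}
    [AddCommGroup A] {φ : A →+ EtCoh.sect F U} (h : GermBij F U φ) : GermBij G U (push a φ) :=
  fun Ω _ _ ξ t => by
    have hb := ((ConcreteCategory.isIso_iff_bijective ((EtCoh.stalk ξ).map a)).1 inferInstance).comp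
      (h Ω ξ t)
    exact Eq.subst (motive := Function.Bijective) (funext fun m => germ_map a ξ t (φ m)) hb

theorem isFLC_of_iso {F G : EtCoh.Ab X} (e : F ≅ G) (h : EtCoh.IsFiniteLocallyConstant F) :
    EtCoh.IsFiniteLocallyConstant G := by
  refine isFLC_of_localData fun Ω _ _ ξ => ?_
  obtain ⟨U, t, M, _, _, φ, hφ⟩ := localData_of_isFLC h Ω ξ
  exact ⟨U, t, M, inferInstance, inferInstance, push e.hom φ, germBij_of_isIso e.hom hφ⟩

section pull

variable {X' : Scheme.{u}} (f : X' ⟶ X)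

theorem germBij_pull {F : EtCoh.Ab X} {U : X.Etale} {A : Type (u + 1)} [AddCommGroup A]
    {φ : A →+ EtCoh.sect F U} (h : GermBij F U φ) :
    GermBij ((EtCoh.pull f).obj F) ((EtCoh.bc f).obj U)
      (((EtCoh.pullPushAdj f).unit.app F).hom.app (op U) |>.hom.comp φ) := fun Ω _ _ ξ t => by
  obtain ⟨s, rfl⟩ : ∃ s, bcPt f ξ U s = t := ⟨unbcPt f ξ U t, bcPt_unbcPt f ξ U t⟩
  have hb := ((ConcreteCategory.isIso_iff_bijective ((stalkPullIso f ξ).hom.app F)).1
    inferInstance).comp (h Ω (ξ ≫ f) s)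
  exact Eq.subst (motive := Function.Bijective) (funext fun m =>
    ConcreteCategory.congr_hom (toPresheafFiber_stalkPullIso_hom f ξ F U s) (φ m)) hb

theorem isFLC_pull {F : EtCoh.Ab X} (h : EtCoh.IsFiniteLocallyConstant F) :
    EtCoh.IsFiniteLocallyConstant ((EtCoh.pull f).obj F) := by
  refine isFLC_of_localData fun Ω _ _ ξ => ?_
  obtain ⟨U, t, M, _, _, φ, hφ⟩ := localData_of_isFLC h Ω (ξ ≫ f)
  exact ⟨(EtCoh.bc f).obj U, bcPt f ξ U t, M, inferInstance, inferInstance, _, germBij_pull f hφ⟩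

end pull

end Groth.Agent.EtSite.FLCBasic
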