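import Groth.Agent.EtSite.NormalConst
import Mathlib.Algebra.Homology.DerivedCategory.Ext.EnoughInjectives
import Mathlib.Algebra.Homology.DerivedCategory.Ext.ExactSequences

/-!
# Cohomology of flasque sheaves; global constants
-/

set_option autoImplicit false
universe u

open CategoryTheory CategoryTheory.Limits AlgebraicGeometry Opposite CategoryTheory.Abelian

namespace Groth.Agent.EtSite

open AllPoints LocIso NormalConst

variable {X : Scheme.{u}}

theorem subsingleton_H_of_flasque (hX : LocIsoBase X) (n : ℕ) :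
    ∀ F : EtCoh.Ab X, Flasque F → Subsingleton (EtCoh.H X F (n + 1)) := by
  induction n with
  | zero =>
    intro F hF
    refine subsingleton_of_forall_eq 0 fun x => ?_
    let Γ := (sheafSections X.smallEtaleTopology AddCommGrpCat.{u + 1}).obj (op (EtCoh.top X))
    let adj : constantSheaf X.smallEtaleTopology AddCommGrpCat.{u + 1} ⊣ Γ :=
      constantSheafAdj _ _ (topTerminal X)
    have hS := KerDerived.emb_shortExact F
    have h0 : x.comp (Ext.mk₀ (KerDerived.emb F).f) (add_zero 1) = 0 := Ext.eq_zero_of_injective _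
    obtain ⟨x₃, hx₃⟩ := Ext.covariant_sequence_exact₁ _ hS x h0 (zero_add 1)
    obtain ⟨φ, rfl⟩ := (Ext.mk₀_bijective _ _).2 x₃
    have : Epi (Γ.map (KerDerived.emb F).g) := (AddCommGrpCat.epi_iff_surjective _).2
      (sections_surjective hX hS hF (EtCoh.top X))
    have := projective_ulift_int.{u}
    let ψ := (adj.homEquiv _ _).symm
      (Projective.factorThru (adj.homEquiv _ _ φ) (Γ.map (KerDerived.emb F).g))
    have hψ : ψ ≫ (KerDerived.emb F).g = φ := by
      rw [← adj.homEquiv_naturality_right_symm, Projective.factorThru_comp, Equiv.symm_apply_apply]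
    rw [← hx₃, ← hψ, ← Ext.mk₀_comp_mk₀, Ext.comp_assoc_of_second_deg_zero, hS.comp_extClass,
      Ext.comp_zero]
    rfl
  | succ n ih =>
    intro F hF
    have h3 : Flasque (KerDerived.emb F).X₃ :=
      flasque_of_shortExact hX (KerDerived.emb_shortExact F) hF (flasque_of_injective _)
    have := ih _ h3
    refine subsingleton_of_forall_eq 0 fun x => ?_
    have h0 : x.comp (Ext.mk₀ (KerDerived.emb F).f) (add_zero (n + 1 + 1)) = 0 :=
      Ext.eq_zero_of_injective _
    obtain ⟨x₃, hx₃⟩ :=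
      Ext.covariant_sequence_exact₁ _ (KerDerived.emb_shortExact F) x h0 (rfl : n + 1 + 1 = n + 1 + 1)
    rw [← hx₃, Subsingleton.elim x₃ 0, Ext.zero_comp]
    rfl

/-- Global sections of a sheaf with constants on an irreducible scheme are the constants. -/
theorem app_top_bijective [IrreducibleSpace X] {F : EtCoh.Ab X} {A : AddCommGrpCat.{u + 1}}
    (c : LC F A) : Function.Bijective (c.app (EtCoh.top X)) := by
  have hne : Nonempty (EtCoh.top X).left := ⟨genericPoint X⟩
  refine ⟨fun m m' h => c.inj _ hne m m' h, fun s => ?_⟩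
  choose P m hxP hPm using fun x => c.loc (EtCoh.top X) s x
  let x₀ : (EtCoh.top X).left := hne.some
  refine ⟨m x₀, ext_of_cover F (EtCoh.top X) P (fun x => ⟨x, hxP x⟩) _ _ fun x => ?_⟩
  rw [c.nat, hPm x]
  refine congrArg _ ?_
  have hg : ∀ y, (genericPoint X : X) ∈ P y := fun y =>
    ((genericPoint_spec X).mem_open_set_iff (P y).isOpen).2 ⟨y, by simp, hxP y⟩
  obtain ⟨z, -⟩ := (range_resι (EtCoh.top X) (P x₀ ⊓ P x)).ge
    (show (genericPoint X : X) ∈ P x₀ ⊓ P x from ⟨hg x₀, hg x⟩)
  refine c.inj (res (EtCoh.top X) (P x₀ ⊓ P x)) ⟨z⟩ _ _ ?_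
  rw [← c.nat (incl (EtCoh.top X) inf_le_left) (m x₀), ← c.nat (incl (EtCoh.top X) inf_le_right) (m x),
    ← hPm, ← hPm, map_incl_resι, map_incl_resι]

/-- `H⁰` of a constant sheaf on an irreducible scheme. -/
theorem natCard_H_zero_const [IrreducibleSpace X] (A : AddCommGrpCat.{u + 1}) :
    Nat.card (EtCoh.H X ((constantSheaf X.smallEtaleTopology AddCommGrpCat.{u + 1}).obj A) 0) =
      Nat.card A := by
  let Γ := (sheafSections X.smallEtaleTopology AddCommGrpCat.{u + 1}).obj (op (EtCoh.top X))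
  let adj : constantSheaf X.smallEtaleTopology AddCommGrpCat.{u + 1} ⊣ Γ :=
    constantSheafAdj _ _ (topTerminal X)
  let F := (constantSheaf X.smallEtaleTopology AddCommGrpCat.{u + 1}).obj A
  let e₁ : EtCoh.H X F 0 ≃ (AddCommGrpCat.of (ULift.{u + 1} ℤ) ⟶ Γ.obj F) :=
    Ext.homEquiv₀.trans (adj.homEquiv _ _)
  let e₂ : (AddCommGrpCat.of (ULift.{u + 1} ℤ) ⟶ Γ.obj F) ≃ Γ.obj F :=
    { toFun := fun f => f ⟨1⟩
      invFun := fun a => AddCommGrpCat.ofHom
        ((zmultiplesHom _ a).comp (AddEquiv.ulift : ULift.{u + 1} ℤ ≃+ ℤ).toAddMonoidHom)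
      left_inv := fun f => by
        ext ⟨n⟩
        change n • f ⟨1⟩ = f ⟨n⟩
        rw [← map_zsmul]
        exact congrArg f (ULift.ext _ _ (by simp))
      right_inv := fun a => show (1 : ℤ) • a = a from one_zsmul a }
  exact (Nat.card_congr (e₁.trans e₂)).trans
    (Nat.card_congr (Equiv.ofBijective _ (app_top_bijective (constLC A)))).symm

end Groth.Agent.EtSite
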