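import Groth.Agent.EtSite.Present

/-!
# The free abelian sheaf on an object of the site
-/

set_option autoImplicit false
universe u

open CategoryTheory CategoryTheory.Limits AlgebraicGeometry Opposite

namespace Groth.Agent.EtSite.FreeOn

open FLCOps Present

variable {X : Scheme.{u}}

/-- The free abelian sheaf on `W`. -/
noncomputable abbrev P (W : X.Etale) : EtCoh.Ab X := EtPBC.extZeroConst W (ZMod 0)

/-- The tautological section. -/
noncomputable abbrev can (W : X.Etale) : EtCoh.sect (P W) W := canSec W 0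

theorem exists_hom (W : X.Etale) {F : EtCoh.Ab X} (s : EtCoh.sect F W) :
    ∃ φ : P W ⟶ F, φ.hom.app (op W) (can W) = s :=
  exists_map W 0 s (zero_nsmul s)

/-- The map of free sheaves induced by a morphism. -/
noncomputable def pmap {W W' : X.Etale} (f : W ⟶ W') : P W ⟶ P W' :=
  (exists_hom W ((P W').obj.map f.op (can W'))).choose

theorem pmap_can {W W' : X.Etale} (f : W ⟶ W') :
    (pmap f).hom.app (op W) (can W) = (P W').obj.map f.op (can W') :=
  (exists_hom W ((P W').obj.map f.op (can W'))).choose_spec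

theorem pmap_comp_app {W W' : X.Etale} (f : W ⟶ W') {F : EtCoh.Ab X} (φ : P W' ⟶ F) :
    (pmap f ≫ φ).hom.app (op W) (can W) = F.obj.map f.op (φ.hom.app (op W') (can W')) := by
  change φ.hom.app (op W) ((pmap f).hom.app (op W) (can W)) = _
  rw [pmap_can]
  exact NatTrans.naturality_apply φ.hom f.op (can W')

variable {Ω : Type u} [Field Ω] [IsSepClosed Ω] (ξ : Spec (CommRingCat.of Ω) ⟶ X)

/-- The basis vector of the stalk of a free sheaf at an element of the fibre. -/
noncomputable def e (W : X.Etale) (x : (Scheme.pointSmallEtale ξ).fiber.obj W) :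
    ((EtCoh.stalk ξ).obj (P W) : AddCommGrpCat.{u + 1}) :=
  gm ξ (P W) W x (can W)

theorem map_e {W : X.Etale} {F : EtCoh.Ab X} (φ : P W ⟶ F)
    (x : (Scheme.pointSmallEtale ξ).fiber.obj W) :
    (EtCoh.stalk ξ).map φ (e ξ W x) = gm ξ F W x (φ.hom.app (op W) (can W)) :=
  gm_map φ ξ x (can W)

theorem map_pmap_e {W W' : X.Etale} (f : W ⟶ W') (x : (Scheme.pointSmallEtale ξ).fiber.obj W) :
    (EtCoh.stalk ξ).map (pmap f) (e ξ W x) = e ξ W' ((Scheme.pointSmallEtale ξ).fiber.map f x) := by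
  rw [map_e, pmap_can]
  exact gm_res (P W') f rfl (can W')

theorem stalk_hom_ext {W : X.Etale} {A : AddCommGrpCat.{u + 1}} {h h' : (EtCoh.stalk ξ).obj (P W) ⟶ A}
    (H : ∀ x, h (e ξ W x) = h' (e ξ W x)) : h = h' := by
  let Φ := Scheme.pointSmallEtale ξ
  refine (Φ.skyscraperSheafAdjunction.homEquiv _ _).injective (Present.map_ext ?_)
  refine Concrete.limit_ext _ _ _ fun ⟨x⟩ => ?_
  have key : ∀ k : (EtCoh.stalk ξ).obj (P W) ⟶ A,
      Pi.π (fun _ : Φ.fiber.obj W => A) x
        (((Φ.skyscraperSheafAdjunction.homEquiv (P W) A k).hom.app (op W)) (can W)) = k (e ξ W x) := by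
    intro k
    have h1 := Φ.skyscraperPresheafHomEquiv_app_π k W x
    have h2 : (Φ.skyscraperSheafAdjunction.homEquiv (P W) A k).hom = Φ.skyscraperPresheafHomEquiv k :=
      Φ.skyscraperSheafAdjunction_homEquiv_apply_hom k
    rw [h2]
    exact ConcreteCategory.congr_hom h1 (can W)
  exact (key h).trans ((H x).trans (key h').symm)

theorem exists_stalk_desc {W : X.Etale} {A : AddCommGrpCat.{u + 1}}
    (a : (Scheme.pointSmallEtale ξ).fiber.obj W → A) :
    ∃ h : (EtCoh.stalk ξ).obj (P W) ⟶ A, ∀ x, h (e ξ W x) = a x := by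
  let Φ := Scheme.pointSmallEtale ξ
  let L : AddCommGrpCat.of (ULift.{u + 1} ℤ) ⟶ ∏ᶜ fun _ : Φ.fiber.obj W => A :=
    Pi.lift fun x => AddCommGrpCat.ofHom ((zmultiplesHom A (a x)).comp AddEquiv.ulift.toAddMonoidHom)
  obtain ⟨φ, hφ⟩ := exists_hom W (F := Φ.skyscraperSheafFunctor.obj A) (L ⟨1⟩)
  refine ⟨(Φ.skyscraperSheafAdjunction.homEquiv (P W) A).symm φ, fun x => ?_⟩
  have h2 : (Φ.skyscraperSheafAdjunction.homEquiv (P W) A).symm φ = Φ.skyscraperPresheafHomEquiv.symm φ.hom :=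
    Φ.skyscraperSheafAdjunction_homEquiv_symm_apply φ
  rw [h2]
  refine (ConcreteCategory.congr_hom (Φ.toPresheafFiber_skyscraperPresheafHomEquiv_symm φ.hom W x) (can W)).trans ?_
  change Pi.π (fun _ : Φ.fiber.obj W => A) x (φ.hom.app (op W) (can W)) = a x
  rw [hφ]
  change (L ≫ Pi.π (fun _ : Φ.fiber.obj W => A) x) (⟨1⟩ : ULift.{u + 1} ℤ) = a x
  rw [Pi.lift_π]
  exact one_zsmul (a x)

/-- The free sheaf on the final object is the constant sheaf `ℤ`. -/
theorem nonempty_top_iso :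
    Nonempty (P (EtCoh.top X) ≅ (constantSheaf X.smallEtaleTopology AddCommGrpCat.{u + 1}).obj
      (AddCommGrpCat.of (ULift.{u + 1} ℤ))) := by
  let Γ := (sheafSections X.smallEtaleTopology AddCommGrpCat.{u + 1}).obj (op (EtCoh.top X))
  let adj₁ := secAdj (EtCoh.top X)
  let adj₂ : constantSheaf X.smallEtaleTopology AddCommGrpCat.{u + 1} ⊣ Γ :=
    constantSheafAdj _ _ (topTerminal X)
  let eR : Γ ≅ X.smallEtaleTopology.overPullback AddCommGrpCat.{u + 1} (EtCoh.top X) ⋙
      (sheafSections (X.smallEtaleTopology.over (EtCoh.top X)) AddCommGrpCat.{u + 1}).obj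
        (op (Over.mk (𝟙 (EtCoh.top X)))) := NatIso.ofComponents (fun _ => Iso.refl _)
  let eL := (conjugateIsoEquiv adj₁ adj₂).symm eR
  exact ⟨(eL.app (AddCommGrpCat.of (ULift.{u + 1} ℤ))).symm⟩

end Groth.Agent.EtSite.FreeOn
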