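import Groth.Agent.EtSite.Cartan
import Groth.Prelude.Def_EtGm
import Mathlib.AlgebraicGeometry.Morphisms.Flat
import Mathlib.RingTheory.Flat.FaithfullyFlat.Algebra
import Mathlib.Algebra.Category.Ring.Constructions

/-!
# The structure sheaf is acyclic on affine schemes
-/

set_option autoImplicit false
universe u

open CategoryTheory CategoryTheory.Limits AlgebraicGeometry Opposite TensorProduct

namespace Groth.Agent.EtSite.GaAcyclic

open CechRes

/-- The step of Amitsur exactness. -/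
theorem amitsur_step {A B : Type u} [CommRing A] [CommRing B] [Algebra A B]
    [Module.FaithfullyFlat A B] {C₀ C₁ : Type u} [AddCommGroup C₀] [Module A C₀] [AddCommGroup C₁]
    [Module A C₁] {C₂ : Type u} [AddCommGroup C₂]
    (d₀ : C₀ →ₗ[A] C₁) (φ₀ : B ⊗[A] C₀ →+ C₁) (φ₁ : B ⊗[A] C₁ →+ C₂) (δ : C₁ →+ C₂)
    (hs : Function.Surjective φ₀) (hi : Function.Injective φ₁)
    (hnat : ∀ b c, φ₁ (b ⊗ₜ d₀ c) = δ (φ₀ (b ⊗ₜ c))) (c : C₁) (hc : φ₁ (1 ⊗ₜ c) = δ c) :
    c ∈ LinearMap.range d₀ := by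
  obtain ⟨t, ht⟩ := hs c
  have h1 : ∀ t, φ₁ (d₀.lTensor B t) = δ (φ₀ t) := fun t => by
    induction t using TensorProduct.induction_on with
    | zero => simp
    | tmul b c => exact hnat b c
    | add a b ha hb => simp only [map_add, ha, hb]
  have h2 : d₀.lTensor B t = (1 : B) ⊗ₜ[A] c := hi (by rw [h1, ht, hc])
  have h3 : (1 : B) ⊗ₜ[A] (LinearMap.range d₀).mkQ c = 0 := by
    rw [← LinearMap.lTensor_tmul, ← h2, ← LinearMap.comp_apply, ← LinearMap.lTensor_comp,
      LinearMap.range_mkQ_comp, LinearMap.lTensor_zero, LinearMap.zero_apply]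
  exact (Submodule.Quotient.mk_eq_zero _).1
    (Module.FaithfullyFlat.tensorProduct_mk_injective (A := A) (B := B) _
      ((h3 : TensorProduct.mk A B _ 1 ((LinearMap.range d₀).mkQ c) = 0).trans (map_zero _).symm))

/-- Global functions on a fibre product of affine schemes. -/
theorem bijective_tensor {R S T P : CommRingCat.{u}} {a : R ⟶ S} {b : R ⟶ T} {i : S ⟶ P}
    {j : T ⟶ P} (h : IsPushout a b i j) :
    letI := a.hom.toAlgebra; letI := b.hom.toAlgebra
    ∃ φ : S ⊗[R] T →+* P, (∀ x y, φ (x ⊗ₜ y) = i x * j y) ∧ Function.Bijective φ := by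
  let := a.hom.toAlgebra
  let := b.hom.toAlgebra
  have h0 := CommRingCat.isPushout_tensorProduct R S T
  let e := h0.isoIsPushout _ _ h
  refine ⟨e.hom.hom, fun x y => ?_, e.commRingCatIsoToRingEquiv.bijective⟩
  have e1 : e.hom (x ⊗ₜ 1) = i x :=
    congrArg (fun k => k.hom x) (h0.inl_isoIsPushout_hom _ _ h)
  have e2 : e.hom (1 ⊗ₜ y) = j y :=
    congrArg (fun k => k.hom y) (h0.inr_isoIsPushout_hom _ _ h)
  rw [← e1, ← e2, ← map_mul, Algebra.TensorProduct.tmul_mul_tmul, mul_one, one_mul]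

variable {X : Scheme.{u}}

/-- Restriction of global functions. -/
abbrev rs {W W' : X.Etale} (f : W ⟶ W') : Γ(W'.left, ⊤) →+* Γ(W.left, ⊤) := f.left.appTop.hom

theorem rs_comp {W W' W'' : X.Etale} (f : W ⟶ W') (f' : W' ⟶ W'') (x : Γ(W''.left, ⊤)) :
    rs (f ≫ f') x = rs f (rs f' x) := by
  change (f.left ≫ f'.left).appTop x = _
  rw [Scheme.Hom.comp_appTop]
  rfl

variable {U V : X.Etale} (g : V ⟶ U)

/-- The functions on the terms of the resolution. -/
abbrev C (p : ℕ) : Type u := Γ((M g p).1.left, ⊤)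

noncomputable instance (p : ℕ) : Algebra Γ(U.left, ⊤) (C g p) := (rs (M g p).2).toAlgebra

/-- The alternating sum of the faces. -/
noncomputable def dd (p : ℕ) : C g p →ₗ[Γ(U.left, ⊤)] C g (p + 1) :=
  ∑ i : Fin (p + 1), ((-1 : ℤ) ^ (i : ℕ)) •
    ({ toFun := rs (face g p i).1
       map_add' := map_add _
       map_smul' := fun a x => by
         change rs _ (rs (M g p).2 a * x) = rs (M g (p + 1)).2 a * rs _ x
         rw [map_mul, ← rs_comp, (face g p i).2] } : C g p →ₗ[Γ(U.left, ⊤)] C g (p + 1))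

theorem dd_apply (p : ℕ) (x : C g p) :
    dd g p x = ∑ i : Fin (p + 1), ((-1 : ℤ) ^ (i : ℕ)) • rs (face g p i).1 x := by
  simp [dd, LinearMap.sum_apply]

/-- The projection to the first factor. -/
noncomputable def pr (p : ℕ) : Γ(V.left, ⊤) →+* C g (p + 1) :=
  (show (M g (p + 1)).1.left ⟶ V.left from pullback.fst g.left (M g p).2.left).appTop.hom

theorem rs_TMap_pr (p : ℕ) (i : Fin (p + 1)) (b : Γ(V.left, ⊤)) :
    rs (TMap g (face g p i).1 (face g p i).2) (pr g p b) = pr g (p + 1) b := by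
  have h : (TMap g (face g p i).1 (face g p i).2).left ≫ pullback.fst g.left (M g p).2.left =
      pullback.fst g.left (M g (p + 1)).2.left := pullback.lift_fst _ _ _
  exact congrArg (fun k => k.appTop.hom b) h

/-- The projection to the second factor. -/
noncomputable def qq (p : ℕ) : C g p →+* C g (p + 1) := rs (q g (M g p))

theorem rs_TMap_q (p : ℕ) (i : Fin (p + 1)) (x : C g p) :
    rs (TMap g (face g p i).1 (face g p i).2) (qq g p x) =
      qq g (p + 1) (rs (face g p i).1 x) := by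
  refine (rs_comp _ _ x).symm.trans (Eq.trans ?_ (rs_comp _ _ x))
  exact congrArg (fun k => rs k x) (TMap_q g (face g p i).1 (face g p i).2)

/-- The base change of a face. -/
noncomputable def tm (p : ℕ) (i : Fin (p + 1)) : C g (p + 1) →+* C g (p + 2) :=
  rs (TMap g (face g p i).1 (face g p i).2)

/-- The differential without the first face. -/
noncomputable def δ (p : ℕ) : C g (p + 1) →+ C g (p + 2) where
  toFun y := ∑ i : Fin (p + 1), ((-1 : ℤ) ^ (i : ℕ)) •
    tm g p i y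
  map_zero' := by simp
  map_add' y y' := by
    rw [← Finset.sum_add_distrib]
    exact Finset.sum_congr rfl fun i _ => by rw [map_add]; exact smul_add _ _ _

theorem δ_apply (p : ℕ) (y : C g (p + 1)) : δ g p y = ∑ i : Fin (p + 1), ((-1 : ℤ) ^ (i : ℕ)) •
    tm g p i y := rfl

theorem dd_succ (p : ℕ) (x : C g (p + 1)) :
    dd g (p + 1) x = qq g (p + 1) x - δ g p x := by
  rw [dd_apply, Fin.sum_univ_succ, δ_apply, sub_eq_add_neg, ← Finset.sum_neg_distrib]
  refine congrArg₂ (· + ·) ?_ (Finset.sum_congr rfl fun i _ => ?_)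
  · rw [Fin.val_zero, pow_zero, one_smul]
    rfl
  · rw [Fin.val_succ, pow_succ, mul_neg_one, neg_smul]
    rfl

theorem exists_dd [IsAffine U.left] [IsAffine V.left] (hg : Function.Surjective g.left.base) (p : ℕ)
    (c : C g (p + 1)) (hc : dd g (p + 1) c = 0) : ∃ b, dd g p b = c := by
  let : Algebra Γ(U.left, ⊤) Γ(V.left, ⊤) := (rs g).toAlgebra
  have : Etale g.left := (inferInstance : EtCoh.etaleMP g.left)
  have : Module.FaithfullyFlat Γ(U.left, ⊤) Γ(V.left, ⊤) :=
    (Flat.flat_and_surjective_iff_faithfullyFlat_of_isAffine g.left).1 ⟨inferInstance, ⟨hg⟩⟩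
  have := Cartan.isAffine_M g p
  have := Cartan.isAffine_M g (p + 1)
  obtain ⟨φ₀, hφ₀, hb₀⟩ := bijective_tensor (isPushout_appTop_of_isPullback
    (IsPullback.of_hasPullback g.left (M g p).2.left))
  obtain ⟨φ₁, hφ₁, hb₁⟩ := bijective_tensor (isPushout_appTop_of_isPullback
    (IsPullback.of_hasPullback g.left (M g (p + 1)).2.left))
  have h0 : ∀ b x, φ₀ (b ⊗ₜ x) = pr g p b * qq g p x := hφ₀
  have h1 : ∀ b x, φ₁ (b ⊗ₜ x) = pr g (p + 1) b * qq g (p + 1) x := hφ₁
  refine amitsur_step (dd g p) φ₀.toAddMonoidHom φ₁.toAddMonoidHom (δ g p) hb₀.2 hb₁.1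
    (fun b x => ?_) c ?_
  · change φ₁ (b ⊗ₜ dd g p x) = δ g p (φ₀ (b ⊗ₜ x))
    rw [h0, h1, dd_apply, δ_apply, map_sum, Finset.mul_sum]
    refine Finset.sum_congr rfl fun i _ => ?_
    rw [map_zsmul, mul_smul_comm]
    refine congrArg _ ?_
    exact ((map_mul _ _ _).trans
      (congrArg₂ (· * ·) (rs_TMap_pr g p i b) (rs_TMap_q g p i x))).symm
  · change φ₁ (1 ⊗ₜ c) = δ g p c
    rw [h1, map_one, one_mul]
    rw [dd_succ] at hc
    exact sub_eq_zero.1 hc

theorem cechExact_Ga : Cartan.CechExact (EtCoh.Ga X) := by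
  intro U V _ _ g hg p φ hφ
  let val : ∀ W : X.Etale, (FreeOn.P W ⟶ EtCoh.Ga X) → Γ(W.left, ⊤) :=
    fun W k => (k.hom.app (op W) (FreeOn.can W)).down
  have hd : ∀ n (k : FreeOn.P (M g n).1 ⟶ EtCoh.Ga X),
      val _ (d g n ≫ k) = dd g n (val _ k) := fun n k => by
    rw [dd_apply]
    have h := Cartan.d_comp_app g n k
    let dn : EtCoh.sect (EtCoh.Ga X) (M g (n + 1)).1 →+ C g (n + 1) :=
      { toFun := fun s => s.down, map_zero' := rfl, map_add' := fun _ _ => rfl }
    refine (congrArg dn h).trans ?_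
    rw [map_sum]
    refine Finset.sum_congr rfl fun i _ => ?_
    rw [map_zsmul]
    rfl
  have hc : dd g (p + 1) (val _ φ) = 0 := by
    rw [← hd, hφ]
    rfl
  obtain ⟨b, hb⟩ := exists_dd g hg p _ hc
  obtain ⟨ψ, hψ⟩ := FreeOn.exists_hom (M g p).1 (F := EtCoh.Ga X) (ULift.up b)
  refine ⟨ψ, Present.map_ext ?_⟩
  have h : val _ (d g p ≫ ψ) = val _ φ := by
    rw [hd, ← hb]
    exact congrArg (dd g p) (congrArg ULift.down hψ)
  exact congrArg ULift.up h

end Groth.Agent.EtSite.GaAcyclic
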