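import Groth.Agent.EtSite.IntegralSplit
import Groth.Prelude.Def_BigSite
import Mathlib.AlgebraicGeometry.Limits

/-!
# Condition (C) for integral topological closed embeddings
-/

set_option autoImplicit false
set_option backward.isDefEq.respectTransparency.types false

universe u

open CategoryTheory CategoryTheory.Limits AlgebraicGeometry TopologicalSpace

namespace Groth.Agent.EtSite.IntegralPropC

theorem propC {X Y : Scheme.{u}} (f : X ⟶ Y) [IsIntegralHom f]
    (hf : Topology.IsClosedEmbedding f.base) : BigSite.PropC f := by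
  intro U g _
  have hu : ∀ u : U, ∃ (V : Scheme.{u}) (v : V ⟶ Y) (_ : Etale v) (μ : Type u)
      (W : μ → (pullback f v).Opens) (h : ∀ a, (W a : Scheme.{u}) ⟶ U),
      Pairwise (fun a b => Disjoint (W a) (W b)) ∧ (⨆ a, W a) = ⊤ ∧
        (∀ a, h a ≫ g = (W a).ι ≫ pullback.fst f v) ∧ ∃ a w, (h a).base w = u := by
    intro u
    have hd := g.isDiscrete_preimage_singleton (g.base u)
    obtain ⟨O', hO', hO''⟩ := isOpen_induced_iff.1 ((discreteTopology_iff_isOpen_singleton.1
      hd.to_subtype) (⟨u, rfl⟩ : g.base ⁻¹' {g.base u}))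
    let U' : U.Opens := ⟨O', hO'⟩
    have huU : u ∈ U' := (hO''.symm.le (Set.mem_singleton _) :)
    have hiso : ∀ u' ∈ U', g.base u' = g.base u → u' = u := fun u' h' he =>
      congrArg Subtype.val (hO''.le (show (⟨u', he⟩ : g.base ⁻¹' {g.base u}) ∈ Subtype.val ⁻¹' O' from h'))
    obtain ⟨O₀, hO₀, hpre⟩ := hf.isInducing.isOpen_iff.1 (g.isOpenMap _ hO')
    let O : Y.Opens := ⟨O₀, hO₀⟩
    have hyO : f.base (g.base u) ∈ O := show g.base u ∈ f.base ⁻¹' O₀ from hpre.ge ⟨u, huU, rfl⟩
    let X' := pullback f O.ι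
    let p : X' ⟶ X := pullback.fst f O.ι
    let q : X' ⟶ O.toScheme := pullback.snd f O.ι
    let y : O.toScheme := ⟨_, hyO⟩
    let gg : PUnit.{u + 1} → (pullback (U'.ι ≫ g) p ⟶ X') := fun _ => pullback.snd _ _
    have hgg : ∀ i, Etale (gg i) := fun _ => MorphismProperty.pullback_snd _ _ (inferInstance : Etale (U'.ι ≫ g))
    have hcov : ∀ x : X', ∃ i, x ∈ Set.range (gg i).base := by
      intro x
      have hx : f.base (p.base x) ∈ O₀ := by
        rw [← Scheme.Hom.comp_apply, pullback.condition, Scheme.Hom.comp_apply]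
        exact (pullback.snd f O.ι x).2
      obtain ⟨w, hw, hwx⟩ := hpre.le (show p.base x ∈ f.base ⁻¹' O₀ from hx)
      obtain ⟨z, -, hz⟩ := Scheme.Pullback.exists_preimage_pullback (f := U'.ι ≫ g) (g := p)
        (⟨w, hw⟩ : U'.toScheme) x ((Scheme.Hom.comp_apply _ _ _).trans hwx)
      exact ⟨PUnit.unit, z, hz⟩
    obtain ⟨V, v, hv, γ', hγ', μ, W, hWd, hWt, hW⟩ :=
      exists_integral_split q (Weighting.geoPt O.toScheme y) gg hgg hcov
    choose i h hh using hW
    let e := pullbackLeftPullbackSndIso f O.ι v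
    let π : pullback f (v ≫ O.ι) ⟶ pullback q v := e.inv
    have he : π ≫ pullback.fst q v ≫ p = pullback.fst f (v ≫ O.ι) :=
      pullbackLeftPullbackSndIso_inv_fst f O.ι v
    refine ⟨V, v ≫ O.ι, inferInstance, μ, fun a => π ⁻¹ᵁ W a,
      fun a => π ∣_ W a ≫ h a ≫ pullback.fst _ _ ≫ U'.ι, fun a b hab => ?_, ?_, fun a => ?_, ?_⟩
    · refine disjoint_iff_inf_le.2 fun x hx => ?_
      exact (disjoint_iff_inf_le.1 (hWd a b hab) (x := π x) hx).elim
    · rw [← Scheme.Hom.preimage_iSup, hWt]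
      rfl
    · have h1 : (pullback.fst (U'.ι ≫ g) p ≫ U'.ι) ≫ g = gg (i a) ≫ p := by
        rw [Category.assoc]; exact pullback.condition
      rw [← he, Category.assoc, Category.assoc, h1, reassoc_of% (hh a), ← morphismRestrict_ι_assoc]
    · obtain ⟨z, hz₁, hz₂⟩ := Scheme.Pullback.exists_preimage_pullback (f := f) (g := v ≫ O.ι) (g.base u)
        (Weighting.pt γ') (by
          rw [Scheme.Hom.comp_apply, ← Weighting.pt_comp γ' v, hγ', Weighting.pt_geoPt]
          rfl)
      obtain ⟨a, ha⟩ := Opens.mem_iSup.1 (show π.base z ∈ ⨆ a, W a by rw [hWt]; trivial)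
      refine ⟨a, ⟨z, ha⟩, ?_⟩
      let w : (π ⁻¹ᵁ W a).toScheme := ⟨z, ha⟩
      let m := π ∣_ W a ≫ h a ≫ pullback.fst (U'.ι ≫ g) p
      have hm : m ≫ U'.ι ≫ g = (π ⁻¹ᵁ W a).ι ≫ pullback.fst f (v ≫ O.ι) := by
        rw [← he, Category.assoc, Category.assoc, pullback.condition, reassoc_of% (hh a),
          ← morphismRestrict_ι_assoc]
      have hmw : g.base (U'.ι.base (m.base w)) = g.base u := by
        rw [← Scheme.Hom.comp_apply, ← Scheme.Hom.comp_apply, hm, Scheme.Hom.comp_apply]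
        exact hz₁
      have := hiso _ (m.base w).2 hmw
      show (π ∣_ W a ≫ h a ≫ pullback.fst _ _ ≫ U'.ι).base w = u
      rw [show (π ∣_ W a ≫ h a ≫ pullback.fst _ _ ≫ U'.ι) = m ≫ U'.ι by simp only [m, Category.assoc],
        Scheme.Hom.comp_apply]
      exact this
  choose V v hv μ W h hd ht hh hsurj using hu
  let vd : ∐ V ⟶ Y := Sigma.desc v
  have hvd : Etale vd := IsZariskiLocalAtSource.sigmaDesc hv
  let P := pullback f vd
  let Q := fun u : U => pullback (pullback.snd f vd) (Sigma.ι V u)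
  let π : ∀ u, Q u ⟶ pullback f (v u) := fun u => pullback.lift (pullback.fst _ _ ≫ pullback.fst _ _) (pullback.snd _ _)
    (by
      rw [Category.assoc, pullback.condition, ← Category.assoc, pullback.condition, Category.assoc]
      simp [vd])
  let N : (Σ u : U, μ u) → Scheme.{u} := fun k => (π k.1 ⁻¹ᵁ W k.1 k.2 : (Q k.1).Opens)
  let j : ∀ k, N k ⟶ P := fun k => (π k.1 ⁻¹ᵁ W k.1 k.2).ι ≫ pullback.fst _ _
  have hjo : ∀ k, IsOpenImmersion (j k) := fun k => inferInstanceAs
    (IsOpenImmersion ((π k.1 ⁻¹ᵁ W k.1 k.2).ι ≫ pullback.fst (pullback.snd f vd) (Sigma.ι V k.1)))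
  have hcov : ⨆ k, (j k).opensRange = ⊤ := by
    rw [eq_top_iff]
    intro x _
    obtain ⟨u, y, hy⟩ : ∃ u y, (Sigma.ι V u).base y = (pullback.snd f vd).base x :=
      ⟨_, (sigmaOpenCover V).covers ((pullback.snd f vd).base x)⟩
    obtain ⟨z, hz, -⟩ := Scheme.Pullback.exists_preimage_pullback (f := pullback.snd f vd) (g := Sigma.ι V u) x y hy.symm
    obtain ⟨a, ha⟩ := Opens.mem_iSup.1 (show (π u).base z ∈ ⨆ a, W u a by rw [ht]; trivial)
    exact Opens.mem_iSup.2 ⟨⟨u, a⟩, ⟨z, ha⟩, (Scheme.Hom.comp_apply _ _ _).trans hz⟩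
  have hdisj : Pairwise (Function.onFun Disjoint (fun k => (j k).opensRange)) := by
    rintro ⟨u, a⟩ ⟨u', a'⟩ hne
    refine disjoint_iff_inf_le.2 ?_
    rintro x ⟨⟨s, hs⟩, ⟨s', hs'⟩⟩
    have e1 : (pullback.fst (pullback.snd f vd) (Sigma.ι V u)).base s.1 = x := hs
    have e1' : (pullback.fst (pullback.snd f vd) (Sigma.ι V u')).base s'.1 = x := hs'
    have hu : u = u' := by
      by_contra hne'
      have key : ∀ (u'' : U) (r : Q u''), (pullback.fst (pullback.snd f vd) (Sigma.ι V u'')).base r = x →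
          (pullback.snd f vd).base x ∈ (Sigma.ι V u'').opensRange := fun u'' r hr =>
        ⟨(pullback.snd (pullback.snd f vd) (Sigma.ι V u'')).base r, by
          rw [← hr, ← Scheme.Hom.comp_apply, ← Scheme.Hom.comp_apply, pullback.condition]⟩
      exact (disjoint_iff_inf_le.1 (disjoint_opensRange_sigmaι V u u' hne')
        (x := (pullback.snd f vd).base x) ⟨key u _ e1, key u' _ e1'⟩).elim
    subst hu
    have hss : s.1 = s'.1 :=
      (pullback.fst (pullback.snd f vd) (Sigma.ι V u)).isOpenEmbedding.injective (e1.trans e1'.symm)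
    have ha : a ≠ a' := fun h' => hne (by rw [h'])
    exact (disjoint_iff_inf_le.1 (hd u ha) (x := (π u).base s.1) ⟨s.2, hss ▸ s'.2⟩).elim
  obtain ⟨hcol⟩ := nonempty_isColimit_cofanMk_of j hcov hdisj
  let H : P ⟶ U := Cofan.IsColimit.desc hcol fun k => (π k.1 ∣_ W k.1 k.2) ≫ h k.1 k.2
  have hH : ∀ k, j k ≫ H = (π k.1 ∣_ W k.1 k.2) ≫ h k.1 k.2 := fun k => Cofan.IsColimit.fac hcol _ k
  refine ⟨∐ V, vd, hvd, H, Cofan.IsColimit.hom_ext hcol _ _ fun k => ?_, ⟨fun u => ?_⟩⟩
  · show j k ≫ H ≫ g = j k ≫ pullback.fst f vd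
    rw [reassoc_of% (hH k), hh, morphismRestrict_ι_assoc, pullback.lift_fst]
    exact (Category.assoc _ _ _).symm
  · obtain ⟨a, w, hw⟩ := hsurj u
    have hπ : Function.Surjective (π u).base := fun t => by
      obtain ⟨x, hx₁, hx₂⟩ := Scheme.Pullback.exists_preimage_pullback (f := f) (g := vd)
        ((pullback.fst f (v u)).base t) ((Sigma.ι V u).base ((pullback.snd f (v u)).base t)) (by
          rw [← Scheme.Hom.comp_apply, ← Scheme.Hom.comp_apply, ← Scheme.Hom.comp_apply]
          exact congrArg (fun m : pullback f (v u) ⟶ Y => m.base t) (pullback.condition.trans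
            (((congrArg (pullback.snd f (v u) ≫ ·) (Sigma.ι_desc v u)).symm).trans (Category.assoc _ _ _).symm)))
      let l : pullback f (v u) ⟶ Q u := pullback.lift (pullback.lift (pullback.fst _ _) (pullback.snd _ _ ≫ Sigma.ι V u)
        (by rw [Category.assoc, Sigma.ι_desc, pullback.condition])) (pullback.snd _ _) (pullback.lift_snd _ _ _)
      refine ⟨l.base t, ?_⟩
      have : l ≫ π u = 𝟙 _ := by
        apply pullback.hom_ext
        · exact (Category.assoc _ _ _).trans ((congrArg (l ≫ ·) (pullback.lift_fst _ _ _)).trans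
            (((Category.assoc _ _ _).symm.trans (congrArg (· ≫ pullback.fst f vd) (pullback.lift_fst _ _ _))).trans
              ((pullback.lift_fst _ _ _).trans (Category.id_comp _).symm)))
        · exact (Category.assoc _ _ _).trans ((congrArg (l ≫ ·) (pullback.lift_snd _ _ _)).trans
            ((pullback.lift_snd _ _ _).trans (Category.id_comp _).symm))
      rw [← Scheme.Hom.comp_apply, this]
      rfl
    obtain ⟨t, ht'⟩ := hπ w.1
    have htW : t ∈ π u ⁻¹ᵁ W u a := show (π u).base t ∈ W u a by rw [ht']; exact w.2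
    refine ⟨(j ⟨u, a⟩).base ⟨t, htW⟩, ?_⟩
    rw [← Scheme.Hom.comp_apply, hH, Scheme.Hom.comp_apply]
    refine (congrArg (h u a).base ?_).trans hw
    refine Subtype.ext (Eq.trans ?_ ht')
    exact congrArg Subtype.val (congrFun (morphismRestrict_base (π u) (W u a)) ⟨t, htW⟩)

end Groth.Agent.EtSite.IntegralPropC
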