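import Groth.Agent.EtSite.Split
import Mathlib.AlgebraicGeometry.Morphisms.Integral
import Mathlib.AlgebraicGeometry.Morphisms.Finite
import Mathlib.AlgebraicGeometry.Morphisms.Etale
import Mathlib.RingTheory.Smooth.NoetherianDescent
import Mathlib.RingTheory.Etale.Basic

/-!
# Étale local splitting of integral morphisms

Every étale covering of `X`, for `X ⟶ Y` integral, splits into a disjoint union of opens over an
étale neighbourhood of a given geometric point of `Y`.  Reduced to the finite case by descending the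
covering to a finite subalgebra.
-/

set_option autoImplicit false
universe u

open CategoryTheory CategoryTheory.Limits AlgebraicGeometry TensorProduct Groth.Agent.Weighting

namespace Groth.Agent.EtSite

/-- `p : P ⟶ X` splits the family `g`: `P` is a disjoint union of opens each factoring through a
member of the family. -/
def Splits {P X : Scheme.{u}} (p : P ⟶ X) {ι : Type u} {U : ι → Scheme.{u}} (g : ∀ i, U i ⟶ X) :
    Prop :=
  ∃ (μ : Type u) (W : μ → P.Opens),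
    (∀ a b, a ≠ b → Disjoint (W a) (W b)) ∧ (⨆ a, W a) = ⊤ ∧
      ∀ a, ∃ (i : ι) (h : (W a : Scheme.{u}) ⟶ U i), h ≫ g i = (W a).ι ≫ p

theorem Splits.precomp {P P' X : Scheme.{u}} {p : P ⟶ X} {ι : Type u} {U : ι → Scheme.{u}}
    {g : ∀ i, U i ⟶ X} (hp : Splits p g) (π : P' ⟶ P) : Splits (π ≫ p) g := by
  obtain ⟨μ, W, hd, ht, hW⟩ := hp
  refine ⟨μ, fun a => π ⁻¹ᵁ W a, fun a b hab => ?_, ?_, fun a => ?_⟩
  · refine disjoint_iff_inf_le.2 fun x hx => ?_
    exact (disjoint_iff_inf_le.1 (hd a b hab) (x := π x) hx).elim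
  · rw [← Scheme.Hom.preimage_iSup, ht]
    rfl
  · obtain ⟨i, h, hh⟩ := hW a
    exact ⟨i, π ∣_ W a ≫ h, by rw [Category.assoc, hh, morphismRestrict_ι_assoc]⟩

theorem Splits.of_refinement {P X X' : Scheme.{u}} {p : P ⟶ X'} {ι ι' : Type u}
    {U : ι → Scheme.{u}} {g : ∀ i, U i ⟶ X} {U' : ι' → Scheme.{u}} {g' : ∀ i, U' i ⟶ X'}
    (hp : Splits p g') (e : X' ⟶ X) (σ : ι' → ι) (m : ∀ i, U' i ⟶ U (σ i))
    (hm : ∀ i, m i ≫ g (σ i) = g' i ≫ e) : Splits (p ≫ e) g := by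
  obtain ⟨μ, W, hd, ht, hW⟩ := hp
  refine ⟨μ, W, hd, ht, fun a => ?_⟩
  obtain ⟨i, h, hh⟩ := hW a
  exact ⟨σ i, h ≫ m i, by rw [Category.assoc, hm, reassoc_of% hh]⟩

theorem Splits.of_isPullback {P X X₀ : Scheme.{u}} {p : P ⟶ X} {κ : Type u}
    {U : κ → Scheme.{u}} {q : ∀ k, U k ⟶ X} {U₀ : κ → Scheme.{u}} {q₀ : ∀ k, U₀ k ⟶ X₀}
    {π : X ⟶ X₀} {π' : ∀ k, U k ⟶ U₀ k} (hsq : ∀ k, IsPullback (π' k) (q k) (q₀ k) π)
    (hp : Splits (p ≫ π) q₀) : Splits p q := by
  obtain ⟨μ, W, hd, ht, hW⟩ := hp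
  refine ⟨μ, W, hd, ht, fun a => ?_⟩
  obtain ⟨i, h, hh⟩ := hW a
  exact ⟨i, (hsq i).lift h ((W a).ι ≫ p) (hh.trans (Category.assoc _ _ _).symm),
    (hsq i).lift_snd _ _ _⟩

set_option maxHeartbeats 1000000 in
/-- Finitely many étale algebras over an integral algebra descend to a finite subalgebra. -/
theorem exists_finite_subalgebra_model (A B : Type u) [CommRing A] [CommRing B] [Algebra A B]
    [Algebra.IsIntegral A B] {κ : Type u} [Finite κ] (C : κ → Type u) [∀ k, CommRing (C k)]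
    [∀ k, Algebra B (C k)] [∀ k, Algebra.Etale B (C k)] :
    ∃ B₀ : Subalgebra A B, Module.Finite A B₀ ∧ ∀ k, ∃ (C₀ : CommRingCat.{u})
      (i : CommRingCat.of B₀ ⟶ C₀) (r : C₀ ⟶ CommRingCat.of (C k)), i.hom.Etale ∧
        IsPushout (CommRingCat.ofHom (algebraMap B₀ B)) i
          (CommRingCat.ofHom (algebraMap B (C k))) r := by
  choose S D hDring hDalg hSfg hDet he using fun k =>
    Algebra.Etale.exists_subalgebra_fg (R := A) (A := B) (B := C k)
  cases nonempty_fintype κ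
  let B₀ : Subalgebra A B := Finset.univ.sup S
  have hle : ∀ k, S k ≤ B₀ := fun k => Finset.le_sup (Finset.mem_univ k)
  have hfg : B₀.FG := Finset.sup_induction Subalgebra.fg_bot (fun a ha b hb => ha.sup hb)
    fun k _ => hSfg k
  have : Algebra.FiniteType A B₀ := B₀.fg_iff_finiteType.1 hfg
  have : Algebra.IsIntegral A B₀ := .of_injective B₀.val Subtype.val_injective
  refine ⟨B₀, Algebra.IsIntegral.finite, fun k => ?_⟩
  let := (Subalgebra.inclusion (hle k)).toRingHom.toAlgebra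
  have : IsScalarTower (S k) B₀ B := IsScalarTower.of_algebraMap_eq fun _ => rfl
  let D' := B₀ ⊗[S k] D k
  obtain ⟨e⟩ := he k
  let e' : B ⊗[B₀] D' ≃ₐ[B] C k :=
    (Algebra.TensorProduct.cancelBaseChange (S k) B₀ B B (D k)).trans e.symm
  refine ⟨CommRingCat.of D', CommRingCat.ofHom (algebraMap B₀ D'),
    CommRingCat.ofHom (Algebra.TensorProduct.includeRight (R := B₀) (A := B) (B := D')).toRingHom ≫
      (RingEquiv.toCommRingCatIso (R := B ⊗[B₀] D') (S := C k) e'.toRingEquiv).hom, ?_, ?_⟩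
  · exact RingHom.etale_algebraMap.2 inferInstance
  · refine (CommRingCat.isPushout_tensorProduct B₀ B D').of_iso (Iso.refl _) (Iso.refl _) (Iso.refl _)
      (RingEquiv.toCommRingCatIso (R := B ⊗[B₀] D') (S := C k) e'.toRingEquiv) (by simp) (by simp) ?_ ?_
    · ext b
      exact e'.commutes b
    · exact (Category.id_comp _).symm

theorem exists_finite_model {X Y : Scheme.{u}} (f : X ⟶ Y) [IsAffine Y] [IsIntegralHom f]
    {κ : Type u} [Finite κ] (U : κ → Scheme.{u}) [∀ k, IsAffine (U k)] (q : ∀ k, U k ⟶ X)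
    (hq : ∀ k, Etale (q k)) :
    ∃ (X₀ : Scheme.{u}) (π : X ⟶ X₀) (f₀ : X₀ ⟶ Y) (_ : IsFinite f₀) (_ : Surjective π)
      (U₀ : κ → Scheme.{u}) (q₀ : ∀ k, U₀ k ⟶ X₀) (π' : ∀ k, U k ⟶ U₀ k),
      π ≫ f₀ = f ∧ (∀ k, Etale (q₀ k)) ∧ ∀ k, IsPullback (π' k) (q k) (q₀ k) π := by
  have : IsAffine X := isAffine_of_isAffineHom f
  let A := Γ(Y, ⊤)
  let B := Γ(X, ⊤)
  algebraize [f.appTop.hom]
  have : Algebra.IsIntegral A B :=
    algebraMap_isIntegral_iff.1 (IsIntegralHom.isIntegral_app f ⊤ (isAffineOpen_top Y))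
  let := fun k => (q k).appTop.hom.toAlgebra
  have : ∀ k, Algebra.Etale B Γ(U k, ⊤) := fun k =>
    RingHom.etale_algebraMap.1 (HasRingHomProperty.appTop (P := @Etale) (q k) (hq k))
  obtain ⟨B₀, _, hmodel⟩ := exists_finite_subalgebra_model A B fun k => Γ(U k, ⊤)
  choose C₀ i r hi hpush using hmodel
  let j : CommRingCat.of B₀ ⟶ B := CommRingCat.ofHom (algebraMap B₀ B)
  let a : A ⟶ CommRingCat.of B₀ := CommRingCat.ofHom (algebraMap A B₀)
  have hsurj : Surjective (Spec.map j) := ⟨by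
    have hj : (algebraMap B₀ B).IsIntegral := fun b =>
      (Algebra.IsIntegral.isIntegral (R := A) b).tower_top
    exact hj.comap_surjective Subtype.val_injective⟩
  refine ⟨Spec (CommRingCat.of B₀), X.isoSpec.hom ≫ Spec.map j, Spec.map a ≫ Y.isoSpec.inv,
    ?_, inferInstance, fun k => Spec (C₀ k), fun k => Spec.map (i k),
    fun k => (U k).isoSpec.hom ≫ Spec.map (r k), ?_, fun k => ?_, fun k => ?_⟩
  · have : IsFinite (Spec.map a) := (IsFinite.SpecMap_iff _).2 (RingHom.finite_algebraMap.2 ‹_›)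
    infer_instance
  · have : a ≫ j = f.appTop := by ext; rfl
    rw [Category.assoc, ← Spec.map_comp_assoc, this, Scheme.isoSpec_inv_naturality,
      Iso.hom_inv_id_assoc]
  · exact (HasRingHomProperty.Spec_iff (P := @Etale)).2 (hi k)
  · refine (isPullback_SpecMap_of_isPushout _ _ _ _ (hpush k)).flip.of_iso
      (U k).isoSpec.symm (Iso.refl _) X.isoSpec.symm (Iso.refl _) ?_ ?_ ?_ ?_
    · simp
    · exact (Scheme.isoSpec_inv_naturality (q k))
    · simp
    · simp [j]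

variable {Ω : Type u} [Field Ω] [IsAlgClosed Ω]

theorem exists_integral_split_affine {X Y : Scheme.{u}} (f : X ⟶ Y) [IsAffine Y] [IsIntegralHom f]
    (γ : Spec (CommRingCat.of Ω) ⟶ Y) {ι : Type u} {U : ι → Scheme.{u}} (g : ∀ i, U i ⟶ X)
    (hg : ∀ i, Etale (g i)) (hcov : ∀ x : X, ∃ i, x ∈ Set.range (g i).base) :
    ∃ (V : Scheme.{u}) (v : V ⟶ Y) (_ : Etale v) (γ' : Spec (CommRingCat.of Ω) ⟶ V),
      γ' ≫ v = γ ∧ Splits (pullback.fst f v) g := by
  classical
  have : IsAffine X := isAffine_of_isAffineHom f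
  -- finitely many affine opens of the `U i` cover `X`
  choose i p hp using hcov
  choose O hO hpO hsub using fun x =>
    exists_isAffineOpen_mem_and_subset (U := (⊤ : (U (i x)).Opens)) (x := p x) trivial
  obtain ⟨t, ht⟩ := isCompact_univ.elim_finite_subcover (fun x => (g (i x)).base '' (O x : Set _))
    (fun x => by
      have := hg (i x)
      exact (g (i x)).isOpenMap _ (O x).2)
    (fun x _ => Set.mem_iUnion.2 ⟨x, p x, hpO x, hp x⟩)
  let U' : ↥(t : Set X) → Scheme.{u} := fun k => O k.1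
  let q : ∀ k, U' k ⟶ X := fun k => (O k.1).ι ≫ g (i k.1)
  have : ∀ k, IsAffine (U' k) := fun k => hO k.1
  have hq : ∀ k, Etale (q k) := fun k => by
    have := hg (i k.1)
    exact inferInstanceAs (Etale ((O k.1).ι ≫ g (i k.1)))
  obtain ⟨X₀, π, f₀, _, hπs, U₀, q₀, π', hf, hq₀, hsq⟩ := exists_finite_model f U' q hq
  let K : Type u := {ξ : Spec (CommRingCat.of Ω) ⟶ X₀ // ξ ≫ f₀ = γ}
  have : Finite K := Set.finite_coe_iff.2 ((Weighting.finite_geoFib f₀ γ Set.univ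
    ((f₀.finite_preimage_singleton _).inter_of_left _)).subset fun ξ hξ => ⟨hξ, trivial⟩)
  have hex : ∀ ξ : K, ∃ (k : ↥(t : Set X)) (u : Spec (CommRingCat.of Ω) ⟶ U₀ k), u ≫ q₀ k = ξ.1 := by
    intro ξ
    obtain ⟨x, hx⟩ := π.surjective (pt ξ.1)
    have hmem := ht (Set.mem_univ x)
    simp only [Set.mem_iUnion] at hmem
    obtain ⟨x₁, hx₁, z, hz, hzx⟩ := hmem
    let k : ↥(t : Set X) := ⟨x₁, hx₁⟩
    have hq' : (q₀ k) ((π' k) ⟨z, hz⟩) = pt ξ.1 := by
      rw [← Scheme.Hom.comp_apply, (hsq k).w, Scheme.Hom.comp_apply, ← hx, ← hzx]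
      rfl
    have := hq₀ k
    obtain ⟨u, hu, -⟩ := (Weighting.finite_geoFib_singleton (q₀ k) ξ.1 _ hq').2.1
    exact ⟨k, u, hu⟩
  choose k u hu using hex
  obtain ⟨V, v, hv, γ', C, c, φ, w, hγ', hc, hφ, -, -, hd, hcv⟩ :=
    exists_split f₀ γ (fun ξ => U₀ (k ξ)) (fun ξ => q₀ (k ξ)) u (fun ξ => hq₀ _)
      (fun ξ => (Category.assoc _ _ _).symm.trans ((congrArg (· ≫ f₀) (hu ξ)).trans ξ.2))
      (fun ξ h => ⟨⟨ξ, h⟩, hu ⟨ξ, h⟩⟩)
      (fun a b h => Subtype.ext ((hu a).symm.trans (h.trans (hu b))))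
  refine ⟨V, v, hv, γ', hγ', ?_⟩
  have h0 : Splits (pullback.fst f₀ v) q₀ := by
    refine ⟨K, fun ξ => (c ξ).opensRange, fun a b hab => ?_, ?_, fun ξ => ?_⟩
    · exact disjoint_iff_inf_le.2 fun x hx => (Set.disjoint_left.1 (hd hab) hx.1 hx.2).elim
    · exact top_unique fun x _ => TopologicalSpace.Opens.mem_iSup.2 (hcv x)
    · refine ⟨k ξ, (c ξ).isoOpensRange.inv ≫ φ ξ, ?_⟩
      rw [Category.assoc, hφ, ← Category.assoc, Scheme.Hom.isoOpensRange_inv_comp]
  have h1 : Splits (pullback.fst f v ≫ π) q₀ := by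
    have := h0.precomp (pullback.map f v f₀ v π (𝟙 _) (𝟙 _)
      (by rw [Category.comp_id, hf]) (by simp))
    rwa [pullback.lift_fst] at this
  have h2 := Splits.of_isPullback hsq h1
  rw [← Category.comp_id (pullback.fst f v)]
  exact h2.of_refinement (𝟙 X) (fun k => i k.1) (fun k => (O k.1).ι)
    (fun k => (Category.comp_id _).symm)

theorem exists_integral_split {X Y : Scheme.{u}} (f : X ⟶ Y) [IsIntegralHom f]
    (γ : Spec (CommRingCat.of Ω) ⟶ Y) {ι : Type u} {U : ι → Scheme.{u}} (g : ∀ i, U i ⟶ X)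
    (hg : ∀ i, Etale (g i)) (hcov : ∀ x : X, ∃ i, x ∈ Set.range (g i).base) :
    ∃ (V : Scheme.{u}) (v : V ⟶ Y) (_ : Etale v) (γ' : Spec (CommRingCat.of Ω) ⟶ V),
      γ' ≫ v = γ ∧ Splits (pullback.fst f v) g := by
  obtain ⟨O, hO, hγO, -⟩ := exists_isAffineOpen_mem_and_subset (U := (⊤ : Y.Opens)) (x := pt γ) trivial
  have : IsAffine O := hO
  have hr : Set.range γ ⊆ Set.range O.ι := by
    rintro _ ⟨s, rfl⟩
    rw [Scheme.Opens.range_ι, point_eq s]
    exact hγO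
  let γO := IsOpenImmersion.lift O.ι γ hr
  let X' := pullback f O.ι
  let g' : ∀ i, pullback (g i) (pullback.fst f O.ι) ⟶ X' := fun i => pullback.snd _ _
  have hg' : ∀ i, Etale (g' i) := fun i => MorphismProperty.pullback_snd _ _ (hg i)
  obtain ⟨V, v, hv, γ', hγ', hsp⟩ := exists_integral_split_affine (pullback.snd f O.ι) γO g' hg'
    (fun x => by
      obtain ⟨i, z, hz⟩ := hcov (pullback.fst f O.ι x)
      obtain ⟨w, -, hw⟩ := Scheme.Pullback.exists_preimage_pullback z x hz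
      exact ⟨i, w, hw⟩)
  refine ⟨V, v ≫ O.ι, inferInstance, γ', ?_, ?_⟩
  · rw [reassoc_of% hγ', IsOpenImmersion.lift_fac]
  · have h1 := hsp.of_refinement (g := g) (pullback.fst f O.ι) id (fun i => pullback.fst _ _)
      (fun i => pullback.condition)
    have h2 := h1.precomp (pullbackLeftPullbackSndIso f O.ι v).inv
    rwa [pullbackLeftPullbackSndIso_inv_fst] at h2

end Groth.Agent.EtSite
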