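import Groth.Prelude.Def_EtOpen
import Groth.Agent.EtSite.GaAcyclic
import Groth.Agent.EtSite.Sect
import Groth.Agent.FpqcDescent.Affine
import Mathlib.RingTheory.Flat.Equalizer
import Mathlib.AlgebraicGeometry.Morphisms.LocalFlatDescent
import Mathlib.AlgebraicGeometry.Sites.Fpqc

/-!
# Finite locally constant sheaves of sets on affine schemes are represented by finite étale schemes

For a sheaf `F` trivialized by a finite affine étale covering `V → X` there is a finite étale
`V`-scheme `P` representing `F` over `V`; the scheme `Spec` of the equalizer of the two comparison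
maps `Γ(P) ⇉ Γ(P ×_X V)` represents `F`.
-/

set_option autoImplicit false
universe u

open CategoryTheory CategoryTheory.Limits AlgebraicGeometry Opposite TensorProduct

namespace Groth.Agent.EtSite.RepFinite

theorem exists_option_iso {α : Type u} (Y : Option α → Scheme.{u}) :
    ∃ e : (∐ Y) ≅ Y none ⨿ (∐ fun i => Y (some i)), Sigma.ι Y none ≫ e.hom = coprod.inl ∧
      ∀ i, Sigma.ι Y (some i) ≫ e.hom = Sigma.ι (fun i => Y (some i)) i ≫ coprod.inr := by
  let b : ∀ i, Y i ⟶ Y none ⨿ (∐ fun i => Y (some i)) := fun i => match i with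
    | none => coprod.inl
    | some i => Sigma.ι (fun i => Y (some i)) i ≫ coprod.inr
  refine ⟨⟨Sigma.desc b, coprod.desc (Sigma.ι Y none) (Sigma.desc fun i => Sigma.ι Y (some i)), ?_, ?_⟩,
    Sigma.ι_desc _ _, fun i => Sigma.ι_desc _ _⟩
  · refine Sigma.hom_ext _ _ fun i => ?_
    rw [← Category.assoc, Sigma.ι_desc, Category.comp_id]
    cases i with
    | none => exact coprod.inl_desc _ _
    | some i =>
      exact (Category.assoc _ _ _).trans
        ((congrArg (fun m => Sigma.ι (fun i => Y (some i)) i ≫ m) (coprod.inr_desc _ _)).trans (Sigma.ι_desc _ _))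
  · apply coprod.hom_ext
    · rw [← Category.assoc, Category.comp_id]
      exact (congrArg (fun m => m ≫ Sigma.desc b) (coprod.inl_desc _ _)).trans (Sigma.ι_desc _ _)
    · rw [← Category.assoc, Category.comp_id]
      refine (congrArg (fun m => m ≫ Sigma.desc b) (coprod.inr_desc _ _)).trans ?_
      refine Sigma.hom_ext _ _ fun i => ?_
      rw [← Category.assoc, Sigma.ι_desc]
      exact Sigma.ι_desc _ _

theorem isFinite_sigmaDesc {J : Type u} [Finite J] : ∀ {Y : J → Scheme.{u}} {X : Scheme.{u}}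
    (f : ∀ i, Y i ⟶ X), (∀ i, IsFinite (f i)) → IsFinite (Sigma.desc f) := by
  refine Finite.induction_empty_option (P := fun K : Type u => ∀ {Y : K → Scheme.{u}} {X : Scheme.{u}}
    (f : ∀ i, Y i ⟶ X), (∀ i, IsFinite (f i)) → IsFinite (Sigma.desc f)) ?_ ?_ ?_ J
  · intro α β e ih Y X f hf
    have h := ih (fun i => f (e i)) fun i => hf _
    have he : Sigma.desc f = (Sigma.reindex e Y).inv ≫ Sigma.desc fun i => f (e i) := by
      rw [Iso.eq_inv_comp]
      refine Sigma.hom_ext _ _ fun i => ?_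
      simp
    rw [he]
    exact MorphismProperty.comp_mem @IsFinite _ _ inferInstance h
  · intro Y X f _
    have : IsEmpty (∐ Y : Scheme.{u}) := ⟨fun y => by
      obtain ⟨⟨i, z⟩, -⟩ := (sigmaMk Y).surjective y
      exact i.elim⟩
    infer_instance
  · intro α _ ih Y X f hf
    obtain ⟨e, he₁, he₂⟩ := exists_option_iso Y
    have hg : IsFinite (Sigma.desc fun i => f (some i)) := ih _ fun i => hf (some i)
    have := hf none
    have he : Sigma.desc f = e.hom ≫ coprod.desc (f none) (Sigma.desc fun i => f (some i)) := by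
      refine Sigma.hom_ext _ _ fun i => ?_
      rw [Sigma.ι_desc, ← Category.assoc]
      cases i with
      | none => exact ((congrArg (fun m => m ≫ _) he₁).trans (coprod.inl_desc _ _)).symm
      | some i =>
        exact ((congrArg (fun m => m ≫ _) (he₂ i)).trans ((Category.assoc _ _ _).trans
          ((congrArg (fun m => Sigma.ι (fun i => Y (some i)) i ≫ m)
            (coprod.inr_desc (f none) (Sigma.desc fun i => f (some i)))).trans (Sigma.ι_desc _ _)))).symm
    have h1 : IsFinite (coprod.desc (f none) (Sigma.desc fun i => f (some i))) := inferInstance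
    have : IsClosedImmersion e.hom := inferInstance
    rw [he]
    exact MorphismProperty.comp_mem @IsFinite _ _ inferInstance h1

theorem isoSpec_inv_appTop' (Y : Scheme.{u}) [IsAffine Y] :
    Y.isoSpec.inv.appTop = (Scheme.ΓSpecIso Γ(Y, ⊤)).inv := by
  rw [← cancel_epi (Scheme.ΓSpecIso Γ(Y, ⊤)).hom, Iso.hom_inv_id, ← Scheme.toSpecΓ_appTop,
    ← Scheme.Hom.comp_appTop, Scheme.isoSpec_inv_toSpecΓ]
  simp

/-- Global functions on a fibre product, for given algebra structures. -/
theorem bijective_tensor' {R S T : Type u} [CommRing R] [CommRing S] [CommRing T] [Algebra R S]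
    [Algebra R T] {P : CommRingCat.{u}} {i : CommRingCat.of S ⟶ P} {j : CommRingCat.of T ⟶ P}
    (h : IsPushout (CommRingCat.ofHom (algebraMap R S)) (CommRingCat.ofHom (algebraMap R T)) i j) :
    ∃ φ : S ⊗[R] T →+* P, (∀ x y, φ (x ⊗ₜ y) = i x * j y) ∧ Function.Bijective φ := by
  have h0 := CommRingCat.isPushout_tensorProduct R S T
  let e := h0.isoIsPushout _ _ h
  refine ⟨e.hom.hom, fun x y => ?_, e.commRingCatIsoToRingEquiv.bijective⟩
  have e1 : e.hom (x ⊗ₜ 1) = i x :=
    congrArg (fun k => k.hom x) (h0.inl_isoIsPushout_hom _ _ h)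
  have e2 : e.hom (1 ⊗ₜ y) = j y :=
    congrArg (fun k => k.hom y) (h0.inr_isoIsPushout_hom _ _ h)
  rw [← e1, ← e2, ← map_mul, Algebra.TensorProduct.tmul_mul_tmul, mul_one, one_mul]

theorem isIso_of_bijective_appTop {Y Z : Scheme.{u}} [IsAffine Y] [IsAffine Z] (f : Y ⟶ Z)
    (h : Function.Bijective f.appTop) : IsIso f := by
  have : IsIso f.appTop := (ConcreteCategory.isIso_iff_bijective _).2 h
  have e : f = Y.isoSpec.hom ≫ Spec.map f.appTop ≫ Z.isoSpec.inv := by
    rw [← Category.assoc, Iso.eq_comp_inv]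
    exact (Scheme.isoSpec_hom_naturality f).symm
  rw [e]
  infer_instance

/-- A square of affine schemes is cartesian if it is so on global functions. -/
theorem isPullback_of_bijective {P V Y : Scheme.{u}} [IsAffine P] [IsAffine V] [IsAffine Y] (v : P ⟶ V)
    (h : V ⟶ Y) {B : Type u} [CommRing B] [Algebra Γ(Y, ⊤) B] [Algebra Γ(Y, ⊤) Γ(V, ⊤)]
    (hV : CommRingCat.ofHom (algebraMap Γ(Y, ⊤) Γ(V, ⊤)) = h.appTop) (j : B →+* Γ(P, ⊤))
    (ψ : Γ(V, ⊤) ⊗[Γ(Y, ⊤)] B →+* Γ(P, ⊤)) (hψ : ∀ x b, ψ (x ⊗ₜ b) = v.appTop.hom x * j b)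
    (hb : Function.Bijective ψ) :
    IsPullback (P.isoSpec.hom ≫ Spec.map (CommRingCat.ofHom j)) v
      (Spec.map (CommRingCat.ofHom (algebraMap Γ(Y, ⊤) B)) ≫ Y.isoSpec.inv) h := by
  let e : CommRingCat.of (Γ(V, ⊤) ⊗[Γ(Y, ⊤)] B) ≅ Γ(P, ⊤) := (RingEquiv.ofBijective ψ hb).toCommRingCatIso
  have hpo : IsPushout (CommRingCat.ofHom (algebraMap Γ(Y, ⊤) Γ(V, ⊤)))
      (CommRingCat.ofHom (algebraMap Γ(Y, ⊤) B)) v.appTop (CommRingCat.ofHom j) :=
    (CommRingCat.isPushout_tensorProduct Γ(Y, ⊤) Γ(V, ⊤) B).of_iso (Iso.refl _) (Iso.refl _) (Iso.refl _) e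
      (by simp) (by simp)
      (by
        refine CommRingCat.hom_ext (RingHom.ext fun x => ?_)
        change ψ (x ⊗ₜ 1) = v.appTop.hom x
        rw [hψ, map_one, mul_one])
      (by
        refine CommRingCat.hom_ext (RingHom.ext fun b => ?_)
        change ψ (1 ⊗ₜ b) = j b
        rw [hψ, map_one, one_mul])
  refine ((isPullback_SpecMap_of_isPushout _ _ _ _ hpo).of_iso P.isoSpec.symm V.isoSpec.symm (Iso.refl _)
    Y.isoSpec.symm ?_ ?_ ?_ ?_).flip
  · simp only [Iso.symm_hom]
    exact Scheme.isoSpec_inv_naturality v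
  · simp
  · rw [hV]
    simp only [Iso.symm_hom]
    exact Scheme.isoSpec_inv_naturality h
  · simp

variable {X : Scheme.{u}}

/-- A family of sections giving a bijection onto every stalk over `U`. -/
def SetBij (F : EtDesc.Sh X) (U : X.Etale) {M : Type (u + 1)} (s : M → F.obj.obj (op U)) : Prop :=
  ∀ (Ω : Type u) [Field Ω] [IsSepClosed Ω] (ξ : Spec (CommRingCat.of Ω) ⟶ X)
    (t : (Scheme.pointSmallEtale ξ).fiber.obj U),
    Function.Bijective fun m : M => (Scheme.pointSmallEtale ξ).toPresheafFiber U t F.obj (s m)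

/-- Finite local constancy of a sheaf of sets, by sections. -/
def LocSet (F : EtDesc.Sh X) : Prop :=
  ∀ x : X, ∃ (U : X.Etale) (y : U.left) (M : Type (u + 1)) (_ : Finite M) (s : M → F.obj.obj (op U)),
    U.hom.base y = x ∧ SetBij F U s

theorem SetBij.map {F : EtDesc.Sh X} {U V : X.Etale} {M : Type (u + 1)} {s : M → F.obj.obj (op U)}
    (h : SetBij F U s) (g : V ⟶ U) {N : Type (u + 1)} (e : N ≃ M) :
    SetBij F V (fun n => F.obj.map g.op (s (e n))) := fun Ω _ _ ξ t => by
  have hb := (h Ω ξ ((Scheme.pointSmallEtale ξ).fiber.map g t)).comp e.bijective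
  have he : (fun n : N => (Scheme.pointSmallEtale ξ).toPresheafFiber V t F.obj (F.obj.map g.op (s (e n)))) =
      (fun m : M => (Scheme.pointSmallEtale ξ).toPresheafFiber U
        ((Scheme.pointSmallEtale ξ).fiber.map g t) F.obj (s m)) ∘ e :=
    funext fun n => (Scheme.pointSmallEtale ξ).toPresheafFiber_w_apply g t F.obj (s (e n))
  exact he ▸ hb

theorem isSheaf_hom (T : Scheme.{u}) :
    Presieve.IsSheaf X.smallEtaleTopology
      ((Scheme.Etale.forget X ⋙ Over.forget X).op ⋙ yoneda.obj T) := by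
  have : Scheme.etaleTopology.{u}.Subcanonical :=
    .of_le (Scheme.etaleTopology_le_proetaleTopology.trans Scheme.proetaleTopology_le_fpqcTopology)
  have h : Presheaf.IsSheaf Scheme.etaleTopology.{u} (yoneda.obj T) := by
    rw [isSheaf_iff_isSheaf_of_type]
    exact GrothendieckTopology.Subcanonical.isSheaf_of_isRepresentable _
  rw [← isSheaf_iff_isSheaf_of_type]
  exact (((Scheme.Etale.forget X ⋙ Over.forget X).sheafPushforwardContinuous (Type u)
    X.smallEtaleTopology Scheme.etaleTopology).obj ⟨yoneda.obj T, h⟩).property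

/-- Morphisms glue along coverings. -/
theorem exists_glue {Z P : X.Etale} {R : Sieve Z} (hR : R ∈ X.smallEtaleTopology Z)
    (a : ∀ ⦃W : X.Etale⦄ (h : W ⟶ Z), R h → (W ⟶ P))
    (ha : ∀ ⦃W W' : X.Etale⦄ (g : W' ⟶ W) (h : W ⟶ Z) (hh : R h),
      g ≫ a h hh = a (g ≫ h) (R.downward_closed hh g)) :
    ∃ b : Z ⟶ P, ∀ ⦃W : X.Etale⦄ (h : W ⟶ Z) (hh : R h), h ≫ b = a h hh := by
  let x : Presieve.FamilyOfElements ((Scheme.Etale.forget X ⋙ Over.forget X).op ⋙ yoneda.obj P.left) R.arrows :=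
    fun W h hh => (a h hh).left
  have hx : x.Compatible := (Presieve.compatible_iff_sieveCompatible x).2 fun W W' h g hh =>
    congrArg (fun k => k.left) (ha g h hh).symm
  obtain ⟨b, hb, -⟩ := isSheaf_hom P.left R hR x hx
  have hw : (show Z.left ⟶ P.left from b) ≫ P.hom = Z.hom := by
    refine (isSheaf_hom X R hR).isSeparatedFor.ext fun W h hh => ?_
    show h.left ≫ (show Z.left ⟶ P.left from b) ≫ P.hom = h.left ≫ Z.hom
    rw [← Category.assoc, show h.left ≫ (show Z.left ⟶ P.left from b) = (a h hh).left from hb h hh]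
    exact (MorphismProperty.Over.w (a h hh)).trans (MorphismProperty.Over.w h).symm
  exact ⟨MorphismProperty.Over.homMk b hw trivial, fun W h hh => MorphismProperty.Over.Hom.ext (hb h hh)⟩

theorem hom_ext_of_cover {Z P : X.Etale} {R : Sieve Z} (hR : R ∈ X.smallEtaleTopology Z) {a b : Z ⟶ P}
    (h : ∀ ⦃W : X.Etale⦄ (g : W ⟶ Z), R g → g ≫ a = g ≫ b) : a = b :=
  MorphismProperty.Over.Hom.ext ((isSheaf_hom P.left R hR).isSeparatedFor.ext fun W g hg =>
    congrArg (fun k => k.left) (h g hg))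

theorem sect_ext_of_cover (F : EtDesc.Sh X) {Z : X.Etale} {R : Sieve Z}
    (hR : R ∈ X.smallEtaleTopology Z) {s t : F.obj.obj (op Z)}
    (h : ∀ ⦃W : X.Etale⦄ (g : W ⟶ Z), R g → F.obj.map g.op s = F.obj.map g.op t) : s = t :=
  ((isSheaf_iff_isSheaf_of_type _ _).1 F.property R hR).isSeparatedFor.ext fun _ g hg => h g hg

theorem generate_mem {W Z : X.Etale} (g : W ⟶ Z) (hg : Function.Surjective g.left.base) :
    Sieve.ofArrows (fun _ : Unit => W) (fun _ => g) ∈ X.smallEtaleTopology Z :=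
  mem_smallEtaleTopology_of_points _ _ fun z => by
    obtain ⟨w, hw⟩ := hg z
    exact ⟨W, g, w, Sieve.ofArrows_mk _ _ (), hw⟩

/-- A finite affine trivializing covering. -/
structure Datum (F : EtDesc.Sh X) where
  /-- the index set -/
  I : Type u
  [fin : Finite I]
  /-- the members -/
  A : I → X.Etale
  [affine : ∀ i, IsAffine (A i).left]
  /-- the numbers of values -/
  n : I → ℕ
  /-- the sections -/
  s : ∀ i, ULift.{u + 1} (Fin (n i)) → F.obj.obj (op (A i))
  bij : ∀ i, SetBij F (A i) (s i)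
  covers : ∀ x : X, ∃ i y, (A i).hom.base y = x

attribute [instance] Datum.fin Datum.affine

theorem exists_datum [CompactSpace X] {F : EtDesc.Sh X} (hF : LocSet F) : Nonempty (Datum F) := by
  have key : ∀ x : X, ∃ (A : X.Etale) (n : ℕ) (s : ULift.{u + 1} (Fin n) → F.obj.obj (op A)),
      IsAffine A.left ∧ SetBij F A s ∧ x ∈ Set.range A.hom.base := by
    intro x
    obtain ⟨U, y, M, hM, s, hy, hs⟩ := hF x
    obtain ⟨A, g, hA, a, ha⟩ := Sect.exists_affine_nbhd U y
    obtain ⟨n, ⟨e⟩⟩ := @Finite.exists_equiv_fin M hM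
    refine ⟨A, n, _, hA, hs.map g (Equiv.ulift.trans e.symm), a, ?_⟩
    rw [← hy, ← ha]
    exact (congrArg (fun m : A.left ⟶ X => m.base a) (MorphismProperty.Over.w g).symm).trans
      (Scheme.Hom.comp_apply _ _ _)
  choose A n s hA hs hx using key
  obtain ⟨t, ht⟩ := isCompact_univ.elim_finite_subcover (fun x => Set.range (A x).hom.base)
    (fun x => by
      have : Etale (A x).hom := (A x).prop
      exact (A x).hom.isOpenMap.isOpen_range) fun x _ => Set.mem_iUnion.2 ⟨x, hx x⟩
  exact ⟨{ I := {x // x ∈ t}, A := fun i => A i.1, affine := fun i => hA i.1, n := fun i => n i.1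
           s := fun i => s i.1, bij := fun i => hs i.1
           covers := fun x => by
             obtain ⟨i, hi, hxi⟩ := Set.mem_iUnion₂.1 (ht (Set.mem_univ x))
             exact ⟨⟨i, hi⟩, hxi⟩ }⟩

variable {F : EtDesc.Sh X} (D : Datum F)

/-- The index set of the sheets. -/
abbrev Datum.J : Type u := Σ i : D.I, Fin (D.n i)

theorem etale_sigma {K : Type u} (B : K → X.Etale) : Etale (Sigma.desc fun k => (B k).hom) :=
  IsZariskiLocalAtSource.sigmaDesc fun k => (B k).prop

/-- The covering. -/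
noncomputable def Datum.V : X.Etale :=
  MorphismProperty.Over.mk ⊤ (Sigma.desc fun i => (D.A i).hom) (etale_sigma D.A)

/-- The sheets. -/
noncomputable def Datum.P : X.Etale :=
  MorphismProperty.Over.mk ⊤ (Sigma.desc fun k : D.J => (D.A k.1).hom) (etale_sigma fun k : D.J => D.A k.1)

instance : IsAffine D.V.left := inferInstanceAs (IsAffine (∐ fun i => (D.A i).left))

instance : IsAffine D.P.left := inferInstanceAs (IsAffine (∐ fun k : D.J => (D.A k.1).left))

instance : IsAffine ((𝟭 Scheme.{u}).obj D.V.left) := inferInstanceAs (IsAffine D.V.left)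

instance : IsAffine ((𝟭 Scheme.{u}).obj D.P.left) := inferInstanceAs (IsAffine D.P.left)

instance [h : IsAffine X] : IsAffine ((Functor.fromPUnit X).obj D.V.right) := h

instance [h : IsAffine X] : IsAffine ((Functor.fromPUnit X).obj D.P.right) := h

/-- The inclusion of a member. -/
noncomputable def Datum.ιV (i : D.I) : D.A i ⟶ D.V :=
  MorphismProperty.Over.homMk (Sigma.ι (fun i => (D.A i).left) i) (Sigma.ι_desc _ _) trivial

/-- The inclusion of a sheet. -/
noncomputable def Datum.ιP (k : D.J) : D.A k.1 ⟶ D.P :=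
  MorphismProperty.Over.homMk (Sigma.ι (fun k : D.J => (D.A k.1).left) k) (Sigma.ι_desc _ _) trivial

/-- The projection to the covering. -/
noncomputable def Datum.vP : D.P ⟶ D.V :=
  MorphismProperty.Over.homMk (Sigma.desc fun k : D.J => (D.ιV k.1).left)
    (Sigma.hom_ext _ _ fun k => by
      refine (Category.assoc _ _ _).symm.trans ((congrArg (fun m => m ≫ D.V.hom) (Sigma.ι_desc _ _)).trans ?_)
      exact (MorphismProperty.Over.w (D.ιV k.1)).trans (MorphismProperty.Over.w (D.ιP k)).symm) trivial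

theorem Datum.ιP_vP (k : D.J) : D.ιP k ≫ D.vP = D.ιV k.1 :=
  MorphismProperty.Over.Hom.ext (Sigma.ι_desc _ _)

theorem exists_range_ιV (v : D.V.left) : ∃ i, v ∈ Set.range (D.ιV i).left.base := by
  obtain ⟨i, y, hy⟩ := (sigmaOpenCover fun i => (D.A i).left).exists_eq v
  exact ⟨i, y, hy⟩

theorem exists_range_ιP (v : D.P.left) : ∃ k, v ∈ Set.range (D.ιP k).left.base := by
  obtain ⟨k, y, hy⟩ := (sigmaOpenCover fun k : D.J => (D.A k.1).left).exists_eq v
  exact ⟨k, y, hy⟩

theorem surjective_V : Function.Surjective D.V.hom.base := fun x => by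
  obtain ⟨i, y, hy⟩ := D.covers x
  refine ⟨(D.ιV i).left.base y, ?_⟩
  rw [← hy]
  exact (Scheme.Hom.comp_apply _ _ _).symm.trans
    (congrArg (fun m : (D.A i).left ⟶ X => m.base y) (MorphismProperty.Over.w (D.ιV i)))

theorem isFinite_vP : IsFinite D.vP.left := by
  refine isFinite_sigmaDesc _ fun k => ?_
  change IsFinite (Sigma.ι (fun i => (D.A i).left) k.1)
  have : IsClosedImmersion (Sigma.ι (fun i => (D.A i).left) k.1) := by
    refine IsClosedImmersion.of_isPreimmersion _ ?_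
    have : Set.range (Sigma.ι (fun i => (D.A i).left) k.1) =
        (⋃ j ∈ {j | j ≠ k.1}, Set.range (Sigma.ι (fun i => (D.A i).left) j))ᶜ := by
      ext v
      simp only [Set.mem_compl_iff, Set.mem_iUnion, Set.mem_setOf_eq, not_exists]
      refine ⟨fun hv j hj hvj => ?_, fun hv => ?_⟩
      · exact Set.disjoint_left.1 (disjoint_iff.2 (congrArg SetLike.coe
          (disjoint_iff.1 (disjoint_opensRange_sigmaι (fun i => (D.A i).left) _ _ hj)))) hvj hv
      · obtain ⟨j, y, hy⟩ := (sigmaOpenCover fun i => (D.A i).left).exists_eq v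
        by_cases hj : j = k.1
        · subst hj
          exact ⟨y, hy⟩
        · exact absurd ⟨y, hy⟩ (hv j hj)
    rw [this]
    exact (isOpen_biUnion fun j _ => (Sigma.ι (fun i => (D.A i).left) j).isOpenEmbedding.isOpen_range).isClosed_compl
  infer_instance

/-- The universal section. -/
theorem exists_sP : ∃ sP : F.obj.obj (op D.P), ∀ k, F.obj.map (D.ιP k).op sP = D.s k.1 ⟨k.2⟩ := by
  have hcov : Sieve.ofArrows (fun k : D.J => D.A k.1) D.ιP ∈ X.smallEtaleTopology D.P :=
    mem_smallEtaleTopology_of_points _ _ fun v => by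
      obtain ⟨k, y, hy⟩ := exists_range_ιP D v
      exact ⟨_, D.ιP k, y, Sieve.ofArrows_mk _ _ k, hy⟩
  have hsh := (Presieve.isSheafFor_iff_generate _).2 (((isSheaf_iff_isSheaf_of_type _ _).1 F.property) _ hcov)
  rw [Presieve.isSheafFor_arrows_iff] at hsh
  obtain ⟨w, hw, -⟩ := hsh (fun k => D.s k.1 ⟨k.2⟩) (by
    intro k k' Z a b hab
    by_cases hk : k = k'
    · subst hk
      have : a = b := MorphismProperty.Over.Hom.ext
        ((cancel_mono (Sigma.ι (fun k : D.J => (D.A k.1).left) k)).1 (congrArg (fun m => m.left) hab))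
      rw [this]
    · have : IsEmpty Z.left := isEmpty_of_commSq_sigmaι_of_ne
        (g := fun k : D.J => (D.A k.1).left) ⟨congrArg (fun m => m.left) hab⟩ hk
      exact sect_ext_of_cover F (R := ⊥) (mem_smallEtaleTopology_of_points _ _ fun z => (this.false z).elim)
        fun _ _ h => h.elim)
  exact ⟨w, hw⟩

/-- The universal section. -/
noncomputable def Datum.sP : F.obj.obj (op D.P) := (exists_sP D).choose

theorem map_ιP_sP (k : D.J) : F.obj.map (D.ιP k).op D.sP = D.s k.1 ⟨k.2⟩ := (exists_sP D).choose_spec k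

theorem map_comp_op (F : EtDesc.Sh X) {A B C : X.Etale} (a : A ⟶ B) (b : B ⟶ C) (s : F.obj.obj (op C)) :
    F.obj.map (a ≫ b).op s = F.obj.map a.op (F.obj.map b.op s) :=
  Functor.map_comp_apply F.obj b.op a.op s

theorem point_ext {Ω : Type u} [Field Ω] [IsSepClosed Ω] (ξ : Spec (CommRingCat.of Ω) ⟶ X)
    (p q : (Scheme.pointSmallEtale ξ).fiber.obj D.P)
    (hv : (Scheme.pointSmallEtale ξ).fiber.map D.vP p = (Scheme.pointSmallEtale ξ).fiber.map D.vP q)
    (hs : (Scheme.pointSmallEtale ξ).toPresheafFiber D.P p F.obj D.sP =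
      (Scheme.pointSmallEtale ξ).toPresheafFiber D.P q F.obj D.sP) : p = q := by
  let Φ := Scheme.pointSmallEtale ξ
  obtain ⟨k, hk⟩ := exists_range_ιP D (Sect.pt p)
  obtain ⟨p', rfl⟩ := Sect.exists_pt (D.ιP k) p hk
  obtain ⟨k', hk'⟩ := exists_range_ιP D (Sect.pt q)
  obtain ⟨q', rfl⟩ := Sect.exists_pt (D.ιP k') q hk'
  simp only [← Functor.map_comp_apply, Datum.ιP_vP] at hv
  obtain ⟨i, m⟩ := k
  obtain ⟨i', m'⟩ := k'
  obtain rfl : i = i' := by
    by_contra hne
    refine Set.disjoint_left.1 (disjoint_iff.2 (congrArg SetLike.coe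
      (disjoint_iff.1 (disjoint_opensRange_sigmaι (fun i => (D.A i).left) _ _ hne))))
      ⟨Sect.pt p', rfl⟩ ⟨Sect.pt q', ?_⟩
    exact ((Scheme.Hom.comp_apply _ _ _).symm.trans
      (congrArg (fun z : Φ.fiber.obj D.V => Sect.pt z) hv.symm)).trans (Scheme.Hom.comp_apply _ _ _)
  obtain rfl : p' = q' := Over.OverMorphism.ext
    ((cancel_mono (Sigma.ι (fun i => (D.A i).left) i)).1 (congrArg CommaMorphism.left hv :))
  rw [← Φ.toPresheafFiber_w_apply, ← Φ.toPresheafFiber_w_apply, map_ιP_sP, map_ιP_sP] at hs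
  have hm := congrArg ULift.down ((D.bij i Ω ξ p').1 hs)
  subst hm
  rfl

theorem lift_unique {Z : X.Etale} {a b : Z ⟶ D.P} (hv : a ≫ D.vP = b ≫ D.vP)
    (hs : F.obj.map a.op D.sP = F.obj.map b.op D.sP) : a = b := by
  obtain ⟨E, hE, -, hmax⟩ := AllPoints.exists_eqLocus a b
  refine MorphismProperty.Over.Hom.ext (Scheme.hom_ext_of_forall _ _ fun z => ⟨E, ?_, hE⟩)
  let ξ := gpt z ≫ Z.hom
  let Φ := Scheme.pointSmallEtale ξ
  have h : Φ.fiber.map a (tautPt Z z) = Φ.fiber.map b (tautPt Z z) := point_ext D ξ _ _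
    (by rw [← Functor.map_comp_apply, ← Functor.map_comp_apply, hv])
    (by rw [← Φ.toPresheafFiber_w_apply, ← Φ.toPresheafFiber_w_apply, hs])
  exact hmax (gpt z) (congrArg CommaMorphism.left h)
    ⟨(default : Spec (CommRingCat.of (SeparableClosure (Z.left.residueField z)))), gpt_apply z _⟩

theorem lift_exists {Z : X.Etale} (v : Z ⟶ D.V) (s : F.obj.obj (op Z)) :
    ∃ a : Z ⟶ D.P, a ≫ D.vP = v ∧ F.obj.map a.op D.sP = s := by
  let R : Sieve Z :=
    { arrows := fun {W} h => ∃ a : W ⟶ D.P, a ≫ D.vP = h ≫ v ∧ F.obj.map a.op D.sP = F.obj.map h.op s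
      downward_closed := fun {W W'} h hh g => by
        obtain ⟨a, ha, hs⟩ := hh
        refine ⟨g ≫ a, by rw [Category.assoc, ha, Category.assoc], ?_⟩
        simp only [op_comp, Functor.map_comp_apply, hs] }
  have hR : R ∈ X.smallEtaleTopology Z := mem_smallEtaleTopology_of_points _ _ fun z => by
    let ξ := gpt z ≫ Z.hom
    let Φ := Scheme.pointSmallEtale ξ
    let t₀ := tautPt Z z
    obtain ⟨i, hi⟩ := exists_range_ιV D (Sect.pt (Φ.fiber.map v t₀))
    obtain ⟨t, ht⟩ := Sect.exists_pt (D.ιV i) (Φ.fiber.map v t₀) hi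
    obtain ⟨⟨m⟩, hm⟩ := (D.bij i _ ξ t).2 (Φ.toPresheafFiber Z t₀ F.obj s)
    obtain ⟨⟨W, w⟩, ⟨f₁, hf₁⟩, ⟨f₂, hf₂⟩, -⟩ := IsCofilteredOrEmpty.cone_objs
      (C := Φ.fiber.Elements) ⟨Z, t₀⟩ ⟨D.A i, t⟩
    dsimp only at f₁ f₂ hf₁ hf₂
    have e : Φ.toPresheafFiber W w F.obj (F.obj.map f₂.op (D.s i ⟨m⟩)) =
        Φ.toPresheafFiber W w F.obj (F.obj.map f₁.op s) := by
      rw [Φ.toPresheafFiber_w_apply, Φ.toPresheafFiber_w_apply, hf₁, hf₂]
      exact hm
    obtain ⟨W', g, w', hg, hs⟩ := (Φ.toPresheafFiber_eq_iff' W w _ _).1 e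
    obtain ⟨E, hE, -, hmax⟩ := AllPoints.exists_eqLocus (g ≫ f₂ ≫ D.ιV i) (g ≫ f₁ ≫ v)
    have hw : Φ.fiber.map (g ≫ f₂ ≫ D.ιV i) w' = Φ.fiber.map (g ≫ f₁ ≫ v) w' := by
      simp only [Functor.map_comp_apply, hg, hf₁, hf₂]
      exact ht
    have hmem : Sect.pt w' ∈ E :=
      hmax (show Spec (CommRingCat.of (SeparableClosure (Z.left.residueField z))) ⟶ W'.left from w'.left)
        (congrArg CommaMorphism.left hw) ⟨default, rfl⟩
    refine ⟨AllPoints.res W' E, AllPoints.resι W' E ≫ g ≫ f₁, ⟨Sect.pt w', hmem⟩,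
      ⟨AllPoints.resι W' E ≫ g ≫ f₂ ≫ D.ιP ⟨i, m⟩, ?_, ?_⟩, ?_⟩
    · simp only [Category.assoc, Datum.ιP_vP]
      exact MorphismProperty.Over.Hom.ext hE
    · simp only [op_comp, Functor.map_comp_apply]
      rw [map_ιP_sP D ⟨i, m⟩]
      exact congrArg _ hs
    · have hl : w'.left ≫ g.left ≫ f₁.left = gpt z := by
        have h1 : w'.left ≫ g.left = w.left := congrArg CommaMorphism.left hg
        have h2 : w.left ≫ f₁.left = gpt z := congrArg CommaMorphism.left hf₁
        exact (Category.assoc _ _ _).symm.trans ((congrArg (fun m => m ≫ f₁.left) h1).trans h2)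
      change (E.ι ≫ g.left ≫ f₁.left).base ⟨Sect.pt w', hmem⟩ = z
      refine (Scheme.Hom.comp_apply _ _ _).trans ?_
      exact (Scheme.Hom.comp_apply _ _ _).symm.trans
        ((congrArg (fun m : _ ⟶ Z.left => m.base
          (default : Spec (CommRingCat.of (SeparableClosure (Z.left.residueField z))))) hl).trans (gpt_apply z _))
  choose a ha₁ ha₂ using fun (W : X.Etale) (h : W ⟶ Z) (hh : R h) => hh
  obtain ⟨b, hb⟩ := exists_glue hR (fun W h hh => a W h hh) fun W W' g h hh =>
    lift_unique D (by rw [Category.assoc, ha₁, ha₁, Category.assoc])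
      (by simp only [op_comp, Functor.map_comp_apply, ha₂])
  refine ⟨b, hom_ext_of_cover hR fun W h hh => ?_, sect_ext_of_cover F hR fun W h hh => ?_⟩
  · rw [← Category.assoc, hb h hh, ha₁]
  · rw [← Functor.map_comp_apply, ← op_comp, hb h hh, ha₂]

/-- `W ×_X V`. -/
noncomputable def prodV (W : X.Etale) : X.Etale :=
  MorphismProperty.Over.mk ⊤ (pullback.fst W.hom D.V.hom ≫ W.hom) (by
    have : Etale W.hom := W.prop
    have : Etale D.V.hom := D.V.prop
    infer_instance)

/-- The first projection. -/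
noncomputable def p₁ (W : X.Etale) : prodV D W ⟶ W :=
  MorphismProperty.Over.homMk (pullback.fst W.hom D.V.hom) rfl trivial

/-- The second projection. -/
noncomputable def p₂ (W : X.Etale) : prodV D W ⟶ D.V :=
  MorphismProperty.Over.homMk (pullback.snd W.hom D.V.hom) pullback.condition.symm trivial

/-- A map to `W ×_X V`. -/
noncomputable def prodLift {W Z : X.Etale} (a : Z ⟶ W) (v : Z ⟶ D.V) : Z ⟶ prodV D W :=
  MorphismProperty.Over.homMk (pullback.lift a.left v.left
      ((MorphismProperty.Over.w a).trans (MorphismProperty.Over.w v).symm))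
    ((pullback.lift_fst_assoc _ _ _ _).trans (MorphismProperty.Over.w a)) trivial

theorem prodLift_p₁ {W Z : X.Etale} (a : Z ⟶ W) (v : Z ⟶ D.V) : prodLift D a v ≫ p₁ D W = a :=
  MorphismProperty.Over.Hom.ext (pullback.lift_fst _ _ _)

theorem prodLift_p₂ {W Z : X.Etale} (a : Z ⟶ W) (v : Z ⟶ D.V) : prodLift D a v ≫ p₂ D W = v :=
  MorphismProperty.Over.Hom.ext (pullback.lift_snd _ _ _)

theorem surjective_p₁ (W : X.Etale) : Function.Surjective (p₁ D W).left.base :=
  (MorphismProperty.pullback_fst (P := @Surjective) W.hom D.V.hom ⟨surjective_V D⟩).surj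

/-- The point over the second factor with the same section. -/
noncomputable def Datum.π : prodV D D.P ⟶ D.P :=
  (lift_exists D (p₂ D D.P) (F.obj.map (p₁ D D.P).op D.sP)).choose

theorem π_vP : D.π ≫ D.vP = p₂ D D.P :=
  (lift_exists D (p₂ D D.P) (F.obj.map (p₁ D D.P).op D.sP)).choose_spec.1

theorem π_sP : F.obj.map D.π.op D.sP = F.obj.map (p₁ D D.P).op D.sP :=
  (lift_exists D (p₂ D D.P) (F.obj.map (p₁ D D.P).op D.sP)).choose_spec.2

section affine

variable [IsAffine X]

instance isAffineHom_V : IsAffineHom D.V.hom :=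
  @isAffineHom_of_isAffine _ _ D.V.hom (inferInstanceAs (IsAffine D.V.left)) (inferInstanceAs (IsAffine X))

instance isAffine_prodV (W : X.Etale) [h : IsAffine W.left] : IsAffine (prodV D W).left :=
  show IsAffine (pullback W.hom D.V.hom) from
    @isAffine_of_isAffineHom _ _ (pullback.fst W.hom D.V.hom)
      (MorphismProperty.pullback_fst (P := @IsAffineHom) _ _ (isAffineHom_V D)) h

set_option quotPrecheck false in
local notation "A₀" => Γ(X, ⊤)

noncomputable instance algebraΓ (W : X.Etale) : Algebra Γ(X, ⊤) Γ(W.left, ⊤) :=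
  W.hom.appTop.hom.toAlgebra

/-- Pullback of functions. -/
noncomputable def pb {W W' : X.Etale} (a : W ⟶ W') : Γ(W'.left, ⊤) →ₐ[A₀] Γ(W.left, ⊤) :=
  { a.left.appTop.hom with
    commutes' := fun r => by
      exact congrArg (fun k : W.left ⟶ X => k.appTop.hom r) (MorphismProperty.Over.w a) }

theorem pb_comp {W W' W'' : X.Etale} (a : W ⟶ W') (b : W' ⟶ W'') (x : Γ(W''.left, ⊤)) :
    pb (a ≫ b) x = pb a (pb b x) := by
  change (a.left ≫ b.left).appTop x = _
  rw [Scheme.Hom.comp_appTop]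
  rfl

theorem pb_id {W : X.Etale} (x : Γ(W.left, ⊤)) : pb (𝟙 W) x = x := by
  change (𝟙 W.left : W.left ⟶ W.left).appTop x = x
  simp

/-- The functions on the descended scheme. -/
noncomputable abbrev Datum.B : Subalgebra A₀ Γ(D.P.left, ⊤) :=
  AlgHom.equalizer (pb (p₁ D D.P)) (pb D.π)

theorem exists_tensor (W : X.Etale) [IsAffine W.left] :
    ∃ φ : Γ(D.V.left, ⊤) ⊗[A₀] Γ(W.left, ⊤) →+* Γ((prodV D W).left, ⊤),
      (∀ x y, φ (x ⊗ₜ y) = pb (p₂ D W) x * pb (p₁ D W) y) ∧ Function.Bijective φ :=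
  bijective_tensor' (isPushout_appTop_of_isPullback (IsPullback.of_hasPullback W.hom D.V.hom).flip)

/-- The comparison map. -/
noncomputable def Datum.ψ : Γ(D.V.left, ⊤) ⊗[A₀] D.B →ₐ[A₀] Γ(D.P.left, ⊤) :=
  Algebra.TensorProduct.lift (pb D.vP) D.B.val fun _ _ => Commute.all _ _

theorem ψ_tmul (x : Γ(D.V.left, ⊤)) (b : D.B) : D.ψ (x ⊗ₜ b) = pb D.vP x * b.1 :=
  Algebra.TensorProduct.lift_tmul _ _ _ _ _

theorem ψ_bijective : Function.Bijective D.ψ := by
  have : Etale D.V.hom := D.V.prop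
  have : Module.Flat A₀ Γ(D.V.left, ⊤) := D.V.hom.flat_appTop
  obtain ⟨κ, hκ, hκb⟩ := exists_tensor D D.P
  obtain ⟨κ₂, hκ₂, hκ₂b⟩ := exists_tensor D (prodV D D.P)
  let r := p₁ D (prodV D D.P)
  let F₁ : prodV D (prodV D D.P) ⟶ prodV D D.P := prodLift D (r ≫ p₁ D D.P) (p₂ D (prodV D D.P))
  let F₂ : prodV D (prodV D D.P) ⟶ prodV D D.P := prodLift D (r ≫ D.π) (p₂ D (prodV D D.P))
  have hF : F₁ ≫ D.π = F₂ ≫ D.π := lift_unique D
    (by simp only [Category.assoc, π_vP, F₁, F₂, prodLift_p₂])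
    (by rw [map_comp_op F, map_comp_op F, π_sP D, ← map_comp_op F, ← map_comp_op F, prodLift_p₁,
          prodLift_p₁, map_comp_op F, map_comp_op F, π_sP D])
  let ι := Algebra.TensorProduct.map (AlgHom.id A₀ Γ(D.V.left, ⊤)) D.B.val
  have hι : Function.Injective ι :=
    Module.Flat.lTensor_preserves_injective_linearMap D.B.val.toLinearMap Subtype.val_injective
  have key : ∀ x, κ (ι x) = pb D.π (D.ψ x) := fun x => by
    induction x using TensorProduct.induction_on with
    | zero => simp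
    | tmul s b =>
      have hb : pb (p₁ D D.P) b.1 = pb D.π b.1 := b.2
      rw [ψ_tmul, map_mul, ← pb_comp, π_vP, ← hb]
      exact hκ s b.1
    | add x y hx hy => simp only [map_add, hx, hy]
  refine ⟨fun x y hxy => hι (hκb.1 (by rw [key, key, hxy])), fun c => ?_⟩
  obtain ⟨t, ht⟩ := hκb.2 (pb D.π c)
  let f := pb (p₁ D D.P)
  let g := pb D.π
  have h1 : ∀ t, κ₂ (Algebra.TensorProduct.map (AlgHom.id A₀ _) f t) = pb F₁ (κ t) := fun t => by
    induction t using TensorProduct.induction_on with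
    | zero => simp
    | tmul s b =>
      rw [Algebra.TensorProduct.map_tmul, hκ, map_mul, ← pb_comp, ← pb_comp, prodLift_p₁, prodLift_p₂,
        pb_comp]
      exact hκ₂ s (f b)
    | add x y hx hy => simp only [map_add, hx, hy]
  have h2 : ∀ t, κ₂ (Algebra.TensorProduct.map (AlgHom.id A₀ _) g t) = pb F₂ (κ t) := fun t => by
    induction t using TensorProduct.induction_on with
    | zero => simp
    | tmul s b =>
      rw [Algebra.TensorProduct.map_tmul, hκ, map_mul, ← pb_comp, ← pb_comp, prodLift_p₁, prodLift_p₂,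
        pb_comp]
      exact hκ₂ s (g b)
    | add x y hx hy => simp only [map_add, hx, hy]
  have hmem : t ∈ AlgHom.equalizer (Algebra.TensorProduct.map (AlgHom.id A₀ Γ(D.V.left, ⊤)) f)
      (Algebra.TensorProduct.map (AlgHom.id A₀ Γ(D.V.left, ⊤)) g) := by
    apply hκ₂b.1
    rw [h1, h2, ht, ← pb_comp, ← pb_comp, hF]
  obtain ⟨x, hx⟩ := (AlgHom.tensorEqualizerEquiv A₀ Γ(D.V.left, ⊤) f g).surjective ⟨t, hmem⟩
  have hx' : ι x = t := by
    rw [← AlgHom.coe_tensorEqualizer A₀ Γ(D.V.left, ⊤) f g x, ← AlgHom.tensorEqualizerEquiv_apply, hx]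
  refine ⟨x, ?_⟩
  let σ : D.P ⟶ prodV D D.P := prodLift D (𝟙 D.P) D.vP
  have hσ : σ ≫ D.π = 𝟙 D.P := lift_unique D
    (by rw [Category.assoc, π_vP, prodLift_p₂, Category.id_comp])
    (by rw [op_comp, Functor.map_comp_apply, π_sP, ← Functor.map_comp_apply, ← op_comp, prodLift_p₁])
  have h3 : pb D.π (D.ψ x) = pb D.π c := by rw [← key, hx', ht]
  have h4 := congrArg (pb σ) h3
  rwa [← pb_comp, ← pb_comp, hσ, pb_id, pb_id] at h4

/-- The structure map of the descended scheme. -/
noncomputable def Datum.uh : Spec (CommRingCat.of D.B) ⟶ X :=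
  Spec.map (CommRingCat.ofHom (algebraMap A₀ D.B)) ≫ X.isoSpec.inv

/-- The quotient map. -/
noncomputable def Datum.qs : D.P.left ⟶ Spec (CommRingCat.of D.B) :=
  D.P.left.isoSpec.hom ≫ Spec.map (CommRingCat.ofHom D.B.val.toRingHom)

theorem qs_uh : D.qs ≫ D.uh = D.P.hom := by
  have h : CommRingCat.ofHom (algebraMap A₀ D.B) ≫ CommRingCat.ofHom D.B.val.toRingHom = D.P.hom.appTop :=
    CommRingCat.hom_ext (RingHom.ext fun _ => rfl)
  rw [Datum.qs, Datum.uh, Category.assoc, ← Spec.map_comp_assoc, h, ← Category.assoc, Iso.comp_inv_eq]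
  exact Scheme.isoSpec_hom_naturality D.P.hom

theorem qs_appTop (b : D.B) :
    D.qs.appTop.hom ((Scheme.ΓSpecIso (CommRingCat.of D.B)).inv.hom b) = b.1 := by
  have h : (Scheme.ΓSpecIso (CommRingCat.of D.B)).inv ≫ D.qs.appTop = CommRingCat.ofHom D.B.val.toRingHom := by
    rw [Datum.qs, Scheme.Hom.comp_appTop, ← Scheme.ΓSpecIso_inv_naturality_assoc, Scheme.isoSpec_hom,
      Scheme.toSpecΓ_appTop]
    simp
  exact congr($h b)

theorem isPullback_qs : IsPullback D.qs D.vP.left D.uh D.V.hom :=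
  isPullback_of_bijective D.vP.left D.V.hom rfl D.B.val.toRingHom D.ψ.toRingHom (ψ_tmul D) (ψ_bijective D)

theorem cover_props : (@Surjective ⊓ @Flat ⊓ @QuasiCompact : MorphismProperty Scheme.{u}) D.V.hom := by
  have : Etale D.V.hom := D.V.prop
  exact ⟨⟨⟨surjective_V D⟩, inferInstance⟩, inferInstance⟩

theorem etale_uh : Etale D.uh := by
  have h : Etale D.vP.left := (inferInstance : EtCoh.etaleMP D.vP.left)
  exact MorphismProperty.of_isPullback_of_descendsAlong (P := @Etale)
    (Q := @Surjective ⊓ @Flat ⊓ @QuasiCompact) (isPullback_qs D).flip (cover_props D) h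

theorem isFinite_uh : IsFinite D.uh := by
  have := FpqcDescent.isFinite_descendsAlong.{u}
  exact MorphismProperty.of_isPullback_of_descendsAlong (P := @IsFinite)
    (Q := @Surjective ⊓ @Flat ⊓ @QuasiCompact) (isPullback_qs D).flip (cover_props D) (isFinite_vP D)

/-- The descended scheme. -/
noncomputable def Datum.U : X.Etale := MorphismProperty.Over.mk ⊤ D.uh (etale_uh D)

instance isAffine_U : IsAffine D.U.left := inferInstanceAs (IsAffine (Spec (CommRingCat.of D.B)))

/-- The quotient map. -/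
noncomputable def Datum.q : D.P ⟶ D.U := MorphismProperty.Over.homMk D.qs (qs_uh D) trivial

theorem surjective_q : Function.Surjective D.q.left.base :=
  (MorphismProperty.of_isPullback (P := @Surjective) (isPullback_qs D).flip ⟨surjective_V D⟩).surj

theorem hom_ext_q {Z : X.Etale} {a b : Z ⟶ D.P} (h₁ : a ≫ D.q = b ≫ D.q) (h₂ : a ≫ D.vP = b ≫ D.vP) :
    a = b :=
  MorphismProperty.Over.Hom.ext ((isPullback_qs D).hom_ext (congrArg (fun k => k.left) h₁)
    (congrArg (fun k => k.left) h₂))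

theorem π_q : D.π ≫ D.q = p₁ D D.P ≫ D.q := by
  have h : ∀ b : D.B, pb (p₁ D D.P) b.1 = pb D.π b.1 := fun b => b.2
  apply MorphismProperty.Over.Hom.ext
  refine ext_of_isAffine ((cancel_epi (Scheme.ΓSpecIso (CommRingCat.of D.B)).inv).1 ?_)
  refine CommRingCat.hom_ext (RingHom.ext fun b => ?_)
  change D.π.left.appTop.hom (D.qs.appTop.hom ((Scheme.ΓSpecIso (CommRingCat.of D.B)).inv.hom b)) =
    (p₁ D D.P).left.appTop.hom (D.qs.appTop.hom ((Scheme.ΓSpecIso (CommRingCat.of D.B)).inv.hom b))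
  rw [qs_appTop]
  exact (h b).symm

theorem sect_eq {Z : X.Etale} {a b : Z ⟶ D.P} (h : a ≫ D.q = b ≫ D.q) :
    F.obj.map a.op D.sP = F.obj.map b.op D.sP := by
  let c := prodLift D a (b ≫ D.vP)
  have hc : c ≫ D.π = b := hom_ext_q D (by rw [Category.assoc, π_q, ← Category.assoc, prodLift_p₁, h])
    (by rw [Category.assoc, π_vP, prodLift_p₂])
  rw [← hc, op_comp, Functor.map_comp_apply, π_sP, ← Functor.map_comp_apply, ← op_comp, prodLift_p₁]

theorem exists_sU : ∃ sU : F.obj.obj (op D.U), F.obj.map D.q.op sU = D.sP := by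
  have hsh := (Presieve.isSheafFor_iff_generate _).2
    (((isSheaf_iff_isSheaf_of_type _ _).1 F.property) _ (generate_mem D.q (surjective_q D)))
  rw [Presieve.isSheafFor_arrows_iff] at hsh
  obtain ⟨w, hw, -⟩ := hsh (fun _ => D.sP) fun _ _ Z a b hab => sect_eq D hab
  exact ⟨w, hw ()⟩

/-- The universal section. -/
noncomputable def Datum.sU : F.obj.obj (op D.U) := (exists_sU D).choose

theorem map_q_sU : F.obj.map D.q.op D.sU = D.sP := (exists_sU D).choose_spec

theorem exists_lift_q {Z : X.Etale} (a : Z ⟶ D.U) (v : Z ⟶ D.V) :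
    ∃ a' : Z ⟶ D.P, a' ≫ D.q = a ∧ a' ≫ D.vP = v := by
  let l := (isPullback_qs D).lift a.left v.left
    ((MorphismProperty.Over.w a).trans (MorphismProperty.Over.w v).symm)
  refine ⟨MorphismProperty.Over.homMk l ?_ trivial, MorphismProperty.Over.Hom.ext ((isPullback_qs D).lift_fst _ _ _),
    MorphismProperty.Over.Hom.ext ((isPullback_qs D).lift_snd _ _ _)⟩
  rw [← qs_uh, ← Category.assoc, (isPullback_qs D).lift_fst]
  exact MorphismProperty.Over.w a

theorem section_injective (Z : X.Etale) : Function.Injective fun a : Z ⟶ D.U => F.obj.map a.op D.sU := by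
  intro a b hab
  refine hom_ext_of_cover (generate_mem (p₁ D Z) (surjective_p₁ D Z)) fun W g hg => ?_
  obtain ⟨_, g', _, ⟨⟩, rfl⟩ := hg
  obtain ⟨a', ha, ha'⟩ := exists_lift_q D (p₁ D Z ≫ a) (p₂ D Z)
  obtain ⟨b', hb, hb'⟩ := exists_lift_q D (p₁ D Z ≫ b) (p₂ D Z)
  have e : a' = b' := lift_unique D (ha'.trans hb'.symm) (by
    rw [← map_q_sU, ← Functor.map_comp_apply, ← Functor.map_comp_apply, ← op_comp, ← op_comp, ha, hb,
      op_comp, Functor.map_comp_apply, op_comp, Functor.map_comp_apply]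
    exact congrArg _ hab)
  rw [Category.assoc, Category.assoc, ← ha, ← hb, e]

theorem section_surjective (Z : X.Etale) : Function.Surjective fun a : Z ⟶ D.U => F.obj.map a.op D.sU := by
  intro s
  obtain ⟨c, hc, hc'⟩ := lift_exists D (p₂ D Z) (F.obj.map (p₁ D Z).op s)
  let R : Sieve Z := Sieve.ofArrows (fun _ : Unit => prodV D Z) (fun _ => p₁ D Z)
  have hR : R ∈ X.smallEtaleTopology Z := generate_mem (p₁ D Z) (surjective_p₁ D Z)
  have key : ∀ ⦃W : X.Etale⦄ (h : W ⟶ Z), R h →
      ∃ a : W ⟶ D.U, F.obj.map a.op D.sU = F.obj.map h.op s := by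
    rintro W h ⟨_, g, _, ⟨⟩, rfl⟩
    refine ⟨g ≫ c ≫ D.q, ?_⟩
    simp only [op_comp, Functor.map_comp_apply, map_q_sU, hc']
  choose a ha using key
  obtain ⟨b, hb⟩ := exists_glue hR a fun W W' g h hh => section_injective D W' (by
    simp only [op_comp, Functor.map_comp_apply, ha])
  refine ⟨b, sect_ext_of_cover F hR fun W h hh => ?_⟩
  rw [← Functor.map_comp_apply, ← op_comp, hb h hh, ha]

theorem nonempty_iso : Nonempty (F ≅ EtDesc.repSh D.U) := by
  let η : yoneda.obj D.U ⋙ uliftFunctor.{u + 1, u} ≅ F.obj := NatIso.ofComponents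
    (fun Z => (Equiv.ulift.trans (Equiv.ofBijective _
      ⟨section_injective D Z.unop, section_surjective D Z.unop⟩)).toIso)
    fun {Z Z'} g => by
      ext ⟨a⟩
      exact Functor.map_comp_apply F.obj (a : Z.unop ⟶ D.U).op g D.sU
  exact ⟨((presheafToSheaf X.smallEtaleTopology (Type (u + 1))).mapIso η ≪≫
    asIso ((sheafificationAdjunction X.smallEtaleTopology (Type (u + 1))).counit.app F)).symm⟩

end affine

/-- A finite locally constant sheaf of sets on an affine scheme is represented by a finite étale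
scheme. -/
theorem exists_rep [IsAffine X] {F : EtDesc.Sh X} (hF : LocSet F) :
    ∃ (U : X.Etale) (_ : IsFinite U.hom) (sU : F.obj.obj (op U)),
      (∀ Z : X.Etale, Function.Bijective fun a : Z ⟶ U => F.obj.map a.op sU) ∧
        Nonempty (F ≅ EtDesc.repSh U) := by
  obtain ⟨D⟩ := exists_datum hF
  exact ⟨D.U, isFinite_uh D, D.sU, fun Z => ⟨section_injective D Z, section_surjective D Z⟩,
    nonempty_iso D⟩

end Groth.Agent.EtSite.RepFinite
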