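import Groth.Prelude.Def_CohProp
import Groth.Agent.EtSite.RepFinite
import Groth.Agent.EtSite.FLCBasic

/-!
# Finite local constancy by sections, from the definitions
-/

set_option autoImplicit false
universe u

open CategoryTheory CategoryTheory.Limits AlgebraicGeometry Opposite

namespace Groth.Agent.EtSite.LocSetOf

open RepFinite

variable {X : Scheme.{u}}

theorem exists_const_map {F : EtDesc.Sh X} {U : X.Etale} {M : Type (u + 1)}
    (e : F.over U ≅ (CohProp.constSh X M).over U) :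
    ∃ τ : (Functor.const (Over U)ᵒᵖ).obj M ⟶ (Over.forget U).op ⋙ F.obj,
      Presheaf.IsLocallyInjective (X.smallEtaleTopology.over U) τ ∧
      Presheaf.IsLocallySurjective (X.smallEtaleTopology.over U) τ := by
  let J := X.smallEtaleTopology.over U
  let c := (Over.forget U).pushforwardContinuousSheafificationCompatibility
    (Type (u + 1)) J X.smallEtaleTopology
  let d : (presheafToSheaf J (Type (u + 1))).obj ((Functor.const (Over U)ᵒᵖ).obj M) ≅ F.over U :=
    (c.app ((Functor.const X.Etaleᵒᵖ).obj M)) ≪≫ e.symm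
  let ei := (sheafToPresheaf J (Type (u + 1))).map d.hom
  have : IsIso ei := inferInstance
  have h1 : Presheaf.IsLocallyInjective J (toSheafify J ((Functor.const (Over U)ᵒᵖ).obj M)) := inferInstance
  have h2 : Presheaf.IsLocallySurjective J (toSheafify J ((Functor.const (Over U)ᵒᵖ).obj M)) := inferInstance
  have h3 : Presheaf.IsLocallyInjective J ei := inferInstance
  have h4 : Presheaf.IsLocallySurjective J ei := inferInstance
  exact ⟨toSheafify J _ ≫ ei,
    Presheaf.isLocallyInjective_comp (J := J) (φ := toSheafify J ((Functor.const (Over U)ᵒᵖ).obj M)) (ψ := ei),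
    Presheaf.isLocallySurjective_comp J (toSheafify J ((Functor.const (Over U)ᵒᵖ).obj M)) ei⟩

theorem setBij_of_iso {F : EtDesc.Sh X} {U : X.Etale} {M : Type (u + 1)}
    (e : F.over U ≅ (CohProp.constSh X M).over U) :
    ∃ s : M → F.obj.obj (op U), SetBij F U s := by
  let J := X.smallEtaleTopology.over U
  obtain ⟨τ, hi, hs⟩ := exists_const_map e
  let φ : M → F.obj.obj (op U) := fun m => τ.app (op (Over.mk (𝟙 U))) m
  have hτ : ∀ {V : X.Etale} (g : V ⟶ U) (m : M),
      F.obj.map g.op (φ m) = τ.app (op (Over.mk g)) m := fun {V} g m =>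
    (NatTrans.naturality_apply τ (Over.homMk g : Over.mk g ⟶ Over.mk (𝟙 U)).op m).symm
  refine ⟨φ, fun Ω _ _ ξ t => ⟨fun m m' h => ?_, fun p => ?_⟩⟩
  · obtain ⟨W, g, w, -, hg⟩ := ((Scheme.pointSmallEtale ξ).toPresheafFiber_eq_iff' _ _ _ _).1 h
    rw [hτ, hτ] at hg
    have hR := Presheaf.equalizerSieve_mem J τ (X := op (Over.mk g)) m m' hg
    rw [GrothendieckTopology.mem_over_iff] at hR
    obtain ⟨T, k, hk, -⟩ := (Scheme.pointSmallEtale ξ).jointly_surjective _ hR w
    rw [Sieve.overEquiv_iff] at hk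
    exact hk
  · let Φ := Scheme.pointSmallEtale ξ
    obtain ⟨V, v, s, rfl⟩ := Φ.toPresheafFiber_jointly_surjective (P := F.obj) p
    obtain ⟨⟨W, w⟩, a, b, -⟩ := IsCofilteredOrEmpty.cone_objs (C := Φ.fiber.Elements)
      ⟨U, t⟩ ⟨V, v⟩
    have hR := Presheaf.imageSieve_mem J τ (U := op (Over.mk a.1)) (F.obj.map b.1.op s)
    rw [GrothendieckTopology.mem_over_iff] at hR
    obtain ⟨T, k, hk, t', hwk⟩ := Φ.jointly_surjective _ hR w
    rw [Sieve.overEquiv_iff] at hk
    obtain ⟨m, hm⟩ := hk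
    refine ⟨m, ?_⟩
    have e1 : τ.app (op (Over.mk (k ≫ a.1))) m = F.obj.map k.op (F.obj.map b.1.op s) := hm
    rw [← hτ, op_comp, Functor.map_comp_apply] at e1
    change Φ.toPresheafFiber U t F.obj (φ m) = Φ.toPresheafFiber V v F.obj s
    have ea : Φ.fiber.map a.1 w = t := a.2
    have eb : Φ.fiber.map b.1 w = v := b.2
    have hwk' : Φ.fiber.map k t' = w := hwk
    have key : ∀ x, Φ.toPresheafFiber W w F.obj x = Φ.toPresheafFiber T t' F.obj (F.obj.map k.op x) :=
      fun x => (congrArg (fun y => Φ.toPresheafFiber W y F.obj x) hwk').symm.trans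
        (Φ.toPresheafFiber_w_apply k t' F.obj x).symm
    rw [← ea, ← eb, ← Φ.toPresheafFiber_w_apply, ← Φ.toPresheafFiber_w_apply]
    exact (key _).trans ((congrArg _ e1).trans (key _).symm)

theorem locSet_of_isFinLocConstSet {F : EtDesc.Sh X} (h : CohProp.IsFinLocConstSet F) : LocSet F := by
  obtain ⟨ι, U, hU, hM⟩ := h
  intro x
  obtain ⟨i, y, hy⟩ := hU x
  obtain ⟨M, hfin, ⟨e⟩⟩ := hM i
  obtain ⟨s, hs⟩ := setBij_of_iso e
  exact ⟨U i, y, M, hfin, s, hy, hs⟩

/-- The underlying sheaf of sets of an abelian sheaf. -/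
noncomputable abbrev underlying (F : EtCoh.Ab X) : EtDesc.Sh X :=
  (sheafCompose X.smallEtaleTopology (forget AddCommGrpCat.{u + 1})).obj F

theorem setBij_underlying {F : EtCoh.Ab X} {U : X.Etale} {A : Type (u + 1)} [AddCommGroup A]
    {φ : A →+ EtCoh.sect F U} (h : LocConst.GermBij F U φ) :
    SetBij (underlying F) U (fun m => φ m) := fun Ω _ _ ξ t => by
  let Φ := Scheme.pointSmallEtale ξ
  constructor
  · intro m m' e
    obtain ⟨W, g, w, hg, hs⟩ := (Φ.toPresheafFiber_eq_iff' U t _ _).1 e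
    exact (h Ω ξ t).1 ((Φ.toPresheafFiber_eq_iff' (P := F.obj) U t (φ m) (φ m')).2 ⟨W, g, w, hg, hs⟩)
  · intro p
    obtain ⟨W, w, a, rfl⟩ := Φ.toPresheafFiber_jointly_surjective (P := (underlying F).obj) p
    obtain ⟨m, hm⟩ := (h Ω ξ t).2 (Φ.toPresheafFiber W w F.obj a)
    refine ⟨m, ?_⟩
    obtain ⟨⟨W₁, w₁⟩, ⟨f₁, hf₁⟩, ⟨f₂, hf₂⟩, -⟩ := IsCofilteredOrEmpty.cone_objs
      (C := Φ.fiber.Elements) ⟨W, w⟩ ⟨U, t⟩
    dsimp only at f₁ f₂ hf₁ hf₂
    have e : Φ.toPresheafFiber W₁ w₁ F.obj (F.obj.map f₂.op (φ m)) =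
        Φ.toPresheafFiber W₁ w₁ F.obj (F.obj.map f₁.op a) := by
      rw [Φ.toPresheafFiber_w_apply, Φ.toPresheafFiber_w_apply, hf₁, hf₂]
      exact hm
    obtain ⟨W₂, g, w₂, hg, hs⟩ := (Φ.toPresheafFiber_eq_iff' _ _ _ _).1 e
    rw [← hf₂, ← hf₁]
    refine (Φ.toPresheafFiber_w_apply f₂ w₁ (underlying F).obj (φ m)).symm.trans
      (Eq.trans ?_ (Φ.toPresheafFiber_w_apply f₁ w₁ (underlying F).obj a))
    exact (Φ.toPresheafFiber_eq_iff' (P := (underlying F).obj) W₁ w₁ _ _).2 ⟨W₂, g, w₂, hg, hs⟩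

theorem locSet_of_isFLC {F : EtCoh.Ab X} (h : EtCoh.IsFiniteLocallyConstant F) : LocSet (underlying F) := by
  intro x
  obtain ⟨U, t, M, hM, hfin, φ, hφ⟩ := FLCBasic.localData_of_isFLC h _ (gpt x)
  refine ⟨U, t.left (default : Spec (CommRingCat.of (SeparableClosure (X.residueField x)))),
    M, hfin, _, ?_, setBij_underlying hφ⟩
  exact (Scheme.Hom.comp_apply _ _ _).symm.trans
    ((congrArg (fun m : Spec (CommRingCat.of (SeparableClosure (X.residueField x))) ⟶ X => m.base _)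
      (Over.w t)).trans (gpt_apply x _))

end Groth.Agent.EtSite.LocSetOf
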