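import Groth.Agent.EtSite.RepGlobal
import Groth.Agent.EtSite.LocSetOf
import Groth.Agent.EtSite.FlasqueLocalIso
import Groth.Agent.EtMV.ExtAdj
import Groth.Prelude.Def_EtCore
import Mathlib.Algebra.Homology.DerivedCategory.Ext.EnoughInjectives

/-!
# Classes in `H¹` of finite locally constant sheaves die on finite étale coverings
-/

set_option autoImplicit false
universe u

open CategoryTheory CategoryTheory.Limits AlgebraicGeometry Opposite CategoryTheory.Abelian

namespace Groth.Agent.EtSite.KillH1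

open RepFinite LocSetOf

variable {X : Scheme.{u}}

/-- The map to the terminal object. -/
noncomputable abbrev toTop (W : X.Etale) : W ⟶ EtCoh.top X := (EtCore.topIsTerminal X).from W

/-- Sections of `I` over a given global section of `Q`. -/
noncomputable def fibrePresheaf {I Q : EtCoh.Ab X} (π : I ⟶ Q) (q : EtCoh.sect Q (EtCoh.top X)) :
    X.Etaleᵒᵖ ⥤ Type (u + 1) where
  obj W := {i : EtCoh.sect I W.unop // π.hom.app W i = Q.obj.map (toTop W.unop).op q}
  map {W W'} g := TypeCat.ofHom fun i => ⟨I.obj.map g i.1, by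
    rw [NatTrans.naturality_apply π.hom g i.1, i.2, ← Functor.map_comp_apply]
    exact congrArg (fun h : W'.unop ⟶ EtCoh.top X => Q.obj.map h.op q)
      ((EtCore.topIsTerminal X).hom_ext (g.unop ≫ toTop W.unop) (toTop W'.unop))⟩
  map_id W := by
    ext i
    change I.obj.map (𝟙 W) i.1 = i.1
    simp
  map_comp {W W' W''} g h := by
    ext i
    change I.obj.map (g ≫ h) i.1 = I.obj.map h (I.obj.map g i.1)
    exact Functor.map_comp_apply I.obj g h i.1

theorem isSheaf_fibrePresheaf {I Q : EtCoh.Ab X} (π : I ⟶ Q) (q : EtCoh.sect Q (EtCoh.top X)) :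
    Presieve.IsSheaf X.smallEtaleTopology (fibrePresheaf π q) := by
  intro Z R hR x hx
  have hI := ((isSheaf_iff_isSheaf_of_type _ _).1 (underlying I).property) R hR
  have hQ := ((isSheaf_iff_isSheaf_of_type _ _).1 (underlying Q).property) R hR
  let y : Presieve.FamilyOfElements (underlying I).obj R.arrows := fun W g hg => (x g hg).1
  have hy : y.Compatible := fun W W' U g g' f f' hf hf' e => congrArg Subtype.val (hx g g' hf hf' e)
  obtain ⟨w, hw, huniq⟩ := hI y hy
  have hwQ : π.hom.app (op Z) w = Q.obj.map (toTop Z).op q := hQ.isSeparatedFor.ext fun W g hg => by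
    change Q.obj.map g.op (π.hom.app (op Z) w) = Q.obj.map g.op (Q.obj.map (toTop Z).op q)
    rw [← NatTrans.naturality_apply, show I.obj.map g.op w = (x g hg).1 from hw g hg, (x g hg).2,
      ← Functor.map_comp_apply]
    exact congrArg (fun h : W ⟶ EtCoh.top X => Q.obj.map h.op q)
      ((EtCore.topIsTerminal X).hom_ext (toTop W) (g ≫ toTop Z))
  exact ⟨⟨w, hwQ⟩, fun W g hg => Subtype.ext (hw g hg),
    fun v hv => Subtype.ext (huniq v.1 fun W g hg => congrArg Subtype.val (hv g hg))⟩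

/-- Sections of `I` over a given global section of `Q`, as a sheaf. -/
noncomputable def fibreSheaf {I Q : EtCoh.Ab X} (π : I ⟶ Q) (q : EtCoh.sect Q (EtCoh.top X)) : EtDesc.Sh X :=
  ⟨fibrePresheaf π q, (isSheaf_iff_isSheaf_of_type _ _).2 (isSheaf_fibrePresheaf π q)⟩

theorem app_injective {A B : EtCoh.Ab X} (ι : A ⟶ B) [Mono ι] (W : X.Etale) :
    Function.Injective (ι.hom.app (op W)) := by
  have : Mono ι.hom := (inferInstance : Mono ((sheafToPresheaf X.smallEtaleTopology _).map ι))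
  have : Mono (ι.hom.app (op W)) := inferInstance
  exact (AddCommGrpCat.mono_iff_injective _).1 inferInstance

theorem locSet_fibreSheaf {S : ShortComplex (EtCoh.Ab X)} (hS : S.ShortExact)
    (hF : EtCoh.IsFiniteLocallyConstant S.X₁) (q : EtCoh.sect S.X₃ (EtCoh.top X)) :
    ∀ x : X, ∃ (U : X.Etale) (y : U.left) (M : Type (u + 1)) (_ : Finite M) (_ : Nonempty M)
      (s : M → (fibreSheaf S.g q).obj.obj (op U)), U.hom.base y = x ∧ SetBij (fibreSheaf S.g q) U s := by
  intro x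
  have := hS.mono_f
  have := hS.epi_g
  have hls : Presheaf.IsLocallySurjective X.smallEtaleTopology S.g.hom :=
    (Sheaf.isLocallySurjective_iff_epi' _ S.g).2 inferInstance
  obtain ⟨U, t, M, hM, hfin, φ, hφ⟩ := FLCBasic.localData_of_isFLC hF _ (gpt x)
  obtain ⟨W, g, ⟨i₀, hi₀⟩, w, hw⟩ := (Scheme.pointSmallEtale (gpt x)).jointly_surjective _
    (Presheaf.imageSieve_mem X.smallEtaleTopology S.g.hom (S.X₃.obj.map (toTop U).op q)) t
  have hi₀' : S.g.hom.app (op W) i₀ = S.X₃.obj.map (toTop W).op q := by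
    refine hi₀.trans ?_
    rw [← Functor.map_comp_apply]
    exact congrArg (fun h : W ⟶ EtCoh.top X => S.X₃.obj.map h.op q)
      ((EtCore.topIsTerminal X).hom_ext (g ≫ toTop U) (toTop W))
  have hφ' := hφ.map g
  let s : M → (fibreSheaf S.g q).obj.obj (op W) := fun m =>
    ⟨i₀ + S.f.hom.app (op W) (S.X₁.obj.map g.op (φ m)), by
      rw [map_add, hi₀']
      have : S.g.hom.app (op W) (S.f.hom.app (op W) (S.X₁.obj.map g.op (φ m))) = 0 :=
        (congrArg (fun k : S.X₁ ⟶ S.X₃ => k.hom.app (op W) (S.X₁.obj.map g.op (φ m))) S.zero).trans rfl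
      rw [this, add_zero]⟩
  refine ⟨W, w.left (default : Spec (CommRingCat.of (SeparableClosure (X.residueField x)))),
    M, hfin, ⟨0⟩, s, ?_, fun Ω _ _ ξ t' => ?_⟩
  · exact (Scheme.Hom.comp_apply _ _ _).symm.trans
      ((congrArg (fun m : Spec (CommRingCat.of (SeparableClosure (X.residueField x))) ⟶ X => m.base _)
        (Over.w w)).trans (gpt_apply x _))
  let Φ := Scheme.pointSmallEtale ξ
  constructor
  · intro m m' e
    obtain ⟨T, k, r, hk, hs⟩ := (Φ.toPresheafFiber_eq_iff' (P := (fibreSheaf S.g q).obj) W t' (s m) (s m')).1 e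
    refine (hφ' Ω ξ t').1 ((Φ.toPresheafFiber_eq_iff' (P := S.X₁.obj) W t' _ _).2 ⟨T, k, r, hk, ?_⟩)
    apply app_injective S.f T
    have h1 : S.X₂.obj.map k.op (i₀ + S.f.hom.app (op W) (S.X₁.obj.map g.op (φ m))) =
      S.X₂.obj.map k.op (i₀ + S.f.hom.app (op W) (S.X₁.obj.map g.op (φ m'))) := congrArg Subtype.val hs
    rw [map_add, map_add, add_right_inj] at h1
    change S.f.hom.app (op T) (S.X₁.obj.map k.op (S.X₁.obj.map g.op (φ m))) =
      S.f.hom.app (op T) (S.X₁.obj.map k.op (S.X₁.obj.map g.op (φ m')))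
    exact (NatTrans.naturality_apply S.f.hom k.op _).trans
      (h1.trans (NatTrans.naturality_apply S.f.hom k.op _).symm)
  · intro p
    obtain ⟨V, v, a, rfl⟩ := Φ.toPresheafFiber_jointly_surjective (P := (fibreSheaf S.g q).obj) p
    obtain ⟨⟨W₁, w₁⟩, ⟨f₁, hf₁⟩, ⟨f₂, hf₂⟩, -⟩ := IsCofilteredOrEmpty.cone_objs
      (C := Φ.fiber.Elements) ⟨V, v⟩ ⟨W, t'⟩
    dsimp only at f₁ f₂ hf₁ hf₂
    let a₁ : (fibreSheaf S.g q).obj.obj (op W₁) := (fibreSheaf S.g q).obj.map f₁.op a
    let b₁ : (fibreSheaf S.g q).obj.obj (op W₁) := (fibreSheaf S.g q).obj.map f₂.op (s 0)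
    obtain ⟨d, hd⟩ := LocIso.sections_exact hS W₁ (a₁.1 - b₁.1) (by rw [map_sub, a₁.2, b₁.2, sub_self])
    obtain ⟨m, hm⟩ := (hφ' Ω ξ t').2 (Φ.toPresheafFiber W₁ w₁ S.X₁.obj d)
    refine ⟨m, ?_⟩
    have e : Φ.toPresheafFiber W₁ w₁ S.X₁.obj (S.X₁.obj.map f₂.op (S.X₁.obj.map g.op (φ m))) =
        Φ.toPresheafFiber W₁ w₁ S.X₁.obj d := by
      rw [Φ.toPresheafFiber_w_apply, hf₂]
      exact hm
    obtain ⟨W₂, k, w₂, hk, hs⟩ := (Φ.toPresheafFiber_eq_iff' _ _ _ _).1 e
    rw [← hf₁, ← hf₂]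
    refine (Φ.toPresheafFiber_w_apply f₂ w₁ (fibreSheaf S.g q).obj (s m)).symm.trans
      (Eq.trans ?_ (Φ.toPresheafFiber_w_apply f₁ w₁ (fibreSheaf S.g q).obj a))
    refine (Φ.toPresheafFiber_eq_iff' (P := (fibreSheaf S.g q).obj) W₁ w₁ _ _).2
      ⟨W₂, k, w₂, hk, Subtype.ext ?_⟩
    change S.X₂.obj.map k.op (S.X₂.obj.map f₂.op (i₀ + S.f.hom.app (op W) (S.X₁.obj.map g.op (φ m)))) =
      S.X₂.obj.map k.op a₁.1
    have hb : b₁.1 = S.X₂.obj.map f₂.op i₀ := by
      change S.X₂.obj.map f₂.op (i₀ + S.f.hom.app (op W) (S.X₁.obj.map g.op (φ 0))) = _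
      rw [map_zero, map_zero, map_zero, add_zero]
    have ha : a₁.1 = b₁.1 + S.f.hom.app (op W₁) d := by rw [hd]; abel
    rw [ha, hb, map_add, map_add, map_add, ← NatTrans.naturality_apply, ← NatTrans.naturality_apply,
      ← NatTrans.naturality_apply, hs]

/-- A morphism out of the constant sheaf `ℤ`, by its value at `1`. -/
noncomputable def ofSect {A : EtCoh.Ab X} (a : EtCoh.sect A (EtCoh.top X)) : EtCoh.const X ℤ ⟶ A :=
  ((EtCore.constAdj X).homEquiv _ _).symm
    (AddCommGrpCat.ofHom (((zmultiplesHom _) a).comp AddEquiv.ulift.toAddMonoidHom))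

/-- The value at `1`. -/
noncomputable def val₁ {A : EtCoh.Ab X} (f : EtCoh.const X ℤ ⟶ A) : EtCoh.sect A (EtCoh.top X) :=
  ((EtCore.constAdj X).homEquiv _ _ f).hom (ULift.up 1)

theorem val₁_ofSect {A : EtCoh.Ab X} (a : EtCoh.sect A (EtCoh.top X)) : val₁ (ofSect a) = a := by
  rw [val₁, ofSect, Equiv.apply_symm_apply]
  exact one_zsmul a

theorem val₁_comp {A B : EtCoh.Ab X} (f : EtCoh.const X ℤ ⟶ A) (g : A ⟶ B) :
    val₁ (f ≫ g) = g.hom.app (op (EtCoh.top X)) (val₁ f) := by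
  rw [val₁, Adjunction.homEquiv_naturality_right]
  rfl

theorem val₁_injective {A : EtCoh.Ab X} : Function.Injective (val₁ (X := X) (A := A)) := by
  intro f f' h
  refine ((EtCore.constAdj X).homEquiv _ _).injective (AddCommGrpCat.hom_ext ?_)
  ext ⟨n⟩
  have e : (⟨n⟩ : ULift.{u + 1} ℤ) = n • (⟨1⟩ : ULift.{u + 1} ℤ) := ULift.ext _ _ (zsmul_int_one n).symm
  rw [e, map_zsmul, map_zsmul]
  exact congrArg (n • ·) h

/-- A lift of a section on a covering member lifts the pulled back morphism. -/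
theorem exists_lift_pull {I Q : EtCoh.Ab X} (π : I ⟶ Q) (z : EtCoh.const X ℤ ⟶ Q) (U : X.Etale)
    (i : EtCoh.sect I U) (hi : π.hom.app (op U) i = Q.obj.map (toTop U).op (val₁ z)) :
    ∃ ψ : (EtCoh.pull U.hom).obj (EtCoh.const X ℤ) ⟶ (EtCoh.pull U.hom).obj I,
      ψ ≫ (EtCoh.pull U.hom).map π = (EtCoh.pull U.hom).map z := by
  let g := U.hom
  let A := EtCoh.pullPushAdj g
  let T := (EtCoh.bc g).obj (EtCoh.top X)
  let p : T.left ⟶ U.left := pullback.snd (EtCoh.top X).hom g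
  let δ : T ⟶ (EtCoh.bc g).obj U := MorphismProperty.Over.homMk
    (pullback.lift p p rfl) (pullback.lift_snd _ _ _) trivial
  have hδ : δ ≫ (EtCoh.bc g).map (toTop U) = 𝟙 T :=
    (EtCore.bcTopIsTerminal g).hom_ext _ _
  let e : EtCoh.sect ((EtCoh.push g).obj ((EtCoh.pull g).obj I)) (EtCoh.top X) :=
    ((EtCoh.pull g).obj I).obj.map δ.op ((A.unit.app I).hom.app (op U) i)
  refine ⟨(A.homEquiv _ _).symm (ofSect e), (A.homEquiv _ _).injective (val₁_injective ?_)⟩
  rw [Adjunction.homEquiv_naturality_right, Equiv.apply_symm_apply, val₁_comp, val₁_ofSect]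
  refine Eq.trans ?_ (congrArg val₁ ((A.unit.naturality z).trans
    (A.homEquiv_unit (f := (EtCoh.pull g).map z)).symm))
  rw [Functor.id_map, val₁_comp]
  change ((EtCoh.pull g).map π).hom.app (op T) (((EtCoh.pull g).obj I).obj.map δ.op _) = _
  rw [NatTrans.naturality_apply]
  have h1 : ((EtCoh.pull g).map π).hom.app (op ((EtCoh.bc g).obj U)) ((A.unit.app I).hom.app (op U) i) =
      (A.unit.app Q).hom.app (op U) (π.hom.app (op U) i) :=
    (congrArg (fun k : I ⟶ (EtCoh.push g).obj ((EtCoh.pull g).obj Q) => k.hom.app (op U) i)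
      (A.unit.naturality π)).symm
  rw [h1, hi]
  have h2 : (A.unit.app Q).hom.app (op U) (Q.obj.map (toTop U).op (val₁ z)) =
      ((EtCoh.pull g).obj Q).obj.map ((EtCoh.bc g).map (toTop U)).op
        ((A.unit.app Q).hom.app (op (EtCoh.top X)) (val₁ z)) :=
    NatTrans.naturality_apply (A.unit.app Q).hom (toTop U).op (val₁ z)
  rw [h2, ← Functor.map_comp_apply, ← op_comp, hδ]
  exact ConcreteCategory.congr_hom (((EtCoh.pull g).obj Q).obj.map_id (op T)) _

set_option backward.isDefEq.respectTransparency.types false in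
/-- A degree one class with finite locally constant coefficients is killed by a finite étale covering. -/
theorem exists_kill (F : EtCoh.Ab X) (hF : EtCoh.IsFiniteLocallyConstant F) (ζ : EtCoh.H X F 1) :
    ∃ (X' : Scheme.{u}) (g : X' ⟶ X), IsFinite g ∧ Etale g ∧ Surjective g ∧
      ∀ [PreservesFiniteLimits (EtCoh.pull g)], EtCore.Hpull g F 1 ζ = 0 := by
  let S := ShortComplex.mk (Injective.ι F) (cokernel.π (Injective.ι F)) (cokernel.condition _)
  have hS : S.ShortExact := { exact := ShortComplex.exact_of_g_is_cokernel _ (cokernelIsCokernel _) }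
  obtain ⟨z', hz'⟩ := Ext.covariant_sequence_exact₁ (EtCoh.const X ℤ) hS ζ
    (Ext.eq_zero_of_injective _) (zero_add 1)
  obtain ⟨z, rfl⟩ := (Ext.mk₀_bijective _ _).2 z'
  have hloc := locSet_fibreSheaf hS hF (val₁ z)
  obtain ⟨U, hU, sU, hbij⟩ := RepGlobal.exists_rep (F := fibreSheaf S.g (val₁ z)) fun x => by
    obtain ⟨W, y, M, hM, -, s, hy, hs⟩ := hloc x
    exact ⟨W, y, M, hM, s, hy, hs⟩
  have hsurj : Surjective U.hom := ⟨fun x => by
    obtain ⟨W, y, M, hM, ⟨m⟩, s, hy, -⟩ := hloc x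
    obtain ⟨a, -⟩ := (hbij W).2 (s m)
    refine ⟨a.left.base y, ?_⟩
    rw [← Scheme.Hom.comp_apply, MorphismProperty.Over.w a]
    exact hy⟩
  refine ⟨U.left, U.hom, hU, U.prop, hsurj, ?_⟩
  intro _
  obtain ⟨ψ, hψ⟩ := exists_lift_pull S.g z U sU.1 sU.2
  have hS' := hS.map_of_exact (EtCoh.pull U.hom)
  rw [show EtCore.Hpull U.hom F 1 ζ = (Ext.mk₀ (EtCore.pullConst U.hom ℤ).inv).comp
    (ζ.mapExactFunctor (EtCoh.pull U.hom)) (zero_add 1) from rfl]
  have h : ζ.mapExactFunctor (EtCoh.pull U.hom) = 0 := by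
    rw [← hz', EtMV.mapExactFunctor_comp_extClass (R := EtCoh.pull U.hom) hS _ (zero_add 1),
      Ext.mapExactFunctor_mk₀, ← hψ, ← Ext.mk₀_comp_mk₀, Ext.comp_assoc_of_second_deg_zero]
    erw [(hS'.comp_extClass)]
    exact Ext.comp_zero (Ext.mk₀ ψ) _ 1 1 _
  rw [h, Ext.comp_zero]

end Groth.Agent.EtSite.KillH1
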