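import Groth.Prelude.Def_EtBase
import Groth.Agent.EtSite.Points
import Groth.Agent.EtSite.PushEpi

/-!
# Locally constant sheaves: a criterion by germs

The restriction of `F` to an etale `X`-scheme `U` is constant with value `A` iff there is a
homomorphism `A →+ F(U)` inducing bijections on all germs at geometric points of `U`.
-/

set_option autoImplicit false
universe u

open CategoryTheory CategoryTheory.Limits AlgebraicGeometry Opposite

namespace Groth.Agent.EtSite.LocConst

variable {X : Scheme.{u}} (F : EtCoh.Ab X) (U : X.Etale) {A : Type (u + 1)} [AddCommGroup A]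

/-- A homomorphism to the sections over `U` inducing bijections on all germs at points of `U`. -/
def GermBij (φ : A →+ EtCoh.sect F U) : Prop :=
  ∀ (Ω : Type u) [Field Ω] [IsSepClosed Ω] (ξ : Spec (CommRingCat.of Ω) ⟶ X)
    (t : (Scheme.pointSmallEtale ξ).fiber.obj U),
    Function.Bijective fun m : A => (Scheme.pointSmallEtale ξ).toPresheafFiber U t F.obj (φ m)

variable {F U}

theorem GermBij.map {φ : A →+ EtCoh.sect F U} (h : GermBij F U φ) {V : X.Etale} (g : V ⟶ U) :
    GermBij F V ((F.obj.map g.op).hom.comp φ) := fun Ω _ _ ξ t => by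
  convert h Ω ξ ((Scheme.pointSmallEtale ξ).fiber.map g t) using 2 with m
  exact (Scheme.pointSmallEtale ξ).toPresheafFiber_w_apply g t F.obj (φ m)

variable (F U)

/-- The natural transformation from a constant presheaf defined by a homomorphism. -/
noncomputable def natOf (φ : A →+ EtCoh.sect F U) :
    (Functor.const (Over U)ᵒᵖ).obj (AddCommGrpCat.of A) ⟶ (EtCoh.restr F U).obj where
  app V := AddCommGrpCat.ofHom ((F.obj.map V.unop.hom.op).hom.comp φ)
  naturality V W k := by
    ext m
    change F.obj.map W.unop.hom.op (φ m) = F.obj.map k.unop.left.op (F.obj.map V.unop.hom.op (φ m))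
    rw [← Functor.map_comp_apply, ← op_comp, Over.w]

variable {F U}

theorem isLocallyInjective_natOf {φ : A →+ EtCoh.sect F U} (h : GermBij F U φ) :
    Presheaf.IsLocallyInjective (X.smallEtaleTopology.over U) (natOf F U φ) where
  equalizerSieve_mem {V} m m' hm := by
    rw [GrothendieckTopology.mem_over_iff]
    refine mem_smallEtaleTopology_of_points _ _ fun x => ⟨V.unop.left, 𝟙 _, x, ?_, rfl⟩
    rw [Sieve.overEquiv_iff]
    change m = m'
    refine (h.map V.unop.hom _ _ (tautPt V.unop.left x)).1 ?_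
    exact congrArg _ hm

theorem isLocallySurjective_natOf {φ : A →+ EtCoh.sect F U} (h : GermBij F U φ) :
    Presheaf.IsLocallySurjective (X.smallEtaleTopology.over U) (natOf F U φ) where
  imageSieve_mem {V} s := by
    rw [GrothendieckTopology.mem_over_iff]
    refine mem_smallEtaleTopology_of_points _ _ fun x => ?_
    let Φ := Scheme.pointSmallEtale (gpt x ≫ V.left.hom)
    obtain ⟨m, hm⟩ := (h.map V.hom _ _ (tautPt V.left x)).2
      (Φ.toPresheafFiber V.left (tautPt V.left x) F.obj s)
    obtain ⟨W, g, w, hw, hg⟩ := (Φ.toPresheafFiber_eq_iff' _ _ _ _).1 hm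
    refine ⟨W, g, w.left (default : Spec (CommRingCat.of (SeparableClosure (V.left.left.residueField x)))), ?_, ?_⟩
    · rw [Sieve.overEquiv_iff]
      refine ⟨m, ?_⟩
      change F.obj.map (g ≫ V.hom).op (φ m) = F.obj.map g.op s
      rw [op_comp, Functor.map_comp_apply]
      exact hg
    · have hl : w.left ≫ g.left = gpt x := congrArg CommaMorphism.left hw
      exact (Scheme.Hom.comp_apply _ _ _).symm.trans
        ((congrArg (fun m : _ ⟶ V.left.left => m.base _) hl).trans (gpt_apply x _))

theorem isIso_map_natOf {φ : A →+ EtCoh.sect F U} (h : GermBij F U φ) :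
    IsIso ((presheafToSheaf (X.smallEtaleTopology.over U) AddCommGrpCat.{u + 1}).map
      (natOf F U φ)) := by
  have := isLocallyInjective_natOf h
  have := isLocallySurjective_natOf h
  exact ((X.smallEtaleTopology.over U).W_iff _).1
    ((X.smallEtaleTopology.over U).W_of_isLocallyBijective _)

/-- The isomorphism with a constant sheaf given by a homomorphism bijective on germs. -/
noncomputable def constIso {φ : A →+ EtCoh.sect F U} (h : GermBij F U φ) :
    EtCoh.restr F U ≅
      (constantSheaf (X.smallEtaleTopology.over U) AddCommGrpCat.{u + 1}).obj (AddCommGrpCat.of A) :=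
  haveI := isIso_map_natOf h
  sheafificationIso _ ≪≫ (asIso ((presheafToSheaf (X.smallEtaleTopology.over U)
    AddCommGrpCat.{u + 1}).map (natOf F U φ))).symm

theorem nonempty_iso_of_germBij {φ : A →+ EtCoh.sect F U} (h : GermBij F U φ) :
    Nonempty (EtCoh.restr F U ≅
      (constantSheaf (X.smallEtaleTopology.over U) AddCommGrpCat.{u + 1}).obj (AddCommGrpCat.of A)) :=
  ⟨constIso h⟩

theorem constIso_comm {G : EtCoh.Ab X} (a : F ⟶ G) {B : Type (u + 1)} [AddCommGroup B]
    {φ : A →+ EtCoh.sect F U} (hφ : GermBij F U φ) {ψ : B →+ EtCoh.sect G U}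
    (hψ : GermBij G U ψ) (h : A →+ B) (hc : ∀ m, a.hom.app (op U) (φ m) = ψ (h m)) :
    (X.smallEtaleTopology.overPullback AddCommGrpCat.{u + 1} U).map a ≫ (constIso hψ).hom =
      (constIso hφ).hom ≫ (constantSheaf (X.smallEtaleTopology.over U) AddCommGrpCat.{u + 1}).map
        (AddCommGrpCat.ofHom h) := by
  let J := X.smallEtaleTopology.over U
  let P := presheafToSheaf J AddCommGrpCat.{u + 1}
  let ar := (X.smallEtaleTopology.overPullback AddCommGrpCat.{u + 1} U).map a
  have := isIso_map_natOf hφ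
  have := isIso_map_natOf hψ
  have e : natOf F U φ ≫ ar.hom =
      (Functor.const (Over U)ᵒᵖ).map (AddCommGrpCat.ofHom h) ≫ natOf G U ψ := by
    ext V m
    change a.hom.app (op V.unop.left) (F.obj.map V.unop.hom.op (φ m)) =
      G.obj.map V.unop.hom.op (ψ (h m))
    rw [← hc m]
    exact NatTrans.naturality_apply a.hom V.unop.hom.op (φ m)
  have e2 : P.map (natOf F U φ) ≫ P.map ar.hom =
      P.map ((Functor.const (Over U)ᵒᵖ).map (AddCommGrpCat.ofHom h)) ≫ P.map (natOf G U ψ) := by
    rw [← P.map_comp, ← P.map_comp, e]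
  have e3 : ar ≫ (sheafificationIso _).hom = (sheafificationIso _).hom ≫ P.map ar.hom :=
    (sheafificationNatIso J AddCommGrpCat.{u + 1}).hom.naturality ar
  change ar ≫ ((sheafificationIso _).hom ≫ inv (P.map (natOf G U ψ))) =
    ((sheafificationIso _).hom ≫ inv (P.map (natOf F U φ))) ≫
      P.map ((Functor.const (Over U)ᵒᵖ).map (AddCommGrpCat.ofHom h))
  rw [← Category.assoc, IsIso.comp_inv_eq, e3, Category.assoc, Category.assoc, ← e2,
    IsIso.inv_hom_id_assoc]

theorem exists_germBij_of_iso (e : EtCoh.restr F U ≅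
      (constantSheaf (X.smallEtaleTopology.over U) AddCommGrpCat.{u + 1}).obj (AddCommGrpCat.of A)) :
    ∃ φ : A →+ EtCoh.sect F U, GermBij F U φ := by
  let J := X.smallEtaleTopology.over U
  let P : (Over U)ᵒᵖ ⥤ AddCommGrpCat.{u + 1} := (Functor.const _).obj (AddCommGrpCat.of A)
  let ei : ((presheafToSheaf J AddCommGrpCat.{u + 1}).obj P).obj ⟶ (EtCoh.restr F U).obj := e.inv.hom
  have : IsIso ei := (sheafToPresheaf J _).map_isIso e.inv
  let τ : P ⟶ (EtCoh.restr F U).obj := toSheafify J P ≫ ei
  have hi : Presheaf.IsLocallyInjective J τ := inferInstance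
  have hs : Presheaf.IsLocallySurjective J τ := inferInstance
  let φ : A →+ EtCoh.sect F U := (τ.app (op (Over.mk (𝟙 U)))).hom
  have hτ : ∀ {V : X.Etale} (g : V ⟶ U) (m : A),
      F.obj.map g.op (φ m) = τ.app (op (Over.mk g)) m := fun {V} g m =>
    (NatTrans.naturality_apply τ (Over.homMk g : Over.mk g ⟶ Over.mk (𝟙 U)).op m).symm
  refine ⟨φ, fun Ω _ _ ξ t => ⟨fun m m' h => ?_, fun p => ?_⟩⟩
  · obtain ⟨W, g, w, -, hg⟩ := ((Scheme.pointSmallEtale ξ).toPresheafFiber_eq_iff' _ _ _ _).1 h
    rw [hτ, hτ] at hg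
    have hR := Presheaf.equalizerSieve_mem J τ (X := op (Over.mk g)) m m' hg
    rw [GrothendieckTopology.mem_over_iff] at hR
    obtain ⟨T, k, hk, -⟩ := (Scheme.pointSmallEtale ξ).jointly_surjective _ hR w
    rw [Sieve.overEquiv_iff] at hk
    exact hk
  · let Φ := Scheme.pointSmallEtale ξ
    obtain ⟨V, v, s, rfl⟩ := Φ.toPresheafFiber_jointly_surjective p
    obtain ⟨⟨W, w⟩, a, b, -⟩ := IsCofilteredOrEmpty.cone_objs (C := Φ.fiber.Elements)
      ⟨U, t⟩ ⟨V, v⟩
    have hR := Presheaf.imageSieve_mem J τ (U := op (Over.mk a.1)) (F.obj.map b.1.op s)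
    rw [GrothendieckTopology.mem_over_iff] at hR
    obtain ⟨T, k, hk, t', hwk⟩ := Φ.jointly_surjective _ hR w
    rw [Sieve.overEquiv_iff] at hk
    obtain ⟨m, hm⟩ := hk
    refine ⟨m, ?_⟩
    have e1 : τ.app (op (Over.mk (k ≫ a.1))) m = F.obj.map k.op (F.obj.map b.1.op s) := hm
    rw [← hτ, op_comp, Functor.map_comp_apply] at e1
    change Φ.toPresheafFiber U t F.obj (φ m) = Φ.toPresheafFiber V v F.obj s
    have ea : Φ.fiber.map a.1 w = t := a.2
    have eb : Φ.fiber.map b.1 w = v := b.2
    have hwk' : Φ.fiber.map k t' = w := hwk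
    have key : ∀ x, Φ.toPresheafFiber W w F.obj x = Φ.toPresheafFiber T t' F.obj (F.obj.map k.op x) :=
      fun x => (congrArg (fun y => Φ.toPresheafFiber W y F.obj x) hwk').symm.trans
        (Φ.toPresheafFiber_w_apply k t' F.obj x).symm
    rw [← ea, ← eb, ← Φ.toPresheafFiber_w_apply, ← Φ.toPresheafFiber_w_apply]
    exact (key _).trans ((congrArg _ e1).trans (key _).symm)

theorem nonempty_iso_iff : Nonempty (EtCoh.restr F U ≅
      (constantSheaf (X.smallEtaleTopology.over U) AddCommGrpCat.{u + 1}).obj (AddCommGrpCat.of A)) ↔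
    ∃ φ : A →+ EtCoh.sect F U, GermBij F U φ :=
  ⟨fun ⟨e⟩ => exists_germBij_of_iso e, fun ⟨_, h⟩ => nonempty_iso_of_germBij h⟩

end Groth.Agent.EtSite.LocConst
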