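import Groth.Agent.S3047
import Groth.Agent.ImmDescent.Basic
import Groth.Agent.EtSite.Sect
import Groth.Prelude.Def_EtAcyc
import Mathlib.CategoryTheory.Sites.LocallyInjective

/-!
# (-1)-acyclic morphisms are the surjective ones
-/

set_option autoImplicit false
universe u

open CategoryTheory CategoryTheory.Limits AlgebraicGeometry Opposite

namespace Groth.Agent.EtSite.MinusOneAcyclic

/-- The unit of an adjunction with faithful left adjoint is a monomorphism. -/
theorem mono_unit {C D : Type*} [Category C] [Category D] {L : C ⥤ D} {R : D ⥤ C} (adj : L ⊣ R)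
    [L.Faithful] (A : C) : Mono (adj.unit.app A) where
  right_cancellation {W} a b h := by
    apply L.map_injective
    have := congrArg (fun m => L.map m ≫ adj.counit.app (L.obj A)) h
    simpa [Category.assoc] using this

theorem mono_unit_faithful {C D : Type*} [Category C] [Category D] {L : C ⥤ D} {R : D ⥤ C} (adj : L ⊣ R)
    (h : ∀ A, Mono (adj.unit.app A)) : L.Faithful where
  map_injective {A B} a b hab := by
    have := h B
    rw [← cancel_mono (adj.unit.app B)]
    have e1 := adj.unit.naturality a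
    have e2 := adj.unit.naturality b
    simp only [Functor.id_map, Functor.comp_map] at e1 e2
    rw [e1, e2, hab]

variable {Y : Scheme.{u}}

/-- The subsheaf of the final sheaf given by a set. -/
def subP (O : Set Y) : Y.Etaleᵒᵖ ⥤ Type (u + 1) where
  obj W := ULift.{u + 1} (PLift (Set.range W.unop.hom.base ⊆ O))
  map {W W'} g := TypeCat.ofHom fun h => ⟨⟨fun x hx => by
    obtain ⟨w, rfl⟩ := hx
    refine h.down.down ⟨g.unop.left.base w, ?_⟩
    exact (Scheme.Hom.comp_apply _ _ _).symm.trans
      (congrArg (fun m : W'.unop.left ⟶ Y => m.base w) (MorphismProperty.Over.w g.unop))⟩⟩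
  map_id W := by ext; rfl
  map_comp g g' := by ext; rfl

theorem isSheaf_subP (O : Set Y) : Presieve.IsSheaf Y.smallEtaleTopology (subP O) := by
  intro W S hS z hz
  refine ⟨⟨⟨?_⟩⟩, fun V g hg => rfl, fun t ht => rfl⟩
  rintro _ ⟨w, rfl⟩
  obtain ⟨V, g, v, hg, -, hv⟩ := exists_mem_of_mem_smallEtaleTopology hS w
  refine (z g hg).down.down ⟨v, ?_⟩
  refine (congrArg (fun m : V.left ⟶ Y => m.base v) (MorphismProperty.Over.w g).symm).trans ?_
  exact (Scheme.Hom.comp_apply _ _ _).trans (congrArg _ hv)

/-- The subsheaf of the final sheaf given by a set. -/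
def subSh (O : Set Y) : EtDesc.Sh Y :=
  ⟨subP O, (isSheaf_iff_isSheaf_of_type _ _).2 (isSheaf_subP O)⟩

/-- The inclusion. -/
def subMap {O O' : Set Y} (h : O ⊆ O') : subSh O ⟶ subSh O' :=
  ⟨{ app := fun W => TypeCat.ofHom fun t => ⟨⟨t.down.down.trans h⟩⟩
     naturality := fun W W' g => by ext; rfl }⟩

theorem stalk_bijective {O O' : Set Y} (hO : IsOpen O) (h : O ⊆ O') {Ω : Type u} [Field Ω] [IsSepClosed Ω]
    (ξ : Spec (CommRingCat.of Ω) ⟶ Y) (hξ : ξ default ∈ O' → ξ default ∈ O) :
    Function.Bijective ((Scheme.pointSmallEtale ξ).presheafFiber.map (subMap h).hom) := by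
  let Φ := Scheme.pointSmallEtale ξ
  refine ⟨fun p q hpq => ?_, fun p => ?_⟩
  · obtain ⟨V, v, s, rfl⟩ := Φ.toPresheafFiber_jointly_surjective (P := (subSh O).obj) p
    obtain ⟨W, w, t, rfl⟩ := Φ.toPresheafFiber_jointly_surjective (P := (subSh O).obj) q
    obtain ⟨⟨T, τ⟩, ⟨a, ha⟩, ⟨b, hb⟩, -⟩ := IsCofilteredOrEmpty.cone_objs (C := Φ.fiber.Elements)
      ⟨V, v⟩ ⟨W, w⟩
    dsimp only at a b ha hb
    rw [← ha, ← hb, ← Φ.toPresheafFiber_w_apply, ← Φ.toPresheafFiber_w_apply]
    exact congrArg _ (by rfl)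
  · obtain ⟨V, v, s, rfl⟩ := Φ.toPresheafFiber_jointly_surjective (P := (subSh O').obj) p
    have hv : V.hom.base (Sect.pt v) = ξ default := (Scheme.Hom.comp_apply _ _ _).symm.trans
      (congrArg (fun m : _ ⟶ Y => m default) (Over.w v))
    have hvO : Sect.pt v ∈ V.hom.base ⁻¹' O := by
      show V.hom.base (Sect.pt v) ∈ O
      rw [hv]
      exact hξ (hv ▸ s.down.down ⟨_, rfl⟩)
    let V' := AllPoints.res V ⟨_, hO.preimage V.hom.continuous⟩
    let π := AllPoints.resι V ⟨_, hO.preimage V.hom.continuous⟩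
    obtain ⟨v', hv'⟩ := Sect.exists_pt π v ((AllPoints.range_resι V _).ge hvO)
    have hsub : Set.range V'.hom.base ⊆ O := by
      rintro _ ⟨w, rfl⟩
      have h1 : π.left.base w ∈ V.hom.base ⁻¹' O := (AllPoints.range_resι V _).le ⟨w, rfl⟩
      have h2 : V.hom.base (π.left.base w) = V'.hom.base w := (Scheme.Hom.comp_apply _ _ _).symm.trans
        (congrArg (fun m : V'.left ⟶ Y => m.base w) (MorphismProperty.Over.w π))
      exact h2 ▸ h1
    refine ⟨Φ.toPresheafFiber V' v' (subP O) ⟨⟨hsub⟩⟩, ?_⟩
    refine (Φ.toPresheafFiber_naturality_apply (subMap h).hom V' v' _).trans ?_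
    rw [← hv', ← Φ.toPresheafFiber_w_apply]
    rfl

theorem surjective_of_faithful {X : Scheme.{u}} (g : X ⟶ Y) [QuasiCompact g]
    (hF : (EtDesc.pullSh g).Faithful) : Function.Surjective g.base := by
  intro y
  by_contra hy
  push Not at hy
  let Z : TopologicalSpace.Closeds Y := ⟨closure {y}, isClosed_closure⟩
  let ι := (Scheme.IdealSheafData.vanishingIdeal (X := Y) Z).subschemeι
  have hι : Set.range ι = closure {y} := (Scheme.IdealSheafData.vanishingIdeal Z).range_subschemeι.trans
    (Scheme.IdealSheafData.coe_support_vanishingIdeal Z)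
  let k := pullback.fst g ι ≫ g
  have : QuasiCompact (pullback.fst g ι) := MorphismProperty.pullback_fst _ _ inferInstance
  have hyk : y ∉ closure (Set.range k.base) := fun hc => by
    obtain ⟨x, hx⟩ := ImmDescent.exists_specializes_of_mem_closure_range k hc
    have hk : k.base x ∈ closure {y} := by
      rw [← hι]
      refine ⟨(pullback.snd g ι).base x, ?_⟩
      exact (Scheme.Hom.comp_apply _ _ _).symm.trans
        (congrArg (fun m : _ ⟶ Y => m.base x) pullback.condition.symm)
    exact hy ((pullback.fst g ι).base x)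
      ((Scheme.Hom.comp_apply _ _ _).symm.trans (hx.antisymm (specializes_iff_mem_closure.2 hk)).eq)
  let O' : Set Y := (closure (Set.range k.base))ᶜ
  let O : Set Y := O' ∩ (closure {y})ᶜ
  have hO : IsOpen O := isClosed_closure.isOpen_compl.inter isClosed_closure.isOpen_compl
  let a := subMap (Y := Y) (O := O) (O' := O') Set.inter_subset_left
  have hmiss : ∀ x : X, g.base x ∈ O' → g.base x ∈ O := fun x hx => ⟨hx, fun hxC => by
    obtain ⟨c, hc⟩ := hι.ge hxC
    obtain ⟨w, hw, -⟩ := Scheme.Pullback.exists_preimage_pullback (f := g) (g := ι) x c hc.symm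
    exact hx (subset_closure ⟨w, (Scheme.Hom.comp_apply _ _ _).trans (congrArg _ hw)⟩)⟩
  have hiso : IsIso ((EtDesc.pullSh g).map a) := by
    have hb : ∀ x : X, Function.Bijective
        ((Scheme.pointSmallEtale (gpt x)).presheafFiber.map ((EtDesc.pullSh g).map a).hom) := fun x => by
      let Φ := Scheme.pointSmallEtale (gpt x)
      let e₁ := Φ.sheafFiberComapIso (EtCoh.bc g) (EtCoh.coverPreserving_bc g) (Type (u + 1))
      have h1 : IsIso ((Scheme.pointSmallEtale (gpt x ≫ g)).sheafFiber.map a) :=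
        (ConcreteCategory.isIso_iff_bijective _).2 (stalk_bijective hO Set.inter_subset_left _ (by
          have he : (gpt x ≫ g) default = g.base x := (Scheme.Hom.comp_apply _ _ _).trans
            (congrArg g.base (gpt_apply x _))
          rw [he]
          exact hmiss x))
      let b : (Scheme.pointSmallEtale (gpt x ≫ g)).sheafFiber (A := Type (u + 1)) ≅
          (comapPt g (gpt x)).sheafFiber (A := Type (u + 1)) :=
        { hom := (comapPtIso g (gpt x)).inv.sheafFiber
          inv := (comapPtIso g (gpt x)).hom.sheafFiber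
          hom_inv_id := by rw [← GrothendieckTopology.Point.Hom.sheafFiber_comp, Iso.hom_inv_id,
            GrothendieckTopology.Point.Hom.sheafFiber_id]
          inv_hom_id := by rw [← GrothendieckTopology.Point.Hom.sheafFiber_comp, Iso.inv_hom_id,
            GrothendieckTopology.Point.Hom.sheafFiber_id] }
      have h2 : IsIso (Φ.sheafFiber.map ((EtDesc.pullSh g).map a)) :=
        (NatIso.isIso_map_iff (b ≪≫ e₁) a).1 h1
      exact (ConcreteCategory.isIso_iff_bijective _).1 h2
    have h1 : Sheaf.IsLocallyInjective ((EtDesc.pullSh g).map a) :=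
      isLocallyInjective_of_exists_stalk _ fun x => ⟨_, _, _, gpt x, gpt_apply x _, (hb x).1⟩
    have h2 : Sheaf.IsLocallySurjective ((EtDesc.pullSh g).map a) :=
      isLocallySurjective_of_exists_stalk _ fun x => ⟨_, _, _, gpt x, gpt_apply x _, (hb x).2⟩
    exact (Sheaf.isLocallyBijective_iff_isIso _).1 ⟨h1, h2⟩
  have : Mono a := (EtDesc.pullSh g).mono_of_mono_map (inferInstance : Mono ((EtDesc.pullSh g).map a))
  have : Epi a := (EtDesc.pullSh g).epi_of_epi_map (inferInstance : Epi ((EtDesc.pullSh g).map a))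
  have : IsIso a := isIso_of_mono_of_epi a
  let U : Y.Etale := Scheme.Etale.mk (Scheme.Opens.ι (⟨O', isClosed_closure.isOpen_compl⟩ : Y.Opens))
  have hUO : Set.range U.hom.base ⊆ O' := (Scheme.Opens.range_ι _).le
  let s := (inv a).hom.app (op U) (⟨⟨hUO⟩⟩ : (subP O').obj (op U))
  exact ((s.down.down ⟨⟨y, hyk⟩, rfl⟩).2 (subset_closure rfl))

end Groth.Agent.EtSite.MinusOneAcyclic
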