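import Groth.Agent.EtSite.MuConst
import Groth.Agent.EtSite.Sect
import Mathlib.RingTheory.Etale.StandardEtale
import Mathlib.RingTheory.RingHom.Etale

/-!
# Roots of unity are locally generated by one section
-/

set_option autoImplicit false
universe u

open CategoryTheory CategoryTheory.Limits AlgebraicGeometry Opposite

namespace Groth.Agent.EtSite.MuLocal

open FLCOps LocConst MuConst

variable {X : Scheme.{u}} {n : ℕ}

/-- The homomorphism `i ↦ i • z` on `ℤ/n`. -/
noncomputable def mulHom {M : Type (u + 1)} [AddCommGroup M] (n : ℕ) (z : M) (hz : n • z = 0) :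
    ULift.{u + 1} (ZMod n) →+ M :=
  (ZMod.lift n (⟨zmultiplesHom M z, by simp [hz]⟩ : {f : ℤ →+ M // f n = 0})).comp AddEquiv.ulift.toAddMonoidHom

theorem mulHom_natCast {M : Type (u + 1)} [AddCommGroup M] (n : ℕ) (z : M) (hz : n • z = 0) (i : ℕ) :
    mulHom n z hz ⟨(i : ZMod n)⟩ = i • z := by
  let gz : {f : ℤ →+ M // f n = 0} := ⟨zmultiplesHom M z, by simp [hz]⟩
  refine (congrArg (ZMod.lift n gz) (Int.cast_natCast i).symm).trans ?_
  refine (ZMod.lift_coe n gz i).trans ?_
  exact natCast_zsmul z i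

theorem exists_nat (hn : 0 < n) (m : ULift.{u + 1} (ZMod n)) : ∃ i : ℕ, (⟨(i : ZMod n)⟩ : ULift.{u + 1} (ZMod n)) = m :=
  have : NeZero n := ⟨hn.ne'⟩
  ⟨m.down.val, ULift.ext _ _ (ZMod.natCast_zmod_val m.down)⟩

/-- Where there is a primitive root, `μ_n` is `ℤ/n` on germs. -/
theorem germBij_root (hn : 0 < n) (hu : IsUnit (n : Γ(X, ⊤))) {U : X.Etale} {ζ : Γ(U.left, ⊤)}
    (hζ : Polynomial.aeval ζ (Polynomial.cyclotomic n ℤ) = 0) :
    ∃ (z : EtCoh.sect (EtCoh.mu X n) U) (hz : n • z = 0),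
      GermBij (EtCoh.mu X n) U (mulHom n z hz) := by
  have hζn := pow_eq_one_of_root hζ
  let ζu : (Γ(U.left, ⊤))ˣ := Units.mk ζ (ζ ^ (n - 1))
    ((pow_succ' ζ (n - 1)).symm.trans ((congrArg (ζ ^ ·) (Nat.sub_add_cancel hn)).trans hζn))
    ((pow_succ ζ (n - 1)).symm.trans ((congrArg (ζ ^ ·) (Nat.sub_add_cancel hn)).trans hζn))
  obtain ⟨z, hz⟩ := exists_val (X := X) (n := n) (U := U) ζu (Units.ext (by rw [Units.val_pow_eq_pow_val]; exact hζn))
  have hnz : n • z = 0 := val_injective U (by rw [val_nsmul, val_pow, val_zero])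
  refine ⟨z, hnz, fun Ω _ _ ξ t => ?_⟩
  let M : EtCoh.Ab X := EtCoh.mu X n
  have hUu : ∀ V : X.Etale, IsUnit (n : Γ(V.left, ⊤)) := fun V => by
    simpa only [map_natCast] using hu.map V.hom.appTop.hom
  have hval : ∀ {V : X.Etale} (g : V ⟶ U) (i : ℕ),
      (val (M.obj.map g.op (i • z)) : Γ(V.left, ⊤)) = g.left.appTop ζ ^ i := by
    intro V g i
    rw [val_map, val_nsmul, hz, map_pow, Units.val_pow_eq_pow_val]
    rfl
  refine ⟨(injective_iff_map_eq_zero ((gm ξ M U t).comp (mulHom n z hnz))).2 fun m hm => ?_, fun p => ?_⟩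
  · obtain ⟨i, rfl⟩ := exists_nat hn m
    obtain ⟨V, g, v, -, hg⟩ := ((Scheme.pointSmallEtale ξ).toPresheafFiber_eq_iff' U t
      (mulHom n z hnz ⟨(i : ZMod n)⟩) 0).1 (hm.trans (map_zero (gm ξ M U t)).symm)
    rw [map_zero, mulHom_natCast] at hg
    have h1 : g.left.appTop ζ ^ i = 1 :=
      (hval g i).symm.trans ((congrArg (fun s => (val s : Γ(V.left, ⊤))) hg).trans
        (congrArg Units.val (val_zero V)))
    have : Nonempty V.left := ⟨Sect.pt v⟩
    have : Nontrivial Γ(V.left, ⊤) := by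
      by_contra hnt
      rw [not_nontrivial_iff_subsingleton] at hnt
      let φz := (V.left.presheaf.germ ⊤ (Sect.pt v) trivial).hom
      have := congrArg φz (Subsingleton.elim (1 : Γ(V.left, ⊤)) 0)
      rw [map_one, map_zero] at this
      exact one_ne_zero this
    exact ULift.ext _ _ ((ZMod.natCast_eq_zero_iff _ _).2
      (pow_eq_one_iff' hn (hUu V) (aeval_map g.left.appTop.hom hζ) h1))
  · obtain ⟨A₀, t₀, s, -, rfl⟩ := Sect.exists_gm M ξ p
    obtain ⟨⟨T, τ⟩, a, b, -⟩ := IsCofilteredOrEmpty.cone_objs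
      (C := (Scheme.pointSmallEtale ξ).fiber.Elements) ⟨U, t⟩ ⟨A₀, t₀⟩
    have ha : (Scheme.pointSmallEtale ξ).fiber.map a.1 τ = t := a.2
    have hb : (Scheme.pointSmallEtale ξ).fiber.map b.1 τ = t₀ := b.2
    let s' : EtCoh.sect M T := M.obj.map b.1.op s
    let ζ' : Γ(T.left, ⊤) := a.1.left.appTop ζ
    have hζ' : Polynomial.aeval ζ' (Polynomial.cyclotomic n ℤ) = 0 := aeval_map a.1.left.appTop.hom hζ
    let x := Sect.pt τ
    let γ := (T.left.presheaf.germ ⊤ x trivial).hom
    obtain ⟨i, -, hi⟩ := exists_pow_eq hn (by simpa only [map_natCast] using (hUu T).map γ)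
      (ζ := γ ζ') (aeval_map γ hζ')
      (x := γ (val s' : Γ(T.left, ⊤))) (by rw [← map_pow, ← Units.val_pow_eq_pow_val, val_pow, Units.val_one, map_one])
      (by rw [← map_pow, pow_eq_one_of_root hζ', map_one])
    rw [← map_pow] at hi
    obtain ⟨W', hxW, iU, iV, hW⟩ := TopCat.Presheaf.germ_eq T.left.presheaf (U := ⊤) (V := ⊤) x trivial trivial _ _ hi
    let W : T.left.Opens := W'
    obtain ⟨v, hv⟩ := Sect.exists_pt (AllPoints.resι T W) τ ((AllPoints.range_resι T W).ge hxW)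
    refine ⟨⟨(i : ZMod n)⟩, ?_⟩
    refine (congrArg (gm ξ M U t) (mulHom_natCast n z hnz i)).trans ?_
    have hva : (Scheme.pointSmallEtale ξ).fiber.map (AllPoints.resι T W ≫ a.1) v = t := by
      rw [Functor.map_comp]
      exact (congrArg ((Scheme.pointSmallEtale ξ).fiber.map a.1) hv).trans ha
    rw [← gm_res M b.1 hb s, ← gm_res M (AllPoints.resι T W) hv s',
      ← gm_res M (AllPoints.resι T W ≫ a.1) hva (i • z)]
    congr 1
    refine val_injective _ (Units.ext ?_)
    rw [hval, val_map]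
    change (((W.ι).appTop) ζ') ^ i = (W.ι).appTop (val s' : Γ(T.left, ⊤))
    rw [← map_pow]
    have e2 : ∀ a b : Γ(T.left, ⊤), T.left.presheaf.map iU.op a = T.left.presheaf.map iV.op b →
        W.ι.appTop a = W.ι.appTop b := fun a b hab => by
      simp only [Scheme.Opens.ι_appTop]
      have hh := congrArg (T.left.presheaf.map (eqToHom W.ι.image_top_eq_opensRange ≫ eqToHom W.opensRange_ι).op) hab
      rw [← Functor.map_comp_apply, ← Functor.map_comp_apply, ← op_comp, ← op_comp] at hh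
      exact hh
    exact (e2 _ _ hW).symm

/-- The cyclotomic algebra is étale where `n` is invertible. -/
theorem etale_cyclotomic {R : Type u} [CommRing R] (hn : 0 < n) (hu : IsUnit (n : R)) :
    Algebra.Etale R (AdjoinRoot (Polynomial.cyclotomic n R)) := by
  have hsep : (Polynomial.cyclotomic n R).Separable :=
    (Polynomial.separable_X_pow_sub_C_unit 1 hu).of_dvd (by
      simpa using Polynomial.cyclotomic.dvd_X_pow_sub_one n R)
  obtain ⟨a, b, hab⟩ := hsep
  let P : StandardEtalePair R :=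
    { f := Polynomial.cyclotomic n R, monic_f := Polynomial.cyclotomic.monic n R, g := 1,
      cond := ⟨b, a, 1, by rw [pow_one, ← hab]; ring⟩ }
  have : IsLocalization.Away (1 : AdjoinRoot P.f) (Localization.Away (AdjoinRoot.mk P.f P.g)) := by
    rw [show AdjoinRoot.mk P.f P.g = 1 from map_one _]
    infer_instance
  exact Algebra.Etale.of_equiv (P.equivAwayAdjoinRoot.trans
    ((IsLocalization.atOne (AdjoinRoot P.f) (Localization.Away (AdjoinRoot.mk P.f P.g))).restrictScalars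
      R).symm)

/-- Near every geometric point there is a primitive root of unity. -/
theorem exists_root (hn : 0 < n) (hu : IsUnit (n : Γ(X, ⊤))) {Ω : Type u} [Field Ω] [IsSepClosed Ω]
    (ξ : Spec (CommRingCat.of Ω) ⟶ X) :
    ∃ (U : X.Etale) (_ : (Scheme.pointSmallEtale ξ).fiber.obj U) (ζ : Γ(U.left, ⊤)),
      Polynomial.aeval ζ (Polynomial.cyclotomic n ℤ) = 0 := by
  obtain ⟨_, ⟨W', hW', rfl⟩, hxW, -⟩ := X.isBasis_affineOpens.exists_subset_of_mem_open
    (Set.mem_univ (ξ.base default)) isOpen_univ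
  let W : X.Opens := W'
  have : IsAffine W.toScheme := hW'
  have hr : Set.range ξ.base ⊆ Set.range W.ι.base := by
    rintro _ ⟨p, rfl⟩
    rw [Subsingleton.elim p default, Scheme.Opens.range_ι]
    exact hxW
  let ξW := IsOpenImmersion.lift W.ι ξ hr
  let R : CommRingCat.{u} := Γ(W.toScheme, ⊤)
  have huR : IsUnit (n : R) := by simpa only [map_natCast] using hu.map W.ι.appTop.hom
  let φ : R ⟶ CommRingCat.of Ω := Spec.preimage (ξW ≫ W.toScheme.isoSpec.hom)
  have hnΩ : (n : Ω) ≠ 0 := by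
    rw [← map_natCast φ.hom n]
    exact (huR.map φ.hom).ne_zero
  have : NeZero (n : Ω) := ⟨hnΩ⟩
  obtain ⟨a, ha⟩ := IsSepClosed.exists_root (Polynomial.cyclotomic n Ω)
    (Polynomial.degree_cyclotomic_pos n Ω hn).ne' (Polynomial.separable_cyclotomic n Ω)
  let f := Polynomial.cyclotomic n R
  have := etale_cyclotomic (R := R) hn huR
  let i : R ⟶ CommRingCat.of (AdjoinRoot f) := CommRingCat.ofHom (algebraMap R (AdjoinRoot f))
  let ψ : CommRingCat.of (AdjoinRoot f) ⟶ CommRingCat.of Ω := CommRingCat.ofHom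
    (AdjoinRoot.lift φ.hom a (by
      rw [← Polynomial.eval_map, Polynomial.map_cyclotomic]
      exact ha))
  have hψ : i ≫ ψ = φ := by
    ext r
    refine (AdjoinRoot.lift_of (f := f) (i := φ.hom) (a := a) ?_ (x := r))
    rw [← Polynomial.eval_map, Polynomial.map_cyclotomic]
    exact ha
  have : AlgebraicGeometry.Etale (Spec.map i) :=
    (HasRingHomProperty.Spec_iff (P := @AlgebraicGeometry.Etale)).2 (RingHom.etale_algebraMap.2 inferInstance)
  let U : X.Etale := Scheme.Etale.mk (Spec.map i ≫ W.toScheme.isoSpec.inv ≫ W.ι)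
  let ζ : Γ(U.left, ⊤) := (Scheme.ΓSpecIso (CommRingCat.of (AdjoinRoot f))).inv (AdjoinRoot.root f)
  refine ⟨U, Over.homMk (Spec.map ψ) ?_, ζ, ?_⟩
  · change Spec.map ψ ≫ Spec.map i ≫ W.toScheme.isoSpec.inv ≫ W.ι = ξ
    rw [← Category.assoc, ← Spec.map_comp, hψ, Spec.map_preimage, Category.assoc, Iso.hom_inv_id_assoc]
    exact IsOpenImmersion.lift_fac _ _ _
  · refine aeval_map (Scheme.ΓSpecIso (CommRingCat.of (AdjoinRoot f))).inv.hom ?_
    have h0 : (Polynomial.cyclotomic n R).eval₂ (AdjoinRoot.of f) (AdjoinRoot.root f) = 0 :=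
      AdjoinRoot.eval₂_root f
    rw [← Polynomial.eval_map, Polynomial.map_cyclotomic] at h0
    rw [Polynomial.aeval_def, ← Polynomial.eval_map, Polynomial.map_cyclotomic]
    exact h0

/-- `μ_n` is locally generated by one section. -/
theorem exists_gen (hn : 0 < n) (hu : IsUnit (n : Γ(X, ⊤))) {Ω : Type u} [Field Ω] [IsSepClosed Ω]
    (ξ : Spec (CommRingCat.of Ω) ⟶ X) :
    ∃ (U : X.Etale) (_ : (Scheme.pointSmallEtale ξ).fiber.obj U) (z : EtCoh.sect (EtCoh.mu X n) U)
      (hz : n • z = 0), GermBij (EtCoh.mu X n) U (mulHom n z hz) := by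
  obtain ⟨U, t, ζ, hζ⟩ := exists_root hn hu ξ
  exact ⟨U, t, germBij_root hn hu hζ⟩

end Groth.Agent.EtSite.MuLocal
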