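import Groth.Prelude.Def_EtBase
import Groth.Agent.HenselLib.EtaleNormal
import Mathlib.AlgebraicGeometry.FunctionField
import Mathlib.AlgebraicGeometry.Morphisms.Etale
import Mathlib.RingTheory.Unramified.LocalStructure

/-!
# Étale schemes over normal integral schemes are locally unibranch
-/

set_option autoImplicit false
universe u

open CategoryTheory CategoryTheory.Limits AlgebraicGeometry Opposite

namespace Groth.Agent.EtSite

/-- Near every point of an étale scheme over `X` there is at most one point over the generic point. -/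
def UniBase (X : Scheme.{u}) [IrreducibleSpace X] : Prop :=
  ∀ (U : X.Etale) (u : U.left), ∃ O : U.left.Opens, u ∈ O ∧
    ∀ η η' : U.left, η ∈ O → η' ∈ O → U.hom η = genericPoint X → U.hom η' = genericPoint X → η = η'

theorem exists_notMem_unique {R : Type u} [CommRing R] [IsDomain R] [IsIntegrallyClosed R]
    (C : Type u) [CommRing C] [Algebra R C] [Algebra.Etale R C] (q₀ : PrimeSpectrum C) :
    ∃ f : C, f ∉ q₀.asIdeal ∧ ∀ p p' : PrimeSpectrum C,
      p.asIdeal.comap (algebraMap R C) = ⊥ → p'.asIdeal.comap (algebraMap R C) = ⊥ →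
        f ∉ p.asIdeal → f ∉ p'.asIdeal → p = p' := by
  classical
  let G := {p : PrimeSpectrum C // p.asIdeal.comap (algebraMap R C) = ⊥}
  have hG : Finite G := by
    refine Set.finite_coe_iff.2 ((Algebra.QuasiFinite.finite_comap_preimage_singleton (R := R) (S := C)
      (⊥ : PrimeSpectrum R)).subset fun p hp => ?_)
    exact PrimeSpectrum.ext hp
  have key : ∀ p p' : G, p ≠ p' → ∃ f : C, f ∉ q₀.asIdeal ∧ (f ∈ p.1.asIdeal ∨ f ∈ p'.1.asIdeal) := by
    intro p p' hne
    obtain ⟨x, hx⟩ : ∃ x : C, ¬ (x ∈ p.1.asIdeal ↔ x ∈ p'.1.asIdeal) := by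
      by_contra h
      push Not at h
      exact hne (Subtype.ext (PrimeSpectrum.ext (Ideal.ext h)))
    obtain ⟨e, z, r, hr, he, hex, hxz⟩ := HenselLib.exists_idempotent_mul R C x
    have hmem : ∀ q : G, x ∈ q.1.asIdeal ↔ e ∈ q.1.asIdeal := by
      intro q
      constructor
      · intro h
        have h2 : algebraMap R C r * e ∈ q.1.asIdeal := hxz ▸ Ideal.mul_mem_right _ _ h
        refine (q.1.isPrime.mem_or_mem h2).resolve_left fun h3 => hr ?_
        have h4 : r ∈ q.1.asIdeal.comap (algebraMap R C) := h3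
        rwa [q.2, Ideal.mem_bot] at h4
      · intro h
        rw [← hex]
        exact Ideal.mul_mem_right _ _ h
    rw [hmem p, hmem p'] at hx
    have h1 : ∀ q : Ideal C, q.IsPrime → (e ∈ q ↔ 1 - e ∉ q) := fun q hq => by
      refine ⟨fun h h' => hq.ne_top ((Ideal.eq_top_iff_one q).2 (by
        simpa using q.add_mem h h')), fun h => ?_⟩
      refine (hq.mem_or_mem (?_ : e * (1 - e) ∈ q)).resolve_right h
      rw [mul_sub, mul_one, he.eq, sub_self]
      exact q.zero_mem
    have e1 := h1 _ p.1.isPrime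
    have e2 := h1 _ p'.1.isPrime
    by_cases hq : e ∈ q₀.asIdeal
    · exact ⟨1 - e, (h1 _ q₀.isPrime).1 hq, by tauto⟩
    · exact ⟨e, hq, by tauto⟩
  choose g hg hg' using key
  cases nonempty_fintype G
  let f : C := ∏ q : G × G, if h : q.1 ≠ q.2 then g q.1 q.2 h else 1
  refine ⟨f, fun hf => ?_, fun p p' hp hp' hfp hfp' => ?_⟩
  · obtain ⟨q, -, hq⟩ := Ideal.IsPrime.prod_mem_iff.1 hf
    split_ifs at hq with h
    · exact hg _ _ h hq
    · exact q₀.isPrime.ne_top ((Ideal.eq_top_iff_one _).2 hq)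
  · by_contra hne
    have h : (⟨p, hp⟩ : G) ≠ ⟨p', hp'⟩ := fun e => hne (congrArg Subtype.val e)
    have hd : ∀ P : Ideal C, g ⟨p, hp⟩ ⟨p', hp'⟩ h ∈ P → f ∈ P := fun P hP => by
      refine P.mem_of_dvd (Finset.dvd_prod_of_mem _ (Finset.mem_univ (⟨p, hp⟩, ⟨p', hp'⟩))) ?_
      rwa [dif_pos h]
    rcases hg' ⟨p, hp⟩ ⟨p', hp'⟩ h with h' | h'
    · exact hfp (hd _ h')
    · exact hfp' (hd _ h')

theorem isIntegrallyClosed_sections {X : Scheme.{u}} [IsIntegral X]
    (hN : ∀ x : X, IsIntegrallyClosed (X.presheaf.stalk x))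
    {V : X.Opens} (hV : IsAffineOpen V) [Nonempty V] : IsIntegrallyClosed Γ(X, V) := by
  refine IsIntegrallyClosed.of_localization_maximal fun p _ hp => ?_
  have hm : hV.fromSpec ⟨p, hp.isPrime⟩ ∈ V := by
    rw [← SetLike.mem_coe, ← hV.range_fromSpec]; exact ⟨_, rfl⟩
  let : Algebra Γ(X, V) (X.presheaf.stalk (hV.fromSpec ⟨p, hp.isPrime⟩)) :=
    TopCat.Presheaf.algebra_section_stalk X.presheaf ⟨_, hm⟩
  have : IsLocalization.AtPrime (X.presheaf.stalk (hV.fromSpec ⟨p, hp.isPrime⟩)) p :=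
    hV.isLocalization_stalk' ⟨p, hp.isPrime⟩ hm
  have := hN (hV.fromSpec ⟨p, hp.isPrime⟩)
  exact IsIntegrallyClosed.of_equiv
    (IsLocalization.algEquiv p.primeCompl (X.presheaf.stalk (hV.fromSpec ⟨p, hp.isPrime⟩))
      (Localization.AtPrime p)).toRingEquiv

theorem uniBase_of_normal {X : Scheme.{u}} [IsIntegral X]
    (hN : ∀ x : X, IsIntegrallyClosed (X.presheaf.stalk x)) : UniBase X := by
  intro U u
  let g : U.left ⟶ X := U.hom
  have hU : Etale g := U.prop
  obtain ⟨W, hW, hxW, -⟩ := exists_isAffineOpen_mem_and_subset (U := (⊤ : X.Opens)) (x := g u) trivial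
  obtain ⟨V, hV, huV, hVW⟩ := exists_isAffineOpen_mem_and_subset (U := g ⁻¹ᵁ W) (x := u) hxW
  have e : V ≤ g ⁻¹ᵁ W := hVW
  have hne : Nonempty W := ⟨⟨_, hxW⟩⟩
  have := isIntegrallyClosed_sections hN hW
  let φ := g.appLE W V e
  have hφ : φ.hom.Etale := HasRingHomProperty.appLE @Etale g hU ⟨W, hW⟩ ⟨V, hV⟩ e
  let : Algebra Γ(X, W) Γ(U.left, V) := φ.hom.toAlgebra
  have : Algebra.Etale Γ(X, W) Γ(U.left, V) := hφ
  obtain ⟨f, hf, hunique⟩ :=
    exists_notMem_unique (R := Γ(X, W)) Γ(U.left, V) (hV.primeIdealOf ⟨u, huV⟩)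
  refine ⟨U.left.basicOpen f, ?_, fun η η' hη hη' hgη hgη' => ?_⟩
  · have h : hV.primeIdealOf ⟨u, huV⟩ ∈ hV.fromSpec ⁻¹ᵁ U.left.basicOpen f := by
      rw [hV.fromSpec_preimage_basicOpen]; exact hf
    exact (congrArg (· ∈ U.left.basicOpen f) (hV.fromSpec_primeIdealOf ⟨u, huV⟩)).mp h
  · have hVη : η ∈ V := U.left.basicOpen_le f hη
    have hVη' : η' ∈ V := U.left.basicOpen_le f hη'
    have hbot : ∀ {x : U.left} (hx : x ∈ V), g x = genericPoint X →
        (hV.primeIdealOf ⟨x, hx⟩).asIdeal.comap φ.hom = ⊥ := by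
      intro x hx hgx
      have h1 := IsAffineOpen.comap_primeIdealOf_appLE W hW V hV e hx (f := g)
      have h2 : hW.primeIdealOf ⟨g x, e hx⟩ = genericPoint (Spec Γ(X, W)) := by
        rw [← hW.primeIdealOf_genericPoint]
        exact congrArg _ (Subtype.ext hgx)
      have h3 := h1.trans h2
      rw [genericPoint_eq_bot_of_affine] at h3
      exact congrArg PrimeSpectrum.asIdeal h3
    have hnot : ∀ {x : U.left} (hx : x ∈ V), x ∈ U.left.basicOpen f →
        f ∉ (hV.primeIdealOf ⟨x, hx⟩).asIdeal := by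
      intro x hx hxf
      have h : hV.primeIdealOf ⟨x, hx⟩ ∈ hV.fromSpec ⁻¹ᵁ U.left.basicOpen f := by
        change hV.fromSpec (hV.primeIdealOf ⟨x, hx⟩) ∈ U.left.basicOpen f
        rw [hV.fromSpec_primeIdealOf]
        exact hxf
      rwa [hV.fromSpec_preimage_basicOpen] at h
    have h := hunique _ _ (hbot hVη hgη) (hbot hVη' hgη') (hnot hVη hη) (hnot hVη' hη')
    have h' := congrArg hV.fromSpec h
    rwa [hV.fromSpec_primeIdealOf, hV.fromSpec_primeIdealOf] at h'

end Groth.Agent.EtSite
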