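import Groth.Agent.EtSite.FlasqueLocalIso
import Groth.Agent.EtSite.NormalUniBase
import Groth.Agent.EtSite.PullStalk
import Mathlib.CategoryTheory.Sites.ConstantSheaf

/-!
# Constant sheaves on normal schemes and restriction to the generic point
-/

set_option autoImplicit false
universe u

open CategoryTheory CategoryTheory.Limits AlgebraicGeometry Opposite

namespace Groth.Agent.EtSite.NormalConst

open AllPoints LocIso

variable {X : Scheme.{u}}

/-- A sheaf with constants: every section is, uniquely on nonempty objects, locally a constant. -/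
structure LC (F : EtCoh.Ab X) (A : AddCommGrpCat.{u + 1}) where
  app : ∀ W : X.Etale, A ⟶ F.obj.obj (op W)
  nat : ∀ {W W' : X.Etale} (g : W' ⟶ W) (m : A), F.obj.map g.op (app W m) = app W' m
  inj : ∀ (W : X.Etale), Nonempty W.left → ∀ m m' : A, app W m = app W m' → m = m'
  loc : ∀ (W : X.Etale) (s : F.obj.obj (op W)) (x : W.left),
    ∃ (P : W.left.Opens) (m : A), x ∈ P ∧ F.obj.map (resι W P).op s = app (res W P) m

/-- Locally bijective maps from constant presheaves give constants. -/
noncomputable def LC.ofLocBij {A : AddCommGrpCat.{u + 1}} (F : EtCoh.Ab X)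
    (τ : (Functor.const X.Etaleᵒᵖ).obj A ⟶ F.obj)
    (hi : Presheaf.IsLocallyInjective X.smallEtaleTopology τ)
    (hs : Presheaf.IsLocallySurjective X.smallEtaleTopology τ) : LC F A where
  app W := τ.app (op W)
  nat g m := (NatTrans.naturality_apply τ g.op m).symm
  inj W hW m m' h := by
    obtain ⟨w⟩ := hW
    have hR := Presheaf.equalizerSieve_mem X.smallEtaleTopology τ (X := op W) m m' h
    obtain ⟨V, g, v, hg, -⟩ := exists_mem_of_mem_smallEtaleTopology hR w
    exact hg
  loc W s x := by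
    obtain ⟨V, g, v, ⟨m, hm⟩, -, hv⟩ :=
      exists_mem_of_mem_smallEtaleTopology (Presheaf.imageSieve_mem X.smallEtaleTopology τ s) x
    have : Etale g.left := (inferInstance : EtCoh.etaleMP g.left)
    let P : W.left.Opens := ⟨Set.range g.left.base, g.left.isOpenMap.isOpen_range⟩
    refine ⟨P, m, ⟨v, hv⟩, ?_⟩
    let l : V ⟶ res W P := resLift g P (le_refl _)
    have hS : Sieve.generate (Presieve.singleton l) ∈ X.smallEtaleTopology (res W P) := by
      refine mem_smallEtaleTopology_of_points _ _ fun y => ?_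
      obtain ⟨z, hz⟩ := (range_resι W P).le ⟨y, rfl⟩
      refine ⟨V, l, z, Sieve.le_generate _ _ _ ⟨⟩, P.ι.isOpenEmbedding.injective ?_⟩
      refine ((Scheme.Hom.comp_apply l.left (resι W P).left z).symm.trans ?_).trans hz
      exact congrArg (fun m : V ⟶ W => m.left.base z) (resLift_ι g P _)
    refine ((forget_isSheaf F).isSeparated _ hS).ext ?_
    rintro Z _ ⟨T, k, _, ⟨⟩, rfl⟩
    change F.obj.map (k ≫ l).op (F.obj.map (resι W P).op s) = F.obj.map (k ≫ l).op (τ.app _ m)
    have e : F.obj.map l.op (F.obj.map (resι W P).op s) = F.obj.map l.op (τ.app (op (res W P)) m) := by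
      rw [← Functor.map_comp_apply, ← op_comp, resLift_ι, ← NatTrans.naturality_apply τ l.op m]
      exact hm.symm
    rw [op_comp, Functor.map_comp_apply, Functor.map_comp_apply, e]

/-- The tautological constants of a constant sheaf. -/
noncomputable def constLC (A : AddCommGrpCat.{u + 1}) :
    LC ((constantSheaf X.smallEtaleTopology AddCommGrpCat.{u + 1}).obj A) A :=
  let cpre : X.Etaleᵒᵖ ⥤ AddCommGrpCat.{u + 1} := (Functor.const _).obj A
  LC.ofLocBij _ (toSheafify X.smallEtaleTopology cpre)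
    (Presheaf.isLocallyInjective_toSheafify' _ _) (Presheaf.isLocallySurjective_toSheafify' _ _)

variable {F : EtCoh.Ab X} {A : AddCommGrpCat.{u + 1}} (c : LC F A)

theorem germ_top_bijective {Ω : Type u} [Field Ω] [IsSepClosed Ω]
    (ξ : Spec (CommRingCat.of Ω) ⟶ X) :
    Function.Bijective fun m : A =>
      (Scheme.pointSmallEtale ξ).toPresheafFiber (EtCoh.top X)
        (Over.homMk ξ (Category.comp_id _)) F.obj (c.app (EtCoh.top X) m) := by
  let Φ := Scheme.pointSmallEtale ξ
  refine ⟨fun m m' h => ?_, fun p => ?_⟩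
  · obtain ⟨V, g, v, -, hg⟩ := (Φ.toPresheafFiber_eq_iff' _ _ _ _).1 h
    rw [c.nat, c.nat] at hg
    exact c.inj V ⟨v.left (IsLocalRing.closedPoint Ω)⟩ m m' hg
  · obtain ⟨U, t, s, rfl⟩ := Φ.toPresheafFiber_jointly_surjective (P := F.obj) p
    obtain ⟨P, m, hxP, hm⟩ := c.loc U s (Weighting.pt t.left)
    refine ⟨m, ?_⟩
    let l := openLift P t.left (by
      rw [Weighting.range_eq_pt]; exact Set.singleton_subset_iff.2 hxP)
    have hl : l ≫ P.ι ≫ U.hom = ξ := (openLift_ι_assoc P t.left _ U.hom).trans (Over.w t)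
    let t' : Φ.fiber.obj (res U P) := Over.homMk l hl
    have e1 : Φ.fiber.map (resι U P) t' = t := Over.OverMorphism.ext (openLift_ι P t.left (by
      rw [Weighting.range_eq_pt]; exact Set.singleton_subset_iff.2 hxP))
    have e2 : Φ.fiber.map ((topTerminal X).from (res U P)) t' =
        Over.homMk ξ (Category.comp_id _) := by
      refine Over.OverMorphism.ext ?_
      refine Eq.trans ?_ hl
      refine congrArg (l ≫ ·) ?_
      exact (Category.comp_id _).symm.trans (Over.w ((topTerminal X).from (res U P)).toCommaMorphism)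
    change Φ.toPresheafFiber _ _ F.obj (c.app (EtCoh.top X) m) = _
    rw [← e1, ← e2, ← Φ.toPresheafFiber_w_apply, ← Φ.toPresheafFiber_w_apply, c.nat, hm]

section pull

variable {X' : Scheme.{u}} (g : X' ⟶ X)

/-- The terminal object after base change. -/
noncomputable def bcTopTerminal : IsTerminal ((EtCoh.bc g).obj (EtCoh.top X)) :=
  IsTerminal.isTerminalObj (EtCoh.bc g) _ (topTerminal X)

/-- The constants of a pullback. -/
noncomputable def pullPre :
    (Functor.const X'.Etaleᵒᵖ).obj A ⟶ ((EtCoh.pull g).obj F).obj where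
  app W := c.app (EtCoh.top X) ≫ ((EtCoh.pullPushAdj g).unit.app F).hom.app (op (EtCoh.top X)) ≫
    ((EtCoh.pull g).obj F).obj.map ((bcTopTerminal g).from W.unop).op
  naturality W W' k := by
    have e : k.unop ≫ (bcTopTerminal g).from W.unop = (bcTopTerminal g).from W'.unop :=
      (bcTopTerminal g).hom_ext _ _
    rw [← e, op_comp, Functor.map_comp]
    simp only [Functor.const_obj_map, Category.id_comp, Category.assoc]
    rfl

theorem pullPre_stalk_bijective {Ω : Type u} [Field Ω] [IsSepClosed Ω]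
    (ξ : Spec (CommRingCat.of Ω) ⟶ X') :
    Function.Bijective ((Scheme.pointSmallEtale ξ).presheafFiber.map (pullPre c g)) := by
  let Φ := Scheme.pointSmallEtale ξ
  let t₀ : (Scheme.pointSmallEtale (ξ ≫ g)).fiber.obj (EtCoh.top X) :=
    Over.homMk (ξ ≫ g) (Category.comp_id _)
  have hiso : Function.Bijective ((stalkPullIso g ξ).hom.app F) :=
    ConcreteCategory.bijective_of_isIso _
  have := Φ.uniqueFiberObj _ (bcTopTerminal g)
  have key : ∀ (W : X'.Etale) (w : Φ.fiber.obj W) (m : A),
      Φ.presheafFiber.map (pullPre c g)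
          (Φ.toPresheafFiber W w ((Functor.const _).obj A) m) =
        (stalkPullIso g ξ).hom.app F ((Scheme.pointSmallEtale (ξ ≫ g)).toPresheafFiber
          (EtCoh.top X) t₀ F.obj (c.app (EtCoh.top X) m)) := by
    intro W w m
    rw [Φ.toPresheafFiber_naturality_apply]
    have h := ConcreteCategory.congr_hom (toPresheafFiber_stalkPullIso_hom g ξ F (EtCoh.top X) t₀)
      (c.app (EtCoh.top X) m)
    refine Eq.trans ?_ h.symm
    have e : Φ.fiber.map ((bcTopTerminal g).from W) w = bcPt g ξ (EtCoh.top X) t₀ :=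
      Subsingleton.elim _ _
    rw [← e]
    exact Φ.toPresheafFiber_w_apply ((bcTopTerminal g).from W) w ((EtCoh.pull g).obj F).obj _
  refine ⟨fun p q hpq => ?_, fun p => ?_⟩
  · obtain ⟨W, w, m, rfl⟩ := Φ.toPresheafFiber_jointly_surjective
      (P := (Functor.const X'.Etaleᵒᵖ).obj A) p
    obtain ⟨W', w', m', rfl⟩ := Φ.toPresheafFiber_jointly_surjective
      (P := (Functor.const X'.Etaleᵒᵖ).obj A) q
    rw [key, key] at hpq
    obtain rfl := (germ_top_bijective c (ξ ≫ g)).1 (hiso.1 hpq)
    obtain ⟨⟨W'', w''⟩, ⟨a, ha⟩, ⟨b, hb⟩, -⟩ := IsCofilteredOrEmpty.cone_objs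
      (C := Φ.fiber.Elements) ⟨W, w⟩ ⟨W', w'⟩
    dsimp only at a b ha hb
    rw [← ha, ← hb, ← Φ.toPresheafFiber_w_apply, ← Φ.toPresheafFiber_w_apply]
    rfl
  · obtain ⟨q, rfl⟩ := hiso.2 p
    obtain ⟨m, rfl⟩ := (germ_top_bijective c (ξ ≫ g)).2 q
    exact ⟨_, key (EtCoh.top X') (Over.homMk ξ (Category.comp_id _)) m⟩

/-- The constants of a pullback. -/
noncomputable def pullLC : LC ((EtCoh.pull g).obj F) A :=
  LC.ofLocBij _ (pullPre c g)
    (isLocallyInjective_of_stalks _ fun Ω _ _ ξ => (pullPre_stalk_bijective c g ξ).1)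
    (isLocallySurjective_of_stalks _ fun Ω _ _ ξ => (pullPre_stalk_bijective c g ξ).2)

theorem unit_app_app (U : X.Etale) (m : A) :
    ((EtCoh.pullPushAdj g).unit.app F).hom.app (op U) (c.app U m) =
      (pullLC c g).app ((EtCoh.bc g).obj U) m := by
  rw [← c.nat ((topTerminal X).from U) m]
  refine (NatTrans.naturality_apply ((EtCoh.pullPushAdj g).unit.app F).hom _ _).trans ?_
  exact congrArg (fun k => ((EtCoh.pull g).obj F).obj.map (Quiver.Hom.op k) _)
    ((bcTopTerminal g).hom_ext _ _)

end pull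

section components

variable [IrreducibleSpace X] (hX : UniBase X) (U : X.Etale)
include hX

/-- Components of an étale scheme over a unibranch base. -/
theorem exists_components : ∃ (G : Type u) (η : G → U.left) (C : G → U.left.Opens),
    (∀ g, η g ∈ C g) ∧ (∀ g, U.hom (η g) = genericPoint X) ∧ (∀ x, ∃ g, x ∈ C g) ∧
    (∀ g (η' : U.left), η' ∈ C g → U.hom η' = genericPoint X → η' = η g) ∧
    ∀ g (P : U.left.Opens), ((P : Set U.left) ∩ C g).Nonempty → η g ∈ P := by
  choose O hO hOu using hX U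
  let G := {η : U.left // U.hom η = genericPoint X}
  let C : G → U.left.Opens := fun g => ⨆ u : {u : U.left // g.1 ∈ O u}, O u.1
  refine ⟨G, fun g => g.1, C, fun g => ?_, fun g => g.2, fun x => ?_, fun g η' hη' he => ?_,
    fun g P ⟨p, hpP, hpC⟩ => ?_⟩
  · exact TopologicalSpace.Opens.mem_iSup.2 ⟨⟨g.1, hO g.1⟩, hO g.1⟩
  · obtain ⟨η, hη, hηg⟩ := exists_generic_mem U (O x) ⟨x, hO x⟩
    exact ⟨⟨η, hηg⟩, TopologicalSpace.Opens.mem_iSup.2 ⟨⟨x, hη⟩, hO x⟩⟩
  · obtain ⟨u, hu⟩ := TopologicalSpace.Opens.mem_iSup.1 hη'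
    exact hOu u.1 η' g.1 hu u.2 he g.2
  · obtain ⟨u, hu⟩ := TopologicalSpace.Opens.mem_iSup.1 hpC
    obtain ⟨η', ⟨h1, h2⟩, h3⟩ := exists_generic_mem U (P ⊓ O u.1) ⟨p, hpP, hu⟩
    have e := hOu u.1 η' g.1 h2 u.2 h3 g.2
    change g.1 ∈ P
    rw [← e]
    exact h1

end components

section unit

variable [IrreducibleSpace X] (hX : UniBase X) {X' : Scheme.{u}} (g : X' ⟶ X) [Mono g]
  (hgen : ∀ P : X'.Opens, (P : Set X').Nonempty → ∃ y ∈ P, g y = genericPoint X)

theorem nonempty_bc_res (U : X.Etale) (hg : genericPoint X ∈ Set.range g.base) (W : U.left.Opens)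
    (η : U.left) (hη : η ∈ W) (he : U.hom η = genericPoint X) :
    Nonempty ((EtCoh.bc g).obj (res U W)).left := by
  obtain ⟨y, hy⟩ := hg
  obtain ⟨η₁, hη₁⟩ := (range_resι U W).ge hη
  have h : (res U W).hom η₁ = g y := by
    change ((resι U W).left ≫ U.hom).base η₁ = g y
    rw [Scheme.Hom.comp_apply, hη₁, he, hy]
  obtain ⟨z, -, -⟩ := Scheme.Pullback.exists_preimage_pullback
    (f := (res U W).hom) (g := g) η₁ y h
  exact ⟨z⟩

include c hX hgen in
theorem unit_bijective (hg : genericPoint X ∈ Set.range g.base) (U : X.Etale) :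
    Function.Bijective (((EtCoh.pullPushAdj g).unit.app F).hom.app (op U)) := by
  classical
  let η' := (EtCoh.pullPushAdj g).unit.app F
  let G' := (EtCoh.pull g).obj F
  let c' := pullLC c g
  have hnat : ∀ {W W' : X.Etale} (k : W' ⟶ W) (s : F.obj.obj (op W)),
      η'.hom.app (op W') (F.obj.map k.op s) =
        G'.obj.map ((EtCoh.bc g).map k).op (η'.hom.app (op W) s) :=
    fun k s => NatTrans.naturality_apply η'.hom k.op s
  refine ⟨(injective_iff_map_eq_zero _).2 fun s hs => ?_, fun s' => ?_⟩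
  · choose P m hxP hPm using fun x => c.loc U s x
    refine ext_of_cover F U P (fun x => ⟨x, hxP x⟩) _ _ fun x => ?_
    obtain ⟨η, hη, he⟩ := exists_generic_mem U (P x) ⟨x, hxP x⟩
    have h0 : m x = 0 := by
      refine c'.inj _ (nonempty_bc_res g U hg (P x) η hη he) _ _ ?_
      rw [← unit_app_app c g, ← hPm x, map_zero, hnat]
      exact (congrArg _ hs).trans (map_zero _)
    rw [hPm x, h0, map_zero, map_zero]
  · let U' : X'.Etale := (EtCoh.bc g).obj U
    choose P m hxP hPm using fun z : U'.left => c'.loc U' s' z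
    obtain ⟨G, η, C, hηC, hηg, hcov, huniq, hmeet⟩ := exists_components hX U
    obtain ⟨y₀, hy₀⟩ := hg
    let pr : U'.left ⟶ U.left := pullback.fst U.hom g
    have hz : ∀ i, ∃ z : U'.left, pr z = η i := fun i => by
      obtain ⟨z, hz, -⟩ := Scheme.Pullback.exists_preimage_pullback
        (f := U.hom) (g := g) (η i) y₀ ((hηg i).trans hy₀.symm)
      exact ⟨z, hz⟩
    choose z hz using hz
    have : Mono pr := inferInstanceAs (Mono (pullback.fst U.hom g))
    have hprinj : Function.Injective pr.base := pr.injective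
    have hU' : Etale U'.hom := U'.prop
    have hgenU : ∀ Q : U'.left.Opens, (Q : Set U'.left).Nonempty →
        ∃ q ∈ Q, U.hom (pr q) = genericPoint X := by
      intro Q ⟨q₀, hq₀⟩
      obtain ⟨y, ⟨q, hq, rfl⟩, hy⟩ := hgen ⟨_, U'.hom.isOpenMap _ Q.2⟩ ⟨_, q₀, hq₀, rfl⟩
      refine ⟨q, hq, ?_⟩
      rw [← Scheme.Hom.comp_apply]
      refine (congrArg (fun k : U'.left ⟶ X => k.base q) pullback.condition).trans ?_
      exact (Scheme.Hom.comp_apply (pullback.snd U.hom g) g q).trans hy
    obtain ⟨t, ht⟩ := exists_glue F U C hcov (fun i => c.app _ (m (z i))) (fun i j => by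
      rw [c.nat, c.nat]
      by_cases hne : ((C i : Set U.left) ∩ C j).Nonempty
      · have h1 : η i ∈ C j := hmeet i (C j) ⟨hne.some, hne.some_mem.2, hne.some_mem.1⟩
        have e : η i = η j := huniq j (η i) h1 (hηg i)
        have : z i = z j := hprinj (by rw [hz, hz, e])
        rw [this]
      · exact ext_of_cover F _ (ι := PEmpty.{u + 1}) (fun e => e.elim)
          (fun x => (hne ⟨_, (range_resι U (C i ⊓ C j)).le ⟨x, rfl⟩⟩).elim) _ _ fun e => e.elim)
    refine ⟨t, ?_⟩
    let D : U'.left × G → U'.left.Opens := fun p => P p.1 ⊓ pr ⁻¹ᵁ C p.2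
    refine ext_of_cover G' U' D (fun q => ?_) _ _ fun p => ?_
    · obtain ⟨i, hi⟩ := hcov (pr q)
      exact ⟨(q, i), hxP q, hi⟩
    · obtain ⟨x, i⟩ := p
      have hr : Set.range ((resι U' (D (x, i))).left ≫ pr).base ⊆ Set.range (C i).ι.base := by
        rw [Scheme.Opens.range_ι]
        rintro _ ⟨w, rfl⟩
        rw [Scheme.Hom.comp_apply]
        exact ((range_resι U' (D (x, i))).le ⟨w, rfl⟩).2
      let l₁ : (res U' (D (x, i))).left ⟶ (C i : Scheme.{u}) :=
        IsOpenImmersion.lift (C i).ι ((resι U' (D (x, i))).left ≫ pr) hr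
      have hl₁ : l₁ ≫ (C i).ι = (resι U' (D (x, i))).left ≫ pr := IsOpenImmersion.lift_fac _ _ _
      let L : (res U' (D (x, i))).left ⟶ ((EtCoh.bc g).obj (res U (C i))).left :=
        pullback.lift l₁ ((resι U' (D (x, i))).left ≫ pullback.snd U.hom g) (by
          change l₁ ≫ (C i).ι ≫ U.hom = _
          rw [← Category.assoc, hl₁, Category.assoc, Category.assoc]
          exact congrArg (_ ≫ ·) pullback.condition)
      let l : res U' (D (x, i)) ⟶ (EtCoh.bc g).obj (res U (C i)) :=
        MorphismProperty.Over.homMk L (pullback.lift_snd _ _ _) trivial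
      have el : l ≫ (EtCoh.bc g).map (resι U (C i)) = resι U' (D (x, i)) := by
        refine MorphismProperty.Over.Hom.ext (pullback.hom_ext ?_ ?_)
        · refine (Category.assoc _ _ _).trans
            ((congrArg (L ≫ ·) (bc_map_left_fst g (resι U (C i)))).trans ?_)
          exact (Category.assoc _ _ _).symm.trans
            ((congrArg (· ≫ (C i).ι) (pullback.lift_fst _ _ _)).trans hl₁)
        · exact (Category.assoc _ _ _).trans
            ((congrArg (L ≫ ·) (bc_map_left_snd g (resι U (C i)))).trans (pullback.lift_snd _ _ _))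
      have lhs : G'.obj.map (resι U' (D (x, i))).op (η'.hom.app (op U) t) =
          c'.app _ (m (z i)) := by
        rw [← el, op_comp, Functor.map_comp_apply, ← hnat, ht i, unit_app_app c g, c'.nat]
      have rhs : G'.obj.map (resι U' (D (x, i))).op s' = c'.app _ (m x) := by
        rw [← map_incl_resι G' U' (inf_le_left : D (x, i) ≤ P x), hPm x, c'.nat]
      refine lhs.trans (Eq.trans ?_ rhs.symm)
      by_cases hne : (D (x, i) : Set U'.left).Nonempty
      · refine congrArg (c'.app _) ?_
        obtain ⟨q, hq, hqg⟩ := hgenU (D (x, i)) hne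
        have hqz : q = z i := hprinj ((huniq i (pr q) hq.2 hqg).trans (hz i).symm)
        subst hqz
        obtain ⟨q', hq'⟩ := (range_resι U' (P (z i) ⊓ P x)).ge ⟨hxP (z i), hq.1⟩
        refine c'.inj (res U' (P (z i) ⊓ P x)) ⟨q'⟩ _ _ ?_
        rw [← c'.nat (incl U' inf_le_left) (m (z i)), ← c'.nat (incl U' inf_le_right) (m x),
          ← hPm, ← hPm, map_incl_resι, map_incl_resι]
      · exact ext_of_cover G' _ (ι := PEmpty.{u + 1}) (fun e => e.elim)
          (fun w => (hne ⟨_, (range_resι U' (D (x, i))).le ⟨w, rfl⟩⟩).elim) _ _ fun e => e.elim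

include c hX hgen in
theorem isIso_unit (hg : genericPoint X ∈ Set.range g.base) :
    IsIso ((EtCoh.pullPushAdj g).unit.app F) := by
  have : ∀ U, IsIso (((EtCoh.pullPushAdj g).unit.app F).hom.app U) := fun U =>
    (ConcreteCategory.isIso_iff_bijective _).2 (unit_bijective c hX g hgen hg U.unop)
  have h : IsIso ((EtCoh.pullPushAdj g).unit.app F).hom := NatIso.isIso_of_isIso_app _
  have : IsIso ((sheafToPresheaf _ _).map ((EtCoh.pullPushAdj g).unit.app F)) := h
  exact isIso_of_reflects_iso _ (sheafToPresheaf X.smallEtaleTopology AddCommGrpCat.{u + 1})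

end unit

end Groth.Agent.EtSite.NormalConst
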