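import Groth.Prelude.Def_EtBase
import Groth.Agent.EtSite.Henselian
import Groth.Agent.SepClosedNormal.Basic
import Groth.Agent.SchLocBasic.Basic
import Groth.Agent.HenselLib.LiftEtalePair
import Mathlib.AlgebraicGeometry.SpreadingOut
import Mathlib.AlgebraicGeometry.FunctionField

/-!
# Étale schemes over a normal scheme with separably closed function field
-/

set_option autoImplicit false
universe u

open CategoryTheory CategoryTheory.Limits AlgebraicGeometry

namespace Groth.Agent.EtSite.NormalSepClosed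

/-- A morphism whose composite with an étale morphism is an open immersion is an open immersion. -/
theorem isOpenImmersion_of_comp_etale {A B C : Scheme.{u}} (f : A ⟶ B) (g : B ⟶ C) [Etale g]
    [IsOpenImmersion (f ≫ g)] : IsOpenImmersion f := by
  have : Etale f := Etale.of_comp f g
  have : Mono f := ⟨fun a b h => (cancel_mono (f ≫ g)).1 (by rw [reassoc_of% h])⟩
  exact IsOpenImmersion.of_flat_of_mono f

variable {U X : Scheme.{u}} [IsIntegral X]

/-- Over a strictly henselian normal base, étale morphisms are local isomorphisms. -/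
theorem exists_isOpenImmersion_nhd (hN : ∀ x : X, IsIntegrallyClosed (X.presheaf.stalk x))
    [IsSepClosed X.functionField] (g : U ⟶ X) [Etale g] (u : U) :
    ∃ O : U.Opens, u ∈ O ∧ IsOpenImmersion (O.ι ≫ g) := by
  have := hN (g u)
  let R : Type u := X.presheaf.stalk (g u)
  have : HenselianLocalRing R := Groth.Agent.SepClosedNormal.henselianLocalRing X.functionField
  have : IsSepClosed (IsLocalRing.ResidueField R) :=
    Groth.Agent.SepClosedNormal.isSepClosed_residueField X.functionField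
  let j : Spec (CommRingCat.of R) ⟶ X := X.fromSpecStalk (g u)
  have hpt : (closedGeomPt R ≫ j) default = g u := by
    rw [Scheme.Hom.comp_apply,
      show closedGeomPt R default = IsLocalRing.closedPoint R from
        (congrArg _ (@Subsingleton.elim (PrimeSpectrum (IsLocalRing.ResidueField R)) _ _
          (IsLocalRing.closedPoint _))).trans
          (IsLocalRing.comap_closedPoint (IsLocalRing.residue R))]
    exact X.fromSpecStalk_closedPoint
  obtain ⟨l, hl, hlu⟩ := Scheme.exists_fac_of_etale_of_isSepClosed g (closedGeomPt R ≫ j) u hpt.symm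
  let U' : (Spec (CommRingCat.of R)).Etale := @Scheme.Etale.mk _ (pullback g j) (pullback.snd g j)
    (MorphismProperty.pullback_snd g j ‹Etale g›)
  let t : (Scheme.pointSmallEtale (closedGeomPt R)).fiber.obj U' :=
    Over.homMk (pullback.lift l (closedGeomPt R) hl) (pullback.lift_snd _ _ _)
  obtain ⟨σ, hσ⟩ := exists_section R U' t
  let σ' : Spec (CommRingCat.of R) ⟶ pullback g j := σ.left
  let φ : Spec (CommRingCat.of R) ⟶ U := σ' ≫ pullback.fst g j
  have hσs : σ' ≫ pullback.snd g j = 𝟙 _ := Over.w σ.toCommaMorphism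
  have hφ : φ ≫ g = X.fromSpecStalk (g u) ≫ 𝟙 X := by
    rw [Category.comp_id, Category.assoc, pullback.condition, ← Category.assoc, hσs,
      Category.id_comp]
  have hφu : closedGeomPt R ≫ φ = l := by
    have h1 : closedGeomPt R ≫ σ' = pullback.lift l (closedGeomPt R) hl :=
      congrArg CommaMorphism.left hσ
    rw [← Category.assoc, h1, pullback.lift_fst]
  obtain ⟨W, hW, f, hf, hfg⟩ := spread_out_of_isGermInjective' (sX := 𝟙 X) (sY := g)
    (x := g u) φ hφ
  rw [Category.comp_id] at hfg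
  have : IsOpenImmersion (f ≫ g) := by rw [hfg]; infer_instance
  have : IsOpenImmersion f := isOpenImmersion_of_comp_etale f g
  refine ⟨f.opensRange, ?_, ?_⟩
  · refine ⟨W.fromSpecStalkOfMem (g u) hW (closedGeomPt R default), ?_⟩
    rw [← Scheme.Hom.comp_apply, ← hf, ← Scheme.Hom.comp_apply, hφu, hlu]
  · rw [← f.isoOpensRange_inv_comp, Category.assoc, hfg]
    infer_instance

/-- Separated étale schemes decompose into opens of the base. -/
theorem exists_decomp (hN : ∀ x : X, IsIntegrallyClosed (X.presheaf.stalk x))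
    [IsSepClosed X.functionField] (g : U ⟶ X) [Etale g] [IsSeparated g] :
    ∃ (ι : Type u) (V : ι → X.Opens) (e : (∐ fun i => (V i : Scheme.{u})) ≅ U),
      ∀ i, Sigma.ι (fun i => (V i : Scheme.{u})) i ≫ e.hom ≫ g = (V i).ι := by
  classical
  choose O hO hOi using exists_isOpenImmersion_nhd hN g
  let G := {η : U // g η = genericPoint X}
  have hmeet : ∀ (P : U.Opens), (P : Set U).Nonempty → ∃ η : G, η.1 ∈ P := by
    intro P hP
    obtain ⟨p, hp⟩ := hP
    have : IsOpenImmersion (O p).ι := inferInstance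
    have hopen : IsOpen (g '' (P : Set U)) := g.isOpenMap _ P.2
    obtain ⟨η, hη, hηg⟩ := ((genericPoint_spec X).mem_open_set_iff hopen).2
      ⟨g p, by simp, p, hp, rfl⟩
    exact ⟨⟨η, hηg⟩, hη⟩
  have huniq : ∀ (u : U) (η η' : G), η.1 ∈ O u → η'.1 ∈ O u → η = η' := by
    intro u η η' h h'
    have := hOi u
    have e : (⟨η.1, h⟩ : O u) = ⟨η'.1, h'⟩ := ((O u).ι ≫ g).isOpenEmbedding.injective (by
      rw [Scheme.Hom.comp_apply, Scheme.Hom.comp_apply]
      exact η.2.trans η'.2.symm)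
    exact Subtype.ext (congrArg (fun z : O u => z.1) e)
  let C : G → U.Opens := fun η => ⨆ u : {u : U // η.1 ∈ O u}, O u.1
  have hmemC : ∀ {η : G} {p : U}, p ∈ C η → ∃ u, η.1 ∈ O u ∧ p ∈ O u := fun {η p} hp => by
    obtain ⟨u, hu⟩ := TopologicalSpace.Opens.mem_iSup.1 hp
    exact ⟨u.1, u.2, hu⟩
  have hCdisj : ∀ {η η' : G}, η ≠ η' → Disjoint (C η : Set U) (C η' : Set U) := by
    refine fun {η η'} hne => Set.disjoint_left.2 fun p hp hp' => hne ?_
    obtain ⟨u, hηu, hpu⟩ := hmemC hp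
    obtain ⟨v, hηv, hpv⟩ := hmemC hp'
    obtain ⟨η'', h1, h2⟩ := hmeet (O u ⊓ O v) ⟨p, hpu, hpv⟩
    exact (huniq u η η'' hηu h1).trans (huniq v η'' η' h2 hηv)
  have hηC : ∀ η : G, η.1 ∈ C η := fun η =>
    TopologicalSpace.Opens.mem_iSup.2 ⟨⟨η.1, hO η.1⟩, hO η.1⟩
  have hirr : ∀ η : G, IrreducibleSpace (C η : Scheme.{u}) := by
    intro η
    have key : ∀ P : Set (C η : Scheme.{u}), IsOpen P → P.Nonempty →
        (⟨η.1, hηC η⟩ : C η) ∈ P := by
      intro P hP ⟨p, hp⟩
      obtain ⟨u, hηu, hpu⟩ := hmemC p.2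
      have hPim : IsOpen ((C η).ι '' P) := (C η).ι.isOpenEmbedding.isOpenMap _ hP
      obtain ⟨η'', ⟨q, hq, hqe⟩, h2⟩ := hmeet (⟨_, hPim⟩ ⊓ O u) ⟨p.1, ⟨p, hp, rfl⟩, hpu⟩
      obtain rfl := huniq u η'' η h2 hηu
      rwa [show q = ⟨η''.1, hηC η''⟩ from Subtype.ext hqe] at hq
    exact
      { isPreirreducible_univ := fun A B hA hB hAn hBn => ⟨_, trivial,
          key A hA (hAn.mono Set.inter_subset_right), key B hB (hBn.mono Set.inter_subset_right)⟩
        toNonempty := ⟨⟨η.1, hηC η⟩⟩ }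
  have hopen : ∀ η : G, IsOpenImmersion ((C η).ι ≫ g) := by
    intro η
    have := hirr η
    refine Groth.Agent.SchLocBasic.isOpenImmersion_of_isSeparated _ fun p => ?_
    refine ⟨(C η).ι ⁻¹ᵁ O p.1, hO p.1, ?_⟩
    have := hOi p.1
    rw [← Category.assoc, ← morphismRestrict_ι, Category.assoc]
    infer_instance
  let V : G → X.Opens := fun η => ((C η).ι ≫ g).opensRange
  let a : ∀ η, (V η : Scheme.{u}) ⟶ U := fun η => ((C η).ι ≫ g).isoOpensRange.inv ≫ (C η).ι
  have ha : ∀ η, a η ≫ g = (V η).ι := fun η => by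
    rw [Category.assoc]
    exact Scheme.Hom.isoOpensRange_inv_comp _
  have hao : ∀ η, IsOpenImmersion (a η) := fun η => inferInstanceAs
    (IsOpenImmersion (((C η).ι ≫ g).isoOpensRange.inv ≫ (C η).ι))
  have har : ∀ η, Set.range (a η) ⊆ (C η : Set U) := by
    rintro η _ ⟨z, rfl⟩
    exact (Scheme.Hom.comp_apply ((C η).ι ≫ g).isoOpensRange.inv (C η).ι z).symm ▸
      (((C η).ι ≫ g).isoOpensRange.inv z).2
  have hdesc : IsOpenImmersion (Sigma.desc a) :=
    isOpenImmersion_sigmaDesc _ a fun η η' hne => (hCdisj hne).mono (har η) (har η')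
  have hsurj : Surjective (Sigma.desc a) := ⟨fun p => by
    obtain ⟨η, hη⟩ := hmeet (O p) ⟨p, hO p⟩
    have hp : p ∈ C η := TopologicalSpace.Opens.mem_iSup.2 ⟨⟨p, hη⟩, hO p⟩
    refine ⟨Sigma.ι (fun i => (V i : Scheme.{u})) η (((C η).ι ≫ g).isoOpensRange.hom ⟨p, hp⟩), ?_⟩
    rw [← Scheme.Hom.comp_apply, Sigma.ι_desc, ← Scheme.Hom.comp_apply]
    simp only [a, Iso.hom_inv_id_assoc]
    rfl⟩
  have : IsIso (Sigma.desc a) :=
    (isIso_iff_isOpenImmersion_and_surjective _).mpr ⟨hdesc, hsurj⟩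
  refine ⟨G, V, asIso (Sigma.desc a), fun η => ?_⟩
  rw [asIso_hom, Sigma.ι_desc_assoc]
  exact ha η

/-- Étale affine schemes over a closed subscheme of an affine scheme extend. -/
theorem exists_lift_affine {V Z X : Scheme.{u}} [IsAffine X] (i : Z ⟶ X) [IsClosedImmersion i]
    (φ : V ⟶ Z) [Etale φ] [IsAffine V] :
    ∃ (V' : Scheme.{u}) (g : V' ⟶ X) (q : V ⟶ V'), Etale g ∧ IsAffine V' ∧ IsPullback q φ g i := by
  have : IsAffine Z := isAffine_of_isAffineHom i
  let A : Type u := Γ(X, ⊤)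
  let I : Ideal A := RingHom.ker i.appTop.hom
  have hsurj : Function.Surjective i.appTop := (IsClosedImmersion.isAffine_surjective_of_isAffine i).2
  let e : A ⧸ I ≃+* Γ(Z, ⊤) := RingHom.quotientKerEquivOfSurjective hsurj
  have hφ : φ.appTop.hom.Etale := (HasRingHomProperty.iff_of_isAffine (P := @Etale)).1 ‹_›
  let m : A ⧸ I →+* Γ(V, ⊤) := φ.appTop.hom.comp e.toRingHom
  have hm : m.Etale := RingHom.Etale.respectsIso.2 _ e hφ
  let _ : Algebra (A ⧸ I) Γ(V, ⊤) := m.toAlgebra
  let _ : Algebra A Γ(V, ⊤) := (m.comp (Ideal.Quotient.mk I)).toAlgebra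
  have : IsScalarTower A (A ⧸ I) Γ(V, ⊤) := IsScalarTower.of_algebraMap_eq fun _ => rfl
  have : Algebra.Etale (A ⧸ I) Γ(V, ⊤) := hm
  obtain ⟨B, _, _, π, hB, hπ, hker⟩ :=
    Groth.Agent.HenselLib.exists_etale_lift_quotient I (Γ(V, ⊤) : Type u)
  let b : Γ(X, ⊤) ⟶ CommRingCat.of B := CommRingCat.ofHom (algebraMap A B)
  let c : CommRingCat.of B ⟶ Γ(V, ⊤) := CommRingCat.ofHom π.toRingHom
  have hsq : b ≫ c = i.appTop ≫ φ.appTop := by
    ext r
    exact π.commutes r
  have hpo : IsPushout b i.appTop c φ.appTop := by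
    refine ⟨⟨hsq⟩, ⟨PushoutCocone.isColimitAux' _ fun s => ?_⟩⟩
    have hk : RingHom.ker π.toRingHom ≤ RingHom.ker s.inl.hom := fun x hx => by
      refine (Ideal.map_le_iff_le_comap.2 fun r hr => ?_) (hker x hx)
      have := congrArg (fun m => m.hom r) s.condition
      rw [Ideal.mem_comap, RingHom.mem_ker]
      refine this.trans ?_
      change s.inr.hom (i.appTop r) = 0
      rw [show i.appTop r = 0 from hr, map_zero]
    let d : Γ(V, ⊤) ⟶ s.pt :=
      CommRingCat.ofHom (π.toRingHom.liftOfSurjective hπ ⟨s.inl.hom, hk⟩)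
    have hd : ∀ x, d (π x) = s.inl x := fun x =>
      RingHom.liftOfRightInverse_comp_apply _ _ _ _ _
    refine ⟨d, CommRingCat.hom_ext (RingHom.ext hd), ?_, fun {m'} h1 _ => ?_⟩
    · ext z
      obtain ⟨r, rfl⟩ := hsurj z
      have h1 := congrArg (fun m => m.hom r) hsq
      have h2 := congrArg (fun m => m.hom r) s.condition
      exact (congrArg d h1.symm).trans ((hd _).trans h2)
    · ext y
      obtain ⟨x, rfl⟩ := hπ y
      exact (congrArg (fun m => m.hom x) h1).trans (hd x).symm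
  have hpb := isPullback_SpecMap_of_isPushout b i.appTop c φ.appTop hpo
  have hbe : Etale (Spec.map b) := (HasRingHomProperty.Spec_iff (P := @Etale)).2 <| by
    change (algebraMap A B).Etale
    rw [RingHom.etale_algebraMap]
    exact hB
  refine ⟨Spec (CommRingCat.of B), Spec.map b ≫ X.isoSpec.inv, V.isoSpec.hom ≫ Spec.map c,
    inferInstance, inferInstance, ?_⟩
  refine IsPullback.of_iso hpb V.isoSpec.symm (Iso.refl _) Z.isoSpec.symm X.isoSpec.symm ?_ ?_ ?_ ?_
  · simp
  · exact Scheme.isoSpec_inv_naturality φ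
  · simp
  · exact Scheme.isoSpec_inv_naturality i

/-- Affine étale schemes over a closed subscheme decompose. -/
theorem exists_decomp_closed {V Z X : Scheme.{u}} [IsAffine X] [IsIntegral X]
    (hN : ∀ x : X, IsIntegrallyClosed (X.presheaf.stalk x)) [IsSepClosed X.functionField]
    (i : Z ⟶ X) [IsClosedImmersion i] (φ : V ⟶ Z) [Etale φ] [IsAffine V] :
    ∃ (ι : Type u) (_ : Finite ι) (W : ι → Z.Opens) (e : (∐ fun k => (W k : Scheme.{u})) ≅ V),
      ∀ k, Sigma.ι (fun k => (W k : Scheme.{u})) k ≫ e.hom ≫ φ = (W k).ι := by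
  classical
  obtain ⟨V', g, q, hg, hV', hpb⟩ := exists_lift_affine i φ
  have : IsSeparated g := by
    have : IsAffineHom g := isAffineHom_of_isAffine g
    infer_instance
  obtain ⟨ι, P, e, he⟩ := exists_decomp hN g
  let a' : ∀ k, (P k : Scheme.{u}) ⟶ V' := fun k => Sigma.ι (fun k => (P k : Scheme.{u})) k ≫ e.hom
  have ha' : ∀ k, a' k ≫ g = (P k).ι := fun k => (Category.assoc _ _ _).trans (he k)
  have hcl : IsClosedImmersion q := MorphismProperty.of_isPullback hpb.flip ‹_›
  let D : ι → V.Opens := fun k => q ⁻¹ᵁ (a' k).opensRange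
  have hDcov : (Set.univ : Set V) ⊆ ⋃ k, (D k : Set V) := fun v _ => by
    obtain ⟨k, z, hz⟩ := (sigmaOpenCover (fun k => (P k : Scheme.{u}))).exists_eq
      (e.inv (q v))
    refine Set.mem_iUnion.2 ⟨k, z, ?_⟩
    change (Sigma.ι (fun k => (P k : Scheme.{u})) k ≫ e.hom) z = q v
    rw [Scheme.Hom.comp_apply]
    refine (congrArg e.hom hz).trans ?_
    rw [← Scheme.Hom.comp_apply, Iso.inv_hom_id]
    rfl
  obtain ⟨F, hF⟩ := isCompact_univ.elim_finite_subcover _ (fun k => (D k).2) hDcov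
  let W : {k // k ∈ F} → Z.Opens := fun k => i ⁻¹ᵁ P k.1
  let a : ∀ k, (W k : Scheme.{u}) ⟶ V := fun k =>
    hpb.lift ((i ∣_ P k.1) ≫ a' k.1) (W k).ι (by rw [Category.assoc, ha', morphismRestrict_ι])
  have haφ : ∀ k, a k ≫ φ = (W k).ι := fun k => hpb.lift_snd _ _ _
  have haq : ∀ k z, q (a k z) = a' k.1 ((i ∣_ P k.1) z) := fun k z => by
    rw [← Scheme.Hom.comp_apply, hpb.lift_fst, Scheme.Hom.comp_apply]
  have hao : ∀ k, IsOpenImmersion (a k) := fun k => by
    have : IsOpenImmersion (a k ≫ φ) := by rw [haφ k]; infer_instance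
    exact isOpenImmersion_of_comp_etale (a k) φ
  have hdesc : IsOpenImmersion (Sigma.desc a) :=
    isOpenImmersion_sigmaDesc _ a fun k k' hne => Set.disjoint_left.2 (by
      rintro _ ⟨z, rfl⟩ ⟨z', hz'⟩
      have h := congrArg q hz'
      rw [haq, haq] at h
      simp only [a', Scheme.Hom.comp_apply] at h
      have h1 := (Scheme.homeoOfIso e).injective h
      exact Set.disjoint_left.1 (TopologicalSpace.Opens.coe_disjoint.2
          (disjoint_opensRange_sigmaι (fun k => (P k : Scheme.{u})) k.1 k'.1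
            (fun hh => hne (Subtype.ext hh))))
        ⟨_, rfl⟩ ⟨_, h1⟩)
  have hsurj : Surjective (Sigma.desc a) := ⟨fun v => by
    obtain ⟨k, hk, z, hz⟩ := Set.mem_iUnion₂.1 (hF (Set.mem_univ v))
    have h2 : (P k).ι z = i (φ v) := by
      rw [← ha', Scheme.Hom.comp_apply, hz, ← Scheme.Hom.comp_apply, hpb.w, Scheme.Hom.comp_apply]
    have hmem : φ v ∈ W ⟨k, hk⟩ := by change i (φ v) ∈ P k; rw [← h2]; exact z.2
    refine ⟨Sigma.ι (fun k => (W k : Scheme.{u})) ⟨k, hk⟩ ⟨φ v, hmem⟩, ?_⟩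
    rw [← Scheme.Hom.comp_apply, Sigma.ι_desc]
    apply q.isClosedEmbedding.injective
    rw [haq, ← hz]
    refine congrArg (a' k) ((P k).ι.isOpenEmbedding.injective ?_)
    rw [h2, ← Scheme.Hom.comp_apply, morphismRestrict_ι]
    rfl⟩
  have : IsIso (Sigma.desc a) :=
    (isIso_iff_isOpenImmersion_and_surjective _).mpr ⟨hdesc, hsurj⟩
  refine ⟨_, inferInstance, W, asIso (Sigma.desc a), fun k => ?_⟩
  rw [asIso_hom, Sigma.ι_desc_assoc]
  exact haφ k

/-- Surjective finite étale covers of closed subschemes have sections. -/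
theorem exists_section_closed {V Z X : Scheme.{u}} [IsAffine X] [IsIntegral X]
    (hN : ∀ x : X, IsIntegrallyClosed (X.presheaf.stalk x)) [IsSepClosed X.functionField]
    (i : Z ⟶ X) [IsClosedImmersion i] (φ : V ⟶ Z) [Etale φ] [IsFinite φ] [Surjective φ] :
    ∃ s : Z ⟶ V, s ≫ φ = 𝟙 Z := by
  classical
  have : IsAffine Z := isAffine_of_isAffineHom i
  have : IsAffine V := isAffine_of_isAffineHom φ
  obtain ⟨ι, _, W, e, he⟩ := exists_decomp_closed hN i φ
  obtain ⟨n, ⟨eι⟩⟩ := Finite.exists_equiv_fin ι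
  let a : ∀ k, (W k : Scheme.{u}) ⟶ V := fun k => Sigma.ι (fun k => (W k : Scheme.{u})) k ≫ e.hom
  have ha : ∀ k, a k ≫ φ = (W k).ι := fun k => (Category.assoc _ _ _).trans (he k)
  have hclosed : ∀ k, IsClosed (W k : Set Z) := fun k => by
    have hr : (Set.range (a k))ᶜ = ⋃ l : {l // l ≠ k}, Set.range (a l.1) := by
      ext v
      obtain ⟨l, z, hz⟩ := (sigmaOpenCover (fun k => (W k : Scheme.{u}))).exists_eq (e.inv v)
      have hv : a l z = v := by
        change (Sigma.ι (fun k => (W k : Scheme.{u})) l ≫ e.hom) z = v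
        rw [Scheme.Hom.comp_apply]
        refine (congrArg e.hom hz).trans ?_
        rw [← Scheme.Hom.comp_apply, Iso.inv_hom_id]
        rfl
      simp only [Set.mem_compl_iff, Set.mem_iUnion]
      refine ⟨fun hv' => ⟨⟨l, fun hl => hv' (hl ▸ ⟨z, hv⟩)⟩, z, hv⟩, ?_⟩
      rintro ⟨⟨l', hl'⟩, z', hz'⟩ ⟨w, hw⟩
      have h := hz'.trans hw.symm
      simp only [a, Scheme.Hom.comp_apply] at h
      exact (TopologicalSpace.Opens.coe_disjoint.2
        (disjoint_opensRange_sigmaι (fun k => (W k : Scheme.{u})) l' k hl')).le_bot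
          ⟨⟨z', rfl⟩, ⟨w, ((Scheme.homeoOfIso e).injective h).symm⟩⟩
    have hcl : IsClosed (Set.range (a k)) :=
      isOpen_compl_iff.1 (hr ▸ isOpen_iUnion fun l => (a l.1).isOpenEmbedding.isOpen_range)
    have h := φ.isClosedMap _ hcl
    rwa [← Set.range_comp, show φ ∘ a k = (W k).ι by
      funext z; exact (Scheme.Hom.comp_apply _ _ z).symm.trans (by rw [ha]),
      Scheme.Opens.range_ι] at h
  let D : ι → Z.Opens := fun k => ⟨(W k : Set Z) \ ⋃ l : {l // eι l < eι k}, (W l.1 : Set Z),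
    (W k).2.sdiff (isClosed_iUnion_of_finite fun l => hclosed _)⟩
  have hDle : ∀ k, D k ≤ W k := fun k => Set.sdiff_subset
  have hDdisj : ∀ k l, k ≠ l → Disjoint (D k : Set Z) (D l : Set Z) := fun k l hne =>
    Set.disjoint_left.2 fun z hzk hzl => by
      rcases lt_or_gt_of_ne (fun h => hne (eι.injective h)) with h | h
      · exact hzl.2 (Set.mem_iUnion.2 ⟨⟨k, h⟩, hzk.1⟩)
      · exact hzk.2 (Set.mem_iUnion.2 ⟨⟨l, h⟩, hzl.1⟩)
  have hDcov : ∀ z : Z, ∃ k, z ∈ D k := fun z => by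
    obtain ⟨v, rfl⟩ := φ.surjective z
    let T := Finset.univ.filter fun j : Fin n => φ v ∈ W (eι.symm j)
    have hT : T.Nonempty := by
      obtain ⟨l, w, hw⟩ := (sigmaOpenCover (fun k => (W k : Scheme.{u}))).exists_eq (e.inv v)
      refine ⟨eι l, Finset.mem_filter.2 ⟨Finset.mem_univ _, ?_⟩⟩
      rw [Equiv.symm_apply_apply]
      have hv : a l w = v := by
        change (Sigma.ι (fun k => (W k : Scheme.{u})) l ≫ e.hom) w = v
        rw [Scheme.Hom.comp_apply]
        refine (congrArg e.hom hw).trans ?_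
        rw [← Scheme.Hom.comp_apply, Iso.inv_hom_id]
        rfl
      rw [← hv, ← Scheme.Hom.comp_apply, ha]
      exact w.2
    refine ⟨eι.symm (T.min' hT), (Finset.mem_filter.1 (T.min'_mem hT)).2, fun h => ?_⟩
    obtain ⟨⟨l, hl⟩, hzl⟩ := Set.mem_iUnion.1 h
    rw [Equiv.apply_symm_apply] at hl
    exact absurd (T.min'_le (eι l) (Finset.mem_filter.2
      ⟨Finset.mem_univ _, by rwa [Equiv.symm_apply_apply]⟩)) (not_le.2 hl)
  let d : (∐ fun k => (D k : Scheme.{u})) ⟶ Z := Sigma.desc fun k => (D k).ι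
  have : IsOpenImmersion d := isOpenImmersion_sigmaDesc _ _ fun k l hne => by
    simpa [Function.onFun] using hDdisj k l hne
  have : Surjective d := ⟨fun z => by
    obtain ⟨k, hk⟩ := hDcov z
    refine ⟨Sigma.ι (fun k => (D k : Scheme.{u})) k ⟨z, hk⟩, ?_⟩
    rw [← Scheme.Hom.comp_apply, Sigma.ι_desc]
    rfl⟩
  have : IsIso d := (isIso_iff_isOpenImmersion_and_surjective _).mpr ⟨inferInstance, inferInstance⟩
  refine ⟨inv d ≫ Sigma.desc (fun k => Z.homOfLE (hDle k) ≫ a k), ?_⟩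
  rw [Category.assoc, IsIso.inv_comp_eq, Category.comp_id]
  refine Sigma.hom_ext _ _ fun k => ?_
  rw [Sigma.ι_desc_assoc, Category.assoc, ha, Sigma.ι_desc, Z.homOfLE_ι]

end Groth.Agent.EtSite.NormalSepClosed
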