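import Groth.Agent.EtSite.PushStalk
import Mathlib.AlgebraicGeometry.Morphisms.Etale

/-!
# Direct image along an open immersion (or any étale monomorphism)
-/

set_option autoImplicit false
universe u

open CategoryTheory CategoryTheory.Limits AlgebraicGeometry Opposite

namespace Groth.Agent.EtSite

variable {U₀ X : Scheme.{u}} (j : U₀ ⟶ X) [IsOpenImmersion j]

/-- For an open immersion an étale neighbourhood is itself a base change. -/
theorem lifts_openImmersion {Ω : Type u} [Field Ω] [IsSepClosed Ω]
    (ξ : Spec (CommRingCat.of Ω) ⟶ U₀) : Lifts j ξ := by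
  intro V t W g u hu
  let V' : X.Etale := @Scheme.Etale.mk X W.left (W.hom ≫ j)
    (MorphismProperty.comp_mem (W := EtCoh.etaleMP) _ _ W.prop (inferInstance : Etale j))
  have e1 : g.left ≫ pullback.snd V.hom j = W.hom := Over.w g.hom
  let π : V' ⟶ V := MorphismProperty.Over.homMk (g.left ≫ pullback.fst V.hom j)
    ((Category.assoc _ _ _).trans ((congrArg (CategoryStruct.comp g.left) pullback.condition).trans
      ((Category.assoc _ _ _).symm.trans (congrArg (· ≫ j) e1))))
  have hsnd : pullback.fst V'.hom j ≫ W.hom = pullback.snd V'.hom j := by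
    rw [← cancel_mono j]
    exact (Category.assoc _ _ _).trans pullback.condition
  let φ : (EtCoh.bc j).obj V' ⟶ W := MorphismProperty.Over.homMk (pullback.fst V'.hom j) hsnd
  let t' : (Scheme.pointSmallEtale (ξ ≫ j)).fiber.obj V' :=
    Over.homMk u.left ((Category.assoc _ _ _).symm.trans (congrArg (· ≫ j) (Over.w u)))
  refine ⟨V', π, t', φ, ?_, ?_, ?_⟩
  · apply Over.OverMorphism.ext
    exact (Category.assoc _ _ _).symm.trans ((congrArg (· ≫ pullback.fst V.hom j)
      (congrArg CommaMorphism.left hu)).trans (bcPt_left_fst j ξ V t))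
  · refine MorphismProperty.Over.Hom.ext (pullback.hom_ext ?_ ?_)
    · exact (Category.assoc _ _ _).trans (bc_map_left_fst j π).symm
    · exact (Category.assoc _ _ _).trans ((congrArg (CategoryStruct.comp _) e1).trans
        (hsnd.trans (bc_map_left_snd j π).symm))
  · exact Over.OverMorphism.ext (bcPt_left_fst j ξ V' t')

theorem isIso_counit_openImmersion (G : EtCoh.Ab U₀) :
    IsIso ((EtCoh.pullPushAdj j).counit.app G) :=
  isIso_of_stalks _ fun _ _ _ ξ => isIso_stalk_counit j ξ (lifts_openImmersion j ξ) G

end Groth.Agent.EtSite
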