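import Groth.Agent.EtSite.ASSheaf
import Mathlib.GroupTheory.Perm.Cycle.Type
import Mathlib.Algebra.Category.Grp.Ulift

/-!
# Constant `p`-group sheaves on affine schemes of characteristic `p` have no cohomology in degrees `≥ 2`
-/

set_option autoImplicit false
universe u

open CategoryTheory CategoryTheory.Limits AlgebraicGeometry Opposite CategoryTheory.Abelian

namespace Groth.Agent.EtSite.PVanish

theorem subsingleton_ZMod (S : Scheme.{u}) [IsAffine S] (p : ℕ) [Fact p.Prime] (hp : (p : Γ(S, ⊤)) = 0)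
    (n : ℕ) : Subsingleton (EtCoh.H S (EtCoh.const S (ZMod p)) (n + 2)) := by
  refine subsingleton_of_forall_eq 0 fun x => ?_
  have := EtSite.Cartan.subsingleton_H (EtSite.GaAcyclic.cechExact_Ga (X := S)) n
  have := EtSite.Cartan.subsingleton_H (EtSite.GaAcyclic.cechExact_Ga (X := S)) (n + 1)
  obtain ⟨y, rfl⟩ := Ext.covariant_sequence_exact₁ _ (EtSite.ASSheaf.shortExact hp) x
    (Subsingleton.elim (α := EtCoh.H S (EtCoh.Ga S) (n + 2)) _ _) (show n + 1 + 1 = n + 2 from rfl)
  rw [Subsingleton.elim (α := EtCoh.H S (EtCoh.Ga S) (n + 1)) y 0, Ext.zero_comp]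

variable {M₁ M₂ M₃ : Type} [AddCommGroup M₁] [AddCommGroup M₂] [AddCommGroup M₃]

/-- A map of value groups, lifted. -/
def liftHom (f : M₁ →+ M₂) :
    AddCommGrpCat.of (ULift.{u + 1} M₁) ⟶ AddCommGrpCat.of (ULift.{u + 1} M₂) :=
  AddCommGrpCat.ofHom ((AddEquiv.ulift.symm.toAddMonoidHom.comp f).comp AddEquiv.ulift.toAddMonoidHom)

theorem exists_shortExact (S : Scheme.{u}) (f : M₁ →+ M₂) (g : M₂ →+ M₃) (hf : Function.Injective f)
    (hg : Function.Surjective g) (hfg : ∀ y, g y = 0 ↔ ∃ x, f x = y) :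
    ∃ (a : EtCoh.const S M₁ ⟶ EtCoh.const S M₂) (b : EtCoh.const S M₂ ⟶ EtCoh.const S M₃) (w : a ≫ b = 0),
      (ShortComplex.mk a b w).ShortExact := by
  let K : AddCommGrpCat.{u + 1} ⥤ EtCoh.Ab S := constantSheaf S.smallEtaleTopology AddCommGrpCat.{u + 1}
  have w₀ : liftHom.{u} f ≫ liftHom.{u} g = 0 := by
    ext ⟨x⟩
    exact (hfg (f x)).2 ⟨x, rfl⟩
  let C := ShortComplex.mk (liftHom.{u} f) (liftHom.{u} g) w₀
  have hm : Mono C.f := (AddCommGrpCat.mono_iff_injective _).2 fun x y h =>
    ULift.ext _ _ (hf (congrArg ULift.down h))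
  have he : Epi C.g := (AddCommGrpCat.epi_iff_surjective _).2 fun z => by
    obtain ⟨y, hy⟩ := hg z.down
    exact ⟨⟨y⟩, ULift.ext _ _ hy⟩
  have hC : C.ShortExact := ShortComplex.ShortExact.mk' ((ShortComplex.ab_exact_iff _).2 fun y hy => by
    obtain ⟨x, hx⟩ := (hfg y.down).1 (congrArg ULift.down hy)
    exact ⟨⟨x⟩, ULift.ext _ _ hx⟩) hm he
  have : PreservesFiniteLimits K := by
    change PreservesFiniteLimits (Functor.const _ ⋙ presheafToSheaf S.smallEtaleTopology AddCommGrpCat.{u + 1})
    infer_instance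
  have : PreservesFiniteColimits K := by
    change PreservesFiniteColimits (Functor.const _ ⋙ presheafToSheaf S.smallEtaleTopology AddCommGrpCat.{u + 1})
    infer_instance
  have : K.Additive := Functor.additive_of_preserves_binary_products K
  exact ⟨K.map (liftHom f), K.map (liftHom g), by rw [← K.map_comp, w₀, K.map_zero],
    hC.map_of_exact K⟩

/-- `p`-power torsion constant coefficients. -/
theorem subsingleton_H (S : Scheme.{u}) [IsAffine S] (p : ℕ) [Fact p.Prime] (hp : (p : Γ(S, ⊤)) = 0)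
    (n : ℕ) : ∀ (N : ℕ) (M : Type) (_ : AddCommGroup M) (_ : Finite M), Nat.card M ≤ N →
      (∃ h : ℕ, ∀ m : M, (p ^ h) • m = 0) → Subsingleton (EtCoh.H S (EtCoh.const S M) (n + 2))
  | 0, M, _, _, hN, _ => absurd hN (Nat.not_le.2 Nat.card_pos)
  | N + 1, M, _, _, hN, ⟨h, hh⟩ => by
    rcases subsingleton_or_nontrivial M with hsub | hnt
    · refine subsingleton_of_forall_eq 0 fun x => ?_
      have hz : 𝟙 (EtCoh.const S M) = 0 := by
        rw [← (constantSheaf S.smallEtaleTopology AddCommGrpCat.{u + 1}).map_id]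
        have : (𝟙 (AddCommGrpCat.of (ULift.{u + 1} M))) = 0 := by
          ext ⟨m⟩
          exact @Subsingleton.elim M hsub _ _
        rw [this, Functor.map_zero]
      rw [← Ext.comp_mk₀_id x, hz, Ext.mk₀_zero, Ext.comp_zero]
    · obtain ⟨x, hx⟩ := exists_ne (0 : M)
      obtain ⟨k, -, hk⟩ := (Nat.dvd_prime_pow (Fact.out : p.Prime)).1 (addOrderOf_dvd_of_nsmul_eq_zero (hh x))
      have hk0 : k ≠ 0 := fun h0 => hx (by simpa [h0] using hk)
      let y := p ^ (k - 1) • x
      have hy0 : y ≠ 0 := fun hy => by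
        have hd := Nat.le_of_dvd (pow_pos (Fact.out : p.Prime).pos _) (addOrderOf_dvd_of_nsmul_eq_zero hy)
        rw [hk] at hd
        exact absurd hd (Nat.not_le.2 (Nat.pow_lt_pow_right (Fact.out : p.Prime).one_lt (by omega)))
      have hpy : p • y = 0 := by
        rw [← mul_smul, ← pow_succ', show k - 1 + 1 = k by omega, ← hk]
        exact addOrderOf_nsmul_eq_zero x
      let f : ZMod p →+ M := ZMod.lift p ⟨zmultiplesHom M y, by simpa using hpy⟩
      have hf1 : f 1 = y := by
        have e1 : (1 : ZMod p) = ((1 : ℤ) : ZMod p) := Int.cast_one.symm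
        rw [e1]
        exact (ZMod.lift_coe p _ 1).trans (one_zsmul y)
      have hf : Function.Injective f := (injective_iff_map_eq_zero f).2 fun a ha => by
        by_contra ha0
        apply hy0
        have e : (1 : ZMod p) = (a⁻¹).val • a := by
          rw [nsmul_eq_mul, ZMod.natCast_zmod_val, inv_mul_cancel₀ ha0]
        rw [← hf1, e, map_nsmul, ha, nsmul_zero]
      let Q := M ⧸ f.range
      have : Finite Q := inferInstanceAs (Finite (M ⧸ f.range))
      have hcard : Nat.card Q ≤ N := by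
        have h1 := AddSubgroup.card_eq_card_quotient_mul_card_addSubgroup f.range
        have h2 : 2 ≤ Nat.card f.range := by
          rw [← Nat.card_congr (AddMonoidHom.ofInjective hf).toEquiv, Nat.card_zmod]
          exact (Fact.out : p.Prime).two_le
        have h3 : 0 < Nat.card Q := Nat.card_pos
        have h4 : Nat.card Q * 2 ≤ Nat.card M := h1 ▸ Nat.mul_le_mul_left _ h2
        omega
      have hQ := subsingleton_H S p hp n N Q inferInstance inferInstance hcard ⟨h, fun q => by
        obtain ⟨m, rfl⟩ := QuotientAddGroup.mk'_surjective f.range q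
        rw [← map_nsmul, hh, map_zero]⟩
      obtain ⟨a, b, w, hS⟩ := exists_shortExact S f (QuotientAddGroup.mk' f.range) hf
        (QuotientAddGroup.mk'_surjective _) fun m => by
          rw [QuotientAddGroup.mk'_apply, QuotientAddGroup.eq_zero_iff, AddMonoidHom.mem_range]
      refine subsingleton_of_forall_eq 0 fun z => ?_
      have := subsingleton_ZMod S p hp n
      obtain ⟨z', rfl⟩ := Ext.covariant_sequence_exact₂ _ hS z
        (Subsingleton.elim (α := EtCoh.H S (EtCoh.const S Q) (n + 2)) _ _)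
      rw [Subsingleton.elim (α := EtCoh.H S (EtCoh.const S (ZMod p)) (n + 2)) z' 0, Ext.zero_comp]

end Groth.Agent.EtSite.PVanish
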