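import Groth.Prelude.Def_SGA4b
import Groth.Agent.EtSite.PushFinite
import Groth.Agent.EtSite.PushEpi
import Mathlib.CategoryTheory.Limits.FunctorCategory.Shapes.Products

/-!
# Stalks of direct images of sheaves of sets along finite morphisms
-/

set_option autoImplicit false
universe u

open CategoryTheory CategoryTheory.Limits AlgebraicGeometry Opposite

namespace Groth.Agent.EtSite.SetsPush

variable {X Y : Scheme.{u}}

section eqOpen

variable (G : EtDesc.Sh X) {P : X.Etale} (z₁ z₂ : G.obj.obj (op P))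

/-- The locus where two sections agree. -/
def EqAt (x : P.left) : Prop :=
  ∃ (V : X.Etale) (g : V ⟶ P), G.obj.map g.op z₁ = G.obj.map g.op z₂ ∧ x ∈ Set.range g.left.base

theorem isOpen_eqAt : IsOpen {x | EqAt G z₁ z₂ x} := by
  refine isOpen_iff_forall_mem_open.2 fun x hx => ?_
  obtain ⟨V, g, hg, hxg⟩ := hx
  have : EtCoh.etaleMP g.left := inferInstance
  have : UniversallyOpen g.left := inferInstance
  exact ⟨Set.range g.left.base, fun y hy => ⟨V, g, hg, hy⟩, g.left.isOpenMap.isOpen_range, hxg⟩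

theorem map_eq_of_forall_eqAt {V : X.Etale} (φ : V ⟶ P)
    (h : ∀ x : V.left, EqAt G z₁ z₂ (φ.left.base x)) : G.obj.map φ.op z₁ = G.obj.map φ.op z₂ := by
  let R : Sieve V :=
    { arrows := fun W g => G.obj.map g.op (G.obj.map φ.op z₁) = G.obj.map g.op (G.obj.map φ.op z₂)
      downward_closed := fun {W W'} g hg k => by
        rw [op_comp, Functor.map_comp_apply, Functor.map_comp_apply, hg] }
  refine (((isSheaf_iff_isSheaf_of_type _ _).1 G.property).isSeparated R ?_).ext fun W g hg => hg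
  refine mem_smallEtaleTopology_of_points V R fun x => ?_
  obtain ⟨W, g, hg, w, hw⟩ := h x
  have hgle : EtCoh.etaleMP g.left := inferInstance
  obtain ⟨p, hp1, hp2⟩ := Scheme.Pullback.exists_preimage_pullback
    (f := φ.left) (g := g.left) x w hw.symm
  let Q : X.Etale := @Scheme.Etale.mk X (pullback φ.left g.left) (pullback.fst _ _ ≫ V.hom)
    (MorphismProperty.comp_mem (W := EtCoh.etaleMP) _ _
      (MorphismProperty.pullback_fst φ.left g.left hgle) V.prop)
  let a : Q ⟶ V := MorphismProperty.Over.homMk (pullback.fst _ _) rfl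
  let b : Q ⟶ W := MorphismProperty.Over.homMk (pullback.snd _ _) (by
    have h1 : g.left ≫ P.hom = W.hom := Over.w g.hom
    have h2 : φ.left ≫ P.hom = V.hom := Over.w φ.hom
    exact (congrArg (CategoryStruct.comp (pullback.snd φ.left g.left)) h1).symm.trans
      ((Category.assoc _ _ _).symm.trans
        ((congrArg (· ≫ P.hom) pullback.condition.symm).trans
          ((Category.assoc _ _ _).trans (congrArg (CategoryStruct.comp _) h2)))))
  have hab : a ≫ φ = b ≫ g := MorphismProperty.Over.Hom.ext pullback.condition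
  refine ⟨Q, a, p, ?_, hp1⟩
  show G.obj.map a.op (G.obj.map φ.op z₁) = G.obj.map a.op (G.obj.map φ.op z₂)
  rw [← Functor.map_comp_apply, ← Functor.map_comp_apply, ← op_comp, hab, op_comp,
    Functor.map_comp_apply, Functor.map_comp_apply, hg]

end eqOpen

variable (f : X ⟶ Y) {Ω : Type u} [Field Ω] [IsSepClosed Ω] (η : Spec (CommRingCat.of Ω) ⟶ Y)

theorem map_liftPt (ξ : Spec (CommRingCat.of Ω) ⟶ X) (h : ξ ≫ f = η) {V W : Y.Etale} (g : V ⟶ W)
    (t : (Scheme.pointSmallEtale η).fiber.obj V) :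
    (Scheme.pointSmallEtale ξ).fiber.map ((EtCoh.bc f).map g) (liftPt f η ξ h V t) =
      liftPt f η ξ h W ((Scheme.pointSmallEtale η).fiber.map g t) := by
  refine Over.OverMorphism.ext (pullback.hom_ext ?_ ?_)
  · refine Eq.trans ?_ (pullback.lift_fst _ _ _).symm
    refine (Category.assoc _ _ _).trans ((congrArg (_ ≫ ·) (bc_map_left_fst f g)).trans ?_)
    exact (Category.assoc _ _ _).symm.trans (congrArg (· ≫ g.left) (pullback.lift_fst _ _ _))
  · refine Eq.trans ?_ (pullback.lift_snd _ _ _).symm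
    exact (Category.assoc _ _ _).trans ((congrArg (_ ≫ ·) (bc_map_left_snd f g)).trans
      (pullback.lift_snd _ _ _))

/-- The germ map `(f_* G)_η ⟶ G_ξ` at a sheaf. -/
noncomputable def germApp (ξ : {ξ : Spec (CommRingCat.of Ω) ⟶ X // ξ ≫ f = η}) (G : EtDesc.Sh X) :
    (Scheme.pointSmallEtale η).presheafFiber.obj ((EtDesc.pushSh f).obj G).obj ⟶
      (Scheme.pointSmallEtale ξ.1).presheafFiber.obj G.obj :=
  (Scheme.pointSmallEtale η).presheafFiberDesc (P := ((EtDesc.pushSh f).obj G).obj)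
    (fun V t => (Scheme.pointSmallEtale ξ.1).toPresheafFiber ((EtCoh.bc f).obj V)
      (liftPt f η ξ.1 ξ.2 V t) G.obj)
    (fun V W g t => by
      rw [← map_liftPt f η ξ.1 ξ.2 g t]
      exact (Scheme.pointSmallEtale ξ.1).toPresheafFiber_w _ _ _)

theorem germApp_apply (ξ : {ξ : Spec (CommRingCat.of Ω) ⟶ X // ξ ≫ f = η}) (G : EtDesc.Sh X)
    (V : Y.Etale) (t : (Scheme.pointSmallEtale η).fiber.obj V)
    (z : ((EtDesc.pushSh f).obj G).obj.obj (op V)) :
    germApp f η ξ G ((Scheme.pointSmallEtale η).toPresheafFiber V t ((EtDesc.pushSh f).obj G).obj z) =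
      (Scheme.pointSmallEtale ξ.1).toPresheafFiber ((EtCoh.bc f).obj V)
        (liftPt f η ξ.1 ξ.2 V t) G.obj z := by
  exact ConcreteCategory.congr_hom
    ((Scheme.pointSmallEtale η).toPresheafFiber_presheafFiberDesc
      (P := ((EtDesc.pushSh f).obj G).obj) _ _ V t) z

/-- The germ map `(f_* G)_η ⟶ G_ξ`. -/
noncomputable def germ (ξ : {ξ : Spec (CommRingCat.of Ω) ⟶ X // ξ ≫ f = η}) :
    EtDesc.pushSh f ⋙ (Scheme.pointSmallEtale η).sheafFiber (A := Type (u + 1)) ⟶
      (Scheme.pointSmallEtale ξ.1).sheafFiber (A := Type (u + 1)) where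
  app G := germApp f η ξ G
  naturality G G' a := by
    ext p
    obtain ⟨V, t, z, rfl⟩ := (Scheme.pointSmallEtale η).toPresheafFiber_jointly_surjective
      (P := ((EtDesc.pushSh f).obj G).obj) p
    have h1 := (Scheme.pointSmallEtale η).toPresheafFiber_naturality_apply
      ((EtDesc.pushSh f).map a).hom V t z
    have h2 := (Scheme.pointSmallEtale ξ.1).toPresheafFiber_naturality_apply
      a.hom ((EtCoh.bc f).obj V) (liftPt f η ξ.1 ξ.2 V t) z
    refine (congrArg (germApp f η ξ G') h1).trans ((germApp_apply f η ξ G' V t _).trans ?_)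
    exact h2.symm.trans (congrArg _ (germApp_apply f η ξ G V t z).symm)

theorem germ_apply (ξ : {ξ : Spec (CommRingCat.of Ω) ⟶ X // ξ ≫ f = η}) (G : EtDesc.Sh X)
    (V : Y.Etale) (t : (Scheme.pointSmallEtale η).fiber.obj V)
    (z : ((EtDesc.pushSh f).obj G).obj.obj (op V)) :
    germApp f η ξ G ((Scheme.pointSmallEtale η).toPresheafFiber V t ((EtDesc.pushSh f).obj G).obj z) =
      (Scheme.pointSmallEtale ξ.1).toPresheafFiber ((EtCoh.bc f).obj V)
        (liftPt f η ξ.1 ξ.2 V t) G.obj z :=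
  germApp_apply f η ξ G V t z

theorem germ_injective [IsAlgClosed Ω] [IsFinite f] (G : EtDesc.Sh X)
    (p q : (Scheme.pointSmallEtale η).presheafFiber.obj ((EtDesc.pushSh f).obj G).obj)
    (hp : ∀ ξ, germApp f η ξ G p = germApp f η ξ G q) : p = q := by
  obtain ⟨V₁, t₁, z₁', rfl⟩ := (Scheme.pointSmallEtale η).toPresheafFiber_jointly_surjective
    (P := ((EtDesc.pushSh f).obj G).obj) p
  obtain ⟨V₂, t₂, z₂', rfl⟩ := (Scheme.pointSmallEtale η).toPresheafFiber_jointly_surjective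
    (P := ((EtDesc.pushSh f).obj G).obj) q
  obtain ⟨⟨V, t⟩, ⟨a, ha⟩, ⟨b, hb⟩, -⟩ := IsCofilteredOrEmpty.cone_objs
    (C := (Scheme.pointSmallEtale η).fiber.Elements) ⟨V₁, t₁⟩ ⟨V₂, t₂⟩
  dsimp only at a b ha hb
  rw [← ha, ← hb] at hp ⊢
  rw [← (Scheme.pointSmallEtale η).toPresheafFiber_w_apply,
    ← (Scheme.pointSmallEtale η).toPresheafFiber_w_apply] at hp ⊢
  generalize ((EtDesc.pushSh f).obj G).obj.map a.op z₁' = z₁ at hp ⊢
  generalize ((EtDesc.pushSh f).obj G).obj.map b.op z₂' = z₂ at hp ⊢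
  let W : Set ((EtCoh.bc f).obj V).left := {x | EqAt G (P := (EtCoh.bc f).obj V) z₁ z₂ x}
  let pr : ((EtCoh.bc f).obj V).left ⟶ V.left := pullback.fst V.hom f
  have hpr : IsIntegralHom pr := inferInstanceAs (IsIntegralHom (pullback.fst V.hom f))
  let O : V.left.Opens := ⟨(pr '' Wᶜ)ᶜ,
    (pr.isClosedMap _ (isOpen_eqAt G (P := (EtCoh.bc f).obj V) z₁ z₂).isClosed_compl).isOpen_compl⟩
  have hsubO : Set.range t.left ⊆ Set.range O.ι := by
    rintro _ ⟨s, rfl⟩
    refine (Set.ext_iff.1 (Scheme.Opens.range_ι O) _).2 ?_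
    rintro ⟨y, hy, hyt⟩
    obtain ⟨φ, hφ, (hφy : Weighting.pt φ = y)⟩ := exists_lift_of_isIntegralHom pr t.left y
      (hyt.trans (congrArg t.left.base (Weighting.point_eq (Ω := Ω) s)))
    let ξ := φ ≫ pullback.snd V.hom f
    have hξ : ξ ≫ f = η := (Category.assoc _ _ _).trans ((congrArg (φ ≫ ·) pullback.condition.symm).trans
      ((Category.assoc _ _ _).symm.trans ((congrArg (· ≫ V.hom) hφ).trans (Over.w t))))
    have h0' := hp ⟨ξ, hξ⟩
    rw [germ_apply, germ_apply] at h0'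
    have h0 : (Scheme.pointSmallEtale ξ).toPresheafFiber ((EtCoh.bc f).obj V)
        (liftPt f η ξ hξ V t) G.obj z₁ = (Scheme.pointSmallEtale ξ).toPresheafFiber
          ((EtCoh.bc f).obj V) (liftPt f η ξ hξ V t) G.obj z₂ := h0'
    obtain ⟨U, g, v, hv, hg⟩ :=
      ((Scheme.pointSmallEtale ξ).toPresheafFiber_eq_iff' (P := G.obj) _ _ z₁ z₂).1 h0
    refine hy ⟨U, g, hg, v.left (IsLocalRing.closedPoint Ω), ?_⟩
    have hl : v.left ≫ g.left = φ := (congrArg CommaMorphism.left hv).trans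
      (pullback.hom_ext ((pullback.lift_fst _ _ _).trans hφ.symm) (pullback.lift_snd _ _ _))
    exact (Scheme.Hom.comp_apply _ _ _).symm.trans
      ((congrArg (fun m : _ ⟶ ((EtCoh.bc f).obj V).left => m.base _) hl).trans hφy)
  let V' : Y.Etale := Scheme.Etale.mk (O.ι ≫ V.hom)
  let π : V' ⟶ V := MorphismProperty.Over.homMk O.ι rfl
  let l := IsOpenImmersion.lift O.ι t.left hsubO
  have hl : l ≫ O.ι = t.left := IsOpenImmersion.lift_fac _ _ _
  let t' : (Scheme.pointSmallEtale η).fiber.obj V' := Over.homMk l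
    ((Category.assoc _ _ _).symm.trans ((congrArg (· ≫ V.hom) hl).trans (Over.w t)))
  refine ((Scheme.pointSmallEtale η).toPresheafFiber_eq_iff' (P := ((EtDesc.pushSh f).obj G).obj) V t z₁ z₂).2
    ⟨V', π, t', Over.OverMorphism.ext hl, ?_⟩
  refine map_eq_of_forall_eqAt G (P := (EtCoh.bc f).obj V) z₁ z₂ ((EtCoh.bc f).map π) fun x => ?_
  by_contra hx
  have h1 : pr (((EtCoh.bc f).map π).left x) ∈ (O : Set V.left) := by
    have e := bc_map_left_fst f π
    refine (Set.ext_iff.1 (Scheme.Opens.range_ι O) _).1 ⟨pullback.fst V'.hom f x, ?_⟩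
    exact (Scheme.Hom.comp_apply _ _ _).symm.trans
      ((congrArg (fun m : _ ⟶ V.left => m.base x) e.symm).trans (Scheme.Hom.comp_apply _ _ _))
  exact h1 ⟨_, hx, rfl⟩

theorem germ_surjective [IsAlgClosed Ω] [IsFinite f] (G : EtDesc.Sh X)
    (z : ∀ ξ : {ξ : Spec (CommRingCat.of Ω) ⟶ X // ξ ≫ f = η},
      (Scheme.pointSmallEtale ξ.1).presheafFiber.obj G.obj) :
    ∃ p, ∀ ξ, germApp f η ξ G p = z ξ := by
  have := finite_lifts_of_isFinite f η
  choose U u s hs using fun ξ : {ξ : Spec (CommRingCat.of Ω) ⟶ X // ξ ≫ f = η} =>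
    (Scheme.pointSmallEtale ξ.1).toPresheafFiber_jointly_surjective (P := G.obj) (z ξ)
  have hw : ∀ k, (u k).left ≫ (U k).hom = k.1 := fun k => Over.w (u k)
  obtain ⟨V₁, g, hg, γ', C, c, φ, w, hγ', hc, hφ, hwφ, hwc, hd, hcov⟩ :=
    exists_split f η (fun k => (U k).left) (fun k => (U k).hom) (fun k => (u k).left)
      (fun k => (U k).prop)
      (fun k => (Category.assoc _ _ _).symm.trans ((congrArg (· ≫ f) (hw k)).trans k.2))
      (fun ξ hξ => ⟨⟨ξ, hξ⟩, hw ⟨ξ, hξ⟩⟩)
      (fun k l h => Subtype.ext ((hw k).symm.trans (h.trans (hw l))))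
  let V' : Y.Etale := @Scheme.Etale.mk Y V₁ g hg
  let t' : (Scheme.pointSmallEtale η).fiber.obj V' := Over.homMk γ' hγ'
  let σ := (pullbackSymmetry f g).hom
  have : ∀ k, IsOpenImmersion (c k) := hc
  let C' : _ → X.Etale := fun k => @Scheme.Etale.mk X (C k) (c k ≫ pullback.fst f g)
    (MorphismProperty.comp_mem (W := EtCoh.etaleMP) _ _ (inferInstance : Etale (c k))
      (MorphismProperty.pullback_fst f g hg))
  let gk : ∀ k, C' k ⟶ (EtCoh.bc f).obj V' := fun k => MorphismProperty.Over.homMk (c k ≫ σ)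
    ((Category.assoc _ _ _).trans (congrArg (c k ≫ ·) (pullbackSymmetry_hom_comp_snd f g)))
  let φk : ∀ k, C' k ⟶ U k := fun k => MorphismProperty.Over.homMk (φ k) (hφ k)
  have hσ : Function.Bijective σ.base := (Scheme.homeoOfIso (pullbackSymmetry f g)).bijective
  obtain ⟨x, hx, -⟩ := exists_glue_disjoint' ((isSheaf_iff_isSheaf_of_type _ _).1 G.property) gk
    (fun k => inferInstanceAs (IsOpenImmersion (c k ≫ σ)))
    (fun k l hkl => Set.disjoint_left.2 (by
      rintro _ ⟨a, rfl⟩ ⟨b, hb⟩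
      exact Set.disjoint_left.1 (hd hkl) ⟨a, rfl⟩ ⟨b, hσ.1 ((Scheme.Hom.comp_apply _ _ _).symm.trans
        (hb.trans (Scheme.Hom.comp_apply _ _ _)))⟩))
    (fun y => by
      obtain ⟨y', rfl⟩ := hσ.2 y
      obtain ⟨k, a, ha⟩ := hcov y'
      exact ⟨k, a, (Scheme.Hom.comp_apply _ _ _).trans (congrArg σ.base ha)⟩)
    (fun k => G.obj.map (φk k).op (s k))
  refine ⟨(Scheme.pointSmallEtale η).toPresheafFiber V' t' ((EtDesc.pushSh f).obj G).obj x,
    fun k => ?_⟩
  rw [germ_apply, ← hs k]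
  let v : (Scheme.pointSmallEtale k.1).fiber.obj (C' k) := Over.homMk (w k)
    ((congrArg (w k ≫ ·) (hφ k)).symm.trans ((Category.assoc _ _ _).symm.trans
      ((congrArg (· ≫ (U k).hom) (hwφ k)).trans (hw k))))
  have e1 : (Scheme.pointSmallEtale k.1).fiber.map (gk k) v = liftPt f η k.1 k.2 V' t' := by
    refine Over.OverMorphism.ext (pullback.hom_ext ?_ ?_)
    · refine Eq.trans ?_ (pullback.lift_fst _ _ _).symm
      exact (Category.assoc _ _ _).trans ((congrArg (w k ≫ ·) ((Category.assoc _ _ _).trans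
        (congrArg (c k ≫ ·) (pullbackSymmetry_hom_comp_fst f g)))).trans (hwc k))
    · refine Eq.trans ?_ (pullback.lift_snd _ _ _).symm
      exact (Category.assoc _ _ _).trans ((congrArg (w k ≫ ·) ((Category.assoc _ _ _).trans
        (congrArg (c k ≫ ·) (pullbackSymmetry_hom_comp_snd f g)))).trans (Over.w v))
  have e2 : (Scheme.pointSmallEtale k.1).fiber.map (φk k) v = u k := Over.OverMorphism.ext (hwφ k)
  rw [← e1, ← e2, ← (Scheme.pointSmallEtale k.1).toPresheafFiber_w_apply,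
    ← (Scheme.pointSmallEtale k.1).toPresheafFiber_w_apply, hx]

/-- The stalk of `f_*` is the product of the stalks over the geometric fibre. -/
theorem nonempty_iso_pi [IsAlgClosed Ω] [IsFinite f] :
    Nonempty (EtDesc.pushSh f ⋙ (Scheme.pointSmallEtale η).sheafFiber (A := Type (u + 1)) ≅
      ∏ᶜ fun ξ : {ξ : Spec (CommRingCat.of Ω) ⟶ X // ξ ≫ f = η} =>
        ((Scheme.pointSmallEtale ξ.1).sheafFiber (A := Type (u + 1)) : EtDesc.Sh X ⥤ Type (u + 1))) := by
  let H : {ξ : Spec (CommRingCat.of Ω) ⟶ X // ξ ≫ f = η} → (EtDesc.Sh X ⥤ Type (u + 1)) :=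
    fun ξ => (Scheme.pointSmallEtale ξ.1).sheafFiber (A := Type (u + 1))
  let α : EtDesc.pushSh f ⋙ (Scheme.pointSmallEtale η).sheafFiber (A := Type (u + 1)) ⟶ ∏ᶜ H :=
    Pi.lift fun ξ => germ f η ξ
  suffices h : ∀ G, IsIso (α.app G) from
    haveI := h
    haveI : IsIso α := NatIso.isIso_of_isIso_app α
    ⟨asIso α⟩
  intro G
  let e := piObjIso H G ≪≫ Types.productIso.{u, u + 1} (fun ξ => (H ξ).obj G)
  have he : ∀ p ξ, (α.app G ≫ e.hom) p ξ = (germ f η ξ).app G p := by
    intro p ξ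
    have h1 : α.app G ≫ (Pi.π H ξ).app G = (germ f η ξ).app G :=
      (NatTrans.comp_app _ _ _).symm.trans (congrArg (fun m => NatTrans.app m G) (Pi.lift_π _ ξ))
    have h2 : (α.app G ≫ (piObjIso H G).hom) ≫
        Pi.π (fun ξ => (H ξ).obj G) ξ = (germ f η ξ).app G := by
      rw [Category.assoc, piObjIso_hom_comp_π, h1]
    rw [← h2]
    exact ConcreteCategory.congr_hom
      (Types.productIso_hom_comp_eval.{u, u + 1} (fun ξ => (H ξ).obj G) ξ) _
  have : IsIso (α.app G ≫ e.hom) := (isIso_iff_bijective _).2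
    ⟨fun p q hpq => germ_injective f η G p q fun ξ =>
        (he p ξ).symm.trans ((congrFun hpq ξ).trans (he q ξ)),
      fun z => (germ_surjective f η G z).imp fun p hp => funext fun ξ => (he p ξ).trans (hp ξ)⟩
  exact IsIso.of_isIso_comp_right (α.app G) e.hom

end Groth.Agent.EtSite.SetsPush
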