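import Groth.Agent.EtSite.PushFinite
import Groth.Agent.EtSite.LiftIntegral
import Groth.Agent.EtSite.PushEpi
import Groth.Agent.EtSite.RightExact
import Groth.Prelude.Def_PBC
import Mathlib.CategoryTheory.Adjunction.FullyFaithful

/-!
# Direct images along integral morphisms
-/

set_option autoImplicit false
universe u

open CategoryTheory CategoryTheory.Limits AlgebraicGeometry Opposite Groth.Agent.Weighting

namespace Groth.Agent.EtSite

variable {X Y : Scheme.{u}} (f : X ⟶ Y) {Ω : Type u} [Field Ω] [IsSepClosed Ω]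
  (η : Spec (CommRingCat.of Ω) ⟶ Y) (ξ : Spec (CommRingCat.of Ω) ⟶ X)

theorem germMap_surjective_of_uniq [IsAlgClosed Ω] [IsIntegralHom f] (h : ξ ≫ f = η)
    (huniq : ∀ ξ', ξ' ≫ f = η → ξ' = ξ) (G : EtCoh.Ab X) :
    Function.Surjective ((germMap f η ξ h).app G) := by
  intro p
  obtain ⟨U, u, s, rfl⟩ := (Scheme.pointSmallEtale ξ).toPresheafFiber_jointly_surjective (P := G.obj) p
  have : Etale U.hom := U.prop
  obtain ⟨V, v, hv, γ', hγ', φ, hφ, hlift⟩ := exists_refine f η ξ h huniq U.hom u.left (Over.w u)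
  let V' : Y.Etale := @Scheme.Etale.mk Y V v hv
  let t' : (Scheme.pointSmallEtale η).fiber.obj V' := Over.homMk γ' hγ'
  let σ : ((EtCoh.bc f).obj V').left ⟶ pullback f v := (pullbackSymmetry v f).hom
  let ψ : (EtCoh.bc f).obj V' ⟶ U := MorphismProperty.Over.homMk (σ ≫ φ)
    ((Category.assoc _ _ _).trans ((congrArg (σ ≫ ·) hφ).trans (pullbackSymmetry_hom_comp_fst v f)))
  refine ⟨(Scheme.pointSmallEtale η).toPresheafFiber V' t' ((EtCoh.push f).obj G).obj
    (G.obj.map ψ.op s), ?_⟩
  have e : (Scheme.pointSmallEtale ξ).fiber.map ψ (liftPt f η ξ h V' t') = u := by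
    refine Over.OverMorphism.ext ?_
    refine (Category.assoc _ _ _).symm.trans (Eq.trans ?_ hlift)
    refine congrArg (· ≫ φ) (pullback.hom_ext ?_ ?_)
    · refine ((Category.assoc _ _ _).trans ((congrArg (_ ≫ ·)
        (pullbackSymmetry_hom_comp_fst v f)).trans ?_))
      exact (pullback.lift_snd _ _ _).trans (pullback.lift_fst _ _ _).symm
    · refine ((Category.assoc _ _ _).trans ((congrArg (_ ≫ ·)
        (pullbackSymmetry_hom_comp_snd v f)).trans ?_))
      exact (pullback.lift_fst _ _ _).trans (pullback.lift_snd _ _ _).symm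
  rw [germMap_germ, ← e]
  exact (Scheme.pointSmallEtale ξ).toPresheafFiber_w_apply ψ (liftPt f η ξ h V' t') G.obj s

theorem isIso_germMap_of_uniq [IsAlgClosed Ω] [IsIntegralHom f] (h : ξ ≫ f = η)
    (huniq : ∀ ξ', ξ' ≫ f = η → ξ' = ξ) (G : EtCoh.Ab X) :
    IsIso ((germMap f η ξ h).app G) := by
  rw [ConcreteCategory.isIso_iff_bijective]
  refine ⟨(injective_iff_map_eq_zero _).2 fun p hp => ?_, germMap_surjective_of_uniq f η ξ h huniq G⟩
  exact germMap_jointly_injective f η G p fun ξ' h' => by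
    obtain rfl := huniq ξ' h'
    exact hp

theorem isIso_pushStalkMap_of_univInj [IsAlgClosed Ω] [IsIntegralHom f] [UniversallyInjective f]
    (G : EtCoh.Ab X) : IsIso ((pushStalkMap f ξ).app G) := by
  have := isIso_germMap_of_uniq f (ξ ≫ f) ξ rfl (fun ξ' h => eq_of_universallyInjective f ξ' ξ h) G
  have e : germMap f (ξ ≫ f) ξ rfl = pushStalkMap f ξ := by simp [germMap]
  rwa [e] at this

theorem isIso_stalk_counit_of_univInj [IsAlgClosed Ω] [IsIntegralHom f] [UniversallyInjective f]
    (G : EtCoh.Ab X) : IsIso ((EtCoh.stalk ξ).map ((EtCoh.pullPushAdj f).counit.app G)) := by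
  have : IsIso ((stalkPullIso f ξ).hom.app ((EtCoh.push f).obj G) ≫
      (EtCoh.stalk ξ).map ((EtCoh.pullPushAdj f).counit.app G)) :=
    isIso_pushStalkMap_of_univInj f ξ G
  exact IsIso.of_isIso_comp_left ((stalkPullIso f ξ).hom.app ((EtCoh.push f).obj G)) _

theorem isIso_stalk_unit_of_univInj [IsAlgClosed Ω] [IsIntegralHom f] [UniversallyInjective f]
    (F : EtCoh.Ab Y) : IsIso ((EtCoh.stalk (ξ ≫ f)).map ((EtCoh.pullPushAdj f).unit.app F)) := by
  have := isIso_pushStalkMap_of_univInj f ξ ((EtCoh.pull f).obj F)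
  have e : (EtCoh.stalk (ξ ≫ f)).map ((EtCoh.pullPushAdj f).unit.app F) ≫
      (pushStalkMap f ξ).app ((EtCoh.pull f).obj F) = (stalkPullIso f ξ).hom.app F := by
    have h1 := (stalkPullIso f ξ).hom.naturality ((EtCoh.pullPushAdj f).unit.app F)
    simp only [Functor.comp_map, Functor.comp_obj] at h1
    change _ ≫ _ ≫ _ = _
    rw [reassoc_of% h1, ← Functor.map_comp, Adjunction.left_triangle_components]
    erw [CategoryTheory.Functor.map_id]
    exact Category.comp_id _
  exact IsIso.of_isIso_fac_right e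

theorem isIso_counit_of_univInj [IsIntegralHom f] [UniversallyInjective f] (G : EtCoh.Ab X) :
    IsIso ((EtCoh.pullPushAdj f).counit.app G) :=
  isIso_of_exists_stalk _ fun x => by
    obtain ⟨η', hη'⟩ := exists_algClosed_pt (Y := X) x
    exact ⟨_, inferInstance, inferInstance, η', hη', isIso_stalk_counit_of_univInj f η' G⟩

theorem push_full_faithful_of_univInj [IsIntegralHom f] [UniversallyInjective f] :
    (EtCoh.push f).Full ∧ (EtCoh.push f).Faithful := by
  have : IsIso (EtCoh.pullPushAdj f).counit := by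
    have := isIso_counit_of_univInj f
    exact NatIso.isIso_of_isIso_app _
  let h := (EtCoh.pullPushAdj f).fullyFaithfulROfIsIsoCounit
  exact ⟨h.full, h.faithful⟩

theorem isZero_stalk_push_of_not_mem_range [IsIntegralHom f] (G : EtCoh.Ab X)
    (hη : η (IsLocalRing.closedPoint Ω) ∉ Set.range f.base) :
    IsZero ((EtCoh.stalk η).obj ((EtCoh.push f).obj G)) :=
  isZero_stalk_of_forall η _ fun V t => by
    let W : V.left.Opens := ⟨V.hom ⁻¹' (Set.range f.base)ᶜ,
      f.isClosedMap.isClosed_range.isOpen_compl.preimage V.hom.continuous⟩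
    let V' : Y.Etale := Scheme.Etale.mk (W.ι ≫ V.hom)
    let π : V' ⟶ V := MorphismProperty.Over.homMk W.ι rfl
    have hrange : Set.range t.left ⊆ Set.range W.ι := by
      rintro _ ⟨q, rfl⟩
      refine (Set.ext_iff.1 (Scheme.Opens.range_ι W) _).2 ?_
      show V.hom (t.left q) ∉ Set.range f.base
      have : V.hom (t.left q) = η (IsLocalRing.closedPoint Ω) :=
        (Scheme.Hom.comp_apply _ _ _).symm.trans
          ((congrArg (fun m : _ ⟶ Y => m.base q) (Over.w t)).trans (congrArg η.base (point_eq (Ω := Ω) q)))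
      rwa [this]
    let l := IsOpenImmersion.lift W.ι t.left hrange
    have hl : l ≫ W.ι = t.left := IsOpenImmersion.lift_fac _ _ _
    have : IsEmpty ((EtCoh.bc f).obj V').left := ⟨fun p => by
      have hp : V.hom (W.ι (pullback.fst V'.hom f p)) ∈ Set.range f.base :=
        ⟨pullback.snd V'.hom f p, (Scheme.Hom.comp_apply _ _ _).symm.trans
          ((congrArg (fun m : pullback V'.hom f ⟶ Y => m.base p) pullback.condition.symm).trans
            ((Scheme.Hom.comp_apply _ _ _).trans (Scheme.Hom.comp_apply _ _ _)))⟩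
      exact (Set.ext_iff.1 (Scheme.Opens.range_ι W) _).1 ⟨_, rfl⟩ hp⟩
    refine ⟨V', π, Over.homMk l ?_, Over.OverMorphism.ext hl,
      subsingleton_sect_of_isEmpty G _⟩
    exact (Category.assoc _ _ _).symm.trans ((congrArg (· ≫ V.hom) hl).trans (Over.w t))

theorem essImage_push_iff_supp_of_univInj [IsIntegralHom f] [UniversallyInjective f] (G : EtCoh.Ab Y) :
    (EtCoh.push f).essImage G ↔ EtPBC.supp G ⊆ Set.range f.base := by
  constructor
  · rintro ⟨F, ⟨e⟩⟩ y ⟨Ω', _, _, η', hη', hne⟩
    by_contra hy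
    refine hne ((isZero_stalk_push_of_not_mem_range f η' F ?_).of_iso ((EtCoh.stalk η').mapIso e.symm))
    have : η' (IsLocalRing.closedPoint Ω') = y := (Set.ext_iff.1 hη' _).1 ⟨_, rfl⟩
    rwa [this]
  · intro h
    suffices IsIso ((EtCoh.pullPushAdj f).unit.app G) from
      ⟨_, ⟨(asIso ((EtCoh.pullPushAdj f).unit.app G)).symm⟩⟩
    refine isIso_of_exists_stalk _ fun y => ?_
    obtain ⟨η', hη'⟩ := exists_algClosed_pt (Y := Y) y
    refine ⟨_, inferInstance, inferInstance, η', hη', ?_⟩
    have hc : η' (IsLocalRing.closedPoint (AlgebraicClosure (Y.residueField y))) = y :=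
      (congrArg η'.base (point_eq _).symm).trans hη'
    by_cases hy : y ∈ Set.range f.base
    · obtain ⟨ξ', hξ'⟩ := exists_lift_of_mem_range f η' (by rwa [hc])
      subst hξ'
      exact isIso_stalk_unit_of_univInj f ξ' G
    · have ht := isZero_stalk_push_of_not_mem_range f η' ((EtCoh.pull f).obj G) (by rwa [hc])
      have hs : IsZero ((EtCoh.stalk η').obj G) := by
        by_contra hne
        exact hy (h ⟨_, inferInstance, inferInstance, η', by rw [range_eq_pt]; exact congrArg _ hc, hne⟩)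
      exact ⟨⟨0, hs.eq_of_src _ _, ht.eq_of_src _ _⟩⟩

end Groth.Agent.EtSite
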