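import Groth.Agent.EtSite.PullStalk
import Mathlib.CategoryTheory.Adjunction.FullyFaithful

/-!
# Stalks of direct images

The canonical map `(f_* G)_{ξ ≫ f} ⟶ G_ξ`, and a criterion for it to be bijective.
-/

set_option autoImplicit false
universe u

open CategoryTheory CategoryTheory.Limits AlgebraicGeometry Opposite

namespace Groth.Agent.EtSite

variable {X Y : Scheme.{u}} (f : X ⟶ Y) {Ω : Type u} [Field Ω] [IsSepClosed Ω]
  (ξ : Spec (CommRingCat.of Ω) ⟶ X)

/-- The canonical map from the stalk of a direct image. -/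
noncomputable def pushStalkMap : EtCoh.push f ⋙ EtCoh.stalk (ξ ≫ f) ⟶ EtCoh.stalk ξ where
  app G := (stalkPullIso f ξ).hom.app ((EtCoh.push f).obj G) ≫
    (EtCoh.stalk ξ).map ((EtCoh.pullPushAdj f).counit.app G)
  naturality G G' a := by
    have h1 := (stalkPullIso f ξ).hom.naturality ((EtCoh.push f).map a)
    have h2 := (EtCoh.pullPushAdj f).counit.naturality a
    simp only [Functor.comp_map] at h1
    simp only [Functor.comp_map, Functor.id_map] at h2
    simp only [Functor.comp_map, reassoc_of% h1, Category.assoc]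
    rw [← Functor.map_comp, h2, Functor.map_comp]

theorem toPresheafFiber_pushStalkMap (G : EtCoh.Ab X) (V : Y.Etale)
    (t : (Scheme.pointSmallEtale (ξ ≫ f)).fiber.obj V) :
    (Scheme.pointSmallEtale (ξ ≫ f)).toPresheafFiber V t ((EtCoh.push f).obj G).obj ≫
        (pushStalkMap f ξ).app G =
      (Scheme.pointSmallEtale ξ).toPresheafFiber ((EtCoh.bc f).obj V) (bcPt f ξ V t) G.obj := by
  have h1 := toPresheafFiber_stalkPullIso_hom f ξ ((EtCoh.push f).obj G) V t
  have h2 := (Scheme.pointSmallEtale ξ).toPresheafFiber_naturality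
    ((EtCoh.pullPushAdj f).counit.app G).hom ((EtCoh.bc f).obj V) (bcPt f ξ V t)
  have h3 : ((EtCoh.pullPushAdj f).unit.app ((EtCoh.push f).obj G)).hom.app (op V) ≫
      ((EtCoh.pullPushAdj f).counit.app G).hom.app (op ((EtCoh.bc f).obj V)) = 𝟙 _ :=
    congrArg (fun m : (EtCoh.push f).obj G ⟶ (EtCoh.push f).obj G => m.hom.app (op V))
      ((EtCoh.pullPushAdj f).right_triangle_components G)
  refine (Category.assoc _ _ _).symm.trans ?_
  refine (congrArg (· ≫ (EtCoh.stalk ξ).map ((EtCoh.pullPushAdj f).counit.app G)) h1).trans ?_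
  refine (Category.assoc _ _ _).trans ?_
  refine (congrArg (CategoryStruct.comp _) h2).trans ?_
  refine (Category.assoc _ _ _).symm.trans ?_
  exact (congrArg (· ≫ _) h3).trans (Category.id_comp _)

theorem pushStalkMap_germ (G : EtCoh.Ab X) (V : Y.Etale)
    (t : (Scheme.pointSmallEtale (ξ ≫ f)).fiber.obj V) (z : EtCoh.sect ((EtCoh.push f).obj G) V) :
    (pushStalkMap f ξ).app G
        ((Scheme.pointSmallEtale (ξ ≫ f)).toPresheafFiber V t ((EtCoh.push f).obj G).obj z) =
      (Scheme.pointSmallEtale ξ).toPresheafFiber ((EtCoh.bc f).obj V) (bcPt f ξ V t) G.obj z :=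
  ConcreteCategory.congr_hom (toPresheafFiber_pushStalkMap f ξ G V t) z

/-- Étale neighbourhoods of `ξ` over a base change are refined by base changes. -/
def Lifts : Prop :=
  ∀ (V : Y.Etale) (t : (Scheme.pointSmallEtale (ξ ≫ f)).fiber.obj V) (U : X.Etale)
    (g : U ⟶ (EtCoh.bc f).obj V) (u : (Scheme.pointSmallEtale ξ).fiber.obj U),
    (Scheme.pointSmallEtale ξ).fiber.map g u = bcPt f ξ V t →
      ∃ (V' : Y.Etale) (π : V' ⟶ V) (t' : (Scheme.pointSmallEtale (ξ ≫ f)).fiber.obj V')
        (φ : (EtCoh.bc f).obj V' ⟶ U),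
        (Scheme.pointSmallEtale (ξ ≫ f)).fiber.map π t' = t ∧ φ ≫ g = (EtCoh.bc f).map π ∧
          (Scheme.pointSmallEtale ξ).fiber.map φ (bcPt f ξ V' t') = u

theorem pushStalkMap_bijective (h : Lifts f ξ) (G : EtCoh.Ab X) :
    Function.Bijective ((pushStalkMap f ξ).app G) := by
  let Φ := Scheme.pointSmallEtale (ξ ≫ f)
  let Ψ := Scheme.pointSmallEtale ξ
  refine ⟨?_, ?_⟩
  · rw [injective_iff_map_eq_zero]
    intro p hp
    obtain ⟨V, t, z, rfl⟩ := Φ.toPresheafFiber_jointly_surjective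
      (P := ((EtCoh.push f).obj G).obj) p
    replace hp := ((pushStalkMap_germ f ξ G V t z).symm.trans hp).trans
      (map_zero (Ψ.toPresheafFiber ((EtCoh.bc f).obj V) (bcPt f ξ V t) G.obj).hom).symm
    obtain ⟨U, g, u, hu, hgz⟩ := (Ψ.toPresheafFiber_eq_iff' _ _ _ _).1 hp
    obtain ⟨V', π, t', φ, hπ, hφ, -⟩ := h V t U g u hu
    refine Eq.trans ((Φ.toPresheafFiber_eq_iff' V t z 0).2 ⟨V', π, t', hπ, ?_⟩)
      (map_zero (Φ.toPresheafFiber V t ((EtCoh.push f).obj G).obj).hom)
    show G.obj.map ((EtCoh.bc f).map π).op z = G.obj.map ((EtCoh.bc f).map π).op 0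
    rw [← hφ, op_comp, Functor.map_comp_apply, Functor.map_comp_apply, hgz]
  · intro p
    obtain ⟨U, u, z, rfl⟩ := Ψ.toPresheafFiber_jointly_surjective (P := G.obj) p
    have hT : IsTerminal ((EtCoh.bc f).obj (EtCoh.top Y)) :=
      IsTerminal.isTerminalObj (EtCoh.bc f) _
        (IsTerminal.isTerminalOfObj (Scheme.Etale.forget Y) (EtCoh.top Y) Over.mkIdTerminal)
    have := Ψ.uniqueFiberObj _ hT
    obtain ⟨V', π, t', φ, -, -, hu⟩ := h (EtCoh.top Y)
      (Over.homMk (ξ ≫ f) (Category.comp_id _)) U (hT.from U) u (Subsingleton.elim _ _)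
    refine ⟨Φ.toPresheafFiber V' t' ((EtCoh.push f).obj G).obj (G.obj.map φ.op z), ?_⟩
    rw [pushStalkMap_germ, Ψ.toPresheafFiber_w_apply, hu]

theorem isIso_pushStalkMap (h : Lifts f ξ) (G : EtCoh.Ab X) : IsIso ((pushStalkMap f ξ).app G) :=
  (ConcreteCategory.isIso_iff_bijective _).2 (pushStalkMap_bijective f ξ h G)

/-- The counit is an isomorphism on the stalk at `ξ`. -/
theorem isIso_stalk_counit (h : Lifts f ξ) (G : EtCoh.Ab X) :
    IsIso ((EtCoh.stalk ξ).map ((EtCoh.pullPushAdj f).counit.app G)) := by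
  have := isIso_pushStalkMap f ξ h G
  have : IsIso ((stalkPullIso f ξ).hom.app ((EtCoh.push f).obj G) ≫
      (EtCoh.stalk ξ).map ((EtCoh.pullPushAdj f).counit.app G)) :=
    isIso_pushStalkMap f ξ h G
  exact IsIso.of_isIso_comp_left ((stalkPullIso f ξ).hom.app ((EtCoh.push f).obj G)) _

/-- The unit is an isomorphism on the stalk at `ξ ≫ f`. -/
theorem isIso_stalk_unit (h : Lifts f ξ) (F : EtCoh.Ab Y) :
    IsIso ((EtCoh.stalk (ξ ≫ f)).map ((EtCoh.pullPushAdj f).unit.app F)) := by
  have := isIso_pushStalkMap f ξ h ((EtCoh.pull f).obj F)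
  have e : (EtCoh.stalk (ξ ≫ f)).map ((EtCoh.pullPushAdj f).unit.app F) ≫
      (pushStalkMap f ξ).app ((EtCoh.pull f).obj F) = (stalkPullIso f ξ).hom.app F := by
    have h1 := (stalkPullIso f ξ).hom.naturality ((EtCoh.pullPushAdj f).unit.app F)
    simp only [Functor.comp_map, Functor.comp_obj] at h1
    change _ ≫ _ ≫ _ = _
    rw [reassoc_of% h1, ← Functor.map_comp, Adjunction.left_triangle_components]
    erw [CategoryTheory.Functor.map_id]
    exact Category.comp_id _
  exact IsIso.of_isIso_fac_right e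

/-- Sections over an object with empty underlying scheme are trivial. -/
theorem subsingleton_sect_of_isEmpty (G : EtCoh.Ab X) (U : X.Etale) [IsEmpty U.left] :
    Subsingleton (EtCoh.sect G U) :=
  ⟨fun a b => Presheaf.IsSheaf.isSeparated G.property U _
    (mem_smallEtaleTopology_of_points U ⊥ fun x => isEmptyElim x) a b fun _ _ h => h.elim⟩

theorem isZero_stalk_of_forall {Ω : Type u} [Field Ω] [IsSepClosed Ω]
    (η : Spec (CommRingCat.of Ω) ⟶ Y) (F : EtCoh.Ab Y)
    (h : ∀ (V : Y.Etale) (t : (Scheme.pointSmallEtale η).fiber.obj V),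
      ∃ (V' : Y.Etale) (π : V' ⟶ V) (t' : (Scheme.pointSmallEtale η).fiber.obj V'),
        (Scheme.pointSmallEtale η).fiber.map π t' = t ∧ Subsingleton (EtCoh.sect F V')) :
    IsZero ((EtCoh.stalk η).obj F) := by
  have : Subsingleton ((EtCoh.stalk η).obj F) := by
    refine subsingleton_of_forall_eq 0 fun p => ?_
    obtain ⟨V, t, z, rfl⟩ := (Scheme.pointSmallEtale η).toPresheafFiber_jointly_surjective
      (P := F.obj) p
    obtain ⟨V', π, t', ht', hs⟩ := h V t
    exact (((Scheme.pointSmallEtale η).toPresheafFiber_eq_iff' V t z 0).2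
      ⟨V', π, t', ht', Subsingleton.elim _ _⟩).trans
      (map_zero ((Scheme.pointSmallEtale η).toPresheafFiber V t F.obj).hom)
  exact AddCommGrpCat.isZero_of_subsingleton _

end Groth.Agent.EtSite
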