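import Mathlib

/-!
# Splitting quasi-finite algebras over a product of algebraically closed fields
-/

set_option autoImplicit false
universe u

open TensorProduct PrimeSpectrum

namespace Groth.Agent.EtSite.QuasiFiniteSplit

variable (A B : Type u) [CommRing A] [CommRing B] [Algebra A B] [Algebra.FiniteType A B]
  [Algebra.QuasiFinite A B]

/-- The number of homomorphisms into a field is uniformly bounded. -/
theorem exists_bound : ∃ N : ℕ, ∀ (k : Type u) [Field k] [Algebra A k],
    Finite (B →ₐ[A] k) ∧ Nat.card (B →ₐ[A] k) ≤ N := by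
  classical
  obtain ⟨s, hs⟩ := Algebra.FiniteType.out (R := A) (A := B)
  have key : ∀ q : PrimeSpectrum B, ∃ r : B, r ∉ q.asIdeal ∧ IsIntegral A r ∧
      ∀ x, ∃ m, IsIntegral A (r ^ m * x) := fun q =>
    Algebra.zariskisMainProperty_iff.1 (Algebra.ZariskisMainProperty.of_finiteType q.asIdeal)
  choose r hr hri m hm using key
  obtain ⟨T, hT⟩ := isCompact_univ.elim_finite_subcover (fun q : PrimeSpectrum B => (basicOpen (r q) : Set (PrimeSpectrum B)))
    (fun q => (basicOpen (r q)).isOpen) fun q _ => Set.mem_iUnion.2 ⟨q, hr q⟩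
  choose P hP using fun q => hri q
  choose Q hQ using fun q x => hm q x
  refine ⟨∑ q ∈ T, (P q).natDegree * ∏ x ∈ s, (Q q x).natDegree, fun k _ _ => ?_⟩
  let V : (q : T) → Type u := fun q =>
    {a : k // a ∈ ((P q.1).map (algebraMap A k)).roots.toFinset} ×
      ((x : s) → {a : k // a ∈ ((Q q.1 x.1).map (algebraMap A k)).roots.toFinset})
  have hroot : ∀ (g : B →ₐ[A] k) (p : Polynomial A) (b : B), p.Monic → Polynomial.eval₂ (algebraMap A B) b p = 0 →
      g b ∈ (p.map (algebraMap A k)).roots.toFinset := by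
    intro g p b hp hb
    rw [Multiset.mem_toFinset, Polynomial.mem_roots (hp.map _).ne_zero, Polynomial.IsRoot,
      Polynomial.eval_map, ← g.comp_algebraMap]
    exact (Polynomial.hom_eval₂ p (algebraMap A B) g.toRingHom b).symm.trans (by rw [hb, map_zero])
  have hex : ∀ g : B →ₐ[A] k, ∃ q : T, g (r q.1) ≠ 0 := fun g => by
    obtain ⟨q, hq, hq'⟩ := Set.mem_iUnion₂.1 (hT (Set.mem_univ
      (⟨RingHom.ker g.toRingHom, RingHom.ker_isPrime _⟩ : PrimeSpectrum B)))
    exact ⟨⟨q, hq⟩, hq'⟩
  choose c hc using hex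
  let F : (B →ₐ[A] k) → Σ q : T, V q := fun g =>
    ⟨c g, ⟨g (r (c g).1), hroot g _ _ (hP _).1 (hP _).2⟩,
      fun x => ⟨g (r (c g).1 ^ m (c g).1 x.1 * x.1), hroot g _ _ (hQ _ _).1 (hQ _ _).2⟩⟩
  have hF : Function.Injective F := by
    intro g g' h
    have hq : ∀ (g : B →ₐ[A] k), g (r (F g).1.1) = (F g).2.1.1 := fun _ => rfl
    have h1 : g' (r (F g).1.1) = g (r (F g).1.1) := by
      rw [hq g]; rw [h]
    have h2 : ∀ x : s, g' (r (F g).1.1 ^ m (F g).1.1 x.1 * x.1) = g (r (F g).1.1 ^ m (F g).1.1 x.1 * x.1) := by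
      intro x
      change _ = ((F g).2.2 x).1
      rw [h]
    refine AlgHom.ext_of_adjoin_eq_top hs fun x hx => ?_
    have := h2 ⟨x, hx⟩
    rw [map_mul, map_mul, map_pow, map_pow, h1] at this
    exact (mul_left_cancel₀ (pow_ne_zero _ (hc g)) this).symm
  refine ⟨Finite.of_injective F hF, (Nat.card_le_card_of_injective F hF).trans ?_⟩
  rw [Nat.card_sigma, ← Finset.sum_coe_sort T]
  refine Finset.sum_le_sum fun q _ => ?_
  have hcard : ∀ p : Polynomial A, Nat.card {a : k // a ∈ (p.map (algebraMap A k)).roots.toFinset} ≤ p.natDegree :=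
    fun p => (Nat.card_eq_finsetCard _).le.trans ((Multiset.toFinset_card_le _).trans
      ((Polynomial.card_roots' _).trans Polynomial.natDegree_map_le))
  rw [Nat.card_prod, Nat.card_pi, ← Finset.prod_coe_sort s]
  exact Nat.mul_le_mul (hcard _) (Finset.prod_le_prod (fun x _ => Nat.zero_le _) fun x _ => hcard _)

/-- The index set: the primes of `A`. -/
abbrev K (p : PrimeSpectrum A) : Type u := AlgebraicClosure p.asIdeal.ResidueField

/-- The product of the algebraic closures of all residue fields. -/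
abbrev R : Type u := ∀ p : PrimeSpectrum A, K A p

theorem comap_R_surjective : Function.Surjective (PrimeSpectrum.comap (algebraMap A (R A))) := by
  intro p
  refine ⟨⟨RingHom.ker (Pi.evalRingHom (fun q : PrimeSpectrum A => K A q) p), RingHom.ker_isPrime _⟩,
    PrimeSpectrum.ext ?_⟩
  ext a
  change algebraMap A (K A p) a = 0 ↔ _
  rw [IsScalarTower.algebraMap_apply A p.asIdeal.ResidueField (K A p), map_eq_zero,
    Ideal.algebraMap_residueField_eq_zero]

/-- Constructible subsets of the spectrum of a product of fields are clopen. -/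
theorem isClopen_of_isConstructible {s : Set (PrimeSpectrum (R A))} (hs : Topology.IsConstructible s) :
    IsClopen s := by
  classical
  have hb : ∀ f : R A, IsClopen (basicOpen f : Set (PrimeSpectrum (R A))) := by
    intro f
    refine ⟨?_, (basicOpen f).isOpen⟩
    let e : R A := fun p => if f p = 0 then 1 else 0
    have : (basicOpen f : Set (PrimeSpectrum (R A))) = (basicOpen e : Set (PrimeSpectrum (R A)))ᶜ := by
      ext q
      change f ∉ q.asIdeal ↔ ¬ e ∉ q.asIdeal
      rw [not_not]
      refine ⟨fun hf => (q.isPrime.mem_or_mem (show f * e ∈ q.asIdeal from ?_)).resolve_left hf, fun he hf => ?_⟩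
      · rw [show f * e = 0 from funext fun p => by by_cases h : f p = 0 <;> simp [e, h]]
        exact q.asIdeal.zero_mem
      · refine q.isPrime.ne_top ((Ideal.eq_top_iff_one _).2 ?_)
        have : (1 : R A) = e + f * (fun p => (f p)⁻¹) := funext fun p => by
          by_cases h : f p = 0 <;> simp [e, h]
        rw [this]
        exact q.asIdeal.add_mem he (q.asIdeal.mul_mem_right _ hf)
    rw [this]
    exact (basicOpen e).isOpen.isClosed_compl
  induction hs using Topology.IsConstructible.empty_union_induction with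
  | open_retrocompact U hUo hUc =>
    obtain ⟨t, ht, rfl⟩ := PrimeSpectrum.isCompact_isOpen_iff.1 ⟨hUc.isCompact, hUo⟩
    have : (zeroLocus (t : Set (R A)))ᶜ = ⋃ f ∈ t, (basicOpen f : Set (PrimeSpectrum (R A))) := by
      ext q; simp [Set.not_subset]
    rw [this]
    exact isClopen_biUnion_finset fun f _ => hb f
  | union s _ t _ hs ht => exact hs.union ht
  | compl s _ hs => exact hs.compl

variable {A B} in
/-- A hom into an algebraically closed field avoiding a non-nilpotent element. -/
theorem exists_algHom_ne_zero {k T : Type u} [Field k] [IsAlgClosed k] [CommRing T] [Algebra k T]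
    [Algebra.FiniteType k T] {z : T} (hz : ¬ IsNilpotent z) : ∃ g : T →ₐ[k] k, g z ≠ 0 := by
  have hn : Nontrivial (Localization.Away z) := not_subsingleton_iff_nontrivial.1 fun h =>
    hz ((IsLocalization.subsingleton_iff (M := Submonoid.powers z)).1 h)
  obtain ⟨M, hM⟩ := Ideal.exists_maximal (Localization.Away z)
  let _ := Ideal.Quotient.field M
  have : Module.Finite k (Localization.Away z ⧸ M) := finite_of_finite_type_of_isJacobsonRing k _
  let g₀ : (Localization.Away z ⧸ M) →ₐ[k] k := IsAlgClosed.lift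
  let g := g₀.comp ((Ideal.Quotient.mkₐ k M).comp (IsScalarTower.toAlgHom k T (Localization.Away z)))
  refine ⟨g, fun h => ?_⟩
  have hu : IsUnit (g z) := ((IsLocalization.Away.algebraMap_isUnit z).map (Ideal.Quotient.mkₐ k M)).map g₀
  exact hu.ne_zero h

variable [Algebra.FinitePresentation A B]

/-- After base change to `R`, the reduced quasi-finite algebra is finite étale. -/
theorem exists_split : ∃ (C : Type u) (_ : CommRing C) (_ : Algebra (R A) C)
    (Φ : R A ⊗[A] B →ₐ[R A] C), Module.Finite (R A) C ∧ Algebra.Etale (R A) C ∧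
      Function.Surjective Φ ∧ ∀ z, Φ z = 0 → IsNilpotent z := by
  classical
  obtain ⟨N, hN⟩ := exists_bound A B
  have hfin := fun p : PrimeSpectrum A => (hN (K A p)).1
  let n : PrimeSpectrum A → ℕ := fun p => Nat.card (B →ₐ[A] K A p)
  let en : ∀ p, (B →ₐ[A] K A p) ≃ Fin (n p) := fun p => Finite.equivFin _
  let S : Fin N → Set (PrimeSpectrum A) := fun i => {p | i.1 < n p}
  let C : Fin N → Type u := fun i => ∀ p : S i, K A p.1
  let gs : ∀ i : Fin N, ∀ p : S i, B →ₐ[A] K A p.1 := fun i p => (en p.1).symm ⟨i.1, p.2⟩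
  let res : ∀ i : Fin N, R A →+* C i := fun i =>
    RingHom.pi fun p : S i => Pi.evalRingHom (fun q : PrimeSpectrum A => K A q) p.1
  let _ : ∀ i, Algebra (R A) (C i) := fun i => (res i).toAlgebra
  have : ∀ i, IsScalarTower A (R A) (C i) := fun i => .of_algebraMap_eq fun a => rfl
  have hsurj : ∀ i, Function.Surjective (algebraMap (R A) (C i)) := fun i v =>
    ⟨fun p => if h : i.1 < n p then v ⟨p, h⟩ else 0, funext fun p => dif_pos p.2⟩
  have : ∀ i, Algebra.Etale (R A) (C i) := fun i => by
    let e : R A := fun p => if i.1 < n p then 1 else 0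
    have he : IsIdempotentElem e := funext fun p => by by_cases h : i.1 < n p <;> simp [e, h]
    have : IsLocalization.Away e (C i) := IsLocalization.away_of_isIdempotentElem he (by
      ext v
      rw [RingHom.mem_ker, Ideal.mem_span_singleton]
      refine ⟨fun h => ⟨v, funext fun p => ?_⟩, fun ⟨w, hw⟩ => funext fun p => ?_⟩
      · by_cases hp : i.1 < n p
        · have h0 : v p = 0 := congrFun h ⟨p, hp⟩
          simp [e, hp, h0]
        · simp [e, hp]
      · have hp : i.1 < n p.1 := p.2
        change v p.1 = 0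
        simp [hw, e, hp]) (hsurj i)
    exact Algebra.Etale.of_isLocalizationAway e
  have : ∀ i, Module.Finite (R A) (C i) := fun i =>
    Module.Finite.of_surjective (Algebra.linearMap (R A) (C i)) (hsurj i)
  let ψ : B →ₐ[A] ∀ i, C i := AlgHom.pi fun i => AlgHom.pi fun p => gs i p
  let Φ : R A ⊗[A] B →ₐ[R A] ∀ i, C i := Algebra.TensorProduct.lift (Algebra.ofId _ _) ψ fun _ _ => .all _ _
  have hΦ : ∀ (a : R A) (b : B) (i : Fin N) (p : S i), Φ (a ⊗ₜ b) i p = a p.1 * gs i p b :=
    fun a b i p => rfl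
  have hΦa : ∀ (a : R A) (i : Fin N) (p : S i), algebraMap (R A) (∀ i, C i) a i p = a p.1 :=
    fun a i p => rfl
  refine ⟨∀ i, C i, inferInstance, inferInstance, Φ, inferInstance, inferInstance, ?_, ?_⟩
  · obtain ⟨s, hs⟩ := Algebra.FiniteType.out (R := A) (A := B)
    have sep : ∀ i j : Fin N, ∃ f : R A ⊗[A] B, ∀ (l : Fin N) (p : S l),
        (i.1 < n p.1 → l = i → (j = i ∨ Φ f l p = 1)) ∧ (l = j → j ≠ i → Φ f l p = 0) ∧
        (¬ i.1 < n p.1 → Φ f l p = 0) := by
      intro i j
      by_cases hij : j = i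
      · exact ⟨(fun p => if i.1 < n p then 1 else 0) ⊗ₜ 1, fun l p =>
          ⟨fun _ _ => .inl hij, fun _ h => absurd hij h, fun h => by rw [hΦ]; simp [h]⟩⟩
      have hb : ∀ p : PrimeSpectrum A, ∃ (a : B → K A p) (c : K A p),
          (i.1 < n p → ∀ hi : i.1 < n p, (∑ b ∈ s, a b * (en p).symm ⟨i.1, hi⟩ b) + c = 1) ∧
          (∀ hj : j.1 < n p, (∑ b ∈ s, a b * (en p).symm ⟨j.1, hj⟩ b) + c = 0) ∧
          (¬ i.1 < n p → (∀ b, a b = 0) ∧ c = 0) := by
        intro p
        by_cases hi : i.1 < n p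
        · by_cases hj : j.1 < n p
          · have hne : (en p).symm ⟨i.1, hi⟩ ≠ (en p).symm ⟨j.1, hj⟩ := fun h =>
              hij (Fin.ext (Fin.mk.inj_iff.1 ((en p).symm.injective h)).symm)
            obtain ⟨b₀, hb₀, hne'⟩ : ∃ b₀ ∈ s, (en p).symm ⟨i.1, hi⟩ b₀ ≠ (en p).symm ⟨j.1, hj⟩ b₀ := by
              by_contra! h
              exact hne (AlgHom.ext_of_adjoin_eq_top hs fun x hx => h x hx)
            let d := ((en p).symm ⟨i.1, hi⟩ b₀ - (en p).symm ⟨j.1, hj⟩ b₀)⁻¹
            refine ⟨fun b => if b = b₀ then d else 0, -(d * (en p).symm ⟨j.1, hj⟩ b₀), ?_, ?_, fun h => absurd hi h⟩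
            · intro _ _
              simp only [ite_mul, zero_mul, Finset.sum_ite_eq', if_pos hb₀]
              rw [← sub_eq_add_neg, ← mul_sub, inv_mul_cancel₀ (sub_ne_zero.2 hne')]
            · intro _
              simp only [ite_mul, zero_mul, Finset.sum_ite_eq', if_pos hb₀]
              rw [add_neg_cancel]
          · exact ⟨0, 1, fun _ _ => by simp, fun h => absurd h hj, fun h => absurd hi h⟩
        · exact ⟨0, 0, fun h => absurd h hi, fun _ => by simp, fun _ => ⟨fun _ => rfl, rfl⟩⟩
      choose a c h1 h2 h3 using hb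
      refine ⟨∑ b ∈ s, (fun p => a p b) ⊗ₜ b + c ⊗ₜ 1, fun l p => ?_⟩
      have hv : Φ (∑ b ∈ s, (fun p => a p b) ⊗ₜ b + c ⊗ₜ 1) l p =
          (∑ b ∈ s, a p.1 b * gs l p b) + c p.1 := by
        rw [map_add, map_sum, Pi.add_apply, Finset.sum_apply]
        refine (Pi.add_apply _ _ p).trans ?_
        rw [Finset.sum_apply, hΦ, map_one, mul_one]
        rfl
      rw [hv]
      refine ⟨fun hi hl => ?_, fun hl _ => ?_, fun hi => by simp [h3 p.1 hi]⟩
      · subst hl; exact .inr (h1 p.1 hi hi)
      · subst hl; exact h2 p.1 p.2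
    choose f hf using sep
    have hδ : ∀ i l : Fin N, ∀ p : S l, Φ ((fun q => if i.1 < n q then 1 else 0) ⊗ₜ 1 *
        ∏ j ∈ Finset.univ.erase i, f i j) l p = if l = i then 1 else 0 := by
      intro i l p
      rw [map_mul, map_prod, Pi.mul_apply, Pi.mul_apply, Finset.prod_apply, Finset.prod_apply, hΦ,
        map_one, mul_one]
      by_cases hl : l = i
      · have hi : i.1 < n p.1 := hl ▸ p.2
        rw [if_pos hl, if_pos hi, one_mul]
        exact Finset.prod_eq_one fun j hj =>
          ((hf i j l p).1 hi hl).resolve_left (Finset.ne_of_mem_erase hj)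
      · rw [if_neg hl]
        refine mul_eq_zero_of_right _ (Finset.prod_eq_zero (Finset.mem_erase.2 ⟨hl, Finset.mem_univ l⟩) ?_)
        exact (hf i l l p).2.1 rfl hl
    intro v
    choose w hw using fun i => hsurj i (v i)
    refine ⟨∑ i, algebraMap (R A) _ (w i) * ((fun q => if i.1 < n q then 1 else 0) ⊗ₜ 1 *
        ∏ j ∈ Finset.univ.erase i, f i j), funext fun l => funext fun p => ?_⟩
    rw [map_sum, Finset.sum_apply, Finset.sum_apply, Finset.sum_eq_single l]
    · rw [map_mul, AlgHom.commutes, Pi.mul_apply, Pi.mul_apply, hδ, if_pos rfl, mul_one, hΦa]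
      exact congrFun (hw l) p
    · intro i _ hi
      rw [map_mul, Pi.mul_apply, Pi.mul_apply, hδ, if_neg (Ne.symm hi), mul_zero]
    · exact fun h => absurd (Finset.mem_univ l) h
  · intro z hz
    by_contra hnil
    obtain ⟨Q, hQ⟩ : (basicOpen z : Set (PrimeSpectrum (R A ⊗[A] B))).Nonempty := by
      rw [Set.nonempty_iff_ne_empty]
      intro h
      exact hnil ((PrimeSpectrum.basicOpen_eq_bot_iff z).1 (TopologicalSpace.Opens.ext h))
    have hfp : (algebraMap (R A) (R A ⊗[A] B)).FinitePresentation :=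
      RingHom.finitePresentation_algebraMap.mpr inferInstance
    have hopen := (isClopen_of_isConstructible A (isConstructible_comap_image hfp
      ((PrimeSpectrum.isCompact_basicOpen z).isConstructible (basicOpen z).isOpen))).2
    obtain ⟨_, ⟨e, rfl⟩, he, hsub⟩ := PrimeSpectrum.isTopologicalBasis_basic_opens.isOpen_iff.1 hopen
      _ ⟨Q, hQ, rfl⟩
    obtain ⟨p, hp⟩ : ∃ p, e p ≠ 0 := by
      by_contra! h
      exact he (by rw [show e = 0 from funext h]; exact Ideal.zero_mem _)
    obtain ⟨Q', hQ', hQp⟩ := hsub (show (⟨RingHom.ker (Pi.evalRingHom (fun q : PrimeSpectrum A => K A q) p),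
      RingHom.ker_isPrime _⟩ : PrimeSpectrum (R A)) ∈ (basicOpen e : Set _) from hp)
    let π : R A ⊗[A] B →+* (R A ⊗[A] B) ⧸ Q'.asIdeal := Ideal.Quotient.mk _
    have hev : Function.Surjective (Pi.evalRingHom (fun q : PrimeSpectrum A => K A q) p) :=
      fun v => ⟨Pi.single p v, Pi.single_eq_same p v⟩
    let ι : K A p →+* (R A ⊗[A] B) ⧸ Q'.asIdeal :=
      (Pi.evalRingHom (fun q : PrimeSpectrum A => K A q) p).liftOfSurjective hev
        ⟨π.comp (algebraMap (R A) _), fun a ha => Ideal.Quotient.eq_zero_iff_mem.2 (by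
          have : a ∈ (PrimeSpectrum.comap (algebraMap (R A) (R A ⊗[A] B)) Q').asIdeal := by
            rw [hQp]; exact ha
          exact this)⟩
    have hι : ∀ a : R A, ι (a p) = π (algebraMap (R A) _ a) := fun a =>
      RingHom.liftOfRightInverse_comp_apply _ _ _ _ a
    let _ : Algebra (K A p) ((R A ⊗[A] B) ⧸ Q'.asIdeal) := ι.toAlgebra
    let _ : Algebra (R A) (K A p) := (Pi.evalRingHom (fun q : PrimeSpectrum A => K A q) p).toAlgebra
    have : IsScalarTower (R A) (K A p) ((R A ⊗[A] B) ⧸ Q'.asIdeal) :=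
      .of_algebraMap_eq fun a => (hι a).symm
    have : Algebra.FiniteType (K A p) ((R A ⊗[A] B) ⧸ Q'.asIdeal) :=
      Algebra.FiniteType.of_restrictScalars_finiteType (R A) _ _
    obtain ⟨g, hg⟩ := exists_algHom_ne_zero (k := K A p) (z := π z) fun h =>
      hQ' (Ideal.Quotient.eq_zero_iff_mem.1 h.eq_zero)
    let h₀ : B →ₐ[A] K A p :=
      { toRingHom := g.toRingHom.comp (π.comp (Algebra.TensorProduct.includeRight (R := A) (A := R A)).toRingHom)
        commutes' := fun a => by
          change g (π ((1 : R A) ⊗ₜ[A] algebraMap A B a)) = _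
          rw [← Algebra.TensorProduct.tmul_one_eq_one_tmul]
          change g (π (algebraMap (R A) (R A ⊗[A] B) (algebraMap A (R A) a))) = _
          rw [← hι]
          exact g.commutes _ }
    have hn : n p ≤ N := (hN (K A p)).2
    let i : Fin N := ⟨(en p h₀).1, (en p h₀).2.trans_le hn⟩
    have hi : p ∈ S i := (en p h₀).2
    have hgs : gs i ⟨p, hi⟩ = h₀ := (en p).symm_apply_apply h₀
    let G : R A ⊗[A] B →+* K A p := g.toRingHom.comp π
    have key : ∀ w : R A ⊗[A] B, G w = Φ w i ⟨p, hi⟩ := by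
      intro w
      induction w using TensorProduct.induction_on with
      | zero => rw [map_zero, map_zero]; rfl
      | tmul a b =>
        rw [hΦ, hgs, show a ⊗ₜ[A] b = algebraMap (R A) _ a * (1 : R A) ⊗ₜ[A] b by simp, map_mul]
        congr 1
        change g (π (algebraMap (R A) _ a)) = _
        rw [← hι]
        exact g.commutes _
      | add x y hx hy => rw [map_add, map_add, hx, hy]; rfl
    exact hg ((key z).trans (by rw [hz]; rfl))

end Groth.Agent.EtSite.QuasiFiniteSplit
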