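import Groth.Agent.EtSite.Filtration
import Groth.Agent.EtSite.OpenImm
import Groth.Agent.EtSite.StrataACC
import Groth.Prelude.Def_W4c1etweilhu916Glue

/-!
# Recollement of abelian étale sheaves
-/

set_option autoImplicit false
set_option backward.isDefEq.respectTransparency.types false

universe u

open CategoryTheory CategoryTheory.Limits AlgebraicGeometry Opposite

namespace Groth.Agent.EtSite.Recollement

variable {X Z U : Scheme.{u}} (i : Z ⟶ X) [IsClosedImmersion i] (j : U ⟶ X) [IsOpenImmersion j]
  (hZU : Set.range j.base = (Set.range i.base)ᶜ)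

include hZU in
theorem mem_or (x : X) : x ∈ Set.range i.base ∨ x ∈ Set.range j.base := by
  rw [hZU]; exact em _

include hZU in
theorem isIso_of_pulls {F G : EtCoh.Ab X} (a : F ⟶ G) [IsIso ((EtCoh.pull i).map a)]
    [IsIso ((EtCoh.pull j).map a)] : IsIso a :=
  isIso_of_stalks _ fun Ω _ _ ξ => by
    rcases mem_or i j hZU (ξ default) with h | h
    · obtain ⟨η, rfl⟩ := StrataACC.exists_lift_immersion i ξ h
      exact (NatIso.isIso_map_iff (stalkPullIso i η) _).2
        (inferInstanceAs (IsIso ((EtCoh.stalk η).map ((EtCoh.pull i).map a))))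
    · obtain ⟨η, rfl⟩ := StrataACC.exists_lift_immersion j ξ h
      exact (NatIso.isIso_map_iff (stalkPullIso j η) _).2
        (inferInstanceAs (IsIso ((EtCoh.stalk η).map ((EtCoh.pull j).map a))))

include hZU in
theorem eq_of_pulls {F G : EtCoh.Ab X} {a b : F ⟶ G} (hi : (EtCoh.pull i).map a = (EtCoh.pull i).map b)
    (hj : (EtCoh.pull j).map a = (EtCoh.pull j).map b) : a = b := by
  let k := kernel.ι (a - b)
  have h1 : (EtCoh.pull i).map (a - b) = 0 := by rw [Functor.map_sub, hi, sub_self]
  have h2 : (EtCoh.pull j).map (a - b) = 0 := by rw [Functor.map_sub, hj, sub_self]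
  have : IsIso ((EtCoh.pull i).map k) :=
    ((isLimitForkMapOfIsLimit' (EtCoh.pull i) (kernel.condition (a - b)) (kernelIsKernel _))
      |> fun l => KernelFork.IsLimit.isIso_ι _ l h1)
  have : IsIso ((EtCoh.pull j).map k) :=
    ((isLimitForkMapOfIsLimit' (EtCoh.pull j) (kernel.condition (a - b)) (kernelIsKernel _))
      |> fun l => KernelFork.IsLimit.isIso_ι _ l h2)
  have := isIso_of_pulls i j hZU k
  exact sub_eq_zero.1 ((cancel_epi k).1 ((kernel.condition _).trans comp_zero.symm))

include hZU in
theorem isZero_pull_push (G : EtCoh.Ab Z) : IsZero ((EtCoh.pull j).obj ((EtCoh.push i).obj G)) := by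
  rw [IsZero.iff_id_eq_zero]
  refine Filtration.eq_zero_of_stalks _ fun Ω _ _ η => ?_
  refine IsZero.eq_of_src ?_ _ _
  refine (isZero_stalk_push_outside i G (η ≫ j) (Filtration.disjoint_range (η ≫ j) ?_)).of_iso
    ((stalkPullIso j η).app _).symm
  intro h
  have : (η ≫ j) default ∈ Set.range j.base := ⟨η default, (Scheme.Hom.comp_apply _ _ _).symm⟩
  rw [hZU] at this
  exact this h

variable (T : Comma (𝟭 (EtCoh.Ab Z)) (EtCoh.push j ⋙ EtCoh.pull i))

/-- The glued sheaf. -/
noncomputable abbrev glue : EtCoh.Ab X :=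
  pullback ((EtCoh.push i).map T.hom) ((EtCoh.pullPushAdj i).unit.app ((EtCoh.push j).obj T.right))

/-- Restriction of the glued sheaf to the closed part. -/
noncomputable abbrev toLeft : (EtCoh.pull i).obj (glue i j T) ⟶ T.left :=
  (EtCoh.pull i).map (pullback.fst _ _) ≫ (EtCoh.pullPushAdj i).counit.app T.left

/-- Restriction of the glued sheaf to the open part. -/
noncomputable abbrev toRight : (EtCoh.pull j).obj (glue i j T) ⟶ T.right :=
  (EtCoh.pull j).map (pullback.snd _ _) ≫ (EtCoh.pullPushAdj j).counit.app T.right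

theorem isIso_toLeft : IsIso (toLeft i j T) := by
  have h := (IsPullback.of_hasPullback ((EtCoh.push i).map T.hom)
    ((EtCoh.pullPushAdj i).unit.app ((EtCoh.push j).obj T.right))).map (EtCoh.pull i)
  have := isIso_counit_closedImmersion i T.left
  have := isIso_counit_closedImmersion i ((EtCoh.pull i).obj ((EtCoh.push j).obj T.right))
  have : IsIso ((EtCoh.pull i).map ((EtCoh.pullPushAdj i).unit.app ((EtCoh.push j).obj T.right))) := by
    have ht := (EtCoh.pullPushAdj i).left_triangle_components ((EtCoh.push j).obj T.right)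
    have : IsIso ((EtCoh.pull i).map ((EtCoh.pullPushAdj i).unit.app ((EtCoh.push j).obj T.right)) ≫
        (EtCoh.pullPushAdj i).counit.app ((EtCoh.pull i).obj ((EtCoh.push j).obj T.right))) := by
      rw [ht]; exact IsIso.id _
    exact IsIso.of_isIso_comp_right _ ((EtCoh.pullPushAdj i).counit.app ((EtCoh.pull i).obj ((EtCoh.push j).obj T.right)))
  have := h.isIso_fst_of_isIso
  exact IsIso.comp_isIso

include hZU in
theorem isIso_toRight : IsIso (toRight i j T) := by
  have h := (IsPullback.of_hasPullback ((EtCoh.push i).map T.hom)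
    ((EtCoh.pullPushAdj i).unit.app ((EtCoh.push j).obj T.right))).map (EtCoh.pull j)
  have := isIso_counit_openImmersion j T.right
  have : IsIso ((EtCoh.pull j).map ((EtCoh.push i).map T.hom)) :=
    IsZero.isIso (isZero_pull_push i j hZU _) (isZero_pull_push i j hZU _) _
  have := h.isIso_snd_of_isIso
  exact IsIso.comp_isIso

theorem comm : toLeft i j T ≫ T.hom = (EtCoh.pull i).map ((EtCoh.pullPushAdj j).unit.app (glue i j T)) ≫
    (EtCoh.pull i).map ((EtCoh.push j).map (toRight i j T)) := by
  have h1 : toLeft i j T ≫ T.hom = (EtCoh.pull i).map (pullback.snd _ _) := by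
    refine (Category.assoc _ _ _).trans ?_
    rw [show (EtCoh.pullPushAdj i).counit.app T.left ≫ T.hom =
      (EtCoh.pull i).map ((EtCoh.push i).map T.hom) ≫ (EtCoh.pullPushAdj i).counit.app _ from
      ((EtCoh.pullPushAdj i).counit.naturality T.hom).symm, ← Category.assoc, ← Functor.map_comp,
      pullback.condition, Functor.map_comp, Category.assoc]
    exact (congrArg (_ ≫ ·) ((EtCoh.pullPushAdj i).left_triangle_components _)).trans (Category.comp_id _)
  have h2 : (EtCoh.pullPushAdj j).unit.app (glue i j T) ≫ (EtCoh.push j).map (toRight i j T) = pullback.snd _ _ := by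
    refine ((EtCoh.pullPushAdj j).homEquiv_unit _ _ _).symm.trans ?_
    refine (congrArg ((EtCoh.pullPushAdj j).homEquiv _ _) ((EtCoh.pullPushAdj j).homEquiv_counit _ _ _).symm).trans ?_
    exact Equiv.apply_symm_apply _ _
  rw [h1, ← Functor.map_comp]
  exact (congrArg (EtCoh.pull i).map h2).symm

variable {i j}

/-- The map to the glued sheaf given by a map to the triple. -/
noncomputable def liftGlue {F : EtCoh.Ab X} (m : (EtCore.recollTriple i j).obj F ⟶ T) : F ⟶ glue i j T :=
  pullback.lift ((EtCoh.pullPushAdj i).homEquiv F T.left m.left) ((EtCoh.pullPushAdj j).homEquiv F T.right m.right) (by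
    refine ((EtCoh.pullPushAdj i).homEquiv_naturality_right m.left T.hom).symm.trans ?_
    refine (congrArg ((EtCoh.pullPushAdj i).homEquiv F _) (m.w.trans ((EtCoh.pull i).map_comp _ _).symm)).trans ?_
    refine ((EtCoh.pullPushAdj i).homEquiv_unit _ _ _).trans ?_
    refine Eq.trans ?_ (congrArg (· ≫ _) ((EtCoh.pullPushAdj j).homEquiv_unit F T.right m.right)).symm
    exact ((EtCoh.pullPushAdj i).unit.naturality _).symm)

theorem liftGlue_left {F : EtCoh.Ab X} (m : (EtCore.recollTriple i j).obj F ⟶ T) :
    (EtCoh.pull i).map (liftGlue T m) ≫ toLeft i j T = m.left := by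
  rw [← Category.assoc, ← Functor.map_comp, liftGlue, pullback.lift_fst, ← Adjunction.homEquiv_counit,
    Equiv.symm_apply_apply]

theorem liftGlue_right {F : EtCoh.Ab X} (m : (EtCore.recollTriple i j).obj F ⟶ T) :
    (EtCoh.pull j).map (liftGlue T m) ≫ toRight i j T = m.right := by
  rw [← Category.assoc, ← Functor.map_comp, liftGlue, pullback.lift_snd, ← Adjunction.homEquiv_counit,
    Equiv.symm_apply_apply]

variable (i j)

include hZU in
theorem isEquivalence : (EtCore.recollTriple i j).IsEquivalence := by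
  have hF : (EtCore.recollTriple i j).Faithful := ⟨fun {F G a b} h =>
    eq_of_pulls i j hZU (congrArg CommaMorphism.left h) (congrArg CommaMorphism.right h)⟩
  have hFull : (EtCore.recollTriple i j).Full := ⟨fun {F G} m => by
    let T := (EtCore.recollTriple i j).obj G
    let v := liftGlue T (𝟙 T)
    have hl := isIso_toLeft i j T
    have hr := isIso_toRight i j hZU T
    have e1 : (EtCoh.pull i).map v ≫ toLeft i j T = 𝟙 _ := liftGlue_left T (𝟙 T)
    have e2 : (EtCoh.pull j).map v ≫ toRight i j T = 𝟙 _ := liftGlue_right T (𝟙 T)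
    have : IsIso ((EtCoh.pull i).map v) := by
      have : IsIso ((EtCoh.pull i).map v ≫ toLeft i j T) := by rw [e1]; exact IsIso.id _
      exact IsIso.of_isIso_comp_right _ (toLeft i j T)
    have : IsIso ((EtCoh.pull j).map v) := by
      have : IsIso ((EtCoh.pull j).map v ≫ toRight i j T) := by rw [e2]; exact IsIso.id _
      exact IsIso.of_isIso_comp_right _ (toRight i j T)
    have := isIso_of_pulls i j hZU v
    refine ⟨liftGlue T m ≫ inv v, CommaMorphism.ext ?_ ?_⟩
    · show (EtCoh.pull i).map (liftGlue T m ≫ inv v) = m.left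
      rw [Functor.map_comp, Functor.map_inv, ← liftGlue_left T m]
      exact congrArg (_ ≫ ·) (IsIso.inv_eq_of_hom_inv_id e1)
    · show (EtCoh.pull j).map (liftGlue T m ≫ inv v) = m.right
      rw [Functor.map_comp, Functor.map_inv, ← liftGlue_right T m]
      exact congrArg (_ ≫ ·) (IsIso.inv_eq_of_hom_inv_id e2)⟩
  have hE : (EtCore.recollTriple i j).EssSurj := ⟨fun T => by
    have hl := isIso_toLeft i j T
    have hr := isIso_toRight i j hZU T
    exact ⟨glue i j T, ⟨Comma.isoMk (@asIso _ _ _ _ (toLeft i j T) hl) (@asIso _ _ _ _ (toRight i j T) hr)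
      (comm i j T)⟩⟩⟩
  exact { faithful := hF, full := hFull, essSurj := hE }

end Groth.Agent.EtSite.Recollement
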