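import Groth.Agent.EtSite.Sheets
import Groth.Agent.EtSite.AllPoints
import Groth.Prelude.Def_CohProp
import Groth.Prelude.Def_EtOpen

/-!
# The sheaf represented by a finite étale scheme is finite locally constant
-/

set_option autoImplicit false
universe u

open CategoryTheory CategoryTheory.Limits AlgebraicGeometry Opposite

namespace Groth.Agent.EtSite.RepFLC

variable {X Y : Scheme.{u}} (f : X ⟶ Y) [Etale f] (c : Sheets.Chart f)

/-- A chart as an object of the small étale site. -/
noncomputable def chartObj : Y.Etale := @Scheme.Etale.mk Y c.V c.g c.etale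

/-- The `i`-th sheet over the chart. -/
noncomputable def sheet (i : Fin c.n) : chartObj f c ⟶ Scheme.Etale.mk f :=
  MorphismProperty.Over.homMk (c.t i) (c.comm i)

/-- The map from the constant presheaf of sheets. -/
noncomputable def sheetMap :
    (Over.forget (chartObj f c)).op ⋙ (Functor.const Y.Etaleᵒᵖ).obj (ULift.{u + 1} (Fin c.n)) ⟶
      (Over.forget (chartObj f c)).op ⋙ (yoneda.obj (Scheme.Etale.mk f) ⋙ uliftFunctor.{u + 1, u}) where
  app V := TypeCat.ofHom fun m => ULift.up (V.unop.hom ≫ sheet f c m.down)
  naturality V W a := by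
    ext m
    exact congrArg ULift.up
      ((congrArg (· ≫ sheet f c m.down) (Over.w a.unop)).symm.trans (Category.assoc _ _ _))

theorem isLocallyInjective : Presheaf.IsLocallyInjective
    (Y.smallEtaleTopology.over (chartObj f c)) (sheetMap f c) where
  equalizerSieve_mem {W} m m' h := by
    rw [GrothendieckTopology.mem_over_iff]
    refine mem_smallEtaleTopology_of_points _ _ fun x => ?_
    have hm : m = m' := by
      let v := W.unop.hom.left x
      have hsnd : ∀ i : Fin c.n, pullback.snd f c.g
          (pullback.lift (c.t i) (𝟙 c.V) ((c.comm i).trans (Category.id_comp c.g).symm) v) = v :=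
        fun i => by
          rw [← Scheme.Hom.comp_apply, pullback.lift_snd]; rfl
      have hl : W.unop.hom.left ≫ c.t m.down = W.unop.hom.left ≫ c.t m'.down :=
        congrArg (fun z : W.unop.left ⟶ Scheme.Etale.mk f => z.left) (congrArg ULift.down h)
      have e : W.unop.hom.left ≫ pullback.lift (c.t m.down) (𝟙 c.V)
            ((c.comm _).trans (Category.id_comp c.g).symm) =
          W.unop.hom.left ≫ pullback.lift (c.t m'.down) (𝟙 c.V)
            ((c.comm _).trans (Category.id_comp c.g).symm) := pullback.hom_ext
        ((Category.assoc _ _ _).trans ((congrArg _ (pullback.lift_fst _ _ _)).trans (hl.trans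
          ((congrArg _ (pullback.lift_fst _ _ _).symm).trans (Category.assoc _ _ _).symm))))
        ((Category.assoc _ _ _).trans ((congrArg _ (pullback.lift_snd _ _ _)).trans
          ((congrArg _ (pullback.lift_snd _ _ _).symm).trans (Category.assoc _ _ _).symm)))
      have ev : pullback.lift (c.t m.down) (𝟙 c.V) ((c.comm _).trans (Category.id_comp c.g).symm) v =
          pullback.lift (c.t m'.down) (𝟙 c.V) ((c.comm _).trans (Category.id_comp c.g).symm) v :=
        (Scheme.Hom.comp_apply _ _ _).symm.trans
          ((congrArg (fun φ : _ ⟶ (pullback f c.g : Scheme.{u}) => φ x) e).trans (Scheme.Hom.comp_apply _ _ _))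
      refine ULift.down_injective ((c.cover (pullback.lift (c.t m.down) (𝟙 c.V)
        ((c.comm m.down).trans (Category.id_comp c.g).symm) v)).unique (y₁ := m.down) (y₂ := m'.down) ?_ ?_)
      · rw [hsnd]
      · rw [hsnd, ev]
    refine ⟨W.unop.left, 𝟙 _, x, ?_, rfl⟩
    rw [Sieve.overEquiv_iff]
    subst hm
    rfl

theorem isLocallySurjective : Presheaf.IsLocallySurjective
    (Y.smallEtaleTopology.over (chartObj f c)) (sheetMap f c) where
  imageSieve_mem {W} s := by
    have := c.etale
    rw [GrothendieckTopology.mem_over_iff]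
    refine mem_smallEtaleTopology_of_points _ _ fun x => ?_
    obtain ⟨h⟩ := s
    let z : W.left.left ⟶ pullback f c.g :=
      pullback.lift h.left W.hom.left ((Over.w h.toCommaMorphism).trans (Over.w W.hom.toCommaMorphism).symm)
    obtain ⟨i, hi, -⟩ := c.cover (z x)
    have hlft : IsOpenImmersion (pullback.lift (c.t i) (𝟙 c.V)
        ((c.comm i).trans (Category.id_comp c.g).symm)) := by
      have : Etale (pullback.snd f c.g) := MorphismProperty.pullback_snd _ _ inferInstance
      exact isOpenImmersion_of_section (pullback.snd f c.g) _ (pullback.lift_snd _ _ _)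
    let s' := pullback.lift (c.t i) (𝟙 c.V) ((c.comm i).trans (Category.id_comp c.g).symm)
    have : IsOpenImmersion s' := hlft
    let O : W.left.left.Opens := z ⁻¹ᵁ s'.opensRange
    have hx : x ∈ O := ⟨_, hi.symm⟩
    have : Etale W.left.hom := W.left.prop
    let T : Y.Etale := @Scheme.Etale.mk Y O.toScheme (O.ι ≫ W.left.hom) inferInstance
    let g : T ⟶ W.left := MorphismProperty.Over.homMk O.ι rfl
    have hr : Set.range (O.ι ≫ z) ⊆ Set.range s' := by
      rintro _ ⟨p, rfl⟩
      rw [Scheme.Hom.comp_apply]
      exact p.2
    have hk := IsOpenImmersion.lift_fac s' (O.ι ≫ z) hr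
    let k := IsOpenImmersion.lift s' (O.ι ≫ z) hr
    have hk1 : k = O.ι ≫ W.hom.left := by
      have h1 := congrArg (· ≫ pullback.snd f c.g) hk
      simp only [Category.assoc, s', z, pullback.lift_snd, Category.comp_id] at h1
      exact h1
    have hk2 : k ≫ c.t i = O.ι ≫ h.left := by
      have h1 := congrArg (· ≫ pullback.fst f c.g) hk
      simp only [Category.assoc, s', z, pullback.lift_fst] at h1
      exact h1
    refine ⟨T, g, ⟨x, hx⟩, ?_, rfl⟩
    rw [Sieve.overEquiv_iff]
    refine ⟨ULift.up i, congrArg ULift.up (MorphismProperty.Over.Hom.ext ?_)⟩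
    show (O.ι ≫ W.hom.left) ≫ c.t i = O.ι ≫ h.left
    exact (congrArg (· ≫ c.t i) hk1).symm.trans hk2

/-- On a chart the represented sheaf is constant. -/
theorem nonempty_iso :
    Nonempty ((EtDesc.repSh (Scheme.Etale.mk f)).over (chartObj f c) ≅
      (CohProp.constSh Y (ULift.{u + 1} (Fin c.n))).over (chartObj f c)) := by
  let U := chartObj f c
  let J := Y.smallEtaleTopology.over U
  have : Presheaf.IsLocallyInjective J (sheetMap f c) := isLocallyInjective f c
  have : Presheaf.IsLocallySurjective J (sheetMap f c) := isLocallySurjective f c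
  have hW := J.W_of_isLocallyBijective (sheetMap f c)
  rw [GrothendieckTopology.W_iff] at hW
  let e := (Over.forget U).pushforwardContinuousSheafificationCompatibility
    (Type (u + 1)) J Y.smallEtaleTopology
  exact ⟨(e.app _).symm ≪≫ (asIso ((presheafToSheaf J (Type (u + 1))).map (sheetMap f c))).symm ≪≫
    e.app _⟩

end Groth.Agent.EtSite.RepFLC
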