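import Groth.Agent.EtSite.RepFinite
import Groth.Agent.EtMV.EtaleRestr
import Mathlib.AlgebraicGeometry.RelativeGluing

/-!
# Finite locally constant sheaves of sets on any scheme are represented by finite étale schemes
-/

set_option autoImplicit false
universe u

open CategoryTheory CategoryTheory.Limits AlgebraicGeometry Opposite EtShriek

namespace Groth.Agent.EtSite.RepGlobal

open RepFinite

section restrict

variable {X V : Scheme.{u}} (j : V ⟶ X) [Etale j]

/-- Restriction of a sheaf of sets along an étale morphism. -/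
noncomputable def res (F : EtDesc.Sh X) : EtDesc.Sh V :=
  haveI := EtMV.jCont j
  ((compEtale j).sheafPushforwardContinuous (Type (u + 1)) V.smallEtaleTopology X.smallEtaleTopology).obj F

variable {Ω : Type u} [Field Ω] {ξ : Spec (CommRingCat.of Ω) ⟶ V}

/-- A point of an object, as a point of the composed object. -/
noncomputable def pushPt [IsSepClosed Ω] {U : V.Etale} (t : (Scheme.pointSmallEtale ξ).fiber.obj U) :
    (Scheme.pointSmallEtale (ξ ≫ j)).fiber.obj ((compEtale j).obj U) :=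
  Over.homMk t.left ((Category.assoc _ _ _).symm.trans (congrArg (· ≫ j) (Over.w t)))

theorem setBij_res {F : EtDesc.Sh X} {U : V.Etale} {M : Type (u + 1)}
    {s : M → F.obj.obj (op ((compEtale j).obj U))} (h : SetBij F ((compEtale j).obj U) s) :
    SetBij (res j F) U (fun m => s m) := by
  intro Ω _ _ ξ t
  let Φ := Scheme.pointSmallEtale ξ
  let Ψ := Scheme.pointSmallEtale (ξ ≫ j)
  have hΨ := h Ω (ξ ≫ j) (pushPt j t)
  constructor
  · intro m m' e
    obtain ⟨W, g, w, hg, hs⟩ := (Φ.toPresheafFiber_eq_iff' U t _ _).1 e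
    exact hΨ.1 ((Ψ.toPresheafFiber_eq_iff' (P := F.obj) ((compEtale j).obj U) (pushPt j t) (s m) (s m')).2 ⟨(compEtale j).obj W, (compEtale j).map g,
      pushPt j w, Over.OverMorphism.ext (congrArg CommaMorphism.left hg :), hs⟩)
  · intro z
    obtain ⟨W, w, a, rfl⟩ := Φ.toPresheafFiber_jointly_surjective (P := (res j F).obj) z
    obtain ⟨⟨W₁, w₁⟩, ⟨f₁, hf₁⟩, ⟨f₂, hf₂⟩, -⟩ := IsCofilteredOrEmpty.cone_objs
      (C := Φ.fiber.Elements) ⟨W, w⟩ ⟨U, t⟩
    dsimp only at f₁ f₂ hf₁ hf₂
    obtain ⟨m, hm⟩ := hΨ.2 (Ψ.toPresheafFiber ((compEtale j).obj W₁) (pushPt j w₁) F.obj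
      (F.obj.map ((compEtale j).map f₁).op a))
    refine ⟨m, ?_⟩
    have e : Ψ.toPresheafFiber ((compEtale j).obj W₁) (pushPt j w₁) F.obj
        (F.obj.map ((compEtale j).map f₂).op (s m)) =
      Ψ.toPresheafFiber ((compEtale j).obj W₁) (pushPt j w₁) F.obj
        (F.obj.map ((compEtale j).map f₁).op a) := by
      rw [Ψ.toPresheafFiber_w_apply]
      refine Eq.trans ?_ hm
      exact congrArg (fun p => Ψ.toPresheafFiber _ p F.obj (s m))
        (Over.OverMorphism.ext (congrArg CommaMorphism.left hf₂ :))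
    obtain ⟨W₂, g, w₂, hg, hs⟩ := (Ψ.toPresheafFiber_eq_iff' _ _ _ _).1 e
    have hW : EtCoh.etaleMP (g.left ≫ W₁.hom) :=
      MorphismProperty.comp_mem _ _ _ (inferInstance : EtCoh.etaleMP g.left) W₁.prop
    let W₂' : V.Etale := MorphismProperty.Over.mk ⊤ (g.left ≫ W₁.hom) hW
    let g' : W₂' ⟶ W₁ := MorphismProperty.Over.homMk g.left rfl trivial
    let w₂' : Φ.fiber.obj W₂' := Over.homMk w₂.left (by
      change w₂.left ≫ g.left ≫ W₁.hom = ξ
      rw [← Category.assoc]
      exact (congrArg (fun m => m ≫ W₁.hom) (congrArg CommaMorphism.left hg :)).trans (Over.w w₁))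
    let ε : (compEtale j).obj W₂' ⟶ W₂ := MorphismProperty.Over.homMk (𝟙 _)
      ((Category.id_comp _).trans ((MorphismProperty.Over.w g).symm.trans (Category.assoc _ _ _).symm)) trivial
    have hε : (compEtale j).map g' = ε ≫ g := MorphismProperty.Over.Hom.ext (Category.id_comp _).symm
    have h' : ∀ {A : V.Etale} (f : W₁ ⟶ A) (x : F.obj.obj (op ((compEtale j).obj A))),
        (res j F).obj.map g'.op ((res j F).obj.map f.op x) =
          F.obj.map ε.op (F.obj.map g.op (F.obj.map ((compEtale j).map f).op x)) := fun {A} f x => by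
      change F.obj.map ((compEtale j).map g').op (F.obj.map ((compEtale j).map f).op x) = _
      rw [hε, map_comp_op F]
    have hw : Φ.fiber.map g' w₂' = w₁ :=
      Over.OverMorphism.ext (congrArg CommaMorphism.left hg :)
    rw [← hf₂, ← hf₁, ← hw]
    refine ((Φ.toPresheafFiber_w_apply f₂ _ (res j F).obj (s m)).symm.trans
      (Φ.toPresheafFiber_w_apply g' w₂' _ _).symm).trans ?_
    refine Eq.trans ?_ ((Φ.toPresheafFiber_w_apply g' w₂' _ _).trans (Φ.toPresheafFiber_w_apply f₁ _ _ a))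
    exact congrArg _ ((h' f₂ (s m)).trans ((congrArg _ hs).trans (h' f₁ a).symm))

theorem locSet_res {F : EtDesc.Sh X} (hF : LocSet F) : LocSet (res j F) := by
  intro v
  obtain ⟨U, y, M, hM, s, hy, hs⟩ := hF (j.base v)
  have : Etale U.hom := U.prop
  let U' : V.Etale := MorphismProperty.Over.mk ⊤ (pullback.snd U.hom j)
    (MorphismProperty.pullback_snd (P := EtCoh.etaleMP) _ _ U.prop)
  let p : (compEtale j).obj U' ⟶ U :=
    MorphismProperty.Over.homMk (pullback.fst U.hom j) pullback.condition trivial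
  obtain ⟨z, -, hz⟩ := Scheme.Pullback.exists_preimage_pullback y v hy
  exact ⟨U', z, M, hM, _, hz, setBij_res j (hs.map p (Equiv.refl M))⟩

end restrict

variable {X : Scheme.{u}} {F : EtDesc.Sh X}

/-- A scheme finite étale over an open `U` representing `F` over `U`. -/
structure Rep (F : EtDesc.Sh X) (U : X.Opens) where
  /-- the scheme -/
  P : X.Etale
  /-- the structure map -/
  v : P.left ⟶ (U : Scheme.{u})
  hv : v ≫ U.ι = P.hom
  fin : IsFinite v
  /-- the universal section -/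
  s : F.obj.obj (op P)
  bij : ∀ Z : X.Etale, (∀ z, Z.hom.base z ∈ U) → Function.Bijective fun a : Z ⟶ P => F.obj.map a.op s

theorem exists_lift {Z : X.Etale} {U : X.Opens} (hZ : ∀ z, Z.hom.base z ∈ U) :
    ∃ l : Z.left ⟶ (U : Scheme.{u}), l ≫ U.ι = Z.hom :=
  ⟨IsOpenImmersion.lift U.ι Z.hom (by rw [U.range_ι]; rintro _ ⟨z, rfl⟩; exact hZ z),
    IsOpenImmersion.lift_fac _ _ _⟩

theorem nonempty_rep (hF : LocSet F) {U : X.Opens} (hU : IsAffineOpen U) : Nonempty (Rep F U) := by
  have : IsAffine U := hU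
  obtain ⟨P, hP, s, hbij, -⟩ := RepFinite.exists_rep (locSet_res U.ι hF)
  refine ⟨⟨(compEtale U.ι).obj P, P.hom, rfl, hP, s, fun Z hZ => ?_⟩⟩
  obtain ⟨l, hl⟩ := exists_lift hZ
  have : Etale (l ≫ U.ι) := by rw [hl]; exact Z.prop
  let Z' : (U : Scheme.{u}).Etale := MorphismProperty.Over.mk ⊤ l (Etale.of_comp l U.ι)
  let e : (compEtale U.ι).obj Z' ≅ Z := MorphismProperty.Over.isoMk (Iso.refl _) ((Category.id_comp _).trans hl.symm)
  constructor
  · intro a b hab
    rw [← cancel_epi e.hom]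
    obtain ⟨a', ha'⟩ := (compEtale U.ι).map_surjective (e.hom ≫ a)
    obtain ⟨b', hb'⟩ := (compEtale U.ι).map_surjective (e.hom ≫ b)
    rw [← ha', ← hb', (hbij Z').1 (show (res U.ι F).obj.map a'.op s = (res U.ι F).obj.map b'.op s by
      change F.obj.map ((compEtale U.ι).map a').op s = F.obj.map ((compEtale U.ι).map b').op s
      rw [ha', hb', map_comp_op F, map_comp_op F]
      exact congrArg _ hab)]
  · intro x
    obtain ⟨a, ha⟩ := (hbij Z').2 (F.obj.map e.hom.op x)
    refine ⟨e.inv ≫ (compEtale U.ι).map a, ?_⟩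
    change F.obj.map (e.inv ≫ (compEtale U.ι).map a).op s = x
    rw [map_comp_op F, show F.obj.map ((compEtale U.ι).map a).op s = F.obj.map e.hom.op x from ha,
      ← map_comp_op F, e.inv_hom_id, op_id, F.obj.map_id]
    rfl

section glue

variable (hF : LocSet F)

/-- The chosen local representation. -/
noncomputable def R (U : X.affineOpens) : Rep F U.1 := (nonempty_rep hF U.2).some

theorem mem_R (U : X.affineOpens) (z : (R hF U).P.left) : (R hF U).P.hom.base z ∈ U.1 := by
  rw [← (R hF U).hv, Scheme.Hom.comp_apply]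
  exact ((R hF U).v.base z).2

theorem R_ext {U : X.affineOpens} {Z : X.Etale} {a b : Z ⟶ (R hF U).P}
    (h : F.obj.map a.op (R hF U).s = F.obj.map b.op (R hF U).s) : a = b := by
  refine ((R hF U).bij Z fun z => ?_).1 h
  rw [← MorphismProperty.Over.w a, Scheme.Hom.comp_apply]
  exact mem_R hF U _

theorem exists_tr {U V : X.affineOpens} (h : U ≤ V) :
    ∃ a : (R hF U).P ⟶ (R hF V).P, F.obj.map a.op (R hF V).s = (R hF U).s :=
  ((R hF V).bij _ fun z => (show U.1 ≤ V.1 from h) (mem_R hF U z)).2 _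

/-- The transition maps. -/
noncomputable def tr {U V : X.affineOpens} (h : U ≤ V) : (R hF U).P ⟶ (R hF V).P := (exists_tr hF h).choose

theorem tr_s {U V : X.affineOpens} (h : U ≤ V) : F.obj.map (tr hF h).op (R hF V).s = (R hF U).s :=
  (exists_tr hF h).choose_spec

theorem tr_refl (U : X.affineOpens) : tr hF (le_refl U) = 𝟙 _ :=
  R_ext hF (by rw [tr_s, op_id, F.obj.map_id]; rfl)

theorem tr_trans {U V W : X.affineOpens} (h : U ≤ V) (h' : V ≤ W) :
    tr hF (h.trans h') = tr hF h ≫ tr hF h' :=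
  R_ext hF (by rw [tr_s, map_comp_op F, tr_s, tr_s])

theorem v_naturality {U V : X.affineOpens} (h : U ≤ V) :
    (tr hF h).left ≫ (R hF V).v = (R hF U).v ≫ X.homOfLE h := by
  rw [← cancel_mono V.1.ι, Category.assoc, (R hF V).hv, Category.assoc, Scheme.homOfLE_ι, (R hF U).hv]
  exact MorphismProperty.Over.w _

/-- The preimage of `U` in the chart over `V`. -/
noncomputable abbrev preO (U V : X.affineOpens) : ((R hF V).P.left).Opens := (R hF V).P.hom ⁻¹ᵁ U.1

theorem mem_preO (U V : X.affineOpens) (z : (AllPoints.res (R hF V).P (preO hF U V)).left) :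
    (AllPoints.res (R hF V).P (preO hF U V)).hom.base z ∈ U.1 := by
  rw [← MorphismProperty.Over.w (AllPoints.resι (R hF V).P (preO hF U V)), Scheme.Hom.comp_apply]
  exact z.2

theorem exists_iso_preO {U V : X.affineOpens} (h : U ≤ V) :
    ∃ e : AllPoints.res (R hF V).P (preO hF U V) ≅ (R hF U).P,
      e.hom ≫ tr hF h = AllPoints.resι (R hF V).P (preO hF U V) := by
  obtain ⟨b, hb⟩ := ((R hF U).bij (AllPoints.res (R hF V).P (preO hF U V)) fun z => mem_preO hF U V z).2
    (F.obj.map (AllPoints.resι (R hF V).P (preO hF U V)).op (R hF V).s)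
  have hb' : b ≫ tr hF h = AllPoints.resι (R hF V).P (preO hF U V) :=
    R_ext hF (by rw [map_comp_op F, tr_s]; exact hb)
  have hr : Set.range (tr hF h).left.base ⊆ Set.range (preO hF U V).ι.base := by
    rw [(preO hF U V).range_ι]
    rintro _ ⟨z, rfl⟩
    change (R hF V).P.hom.base ((tr hF h).left.base z) ∈ U.1
    rw [← Scheme.Hom.comp_apply, MorphismProperty.Over.w (tr hF h)]
    exact mem_R hF U z
  let c₀ : (R hF U).P.left ⟶ (preO hF U V : Scheme.{u}) := IsOpenImmersion.lift (preO hF U V).ι (tr hF h).left hr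
  have hc₀ : c₀ ≫ (preO hF U V).ι = (tr hF h).left := IsOpenImmersion.lift_fac _ _ _
  let c : (R hF U).P ⟶ AllPoints.res (R hF V).P (preO hF U V) := MorphismProperty.Over.homMk c₀
    ((congrArg (fun m => c₀ ≫ m) (MorphismProperty.Over.w (AllPoints.resι (R hF V).P (preO hF U V))).symm).trans
      ((Category.assoc _ _ _).symm.trans ((congrArg (· ≫ (R hF V).P.hom) hc₀).trans
        (MorphismProperty.Over.w (tr hF h))))) trivial
  have hc : c ≫ AllPoints.resι (R hF V).P (preO hF U V) = tr hF h := MorphismProperty.Over.Hom.ext hc₀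
  refine ⟨⟨b, c, ?_, ?_⟩, hb'⟩
  · apply MorphismProperty.Over.Hom.ext
    have : Mono (AllPoints.resι (R hF V).P (preO hF U V)).left := inferInstanceAs (Mono (preO hF U V).ι)
    refine (cancel_mono (AllPoints.resι (R hF V).P (preO hF U V)).left).1 ?_
    exact congrArg (fun m => m.left) (show (b ≫ c) ≫ AllPoints.resι (R hF V).P (preO hF U V) =
      𝟙 _ ≫ AllPoints.resι (R hF V).P (preO hF U V) by rw [Category.assoc, hc, hb', Category.id_comp])
  · refine R_ext hF ?_
    rw [map_comp_op F, op_id, F.obj.map_id]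
    exact (congrArg _ hb).trans ((map_comp_op F c _ _).symm.trans
      (Eq.trans (congrArg (fun q => F.obj.map q.op (R hF V).s) hc) (tr_s hF h)))

theorem isPullback_tr_big {U V : X.affineOpens} (h : U ≤ V) :
    IsPullback (tr hF h).left (R hF U).v (R hF V).P.hom U.1.ι := by
  obtain ⟨e, he⟩ := exists_iso_preO hF h
  refine (isPullback_morphismRestrict (R hF V).P.hom U.1).flip.of_iso
    ((MorphismProperty.Over.forget _ _ X ⋙ Over.forget X).mapIso e) (Iso.refl _) (Iso.refl _) (Iso.refl _)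
    ?_ ?_ (by simp) (by simp)
  · exact (Category.comp_id _).trans (congrArg (fun m => m.left) he).symm
  · refine (Category.comp_id _).trans ((cancel_mono U.1.ι).1 ?_)
    exact ((morphismRestrict_ι _ _).trans (MorphismProperty.Over.w e.hom).symm).trans
      ((congrArg (fun m => e.hom.left ≫ m) (R hF U).hv.symm).trans (Category.assoc _ _ _).symm)

theorem isPullback_tr {U V : X.affineOpens} (h : U ≤ V) :
    IsPullback (tr hF h).left (R hF U).v (R hF V).v (X.homOfLE h) := by
  have hbig := isPullback_tr_big hF h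
  refine ⟨⟨v_naturality hF h⟩, ⟨PullbackCone.IsLimit.mk _ (fun s => hbig.lift s.fst s.snd ?_)
    (fun s => hbig.lift_fst _ _ _) (fun s => hbig.lift_snd _ _ _)
    (fun s m h₁ h₂ => hbig.hom_ext (h₁.trans (hbig.lift_fst _ _ _).symm) (h₂.trans (hbig.lift_snd _ _ _).symm))⟩⟩
  rw [← (R hF V).hv, ← Category.assoc, s.condition, Category.assoc]
  exact congrArg (s.snd ≫ ·) (Scheme.homOfLE_ι X (show U.1 ≤ V.1 from h))

/-- The gluing datum. -/
noncomputable def datum : Scheme.Cover.RelativeGluingData X.directedAffineCover where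
  functor :=
    { obj := fun U => (R hF U).P.left
      map := fun {U V} h => (tr hF (leOfHom h)).left
      map_id := fun U => by
        rw [show tr hF (leOfHom (𝟙 U)) = 𝟙 _ from tr_refl hF U]; rfl
      map_comp := fun {U V W} f g => by
        rw [show tr hF (leOfHom (f ≫ g)) = tr hF (leOfHom f) ≫ tr hF (leOfHom g) from tr_trans hF _ _]; rfl }
  natTrans :=
    { app := fun U => (R hF U).v
      naturality := fun U V h => v_naturality hF (leOfHom h) }
  equifibered := fun {U V} h => (isPullback_tr hF (leOfHom h))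

/-- Locality at the target, for cartesian squares. -/
theorem of_cartesian {P : MorphismProperty Scheme.{u}} [IsZariskiLocalAtTarget P] {Y Z : Scheme.{u}} (f : Y ⟶ Z)
    (𝒰 : Z.OpenCover) {Yi : 𝒰.I₀ → Scheme.{u}} (g : ∀ i, Yi i ⟶ 𝒰.X i) (k : ∀ i, Yi i ⟶ Y)
    (hp : ∀ i, IsPullback (k i) (g i) f (𝒰.f i)) (H : ∀ i, P (g i)) : P f :=
  IsZariskiLocalAtTarget.of_openCover 𝒰 fun i => by
    change P (pullback.snd f (𝒰.f i))
    rw [← P.cancel_left_of_respectsIso (hp i).isoPullback.hom]
    rw [(hp i).isoPullback_hom_snd]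
    exact H i

theorem etale_toBase : Etale (datum hF).toBase :=
  of_cartesian (P := @Etale) _ X.directedAffineCover _ _
    (fun U => ((datum hF).isPullback_natTrans_ι_toBase U).flip) fun U => by
      have : Etale ((R hF U).v ≫ U.1.ι) := by rw [(R hF U).hv]; exact (R hF U).P.prop
      exact Etale.of_comp (R hF U).v U.1.ι

theorem isFinite_toBase : IsFinite (datum hF).toBase :=
  of_cartesian (P := @IsFinite) _ X.directedAffineCover _ _
    (fun U => ((datum hF).isPullback_natTrans_ι_toBase U).flip) fun U => (R hF U).fin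

/-- The glued scheme. -/
noncomputable def G : X.Etale := MorphismProperty.Over.mk ⊤ (datum hF).toBase (etale_toBase hF)

/-- The charts of the glued scheme. -/
noncomputable def ιG (U : X.affineOpens) : (R hF U).P ⟶ G hF :=
  MorphismProperty.Over.homMk (colimit.ι (datum hF).functor U)
    (((datum hF).ι_toBase U).trans (R hF U).hv) trivial

theorem ιG_tr {U V : X.affineOpens} (h : U ≤ V) : tr hF h ≫ ιG hF V = ιG hF U :=
  MorphismProperty.Over.Hom.ext (colimit.w (datum hF).functor (homOfLE h))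

instance (U : X.affineOpens) : Mono (ιG hF U).left :=
  inferInstanceAs (Mono (colimit.ι (datum hF).functor U))

theorem exists_factor {U : X.affineOpens} {Z : X.Etale} (a : Z ⟶ G hF) (hZ : ∀ z, Z.hom.base z ∈ U.1) :
    ∃ b : Z ⟶ (R hF U).P, b ≫ ιG hF U = a := by
  obtain ⟨l, hl⟩ := exists_lift hZ
  have hp := (datum hF).isPullback_natTrans_ι_toBase U
  let b := hp.lift l a.left (hl.trans (MorphismProperty.Over.w a).symm)
  refine ⟨MorphismProperty.Over.homMk b ?_ trivial, MorphismProperty.Over.Hom.ext (hp.lift_snd _ _ _)⟩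
  rw [← (R hF U).hv, ← Category.assoc]
  exact (congrArg (· ≫ U.1.ι) (hp.lift_fst _ _ _)).trans hl

/-- Sieve of the maps landing in an affine open. -/
def small (Z : X.Etale) : Sieve Z where
  arrows := fun {W} _ => ∃ U : X.affineOpens, ∀ w, W.hom.base w ∈ U.1
  downward_closed := fun {W W'} _ hW g => by
    obtain ⟨U, hU⟩ := hW
    refine ⟨U, fun w => ?_⟩
    rw [← MorphismProperty.Over.w g, Scheme.Hom.comp_apply]
    exact hU _

theorem small_mem (Z : X.Etale) : small Z ∈ X.smallEtaleTopology Z :=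
  mem_smallEtaleTopology_of_points _ _ fun z => by
    obtain ⟨U, hU, hzU, -⟩ := X.isBasis_affineOpens.exists_subset_of_mem_open
      (show Z.hom.base z ∈ (Set.univ : Set X) from trivial) isOpen_univ
    obtain ⟨U, hU', rfl⟩ := hU
    refine ⟨AllPoints.res Z (Z.hom ⁻¹ᵁ U), AllPoints.resι _ _, ⟨z, hzU⟩, ⟨⟨U, hU'⟩, fun w => ?_⟩, rfl⟩
    rw [← MorphismProperty.Over.w (AllPoints.resι Z (Z.hom ⁻¹ᵁ U)), Scheme.Hom.comp_apply]
    exact w.2

theorem sect_compat {U U' : X.affineOpens} {W : X.Etale} (a : W ⟶ (R hF U).P) (b : W ⟶ (R hF U').P)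
    (h : a ≫ ιG hF U = b ≫ ιG hF U') :
    F.obj.map a.op (R hF U).s = F.obj.map b.op (R hF U').s := by
  have hW : ∀ w, W.hom.base w ∈ U.1 ⊓ U'.1 := fun w => by
    refine ⟨?_, ?_⟩
    · rw [← MorphismProperty.Over.w a, Scheme.Hom.comp_apply]; exact mem_R hF U _
    · rw [← MorphismProperty.Over.w b, Scheme.Hom.comp_apply]; exact mem_R hF U' _
  let S : Sieve W :=
    { arrows := fun {Y} _ => ∃ V : X.affineOpens, V ≤ U ∧ V ≤ U' ∧ ∀ y, Y.hom.base y ∈ V.1
      downward_closed := fun {Y Y'} _ hY g => by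
        obtain ⟨V, h₁, h₂, hV⟩ := hY
        refine ⟨V, h₁, h₂, fun y => ?_⟩
        rw [← MorphismProperty.Over.w g, Scheme.Hom.comp_apply]
        exact hV _ }
  have hS : S ∈ X.smallEtaleTopology W := mem_smallEtaleTopology_of_points _ _ fun w => by
    obtain ⟨V, hV, hwV, hVU⟩ := X.isBasis_affineOpens.exists_subset_of_mem_open (hW w) (U.1 ⊓ U'.1).isOpen
    obtain ⟨V, hV', rfl⟩ := hV
    refine ⟨AllPoints.res W (W.hom ⁻¹ᵁ V), AllPoints.resι _ _, ⟨w, hwV⟩,
      ⟨⟨V, hV'⟩, fun x hx => (hVU hx).1, fun x hx => (hVU hx).2, fun y => ?_⟩, rfl⟩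
    rw [← MorphismProperty.Over.w (AllPoints.resι W (W.hom ⁻¹ᵁ V)), Scheme.Hom.comp_apply]
    exact y.2
  refine sect_ext_of_cover F hS fun Y g hg => ?_
  obtain ⟨V, h₁, h₂, hV⟩ := hg
  obtain ⟨c, hc⟩ := exists_factor hF (g ≫ a ≫ ιG hF U) hV
  have hc₁ : c ≫ tr hF h₁ = g ≫ a := MorphismProperty.Over.Hom.ext ((cancel_mono (ιG hF U).left).1
    (congrArg (fun m => m.left) (show (c ≫ tr hF h₁) ≫ ιG hF U = (g ≫ a) ≫ ιG hF U by
      rw [Category.assoc, ιG_tr, hc, Category.assoc])))
  have hc₂ : c ≫ tr hF h₂ = g ≫ b := MorphismProperty.Over.Hom.ext ((cancel_mono (ιG hF U').left).1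
    (congrArg (fun m => m.left) (show (c ≫ tr hF h₂) ≫ ιG hF U' = (g ≫ b) ≫ ιG hF U' by
      rw [Category.assoc, ιG_tr, hc, Category.assoc, h])))
  rw [← map_comp_op F, ← map_comp_op F, ← hc₁, ← hc₂, map_comp_op F, map_comp_op F, tr_s, tr_s]

theorem exists_sG : ∃ sG : F.obj.obj (op (G hF)), ∀ U, F.obj.map (ιG hF U).op sG = (R hF U).s := by
  have hcov : Sieve.ofArrows (fun U : X.affineOpens => (R hF U).P) (ιG hF) ∈ X.smallEtaleTopology (G hF) :=
    mem_smallEtaleTopology_of_points _ _ fun z => by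
      obtain ⟨U, y, hy⟩ := (datum hF).cover.exists_eq z
      exact ⟨_, ιG hF U, y, Sieve.ofArrows_mk _ _ U, hy⟩
  have hsh := (Presieve.isSheafFor_iff_generate _).2 (((isSheaf_iff_isSheaf_of_type _ _).1 F.property) _ hcov)
  rw [Presieve.isSheafFor_arrows_iff] at hsh
  obtain ⟨w, hw, -⟩ := hsh (fun U => (R hF U).s) fun U U' Z a b hab => sect_compat hF a b hab
  exact ⟨w, hw⟩

/-- The universal section. -/
noncomputable def sG : F.obj.obj (op (G hF)) := (exists_sG hF).choose

theorem sG_ι (U : X.affineOpens) : F.obj.map (ιG hF U).op (sG hF) = (R hF U).s := (exists_sG hF).choose_spec U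

theorem sG_injective (Z : X.Etale) : Function.Injective fun a : Z ⟶ G hF => F.obj.map a.op (sG hF) := by
  intro a b hab
  refine hom_ext_of_cover (small_mem Z) fun W g hg => ?_
  obtain ⟨U, hU⟩ := hg
  obtain ⟨a', ha⟩ := exists_factor hF (g ≫ a) hU
  obtain ⟨b', hb⟩ := exists_factor hF (g ≫ b) hU
  rw [← ha, ← hb, R_ext hF (a := a') (b := b') (by
    rw [← sG_ι, ← map_comp_op F, ← map_comp_op F, ha, hb, map_comp_op F, map_comp_op F]
    exact congrArg _ hab)]

theorem sG_surjective (Z : X.Etale) : Function.Surjective fun a : Z ⟶ G hF => F.obj.map a.op (sG hF) := by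
  intro s
  have key : ∀ ⦃W : X.Etale⦄ (h : W ⟶ Z), small Z h →
      ∃ a : W ⟶ G hF, F.obj.map a.op (sG hF) = F.obj.map h.op s := by
    rintro W h ⟨U, hU⟩
    obtain ⟨a, ha⟩ := ((R hF U).bij W hU).2 (F.obj.map h.op s)
    exact ⟨a ≫ ιG hF U, by rw [map_comp_op F, sG_ι]; exact ha⟩
  choose a ha using key
  obtain ⟨b, hb⟩ := exists_glue (small_mem Z) a fun W W' g h hh => sG_injective hF W' (by
    change F.obj.map (g ≫ a h hh).op _ = F.obj.map (a _ _).op _
    rw [map_comp_op F, ha, ha, map_comp_op F])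
  refine ⟨b, sect_ext_of_cover F (small_mem Z) fun W h hh => ?_⟩
  rw [← map_comp_op F, hb h hh, ha]

end glue

/-- A finite locally constant sheaf of sets is represented by a finite étale scheme. -/
theorem exists_rep (hF : LocSet F) :
    ∃ (U : X.Etale) (_ : IsFinite U.hom) (sU : F.obj.obj (op U)),
      ∀ Z : X.Etale, Function.Bijective fun a : Z ⟶ U => F.obj.map a.op sU :=
  ⟨G hF, isFinite_toBase hF, sG hF, fun Z => ⟨sG_injective hF Z, sG_surjective hF Z⟩⟩

/-- The isomorphism with the functor of points. -/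
theorem exists_iso (hF : LocSet F) : ∃ (U : X.Etale) (_ : IsFinite U.hom),
    Nonempty (yoneda.obj U ⋙ uliftFunctor.{u + 1, u} ≅ F.obj) := by
  obtain ⟨U, hU, sU, hb⟩ := exists_rep hF
  exact ⟨U, hU, ⟨NatIso.ofComponents (fun Z => (Equiv.ulift.trans (Equiv.ofBijective _ (hb Z.unop))).toIso)
    fun {Z Z'} g => by
      ext ⟨a⟩
      exact Functor.map_comp_apply F.obj (a : Z.unop ⟶ U).op g sU⟩⟩

end Groth.Agent.EtSite.RepGlobal
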