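import Groth.Agent.EtSite.ColimCohom
import Groth.Agent.EtSite.Torsion
import Mathlib.CategoryTheory.Abelian.Injective.Ext
import Mathlib.CategoryTheory.Abelian.RightDerived
import Groth.Agent.EtMV.EtaleRestr
import Groth.Agent.S0101

/-!
# Higher direct images of torsion sheaves are torsion
-/

set_option autoImplicit false
set_option backward.isDefEq.respectTransparency.types false
universe u

open CategoryTheory CategoryTheory.Limits AlgebraicGeometry Opposite CategoryTheory.Abelian

namespace Groth.Agent.EtSite.RpushTorsion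

open FreeOn

variable {X : Scheme.{u}} [CompactSpace X] [QuasiSeparatedSpace X]

theorem exists_killed_ext (F : EtCoh.Ab X) (hF : EtCoh.IsTorsion F) (n : ℕ) (W : X.Etale)
    [CompactSpace W.left] [QuasiSeparatedSpace W.left] (x : Ext (P W) F n) :
    ∃ m : ℕ, 0 < m ∧ m • x = 0 := by
  obtain ⟨J, _, _, D, c, hc, hD, ⟨e⟩⟩ := Torsion.exists_filtered_colimit F hF
  obtain ⟨j, y, hy⟩ := ColimCohom.exists_lift hc n W (x.comp (Ext.mk₀ e.inv) (add_zero n))
  obtain ⟨m, hm, hk⟩ := Compact.exists_killed (D.obj j) (hD j)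
  have h0 : m • (𝟙 (D.obj j)) = 0 := (Present.killedBy_iff (D.obj j) m).1 hk
  have hx' : y.comp (Ext.mk₀ (c.ι.app j ≫ e.hom)) (add_zero n) = x := by
    rw [← Ext.mk₀_comp_mk₀, ← Ext.comp_assoc_of_second_deg_zero, hy,
      Ext.comp_assoc_of_second_deg_zero, Ext.mk₀_comp_mk₀, Iso.inv_hom_id, Ext.comp_mk₀_id]
  have hy0 : m • y = 0 := by
    have h5 : ∀ k : ℕ, y.comp (Ext.mk₀ (k • 𝟙 (D.obj j))) (add_zero n) = k • y := fun k => by
      induction k with
      | zero => rw [zero_smul, zero_smul, Ext.mk₀_zero, Ext.comp_zero]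
      | succ k ih => rw [succ_nsmul, succ_nsmul, Ext.mk₀_add, Ext.comp_add, ih, Ext.comp_mk₀_id]
    rw [← h5, h0, Ext.mk₀_zero, Ext.comp_zero]
  refine ⟨m, hm, ?_⟩
  rw [← hx']
  have h4 := congrArg ((Ext.mk₀ (c.ι.app j ≫ e.hom)).postcomp (P W) (add_zero n)) hy0
  rw [map_nsmul, map_zero] at h4
  exact h4

omit [CompactSpace X] [QuasiSeparatedSpace X] in
theorem nsmul_extMk {A B : EtCoh.Ab X} (I : InjectiveResolution B) {n m : ℕ} (hm : n + 1 = m)
    (f : A ⟶ I.cocomplex.X n) (hf : f ≫ I.cocomplex.d n m = 0) : ∀ k : ℕ,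
    I.extMk (k • f) m hm (by rw [Preadditive.nsmul_comp, hf, nsmul_zero]) = k • I.extMk f m hm hf
  | 0 => by simp
  | k + 1 => by
    rw [succ_nsmul (I.extMk f m hm hf) k, ← nsmul_extMk I hm f hf k, I.add_extMk]
    congr 1
    exact succ_nsmul f k

omit [CompactSpace X] [QuasiSeparatedSpace X] in
theorem app_eq {F G : EtCoh.Ab X} {W : X.Etale} (φ : P W ⟶ F) (a : F ⟶ G) :
    (φ ≫ a).hom.app (op W) (can W) = a.hom.app (op W) (φ.hom.app (op W) (can W)) := rfl

omit [CompactSpace X] [QuasiSeparatedSpace X] in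
theorem app_nsmul {F : EtCoh.Ab X} {W : X.Etale} (φ : P W ⟶ F) : ∀ k : ℕ,
    (k • φ).hom.app (op W) (can W) = k • φ.hom.app (op W) (can W)
  | 0 => by rw [zero_smul, zero_smul]; rfl
  | k + 1 => by rw [succ_nsmul, succ_nsmul, ← app_nsmul φ k]; rfl

/-- A cocycle of an injective resolution of a torsion sheaf becomes a coboundary after multiplication. -/
theorem exists_coboundary {F : EtCoh.Ab X} (hF : EtCoh.IsTorsion F) (I : InjectiveResolution F)
    (W : X.Etale) [CompactSpace W.left] [QuasiSeparatedSpace W.left] (n : ℕ)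
    (z : EtCoh.sect (I.cocomplex.X n) W) (hz : (I.cocomplex.d n (n + 1)).hom.app (op W) z = 0) :
    ∃ m : ℕ, 0 < m ∧ ∃ y : EtCoh.sect (I.cocomplex.X ((ComplexShape.up ℕ).prev n)) W,
      (I.cocomplex.d ((ComplexShape.up ℕ).prev n) n).hom.app (op W) y = m • z := by
  obtain ⟨φ, hφ⟩ := exists_hom W z
  have hφd : φ ≫ I.cocomplex.d n (n + 1) = 0 := Present.map_ext (by
    rw [app_eq, hφ, hz]; rfl)
  rcases n with _ | n
  · let φ' : P W ⟶ F := I.isLimitKernelFork.lift (KernelFork.ofι φ hφd)
    have hφ' : φ' ≫ I.ι.f 0 = φ := Fork.IsLimit.lift_ι I.isLimitKernelFork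
    obtain ⟨m, hm, hmx⟩ := exists_killed_ext F hF 0 W (Ext.mk₀ φ')
    have h0 : m • φ' = 0 := by
      apply (Ext.mk₀_bijective (P W) F).1
      rw [Ext.mk₀_zero, ← hmx]
      exact map_nsmul (AddMonoidHom.mk' (fun g : P W ⟶ F => Ext.mk₀ g) Ext.mk₀_add) m φ'
    refine ⟨m, hm, 0, ?_⟩
    rw [map_zero]
    have h1 : m • φ = 0 := by rw [← hφ', ← Preadditive.nsmul_comp, h0, zero_comp]
    rw [← hφ, ← app_nsmul, h1]
    rfl
  · obtain ⟨m, hm, hmx⟩ := exists_killed_ext F hF (n + 1) W (I.extMk φ (n + 2) rfl hφd)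
    rw [← nsmul_extMk I rfl φ hφd m] at hmx
    obtain ⟨g, hg⟩ := (I.extMk_eq_zero_iff _ _ _ _ n rfl).1 hmx
    refine ⟨m, hm, ?_⟩
    rw [CochainComplex.prev_nat_succ]
    exact ⟨g.hom.app (op W) (can W), by rw [← app_eq, hg, app_nsmul, hφ]⟩

omit [CompactSpace X] [QuasiSeparatedSpace X] in
theorem app_injective {F G : EtCoh.Ab X} (a : F ⟶ G) [Mono a] (W : X.Etale) :
    Function.Injective (a.hom.app (op W)) :=
  (AddCommGrpCat.mono_iff_injective _).1 (inferInstanceAs (Mono (((sheafToPresheaf _ _) ⋙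
    (evaluation _ _).obj (op W)).map a)))

end Groth.Agent.EtSite.RpushTorsion

namespace Groth.Agent.EtSite.RpushTorsion

open FreeOn EtShriek

section restr

variable {X Z : Scheme.{u}} (h : Z ⟶ X) [Etale h]

theorem isTorsion_restr [JCont h] {F : EtCoh.Ab X} (hF : EtCoh.IsTorsion F) :
    EtCoh.IsTorsion ((restrAlong h).obj F) := by
  intro U s x
  obtain ⟨V, g, ⟨v, hv⟩, hs⟩ := hF ((compEtale h).obj U) s x
  let V' := compEtaleLift h g
  have : Etale V'.1.hom := V'.1.prop
  let g' : V'.1 ⟶ U := MorphismProperty.Over.homMk g.left rfl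
  refine ⟨V'.1, g', ⟨v, hv⟩, ?_⟩
  have e : (compEtale h).map g' = V'.2.hom ≫ g := MorphismProperty.Over.Hom.ext (by
    show g.left = 𝟙 _ ≫ g.left
    rw [Category.id_comp])
  change IsOfFinAddOrder (F.obj.map ((compEtale h).map g').op s)
  rw [e, op_comp, Functor.map_comp_apply]
  exact (F.obj.map V'.2.hom.op).hom.isOfFinAddOrder hs

theorem preservesHomology_restr [JCont h] : (restrAlong h).PreservesHomology := by
  have : PreservesFiniteLimits (EtCoh.pull h) := Groth.Agent.S0101.result h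
  have : PreservesFiniteColimits (EtCoh.pull h) :=
    have : PreservesColimitsOfSize.{0, 0} (EtCoh.pull h) := (EtCoh.pullPushAdj h).leftAdjoint_preservesColimits
    PreservesColimitsOfSize.preservesFiniteColimits _
  have : PreservesFiniteLimits (restrAlong h) := preservesFiniteLimits_of_natIso (EtMV.σEt h)
  have : PreservesFiniteColimits (restrAlong h) := preservesFiniteColimits_of_natIso (EtMV.σEt h)
  infer_instance

theorem additive_restr [JCont h] : (restrAlong h).Additive := by
  have : PreservesFiniteLimits (EtCoh.pull h) := Groth.Agent.S0101.result h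
  have : PreservesFiniteLimits (restrAlong h) := preservesFiniteLimits_of_natIso (EtMV.σEt h)
  exact Functor.additive_of_preserves_binary_products _

/-- The restriction of an injective resolution. -/
noncomputable def restrResolution [JCont h] {F : EtCoh.Ab X} (I : InjectiveResolution F) :
    InjectiveResolution ((restrAlong h).obj F) :=
  have := preservesHomology_restr h
  have := additive_restr h
  { cocomplex := ((restrAlong h).mapHomologicalComplex (ComplexShape.up ℕ)).obj I.cocomplex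
    injective := fun n =>
      have : (EtCoh.pull h).PreservesInjectiveObjects := EtMV.pull_preservesInjectiveObjects h
      Injective.of_iso ((EtMV.σEt h).app (I.cocomplex.X n))
        (Functor.injective_obj_of_injective (EtCoh.pull h) (I.injective n))
    ι := (HomologicalComplex.singleMapHomologicalComplex (restrAlong h) (ComplexShape.up ℕ) 0).inv.app F ≫
      ((restrAlong h).mapHomologicalComplex (ComplexShape.up ℕ)).map I.ι
    quasiIso := by
      haveI := HomologicalComplex.quasiIso_map_of_preservesHomology I.ι (restrAlong h)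
      exact quasiIso_comp _ _ }

theorem exists_coboundary' {F : EtCoh.Ab X} (hF : EtCoh.IsTorsion F) (I : InjectiveResolution F)
    (W : X.Etale) [CompactSpace W.left] [QuasiSeparatedSpace W.left] (n : ℕ)
    (z : EtCoh.sect (I.cocomplex.X n) W) (hz : (I.cocomplex.d n (n + 1)).hom.app (op W) z = 0) :
    ∃ m : ℕ, 0 < m ∧ ∃ y : EtCoh.sect (I.cocomplex.X ((ComplexShape.up ℕ).prev n)) W,
      (I.cocomplex.d ((ComplexShape.up ℕ).prev n) n).hom.app (op W) y = m • z := by
  have : Etale W.hom := W.prop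
  have := EtMV.jCont W.hom
  let J := restrResolution W.hom I
  have : CompactSpace ((𝟭 Scheme).obj W.left) := ‹CompactSpace W.left›
  have : QuasiSeparatedSpace ((𝟭 Scheme).obj W.left) := ‹QuasiSeparatedSpace W.left›
  let T : X.Etale := (compEtale W.hom).obj (EtCoh.top W.left)
  let e : T ≅ W := MorphismProperty.Over.isoMk (Iso.refl _)
  have : CompactSpace (EtCoh.top W.left).left := ‹CompactSpace W.left›
  have : QuasiSeparatedSpace (EtCoh.top W.left).left := ‹QuasiSeparatedSpace W.left›
  let z' : EtCoh.sect (J.cocomplex.X n) (EtCoh.top W.left) := (I.cocomplex.X n).obj.map e.hom.op z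
  obtain ⟨m, hm, y, hy⟩ := exists_coboundary (isTorsion_restr W.hom hF) J (EtCoh.top W.left) n z' (by
    change (I.cocomplex.d n (n + 1)).hom.app (op T) ((I.cocomplex.X n).obj.map e.hom.op z) = 0
    rw [NatTrans.naturality_apply, hz, map_zero])
  refine ⟨m, hm, (I.cocomplex.X _).obj.map e.inv.op y, ?_⟩
  rw [NatTrans.naturality_apply]
  refine (congrArg ((I.cocomplex.X n).obj.map e.inv.op) hy).trans ?_
  refine (map_nsmul _ m z').trans (congrArg (m • ·) ?_)
  show (I.cocomplex.X n).obj.map e.inv.op ((I.cocomplex.X n).obj.map e.hom.op z) = z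
  rw [← Functor.map_comp_apply, ← op_comp, Iso.inv_hom_id, op_id, CategoryTheory.Functor.map_id]
  rfl

end restr

variable {X : Scheme.{u}}

variable {Y : Scheme.{u}} (f : X ⟶ Y)

theorem qcqs_bc [QuasiCompact f] [QuasiSeparated f] (V : Y.Etale) [IsAffine V.left] :
    CompactSpace ((EtCoh.bc f).obj V).left ∧ QuasiSeparatedSpace ((EtCoh.bc f).obj V).left := by
  have hc : QuasiCompact (pullback.fst V.hom f) := MorphismProperty.pullback_fst _ _ inferInstance
  have hs : QuasiSeparated (pullback.fst V.hom f) := MorphismProperty.pullback_fst _ _ inferInstance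
  have : CompactSpace ((𝟭 Scheme).obj V.left) := inferInstanceAs (CompactSpace V.left)
  have : QuasiSeparatedSpace ((𝟭 Scheme).obj V.left) := inferInstanceAs (QuasiSeparatedSpace V.left)
  exact ⟨@QuasiCompact.compactSpace_of_compactSpace _ _ (pullback.fst V.hom f) hc _,
    @quasiSeparatedSpace_of_quasiSeparated _ _ (pullback.fst V.hom f) _ hs⟩

end Groth.Agent.EtSite.RpushTorsion

namespace Groth.Agent.EtSite.RpushTorsion

variable {X Y : Scheme.{u}} (f : X ⟶ Y) [QuasiCompact f] [QuasiSeparated f]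

theorem isTorsion_Rpush (F : EtCoh.Ab X) (hF : EtCoh.IsTorsion F) (n : ℕ) :
    EtCoh.IsTorsion ((EtCoh.Rpush f n).obj F) := by
  let I : InjectiveResolution F := InjectiveResolution.of F
  let K := ((EtCoh.push f).mapHomologicalComplex (ComplexShape.up ℕ)).obj I.cocomplex
  let e : (EtCoh.Rpush f n).obj F ≅ K.homology n := I.isoRightDerivedObj (EtCoh.push f) n
  intro U s x
  have hs : Presheaf.imageSieve (K.homologyπ n ≫ e.inv).hom s ∈ Y.smallEtaleTopology U := by
    have : Epi (K.homologyπ n ≫ e.inv) := inferInstance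
    have : Sheaf.IsLocallySurjective (K.homologyπ n ≫ e.inv) :=
      (Sheaf.isLocallySurjective_iff_epi' _ _).2 inferInstance
    exact Presheaf.imageSieve_mem _ _ _
  obtain ⟨V, g, v, ⟨c, hc⟩, -, hv⟩ := exists_mem_of_mem_smallEtaleTopology hs x
  obtain ⟨A, b, hA, a, ha⟩ := Sect.exists_affine_nbhd V v
  obtain ⟨_, _⟩ := qcqs_bc f A
  let c' : EtCoh.sect (K.cycles n) A := (K.cycles n).obj.map b.op c
  let z : EtCoh.sect (I.cocomplex.X n) ((EtCoh.bc f).obj A) := (K.iCycles n).hom.app (op A) c'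
  obtain ⟨m, hm, y, hy⟩ := exists_coboundary' hF I ((EtCoh.bc f).obj A) n z (by
    exact congrArg (fun φ : K.cycles n ⟶ K.X (n + 1) => φ.hom.app (op A) c') (K.iCycles_d n (n + 1)))
  have hmc : m • c' = (K.toCycles ((ComplexShape.up ℕ).prev n) n).hom.app (op A) y := by
    apply app_injective (K.iCycles n) A
    rw [map_nsmul]
    exact hy.symm.trans (congrArg (fun φ : K.X _ ⟶ K.X n => φ.hom.app (op A) y) (K.toCycles_i _ n).symm)
  refine ⟨A, b ≫ g, ⟨a, ?_⟩, isOfFinAddOrder_iff_nsmul_eq_zero.2 ⟨m, hm, ?_⟩⟩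
  · change (b.left ≫ g.left).base a = x
    rw [Scheme.Hom.comp_apply, ← hv, ← ha]
  · rw [op_comp, Functor.map_comp_apply, ← hc, ← NatTrans.naturality_apply, ← map_nsmul]
    change (K.homologyπ n ≫ e.inv).hom.app (op A) (m • c') = 0
    rw [hmc]
    refine (congrArg (fun φ : K.X _ ⟶ (EtCoh.Rpush f n).obj F => φ.hom.app (op A) y)
      (show K.toCycles ((ComplexShape.up ℕ).prev n) n ≫ K.homologyπ n ≫ e.inv = 0 by
        rw [← Category.assoc, K.toCycles_comp_homologyπ, zero_comp])).trans ?_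
    rfl

end Groth.Agent.EtSite.RpushTorsion
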