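import Groth.Agent.EtSite.Points
import Mathlib.CategoryTheory.Sites.IsSheafFor

/-!
# Sheaves of sets on the spectrum of a separably closed field
-/

set_option autoImplicit false
set_option linter.all false
universe w u

open CategoryTheory CategoryTheory.Limits AlgebraicGeometry Opposite

namespace Groth.Agent.EtSite.SepClosedSets

variable {k : Type u} [Field k] [IsSepClosed k]

local notation "X" => Spec (CommRingCat.of k)

/-- The sections of an étale scheme over the base. -/
abbrev Secs (U : (X).Etale) : Type u := EtCoh.top X ⟶ U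

theorem exists_sec (U : (X).Etale) (x : U.left) :
    ∃ t : Secs U, (show X ⟶ U.left from t.left) default = x := by
  obtain ⟨l, hl, hx⟩ := Scheme.exists_fac_of_etale_of_isSepClosed U.hom (𝟙 X) x (@Subsingleton.elim (Spec (CommRingCat.of k)) _ _ _)
  exact ⟨MorphismProperty.Over.homMk l hl, hx⟩

theorem generate_mem (U : (X).Etale) :
    Sieve.generate (Presieve.ofArrows (fun _ : Secs U => EtCoh.top X) fun t => t) ∈
      (X).smallEtaleTopology U := by
  refine mem_smallEtaleTopology_of_points _ _ fun x => ?_
  obtain ⟨t, ht⟩ := exists_sec U x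
  exact ⟨EtCoh.top X, t, (default : Spec (CommRingCat.of k)), ⟨_, 𝟙 _, t, ⟨t⟩, Category.id_comp _⟩, ht⟩

theorem hom_top_subsingleton (W : (X).Etale) (a b : W ⟶ EtCoh.top X) : a = b :=
  MorphismProperty.Over.Hom.ext ((Category.comp_id _).symm.trans
    ((MorphismProperty.Over.w a).trans ((MorphismProperty.Over.w b).symm.trans (Category.comp_id _))))

variable {F G : Sheaf (Spec (CommRingCat.of k)).smallEtaleTopology (Type (u + 1))}

theorem eq_of_isEmpty (W : (X).Etale) [IsEmpty W.left] (a b : F.obj.obj (op W)) : a = b := by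
  have h : (⊥ : Sieve W) ∈ (X).smallEtaleTopology W :=
    mem_smallEtaleTopology_of_points _ _ fun x => isEmptyElim x
  exact (((isSheaf_iff_isSheaf_of_type _ _).1 F.property) _ h).isSeparatedFor.ext
    fun _ _ hf => False.elim hf

theorem eq_or_isEmpty (U W : (X).Etale) (s t : Secs U) (a b : W ⟶ EtCoh.top X) (h : a ≫ s = b ≫ t) :
    s = t ∨ IsEmpty W.left := by
  by_cases hW : IsEmpty W.left
  · exact Or.inr hW
  · obtain ⟨x⟩ := not_isEmpty_iff.1 hW
    obtain ⟨v, -⟩ := exists_sec W x
    refine Or.inl ?_
    have h1 : v ≫ a = 𝟙 _ := hom_top_subsingleton _ _ _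
    have h2 : v ≫ b = 𝟙 _ := hom_top_subsingleton _ _ _
    rw [← Category.id_comp s, ← Category.id_comp t, ← h1]
    conv_rhs => rw [h1, ← h2]
    rw [Category.assoc, Category.assoc, h]

/-- Evaluation of sections on the points. -/
noncomputable def ev (U : (X).Etale) (z : F.obj.obj (op U)) : Secs U → F.obj.obj (op (EtCoh.top X)) :=
  fun t => F.obj.map t.op z

theorem ev_bijective (U : (X).Etale) : Function.Bijective (ev (F := F) U) := by
  have hs : Presieve.IsSheafFor F.obj (Presieve.ofArrows (fun _ : Secs U => EtCoh.top X) fun t => t) :=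
    ((isSheaf_iff_isSheaf_of_type _ _).1 F.property).isSheafFor _ (generate_mem U)
  rw [Presieve.isSheafFor_arrows_iff] at hs
  have hc : ∀ y : Secs U → F.obj.obj (op (EtCoh.top X)),
      Presieve.Arrows.Compatible F.obj (fun t : Secs U => t) y := fun y s t W a b h => by
    rcases eq_or_isEmpty U W s t a b h with rfl | hW
    · rw [hom_top_subsingleton W a b]
    · exact eq_of_isEmpty W _ _
  refine ⟨fun z z' h => ?_, fun y => ?_⟩
  · obtain ⟨_, -, hu⟩ := hs _ (hc (ev U z'))
    exact (hu z fun t => congrFun h t).trans (hu z' fun t => rfl).symm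
  · obtain ⟨z, hz, -⟩ := hs y (hc y)
    exact ⟨z, funext hz⟩

theorem ev_naturality {U V : (X).Etale} (g : V ⟶ U) (z : F.obj.obj (op U)) (t : Secs V) :
    ev V (F.obj.map g.op z) t = ev U z (t ≫ g) := by
  simp [ev]

variable (k) in
/-- Global sections. -/
noncomputable abbrev Γ' : Sheaf (X).smallEtaleTopology (Type (u + 1)) ⥤ Type (u + 1) :=
  (sheafSections (X).smallEtaleTopology (Type (u + 1))).obj (op (EtCoh.top X))

theorem map_ev (f : F ⟶ G) (U : (X).Etale) (z : F.obj.obj (op U)) (t : Secs U) :
    ev U (f.hom.app (op U) z) t = (Γ' k).map f (ev U z t) :=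
  (NatTrans.naturality_apply f.hom t.op z).symm

theorem faithful : (Γ' k).Faithful where
  map_injective {F G} f g h := by
    refine Sheaf.hom_ext ?_
    ext U z
    obtain ⟨U⟩ := U
    refine (ev_bijective U).1 (funext fun t => ?_)
    exact (map_ev f U z t).trans ((congrArg (fun m => (ConcreteCategory.hom m) (ev U z t)) h).trans (map_ev g U z t).symm)

theorem full : (Γ' k).Full where
  map_surjective {F G} h := by
    let e := fun U : (X).Etale => Equiv.ofBijective _ (ev_bijective (F := G) U)
    refine ⟨⟨{ app := fun U => TypeCat.ofHom fun z => (e U.unop).symm fun t => h (ev U.unop z t)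
               naturality := fun U V g => ?_ }⟩, ?_⟩
    · ext z
      refine (ev_bijective V.unop).1 (funext fun t => ?_)
      show ev V.unop ((e V.unop).symm _) t = ev V.unop (G.obj.map g ((e U.unop).symm _)) t
      rw [show g = g.unop.op from rfl, ev_naturality]
      have h1 := congrFun ((e V.unop).apply_symm_apply fun t => h (ev V.unop (F.obj.map g.unop.op z) t)) t
      have h2 := congrFun ((e U.unop).apply_symm_apply fun t => h (ev U.unop z t)) (t ≫ g.unop)
      refine h1.trans (Eq.trans ?_ h2.symm)
      rw [ev_naturality]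
    · ext z
      change (e (EtCoh.top X)).symm (fun t => h (ev (EtCoh.top X) z t)) = h z
      rw [Equiv.symm_apply_eq]
      funext t
      show h (F.obj.map t.op z) = G.obj.map t.op (h z)
      rw [hom_top_subsingleton _ t (𝟙 _)]
      simp

theorem essSurj : (Γ' k).EssSurj where
  mem_essImage M := by
    let P : (X).Etaleᵒᵖ ⥤ Type (u + 1) :=
      { obj := fun U => Secs U.unop → M
        map := fun {U V} g => TypeCat.ofHom fun z t => z (t ≫ g.unop)
        map_id := fun U => by ext z t; simp
        map_comp := fun g g' => by ext z t; simp }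
    have hP : Presieve.IsSheaf (X).smallEtaleTopology P := by
      intro U S hS y hy
      have hex : ∀ t : Secs U, S t := fun t => by
        let Φ := Scheme.pointSmallEtale (𝟙 X)
        let τ : Φ.fiber.obj U := Over.homMk t.left (MorphismProperty.Over.w t)
        obtain ⟨V, g, hg, w, hw⟩ := Φ.jointly_surjective S hS τ
        let w' : Secs V := MorphismProperty.Over.homMk w.left (Over.w w)
        have : w' ≫ g = t := MorphismProperty.Over.Hom.ext (congrArg CommaMorphism.left hw)
        exact this ▸ S.downward_closed hg w'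
      refine ⟨fun t => y t (hex t) (𝟙 _), fun V g hg => ?_, fun z hz => ?_⟩
      · funext t
        have h := congrFun (hy (𝟙 (EtCoh.top X)) t (hex (t ≫ g)) hg (Category.id_comp _)) (𝟙 _)
        simpa [P] using h
      · funext t
        have h := congrFun (hz t (hex t)) (𝟙 _)
        simpa [P] using h
    refine ⟨⟨P, (isSheaf_iff_isSheaf_of_type _ _).2 hP⟩, ⟨Equiv.toIso ?_⟩⟩
    exact { toFun := fun z => z (𝟙 _), invFun := fun m _ => m,
            left_inv := fun z => funext fun t => congrArg z (hom_top_subsingleton _ _ _),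
            right_inv := fun m => rfl }

end Groth.Agent.EtSite.SepClosedSets
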