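import Groth.Prelude.Def_EtBase
import Groth.Agent.EtSite.Points
import Groth.Agent.EtSite.PushEpi
import Mathlib.AlgebraicGeometry.Limits

/-!
# A criterion for sheaves on the small étale site
-/

set_option autoImplicit false
universe w u

open CategoryTheory CategoryTheory.Limits AlgebraicGeometry Opposite

namespace Groth.Agent.EtSite

variable {X : Scheme.{u}}

/-- The Zariski topology on the small étale site. -/
abbrev zarTop (X : Scheme.{u}) : GrothendieckTopology X.Etale :=
  X.smallGrothendieckTopology (P := @IsOpenImmersion)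

theorem isOpenImmersion_le_etale : (@IsOpenImmersion : MorphismProperty Scheme.{u}) ≤ EtCoh.etaleMP :=
  fun _ _ f (_ : IsOpenImmersion f) => (inferInstance : Etale f)

theorem mem_zarTop_iff {U : X.Etale} {R : Sieve U} :
    R ∈ zarTop X U ↔ ∀ x : U.left, ∃ (V : X.Etale) (g : V ⟶ U) (v : V.left),
      R g ∧ IsOpenImmersion g.left ∧ g.left.base v = x := by
  have e : zarTop X = (X.smallPretopology (P := @IsOpenImmersion) (Q := EtCoh.etaleMP)).toGrothendieck :=
    Scheme.smallGrothendieckTopology_eq_toGrothendieck_smallPretopology X isOpenImmersion_le_etale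
  rw [e]
  exact Scheme.mem_toGrothendieck_smallPretopology U R

theorem zarTop_le : zarTop X ≤ X.smallEtaleTopology := fun U R hR =>
  mem_smallEtaleTopology_of_points U R fun x => by
    obtain ⟨V, g, v, hg, -, hv⟩ := mem_zarTop_iff.1 hR x
    exact ⟨V, g, v, hg, hv⟩

theorem exists_affine_refinement {U : X.Etale} {R : Sieve U} (hR : R ∈ X.smallEtaleTopology U)
    (O : U.left.Opens) (hO : IsAffineOpen O) :
    ∃ (Vt : X.Etale) (_ : IsAffine Vt.left) (O' : X.Etale) (_ : IsAffine O'.left) (i : O' ⟶ U)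
      (_ : IsOpenImmersion i.left) (_ : Set.range i.left.base = (O : Set U.left))
      (f : Vt ⟶ O') (_ : Surjective f.left) (κ : Type u) (P : κ → X.Etale) (c : ∀ k, P k ⟶ Vt),
      (∀ k, IsOpenImmersion (c k).left) ∧ (∀ z, ∃ k, z ∈ Set.range (c k).left.base) ∧
        ∀ k, R (c k ≫ f ≫ i) := by
  classical
  have : IsAffine O := hO
  have : Etale U.hom := U.prop
  let O' : X.Etale := Scheme.Etale.mk (O.ι ≫ U.hom)
  let i : O' ⟶ U := MorphismProperty.Over.homMk O.ι rfl
  have hR' := X.smallEtaleTopology.pullback_stable i hR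
  choose V g v hg hget hgv using fun y => exists_mem_of_mem_smallEtaleTopology hR' y
  choose W hW hvW hWsub using fun y =>
    exists_isAffineOpen_mem_and_subset (U := (⊤ : (V y).left.Opens)) (x := v y) trivial
  have : CompactSpace O'.left := inferInstanceAs (CompactSpace (O : Scheme.{u}))
  obtain ⟨t, ht⟩ := (isCompact_univ (X := O'.left)).elim_finite_subcover
    (fun y => ((W y).ι ≫ (g y).left).base '' Set.univ)
    (fun y => by
      have := hget y
      exact ((W y).ι ≫ (g y).left).isOpenMap _ isOpen_univ)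
    (fun y _ => Set.mem_iUnion.2 ⟨y, ⟨v y, hvW y⟩, trivial,
      (Scheme.Hom.comp_apply _ _ _).trans (hgv y)⟩)
  let Wt : ↥(t : Set O'.left) → Scheme.{u} := fun y => (W y.1 : Scheme.{u})
  have : ∀ y, IsAffine (Wt y) := fun y => hW y.1
  let h : ∀ y, Wt y ⟶ X := fun y => (W y.1).ι ≫ (V y.1).hom
  have hh : ∀ y, Etale (h y) := fun y => by
    have : Etale (V y.1).hom := (V y.1).prop
    exact inferInstanceAs (Etale ((W y.1).ι ≫ (V y.1).hom))
  let Vt : X.Etale := @Scheme.Etale.mk X (∐ Wt) (Sigma.desc h)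
    (IsZariskiLocalAtSource.sigmaDesc (P := @Etale) hh)
  let f : Vt ⟶ O' := MorphismProperty.Over.homMk (Sigma.desc fun y => (W y.1).ι ≫ (g y.1).left)
    (Sigma.hom_ext _ _ fun y => by
      refine (Category.assoc _ _ _).symm.trans ((congrArg (· ≫ O'.hom) (Sigma.ι_desc _ y)).trans ?_)
      refine (Category.assoc _ _ _).trans ?_
      exact (congrArg ((W y.1).ι ≫ ·) (MorphismProperty.Over.w (g y.1))).trans
        (Sigma.ι_desc (fun y => h y) y).symm)
  let P : ↥(t : Set O'.left) → X.Etale := fun y => @Scheme.Etale.mk X (Wt y) (h y) (hh y)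
  let c : ∀ y, P y ⟶ Vt := fun y => MorphismProperty.Over.homMk (Sigma.ι Wt y) (Sigma.ι_desc _ _)
  refine ⟨Vt, inferInstanceAs (IsAffine (∐ Wt)), O', hO, i, inferInstanceAs (IsOpenImmersion O.ι),
    Scheme.Opens.range_ι O, f, ⟨fun y => ?_⟩, ↥(t : Set O'.left), P, c,
    fun y => inferInstanceAs (IsOpenImmersion (Sigma.ι Wt y)), fun z => ?_, fun y => ?_⟩
  · have hy := ht (Set.mem_univ y)
    simp only [Set.mem_iUnion] at hy
    obtain ⟨y', hy', w, -, hw⟩ := hy
    refine ⟨(Sigma.ι Wt ⟨y', hy'⟩).base w, ?_⟩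
    refine (Scheme.Hom.comp_apply _ _ _).symm.trans (Eq.trans ?_ hw)
    exact congrArg (fun m : Wt ⟨y', hy'⟩ ⟶ O'.left => m.base w) (Sigma.ι_desc _ _)
  · obtain ⟨k, y, hy⟩ := (sigmaOpenCover Wt).exists_eq z
    exact ⟨k, y, hy⟩
  · let l : P y ⟶ V y.1 := MorphismProperty.Over.homMk (W y.1).ι rfl
    have e : c y ≫ f = l ≫ g y.1 := MorphismProperty.Over.Hom.ext (Sigma.ι_desc _ _)
    have h1 : (R.pullback i) (l ≫ g y.1) := (R.pullback i).downward_closed (hg y.1) l
    rw [← Category.assoc, e]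
    exact h1

theorem zar_separated_arrows {F : X.Etaleᵒᵖ ⥤ Type w} (hZ : Presieve.IsSheaf (zarTop X) F)
    {U : X.Etale} {s t : F.obj (op U)}
    (h : ∀ x : U.left, ∃ (V : X.Etale) (g : V ⟶ U) (v : V.left), IsOpenImmersion g.left ∧
      g.left.base v = x ∧ F.map g.op s = F.map g.op t) : s = t := by
  choose V g v hg hv he using h
  refine (hZ.isSeparated (Sieve.ofArrows V g) (mem_zarTop_iff.2 fun x =>
    ⟨V x, g x, v x, Sieve.ofArrows_mk V g x, hg x, hv x⟩)).ext fun W k hk => ?_
  obtain ⟨x, m, rfl⟩ := (Sieve.mem_ofArrows_iff _ _ _).1 hk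
  rw [op_comp, Functor.map_comp_apply, Functor.map_comp_apply, he]

variable {F : X.Etaleᵒᵖ ⥤ Type w} (hZ : Presieve.IsSheaf (zarTop X) F)
  (hS : ∀ (U V : X.Etale) [IsAffine U.left] [IsAffine V.left] (f : V ⟶ U) [Surjective f.left],
    Presieve.IsSheafFor F (Presieve.singleton f))

include hZ hS

theorem etale_separated {U : X.Etale} {R : Sieve U} (hR : R ∈ X.smallEtaleTopology U)
    {s t : F.obj (op U)} (h : ∀ ⦃W : X.Etale⦄ (g : W ⟶ U), R g → F.map g.op s = F.map g.op t) :
    s = t := by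
  refine zar_separated_arrows hZ fun x => ?_
  obtain ⟨O, hO, hxO, -⟩ := exists_isAffineOpen_mem_and_subset (U := (⊤ : U.left.Opens)) (x := x) trivial
  obtain ⟨Vt, _, O', _, i, hi, hir, f, _, κ, P, c, hc, hcov, hR'⟩ := exists_affine_refinement hR O hO
  obtain ⟨v, hv⟩ : x ∈ Set.range i.left.base := hir ▸ hxO
  refine ⟨O', i, v, hi, hv, (hS O' Vt f).isSeparatedFor.ext fun W k hk => ?_⟩
  obtain ⟨rfl, rfl⟩ := hk
  refine zar_separated_arrows hZ fun z => ?_
  obtain ⟨k, v', hv'⟩ := hcov z
  refine ⟨P k, c k, v', hc k, hv', ?_⟩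
  simp only [← Functor.map_comp_apply, ← op_comp]
  exact h _ (hR' k)

theorem etale_isSheaf : Presieve.IsSheaf X.smallEtaleTopology F := by
  intro U R hR x hx
  let T : Sieve U :=
    { arrows := fun W g => ∃ z : F.obj (op W), ∀ ⦃W' : X.Etale⦄ (h : W' ⟶ W) (hh : R (h ≫ g)),
          F.map h.op z = x (h ≫ g) hh
      downward_closed := by
        rintro W W'' g ⟨z, hz⟩ k
        refine ⟨F.map k.op z, fun W' h hh => ?_⟩
        rw [← Functor.map_comp_apply, ← op_comp]
        have hh' : R ((h ≫ k) ≫ g) := by rwa [Category.assoc]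
        exact (hz (h ≫ k) hh').trans (by congr 1 <;> simp) }
  have uniq : ∀ {W : X.Etale} (g : W ⟶ U) (z z' : F.obj (op W)),
      (∀ ⦃W' : X.Etale⦄ (h : W' ⟶ W) (hh : R (h ≫ g)), F.map h.op z = x (h ≫ g) hh) →
      (∀ ⦃W' : X.Etale⦄ (h : W' ⟶ W) (hh : R (h ≫ g)), F.map h.op z' = x (h ≫ g) hh) → z = z' :=
    fun g z z' hz hz' => etale_separated hZ hS (X.smallEtaleTopology.pullback_stable g hR)
      fun W' h hh => (hz h hh).trans (hz' h hh).symm
  have hT : T ∈ zarTop X U := mem_zarTop_iff.2 fun p => by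
    obtain ⟨O, hO, hpO, -⟩ := exists_isAffineOpen_mem_and_subset (U := (⊤ : U.left.Opens)) (x := p) trivial
    obtain ⟨Vt, _, O', _, i, hi, hir, f, _, κ, P, c, hc, hcov, hR'⟩ := exists_affine_refinement hR O hO
    obtain ⟨v, hv⟩ : p ∈ Set.range i.left.base := hir ▸ hpO
    refine ⟨O', i, v, ?_, hi, hv⟩
    let S : Sieve Vt := R.pullback (f ≫ i)
    have hSc : S ∈ zarTop X Vt := mem_zarTop_iff.2 fun z => by
      obtain ⟨k, v', hv'⟩ := hcov z
      exact ⟨P k, c k, v', hR' k, hc k, hv'⟩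
    let xS : Presieve.FamilyOfElements F S.arrows := fun W g hg => x (g ≫ f ≫ i) hg
    have hxS : xS.Compatible := fun Y₁ Y₂ Z g₁ g₂ a b ha hb e =>
      hx g₁ g₂ ha hb (by rw [reassoc_of% e])
    obtain ⟨y, hy, -⟩ := hZ S hSc xS hxS
    obtain ⟨z, hz, -⟩ := (Presieve.isSheafFor_singleton.1 (hS O' Vt f)) y fun {Z} p₁ p₂ hp =>
      etale_separated hZ hS (X.smallEtaleTopology.intersection_covering
        (X.smallEtaleTopology.pullback_stable p₁ (zarTop_le _ hSc))
        (X.smallEtaleTopology.pullback_stable p₂ (zarTop_le _ hSc))) fun W h hh => by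
        rw [← Functor.map_comp_apply, ← Functor.map_comp_apply, ← op_comp, ← op_comp,
          hy _ hh.1, hy _ hh.2]
        show x _ _ = x _ _
        congr 1
        simp only [Category.assoc, reassoc_of% hp]
    refine ⟨z, fun W' h hh => ?_⟩
    have hcov' : Sieve.ofArrows P (fun k => c k ≫ f) ∈ X.smallEtaleTopology O' :=
      mem_smallEtaleTopology_of_points _ _ fun q => by
        obtain ⟨w, rfl⟩ := f.left.surjective q
        obtain ⟨k, v', rfl⟩ := hcov w
        exact ⟨P k, c k ≫ f, v', Sieve.ofArrows_mk _ _ k, Scheme.Hom.comp_apply _ _ _⟩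
    refine etale_separated hZ hS (X.smallEtaleTopology.pullback_stable h hcov') fun W k hk => ?_
    obtain ⟨a, m, hm⟩ := (Sieve.mem_ofArrows_iff _ _ _).1 hk
    rw [← Functor.map_comp_apply, ← op_comp, hm, op_comp, op_comp, Functor.map_comp_apply,
      Functor.map_comp_apply, hz, hy _ (hR' a)]
    have := hx m k (hR' a) hh (by rw [← Category.assoc k h i, hm]; simp only [Category.assoc])
    exact this
  choose z hz using fun (W : X.Etale) (g : W ⟶ U) (hg : T g) => hg
  have hzc : Presieve.FamilyOfElements.Compatible (P := F) (R := T.arrows) (fun W g hg => z W g hg) := by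
    intro Y₁ Y₂ Z g₁ g₂ a b ha hb e
    refine uniq (g₁ ≫ a) _ _ (fun W' h hh => ?_) (fun W' h hh => ?_)
    · rw [← Functor.map_comp_apply, ← op_comp, hz _ _ ha (h ≫ g₁) (by rwa [Category.assoc])]
      congr 1 <;> simp
    · rw [← Functor.map_comp_apply, ← op_comp,
        hz _ _ hb (h ≫ g₂) (by rw [Category.assoc, ← e]; exact hh)]
      congr 1 <;> simp [e]
  obtain ⟨w, hw, -⟩ := hZ T hT _ hzc
  refine ⟨w, fun W g hg => ?_, fun w' hw' => etale_separated hZ hS hR fun W g hg => ?_⟩
  · refine etale_separated hZ hS (X.smallEtaleTopology.pullback_stable g (zarTop_le _ hT))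
      fun W' h hh => ?_
    rw [← Functor.map_comp_apply, ← op_comp, hw _ hh]
    have hR'' : R (h ≫ g) := R.downward_closed hg h
    have h1 := hz _ _ hh (𝟙 W') (by rwa [Category.id_comp])
    rw [op_id, Functor.map_id_apply] at h1
    refine h1.trans ?_
    have h2 := hx (𝟙 W') h (show R (h ≫ g) from hR'') hg (Category.id_comp _)
    rw [op_id, Functor.map_id_apply] at h2
    refine Eq.trans ?_ h2
    congr 1 <;> simp
  · rw [hw' g hg]
    refine etale_separated hZ hS (X.smallEtaleTopology.pullback_stable g (zarTop_le _ hT))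
      fun W' h hh => ?_
    rw [← Functor.map_comp_apply F g.op h.op w, ← op_comp, hw _ hh]
    have hR'' : R (h ≫ g) := R.downward_closed hg h
    have h1 := hz _ _ hh (𝟙 W') (by rwa [Category.id_comp])
    rw [op_id, Functor.map_id_apply] at h1
    have h2 := hx h (𝟙 W') hg (show R (h ≫ g) from hR'') (Category.id_comp _).symm
    rw [op_id, Functor.map_id_apply] at h2
    refine h2.trans (Eq.trans ?_ h1.symm)
    congr 1 <;> simp

end Groth.Agent.EtSite
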