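import Groth.Agent.S9559
import Groth.Agent.EtSite.SpecConstr
import Groth.Agent.EtSite.TopInv
import Mathlib.AlgebraicGeometry.Morphisms.QuasiSeparated
import Groth.Agent.Weighting.Basic
import Mathlib.AlgebraicGeometry.Morphisms.UniversallyOpen

/-!
# Sheets of a finite étale morphism and fibre counts of opens
-/

set_option autoImplicit false
universe u

open CategoryTheory CategoryTheory.Limits AlgebraicGeometry Topology TopologicalSpace
open Groth.Agent.Weighting

namespace Groth.Agent.EtSite.Sheets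

variable {X Y : Scheme.{u}} (f : X ⟶ Y)

/-- An affine étale chart splitting `f` into sheets. -/
structure Chart where
  V : Scheme.{u}
  affine : IsAffine V
  g : V ⟶ Y
  etale : Etale g
  n : ℕ
  t : Fin n → (V ⟶ X)
  comm : ∀ i, t i ≫ f = g
  cover : ∀ z : (pullback f g : Scheme.{u}),
    ∃! i, z = pullback.lift (t i) (𝟙 V) ((comm i).trans (Category.id_comp g).symm) (pullback.snd f g z)

theorem exists_chart [IsFinite f] [Etale f] (y : Y) : ∃ c : Chart f, y ∈ Set.range c.g := by
  obtain ⟨U, g, hg, u, hu, n, V, c, hc, e, he⟩ := Groth.Agent.S9559.result f y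
  obtain ⟨O, hO, huO, -⟩ := exists_isAffineOpen_mem_and_subset (x := u) (U := ⊤) trivial
  let s : ∀ i, U ⟶ pullback f g := fun i => inv (c i) ≫ Sigma.ι V i ≫ e.hom
  have hs : ∀ i, s i ≫ pullback.snd f g = 𝟙 U := fun i => by
    simp only [s, Category.assoc, he, IsIso.inv_hom_id]
  let m : pullback f (O.ι ≫ g) ⟶ pullback f g :=
    pullback.map f (O.ι ≫ g) f g (𝟙 _) O.ι (𝟙 _) (by simp) (by simp)
  have hm : IsOpenImmersion m :=
    inferInstanceAs (IsOpenImmersion (pullback.map f (O.ι ≫ g) f g (𝟙 _) O.ι (𝟙 _) _ _))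
  let t : Fin n → (O.toScheme ⟶ X) := fun i => O.ι ≫ s i ≫ pullback.fst f g
  have ht : ∀ i, t i ≫ f = O.ι ≫ g := fun i => by
    simp only [t, Category.assoc, pullback.condition, reassoc_of% (hs i)]
  have hsm : ∀ i, pullback.lift (t i) (𝟙 _) ((ht i).trans (Category.id_comp _).symm) ≫ m = O.ι ≫ s i := by
    intro i
    apply pullback.hom_ext
    · simp only [t, m, Category.assoc]
      erw [pullback.lift_fst, pullback.lift_fst_assoc, Category.comp_id]
    · simp only [m, Category.assoc]
      erw [pullback.lift_snd, pullback.lift_snd_assoc, Category.id_comp, hs i, Category.comp_id]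
  have hm_snd : m ≫ pullback.snd f g = pullback.snd f (O.ι ≫ g) ≫ O.ι := pullback.lift_snd _ _ _
  refine ⟨⟨O, hO, O.ι ≫ g, inferInstance, n, t, ht, fun z => ?_⟩, ⟨u, huO⟩, ?_⟩
  · obtain ⟨i, q, hq⟩ := (sigmaOpenCover V).exists_eq (e.inv (m z))
    change Sigma.ι V i q = _ at hq
    have hw : m z = s i (c i q) := by
      have h1 : e.hom (e.inv (m z)) = m z := by rw [← Scheme.Hom.comp_apply, Iso.inv_hom_id]; rfl
      have h2 : inv (c i) (c i q) = q := by rw [← Scheme.Hom.comp_apply, IsIso.hom_inv_id]; rfl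
      rw [← h1, ← hq]
      simp only [s, Scheme.Hom.comp_apply]
      rw [h2]
    have hw2 : c i q = O.ι (pullback.snd f (O.ι ≫ g) z) := by
      have h1 : pullback.snd f g (s i (c i q)) = c i q := by
        rw [← Scheme.Hom.comp_apply, hs]; rfl
      rw [← h1, ← hw, ← Scheme.Hom.comp_apply, hm_snd, Scheme.Hom.comp_apply]
    refine ⟨i, m.isOpenEmbedding.injective ?_, fun j hj => ?_⟩
    · exact hw.trans ((congrArg (s i) hw2).trans ((Scheme.Hom.comp_apply _ _ _).symm.trans
        ((congrArg (fun φ : O.toScheme ⟶ pullback f g => φ (pullback.snd f (O.ι ≫ g) z)) (hsm i).symm).trans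
          (Scheme.Hom.comp_apply _ _ _))))
    · by_contra hne
      have h1 : m z = s j (O.ι (pullback.snd f (O.ι ≫ g) z)) := by
        conv_lhs => rw [hj]
        rw [← Scheme.Hom.comp_apply (pullback.lift (t j) _ _) m, hsm, Scheme.Hom.comp_apply]
      rw [hw] at h1
      simp only [s, Scheme.Hom.comp_apply] at h1
      exact Set.disjoint_left.1 (TopologicalSpace.Opens.coe_disjoint.2
        (disjoint_opensRange_sigmaι (g := V) i j (Ne.symm hne)))
        ⟨_, rfl⟩ ⟨_, (e.hom.isOpenEmbedding.injective h1).symm⟩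
  · rw [Scheme.Hom.comp_apply]
    exact hu

variable {f}

/-- The sheets over `v` lying in `U`. -/
def Chart.idx (c : Chart f) (U : X.Opens) (v : c.V) : Set (Fin c.n) := {i | c.t i v ∈ U}

/-- The number of geometric points over `y` in `U`. -/
noncomputable def cnt (f : X ⟶ Y) (U : X.Opens) (y : Y) : ℕ :=
  Nat.card (geoFib f (geoPt Y y) (U : Set X))

theorem Chart.cnt_eq [Etale f] (c : Chart f) (U : X.Opens) (v : c.V) : cnt f U (c.g v) = (c.idx U v).ncard := by
  classical
  have := c.etale
  obtain ⟨δ, hδ, hδv⟩ := exists_geo_lift c.g (geoPt Y (c.g v)) v (pt_geoPt Y _).symm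
  let L : Fin c.n → (Spec (CommRingCat.of (AlgebraicClosure (Y.residueField (c.g v)))) ⟶
      pullback f c.g) := fun i => δ ≫ pullback.lift (c.t i) (𝟙 c.V) ((c.comm i).trans (Category.id_comp _).symm)
  have hLpt : ∀ i, pt (L i) = pullback.lift (c.t i) (𝟙 c.V) ((c.comm i).trans (Category.id_comp _).symm) v :=
    fun i => (pt_comp _ _).trans (congrArg _ hδv)
  refine (Nat.card_congr ?_).symm
  refine Equiv.ofBijective (fun i => ⟨δ ≫ c.t i.1, by
    rw [Category.assoc, c.comm, hδ], by
    show pt (δ ≫ c.t i.1) ∈ U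
    rw [pt_comp, hδv]
    exact i.2⟩) ⟨fun i j h => ?_, fun ⟨ξ, hξ, hξU⟩ => ?_⟩
  · have h' : δ ≫ c.t i.1 = δ ≫ c.t j.1 := congrArg Subtype.val h
    have e : L i.1 = L j.1 := pullback.hom_ext
      (by simp only [L, Category.assoc, pullback.lift_fst, h'])
      (by simp only [L, Category.assoc, pullback.lift_snd])
    have hsnd : ∀ k, pullback.snd f c.g (pt (L k)) = v := fun k => by
      rw [← pt_comp]; simp only [L, Category.assoc, pullback.lift_snd, Category.comp_id]; exact hδv
    refine Subtype.ext ((c.cover (pt (L i.1))).unique ?_ ?_)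
    · rw [hsnd, hLpt]
    · rw [hsnd, e, hLpt]
  · let l := pullback.lift ξ δ (hξ.trans hδ.symm)
    obtain ⟨i, hi, -⟩ := c.cover (pt l)
    have hl : pullback.snd f c.g (pt l) = v := by rw [← pt_comp, pullback.lift_snd]; exact hδv
    rw [hl] at hi
    have hlft : IsOpenImmersion (pullback.lift (c.t i) (𝟙 c.V) ((c.comm i).trans (Category.id_comp c.g).symm)) := by
      have : Etale (pullback.snd f c.g) := MorphismProperty.pullback_snd _ _ inferInstance
      exact isOpenImmersion_of_section (pullback.snd f c.g) _ (pullback.lift_snd _ _ _)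
    have hr : Set.range l ⊆ Set.range
        (pullback.lift (c.t i) (𝟙 c.V) ((c.comm i).trans (Category.id_comp c.g).symm)) := by
      rw [range_eq_pt]
      rintro _ rfl
      exact ⟨v, hi.symm⟩
    let k := IsOpenImmersion.lift _ l hr
    have hk := IsOpenImmersion.lift_fac _ l hr
    have hkδ : k = δ := (Category.comp_id _).symm.trans
      ((congrArg (k ≫ ·) (pullback.lift_snd _ _ _).symm).trans ((Category.assoc _ _ _).symm.trans
        ((congrArg (· ≫ pullback.snd f c.g) hk).trans (pullback.lift_snd _ _ _))))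
    have e : δ ≫ c.t i = ξ := by
      rw [← hkδ]
      exact (congrArg (k ≫ ·) (pullback.lift_fst _ _ _).symm).trans ((Category.assoc _ _ _).symm.trans
        ((congrArg (· ≫ pullback.fst f c.g) hk).trans (pullback.lift_fst _ _ _)))
    refine ⟨⟨i, ?_⟩, Subtype.ext e⟩
    show c.t i v ∈ U
    rw [← hδv, ← pt_comp, e]
    exact hξU

theorem Chart.idx_subset (c : Chart f) (U : X.Opens) {v v' : c.V} (h : v' ⤳ v) :
    c.idx U v ⊆ c.idx U v' := fun i hi =>
  (h.map (c.t i).continuous).mem_open U.2 hi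

end Groth.Agent.EtSite.Sheets
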