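import Groth.Agent.EtSite.Specialize
import Groth.Agent.EtSite.StrataLocus
import Mathlib.RingTheory.Spectrum.Prime.ConstructibleSet

/-!
# Local constancy and specialization maps
-/

set_option autoImplicit false
universe u

open CategoryTheory CategoryTheory.Limits AlgebraicGeometry Opposite Topology TopologicalSpace

namespace Groth.Agent.EtSite.SpecFLC

open LocConst FLCBasic FLCOps Specialize

/-- The specialization map at `F` of an arrow between geometric points. -/
noncomputable abbrev spMap {X : Scheme.{u}} {Ω Ω' : Type u} [Field Ω] [IsSepClosed Ω] [Field Ω']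
    [IsSepClosed Ω'] {ξ : Spec (CommRingCat.of Ω) ⟶ X} {ξ' : Spec (CommRingCat.of Ω') ⟶ X}
    (φ : Scheme.pointSmallEtale ξ' ⟶ Scheme.pointSmallEtale ξ) (F : EtCoh.Ab X) :=
  (GrothendieckTopology.Point.Hom.sheafFiber (A := AddCommGrpCat.{u + 1}) φ).app F

section onBase

variable {S : Scheme.{u}}

/-- The element of the fibre of the terminal object. -/
noncomputable def topElt {Ω : Type u} [Field Ω] [IsSepClosed Ω] (s : Spec (CommRingCat.of Ω) ⟶ S) :
    (Scheme.pointSmallEtale s).fiber.obj (EtCoh.top S) :=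
  Over.homMk s (Category.comp_id _)

theorem topElt_unique {Ω : Type u} [Field Ω] [IsSepClosed Ω] {s : Spec (CommRingCat.of Ω) ⟶ S}
    (t : (Scheme.pointSmallEtale s).fiber.obj (EtCoh.top S)) : t = topElt s :=
  Over.OverMorphism.ext ((Category.comp_id _).symm.trans (Over.w t))

variable (G : EtCoh.Ab S) {H : Type (u + 1)} [AddCommGroup H] (φ : H →+ EtCoh.sect G (EtCoh.top S))

/-- The homomorphism is bijective on the stalk at `s`. -/
def BijAt {Ω : Type u} [Field Ω] [IsSepClosed Ω] (s : Spec (CommRingCat.of Ω) ⟶ S) : Prop :=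
  Function.Bijective ((gm s G (EtCoh.top S) (topElt s)).comp φ)

theorem bijAt_iff {Ω Ω' : Type u} [Field Ω] [IsSepClosed Ω] [Field Ω'] [IsSepClosed Ω']
    {s : Spec (CommRingCat.of Ω) ⟶ S} {s' : Spec (CommRingCat.of Ω') ⟶ S}
    (ψ : Scheme.pointSmallEtale s' ⟶ Scheme.pointSmallEtale s)
    (h : Function.Bijective (spMap ψ G)) : BijAt G φ s ↔ BijAt G φ s' := by
  have e : (⇑((gm s' G (EtCoh.top S) (topElt s')).comp φ)) =
      (spMap ψ G) ∘ ⇑((gm s G (EtCoh.top S) (topElt s)).comp φ) := funext fun m =>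
    ((sheafFiber_germ ψ G (EtCoh.top S) (topElt s) (φ m)).trans (by rw [topElt_unique (ψ.hom.app _ _)]; rfl)).symm
  unfold BijAt
  rw [e]
  exact (Function.Bijective.of_comp_iff' h _).symm

/-- Points over which the homomorphism is bijective on all stalks. -/
def bijLocus : Set S :=
  {p | ∀ (Ω : Type u) [Field Ω] [IsSepClosed Ω] (s : Spec (CommRingCat.of Ω) ⟶ S),
    s default = p → BijAt G φ s}

/-- Specialization maps at `G` inside a set are bijective. -/
def SpBij (A : Set S) : Prop :=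
  ∀ (Ω Ω' : Type u) [Field Ω] [IsSepClosed Ω] [Field Ω'] [IsSepClosed Ω']
    (s : Spec (CommRingCat.of Ω) ⟶ S) (s' : Spec (CommRingCat.of Ω') ⟶ S)
    (ψ : Scheme.pointSmallEtale s' ⟶ Scheme.pointSmallEtale s),
    s default ∈ A → s' default ⤳ s default → Function.Bijective (spMap ψ G)

variable {G φ}

theorem mem_bijLocus_iff {A : Set S} (hA : SpBij G A) {p p' : S} (hp : p ∈ A) (hgen : p' ⤳ p) :
    p ∈ bijLocus G φ ↔ p' ∈ bijLocus G φ := by
  constructor
  · intro h Ω _ _ s hs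
    have hw : (gpt p) default = p := gpt_apply p _
    obtain ⟨ψ⟩ := nonempty_pointHom (ξ := gpt p) s (hw.symm ▸ hs.symm ▸ hgen)
    exact (bijAt_iff G φ ψ (hA _ _ (gpt p) s ψ (hw.symm ▸ hp) (hw.symm ▸ hs.symm ▸ hgen))).1
      (h _ _ hw)
  · intro h Ω _ _ s hs
    have hw : (gpt p') default = p' := gpt_apply p' _
    obtain ⟨ψ⟩ := nonempty_pointHom (ξ := s) (gpt p') (hw.symm ▸ hs.symm ▸ hgen)
    exact (bijAt_iff G φ ψ (hA _ _ s (gpt p') ψ (hs.symm ▸ hp) (hw.symm ▸ hs.symm ▸ hgen))).2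
      (h _ _ hw)

theorem mem_bijLocus_of_bijAt {A : Set S} (hA : SpBij G A) {Ω : Type u} [Field Ω] [IsSepClosed Ω]
    (s : Spec (CommRingCat.of Ω) ⟶ S) (hp : s default ∈ A) (h : BijAt G φ s) :
    s default ∈ bijLocus G φ := fun Ω' _ _ s' hs' => by
  obtain ⟨ψ⟩ := nonempty_pointHom (ξ := s) s' (hs' ▸ specializes_rfl)
  exact (bijAt_iff G φ ψ (hA _ _ s s' ψ hp (hs' ▸ specializes_rfl))).1 h

/-- In a noetherian sober space, a set stable under specialization and generization is clopen. -/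
theorem isOpen_of_stable {T : Type*} [TopologicalSpace T] [NoetherianSpace T] [QuasiSober T]
    {E : Set T} (hE : ∀ ⦃p p' : T⦄, p' ⤳ p → (p ∈ E ↔ p' ∈ E)) : IsOpen E := by
  rw [← isClosed_compl_iff]
  have : Eᶜ = ⋃ Z ∈ {Z ∈ irreducibleComponents T | Z ⊆ Eᶜ}, Z := by
    ext p
    simp only [Set.mem_iUnion, exists_prop]
    refine ⟨fun hp => ?_, fun ⟨Z, hZ, hpZ⟩ => hZ.2 hpZ⟩
    have hmem := irreducibleComponent_mem_irreducibleComponents p
    obtain ⟨η, hη⟩ := QuasiSober.sober hmem.1 isClosed_irreducibleComponent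
    refine ⟨_, ⟨hmem, fun z hz hzE => hp ?_⟩, mem_irreducibleComponent⟩
    exact (hE (hη.specializes mem_irreducibleComponent)).2 ((hE (hη.specializes hz)).1 hzE)
  rw [this]
  exact Set.Finite.isClosed_biUnion (NoetherianSpace.finite_irreducibleComponents.subset fun Z hZ => hZ.1)
    fun Z hZ => isClosed_of_mem_irreducibleComponents Z hZ.1

end onBase

variable {X : Scheme.{u}} (F : EtCoh.Ab X) (W : X.Etale) {H : Type (u + 1)} [AddCommGroup H]
  (φ₀ : H →+ EtCoh.sect F W)

/-- The diagonal, as a map from the terminal object. -/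
noncomputable def diagHom : EtCoh.top W.left ⟶ (EtCoh.bc W.hom).obj W :=
  MorphismProperty.Over.homMk (pullback.lift (𝟙 W.left) (𝟙 W.left) rfl) (pullback.lift_snd _ _ _)

/-- A section over `W`, as a global section of the restriction to `W`. -/
noncomputable def toW : H →+ EtCoh.sect ((EtCoh.pull W.hom).obj F) (EtCoh.top W.left) :=
  (((EtCoh.pull W.hom).obj F).obj.map (diagHom W).op).hom.comp
    ((((EtCoh.pullPushAdj W.hom).unit.app F).hom.app (op W)).hom.comp φ₀)

theorem bijAt_toW_iff {Ω : Type u} [Field Ω] [IsSepClosed Ω] (s : Spec (CommRingCat.of Ω) ⟶ W.left) :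
    BijAt ((EtCoh.pull W.hom).obj F) (toW F W φ₀) s ↔
      Function.Bijective ((gm (s ≫ W.hom) F W (Over.homMk s rfl)).comp φ₀) := by
  let e := (stalkPullIso W.hom s).app F
  have h : (⇑((gm s ((EtCoh.pull W.hom).obj F) (EtCoh.top W.left) (topElt s)).comp (toW F W φ₀))) =
      e.hom ∘ ⇑((gm (s ≫ W.hom) F W (Over.homMk s rfl)).comp φ₀) := funext fun m => by
    refine Eq.trans ?_ (ConcreteCategory.congr_hom (toPresheafFiber_stalkPullIso_hom W.hom s F W
      (Over.homMk s rfl)) (φ₀ m)).symm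
    refine gm_res _ (diagHom W) ?_ _
    refine Over.OverMorphism.ext (pullback.hom_ext ?_ ?_)
    · exact (Category.assoc _ _ _).trans ((congrArg (s ≫ ·) (pullback.lift_fst _ _ _)).trans
        ((Category.comp_id _).trans (bcPt_left_fst W.hom s W (Over.homMk s rfl)).symm))
    · exact (Category.assoc _ _ _).trans ((congrArg (s ≫ ·) (pullback.lift_snd _ _ _)).trans
        ((Category.comp_id _).trans (bcPt_left_snd W.hom s W (Over.homMk s rfl)).symm))
  exact (iff_of_eq (congrArg Function.Bijective h)).trans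
    (Function.Bijective.of_comp_iff' ((ConcreteCategory.isIso_iff_bijective e.hom).1 inferInstance) _)

theorem bijAt_toW_iff' {Ω : Type u} [Field Ω] [IsSepClosed Ω] (s : Spec (CommRingCat.of Ω) ⟶ W.left)
    {ξ : Spec (CommRingCat.of Ω) ⟶ X} (hs : s ≫ W.hom = ξ) :
    BijAt ((EtCoh.pull W.hom).obj F) (toW F W φ₀) s ↔
      Function.Bijective ((gm ξ F W (Over.homMk s hs)).comp φ₀) := by
  subst hs
  exact bijAt_toW_iff F W φ₀ s

variable {F W φ₀}

/-- An open subset of the bijectivity locus gives a local trivialization. -/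
theorem germBij_of_subset (O : W.left.Opens)
    (hO : (O : Set W.left) ⊆ bijLocus ((EtCoh.pull W.hom).obj F) (toW F W φ₀)) :
    GermBij F (AllPoints.res W O) ((F.obj.map (AllPoints.resι W O).op).hom.comp φ₀) := by
  intro Ω _ _ ξ t
  let tl : Spec (CommRingCat.of Ω) ⟶ O.toScheme := t.left
  have hs : (tl ≫ O.ι) ≫ W.hom = ξ := (Category.assoc _ _ _).trans (Over.w t)
  have h := (bijAt_toW_iff' F W φ₀ (tl ≫ O.ι) hs).1 (hO (show (tl ≫ O.ι) default ∈ O by
    rw [Scheme.Hom.comp_apply]; exact (tl default).2) Ω _ rfl)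
  exact Eq.subst (motive := Function.Bijective)
    (funext fun m => (gm_res F (AllPoints.resι W O) (Over.OverMorphism.ext rfl) _).symm) h

theorem spBij_pull {A : Set X}
    (h : ∀ (Ω Ω' : Type u) [Field Ω] [IsSepClosed Ω] [Field Ω'] [IsSepClosed Ω']
      (ξ : Spec (CommRingCat.of Ω) ⟶ X) (ξ' : Spec (CommRingCat.of Ω') ⟶ X)
      (φ : Scheme.pointSmallEtale ξ' ⟶ Scheme.pointSmallEtale ξ),
      ξ default ∈ A → ξ' default ⤳ ξ default → Function.Bijective (spMap φ F))
    {T : Scheme.{u}} (f : T ⟶ X) : SpBij ((EtCoh.pull f).obj F) (f ⁻¹' A) :=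
  fun Ω Ω' _ _ _ _ s s' ψ hs hgen => sheafFiber_pull_bijective f F ψ
    (h Ω Ω' _ _ (pushHom f ψ) ((Scheme.Hom.comp_apply _ _ _).symm ▸ hs)
      (by rw [Scheme.Hom.comp_apply, Scheme.Hom.comp_apply]; exact hgen.map f.continuous))

/-- A finite stalk extends to a homomorphism on an affine étale neighbourhood, bijective at the point. -/
theorem exists_candidate (F : EtCoh.Ab X) {Ω : Type u} [Field Ω] [IsSepClosed Ω]
    (ξ : Spec (CommRingCat.of Ω) ⟶ X) [Finite ((EtCoh.stalk ξ).obj F)] :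
    ∃ (W : X.Etale) (_ : IsAffine W.left) (s : Spec (CommRingCat.of Ω) ⟶ W.left)
      (φ : (EtCoh.stalk ξ).obj F →+ EtCoh.sect F W), s ≫ W.hom = ξ ∧
      BijAt ((EtCoh.pull W.hom).obj F) (toW F W φ) s := by
  let H := ((EtCoh.stalk ξ).obj F : AddCommGrpCat.{u + 1})
  obtain ⟨W, t, -, φ₀, -, hφ₀⟩ := exists_hom_of_finite F (EtCoh.top X) (topElt ξ) (AddMonoidHom.id H)
  let tl : Spec (CommRingCat.of Ω) ⟶ W.left := t.left
  obtain ⟨O, hO, hwO, -⟩ := exists_isAffineOpen_mem_and_subset (x := tl default) (U := ⊤) trivial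
  have hr : Set.range tl ⊆ Set.range O.ι := by
    rintro _ ⟨p, rfl⟩
    rw [Scheme.Opens.range_ι, Subsingleton.elim p default]
    exact hwO
  let l0 : Spec (CommRingCat.of Ω) ⟶ O.toScheme := IsOpenImmersion.lift O.ι tl hr
  have hl0 : l0 ≫ O.ι = tl := IsOpenImmersion.lift_fac _ _ _
  let l : Spec (CommRingCat.of Ω) ⟶ (AllPoints.res W O).left := l0
  have hl : l ≫ (AllPoints.resι W O).left = t.left := hl0
  have hw : l ≫ (AllPoints.res W O).hom = ξ :=
    (Category.assoc l0 O.ι W.hom).symm.trans ((congrArg (· ≫ W.hom) hl0).trans (Over.w t))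
  have hA : IsAffine (AllPoints.res W O).left := hO
  let φ₁ : H →+ EtCoh.sect F (AllPoints.res W O) := (F.obj.map (AllPoints.resι W O).op).hom.comp φ₀
  refine ⟨AllPoints.res W O, hA, l, φ₁, hw, ?_⟩
  rw [bijAt_toW_iff' F (AllPoints.res W O) φ₁ l hw]
  have key : ∀ m, gm ξ F (AllPoints.res W O) (Over.homMk l hw) (φ₁ m) = m := fun m =>
    (gm_res F (AllPoints.resι W O) (ξ := ξ) (w := Over.homMk l hw) (t := t) (Over.OverMorphism.ext hl) (φ₀ m)).trans (hφ₀ m)
  have hc : (gm ξ F (AllPoints.res W O) (Over.homMk l hw)).comp φ₁ = AddMonoidHom.id H :=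
    AddMonoidHom.ext key
  rw [hc]
  exact Function.bijective_id

theorem isFLC_of_spBij [IsLocallyNoetherian X]
    (hfin : ∀ (Ω : Type u) [Field Ω] [IsSepClosed Ω] (ξ : Spec (CommRingCat.of Ω) ⟶ X),
      Finite ((EtCoh.stalk ξ).obj F))
    (h : ∀ (Ω Ω' : Type u) [Field Ω] [IsSepClosed Ω] [Field Ω'] [IsSepClosed Ω']
      (ξ : Spec (CommRingCat.of Ω) ⟶ X) (ξ' : Spec (CommRingCat.of Ω') ⟶ X)
      (φ : Scheme.pointSmallEtale ξ' ⟶ Scheme.pointSmallEtale ξ), Function.Bijective (spMap φ F)) :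
    EtCoh.IsFiniteLocallyConstant F := by
  refine isFLC_of_forall_point fun x => ?_
  have := hfin _ (gpt x)
  obtain ⟨W, _, s, φ, hs, hb⟩ := exists_candidate F (gpt x)
  have : Etale W.hom := W.prop
  have : IsLocallyNoetherian W.left := @LocallyOfFiniteType.isLocallyNoetherian W.left X W.hom _ _
  have : IsNoetherian W.left := {}
  let G := (EtCoh.pull W.hom).obj F
  have hA : SpBij G Set.univ :=
    spBij_pull (A := Set.univ) (fun Ω Ω' _ _ _ _ ξ ξ' ψ _ _ => h Ω Ω' ξ ξ' ψ) W.hom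
  let E : W.left.Opens := ⟨bijLocus G (toW F W φ),
    isOpen_of_stable fun p p' hp => mem_bijLocus_iff hA (Set.mem_univ p) hp⟩
  refine ⟨AllPoints.res W E, (⟨s default, mem_bijLocus_of_bijAt hA s (Set.mem_univ _) hb⟩ : E.toScheme),
    _, inferInstance, inferInstance, _, ?_, germBij_of_subset E (le_refl _)⟩
  change (E.ι ≫ W.hom) _ = x
  rw [Scheme.Hom.comp_apply]
  exact (Scheme.Hom.comp_apply _ _ _).symm.trans
    ((congrArg (fun m : Spec (CommRingCat.of (SeparableClosure (X.residueField x))) ⟶ X => m default)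
      hs).trans (gpt_apply x _))

theorem spMap_bijective_of_germBij {W : X.Etale} {M : Type (u + 1)} [AddCommGroup M]
    {φ : M →+ EtCoh.sect F W} (hφ : GermBij F W φ) {Ω Ω' : Type u} [Field Ω] [IsSepClosed Ω] [Field Ω']
    [IsSepClosed Ω'] {ξ : Spec (CommRingCat.of Ω) ⟶ X} {ξ' : Spec (CommRingCat.of Ω') ⟶ X}
    (t : (Scheme.pointSmallEtale ξ).fiber.obj W)
    (ψ : Scheme.pointSmallEtale ξ' ⟶ Scheme.pointSmallEtale ξ) :
    Function.Bijective (spMap ψ F) := by
  have e : (spMap ψ F) ∘ ⇑((gm ξ F W t).comp φ) = ⇑((gm ξ' F W (ψ.hom.app W t)).comp φ) :=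
    funext fun m => sheafFiber_germ ψ F W t (φ m)
  exact (Function.Bijective.of_comp_iff _ (gm_bijective hφ ξ t)).1 (e ▸ gm_bijective hφ ξ' _)

end Groth.Agent.EtSite.SpecFLC
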