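import Groth.Agent.EtSite.SpecConstr
import Groth.Agent.EtSite.StrataNoeth

/-!
# Injective specialization maps and finite stalks give constructibility
-/

set_option autoImplicit false
universe u

open CategoryTheory CategoryTheory.Limits AlgebraicGeometry Opposite Topology TopologicalSpace

namespace Groth.Agent.EtSite.SpecMono

open LocConst FLCBasic FLCOps Specialize SpecFLC

theorem exists_open_isFLC_of_injective {T : Scheme.{u}} (τ : T)
    (hτ : ∀ O : T.Opens, (O : Set T).Nonempty → τ ∈ O) {F : EtCoh.Ab T}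
    (hfin : ∀ (Ω : Type u) [Field Ω] [IsSepClosed Ω] (ξ : Spec (CommRingCat.of Ω) ⟶ T),
      Finite ((EtCoh.stalk ξ).obj F))
    (hinj : ∀ (Ω Ω' : Type u) [Field Ω] [IsSepClosed Ω] [Field Ω'] [IsSepClosed Ω']
      (ξ : Spec (CommRingCat.of Ω) ⟶ T) (ξ' : Spec (CommRingCat.of Ω') ⟶ T)
      (ψ : Scheme.pointSmallEtale ξ' ⟶ Scheme.pointSmallEtale ξ), Function.Injective (spMap ψ F)) :
    ∃ O : T.Opens, τ ∈ O ∧ EtCoh.IsFiniteLocallyConstant ((EtCoh.pull O.ι).obj F) := by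
  have := hfin _ (gpt τ)
  obtain ⟨W, -, s₀, φ₀, hs₀, hb₀⟩ := exists_candidate F (gpt τ)
  have hw : W.hom.base (s₀ default) = τ := (Scheme.Hom.comp_apply _ _ _).symm.trans
    ((congrArg (fun m : Spec (CommRingCat.of (SeparableClosure (T.residueField τ))) ⟶ T => m.base _)
      hs₀).trans (gpt_apply τ _))
  obtain ⟨O, hwO, hO⟩ := GenericSub.exists_small τ hτ W (s₀ default) hw
  let G := (EtCoh.pull W.hom).obj F
  have hsub : (O : Set W.left) ⊆ bijLocus G (toW F W φ₀) := fun p hp Ω _ _ s hs => by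
    have hgen : s₀ default ⤳ s default := by
      rw [specializes_iff_forall_open]
      intro V hV hsV
      exact (hO (O ⊓ ⟨V, hV⟩) inf_le_left ⟨_, hs ▸ hp, hsV⟩).2
    obtain ⟨ψ⟩ := nonempty_pointHom (ξ := s) s₀ hgen
    have hi : Function.Injective (spMap ψ G) :=
      sheafFiber_pull_injective W.hom F ψ (hinj _ _ _ _ (pushHom W.hom ψ))
    have e : (spMap ψ G) ∘ ⇑((gm s G (EtCoh.top W.left) (topElt s)).comp (toW F W φ₀)) =
        ⇑((gm s₀ G (EtCoh.top W.left) (topElt s₀)).comp (toW F W φ₀)) := funext fun m =>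
      (sheafFiber_germ ψ G (EtCoh.top W.left) (topElt s) (toW F W φ₀ m)).trans
        (by rw [topElt_unique (ψ.hom.app _ _)]; rfl)
    have h1 : Function.Bijective ((spMap ψ G) ∘
        ⇑((gm s G (EtCoh.top W.left) (topElt s)).comp (toW F W φ₀))) := e ▸ hb₀
    exact ⟨h1.1.of_comp, fun z => (h1.2 (spMap ψ G z)).imp fun m hm => hi hm⟩
  have : Etale (AllPoints.res W O).hom := (AllPoints.res W O).prop
  refine ⟨⟨Set.range (AllPoints.res W O).hom.base,
      (AllPoints.res W O).hom.isOpenMap.isOpen_range⟩,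
    ⟨(⟨s₀ default, hwO⟩ : (O : Scheme.{u})), hw⟩,
    GenericSub.isFLC_on_image (germBij_of_subset O hsub) _ (by rfl)⟩

theorem isConstructible_of_injective {X : Scheme.{u}} [IsLocallyNoetherian X] (F : EtCoh.Ab X)
    (hfin : ∀ (Ω : Type u) [Field Ω] [IsSepClosed Ω] (ξ : Spec (CommRingCat.of Ω) ⟶ X),
      Finite ((EtCoh.stalk ξ).obj F))
    (hinj : ∀ (Ω Ω' : Type u) [Field Ω] [IsSepClosed Ω] [Field Ω'] [IsSepClosed Ω']
      (ξ : Spec (CommRingCat.of Ω) ⟶ X) (ξ' : Spec (CommRingCat.of Ω') ⟶ X)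
      (ψ : Scheme.pointSmallEtale ξ' ⟶ Scheme.pointSmallEtale ξ), Function.Injective (spMap ψ F)) :
    EtPBC.IsConstructible F := by
  refine StrataNoeth.isConstructible_of_generic fun x => ?_
  obtain ⟨T, g, hg, hr⟩ := Strata.exists_immersion (X := X) (L := closure {x})
    isClosed_closure.isLocallyClosed
  obtain ⟨τ, hτx⟩ : x ∈ Set.range g := hr.ge (subset_closure rfl)
  have hτ : ∀ O : T.Opens, (O : Set T).Nonempty → τ ∈ O := fun O ⟨y, hy⟩ => by
    obtain ⟨O', hO', e⟩ := g.isEmbedding.isInducing.isOpen_iff.1 O.2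
    obtain ⟨z, hz, rfl⟩ := mem_closure_iff.1 (hr.le ⟨y, rfl⟩) O' hO' (e.ge hy)
    exact e.le (show g τ ∈ O' from hτx ▸ hz)
  obtain ⟨O, hτO, hF⟩ := exists_open_isFLC_of_injective τ hτ (F := (EtCoh.pull g).obj F)
    (fun Ω _ _ ξ => @Finite.of_injective _ _ (hfin Ω (ξ ≫ g)) ((stalkPullIso g ξ).app F).inv
      ((ConcreteCategory.isIso_iff_bijective _).1 inferInstance).1)
    (fun Ω Ω' _ _ _ _ ξ ξ' ψ => sheafFiber_pull_injective g F ψ (hinj _ _ _ _ (pushHom g ψ)))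
  obtain ⟨O', hO', e⟩ := g.isEmbedding.isInducing.isOpen_iff.1 O.2
  refine ⟨⟨O', hO'⟩, show x ∈ O' from hτx ▸ e.ge hτO, O.toScheme, O.ι ≫ g,
    inferInstance, ?_, isFLC_of_iso ((EtCore.pullComp O.ι g).app F).symm hF⟩
  rintro z ⟨hzO, hzc⟩
  obtain ⟨y, rfl⟩ := hr.ge hzc
  exact ⟨⟨y, e.le hzO⟩, rfl⟩

end Groth.Agent.EtSite.SpecMono
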