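import Groth.Agent.EtSite.PullStalk
import Groth.Agent.EtSite.SamePoint
import Mathlib.AlgebraicGeometry.Morphisms.UniversallyOpen
import Mathlib.CategoryTheory.CofilteredSystem

/-!
# Specialization arrows between geometric points
-/

set_option autoImplicit false
universe u

open CategoryTheory CategoryTheory.Limits AlgebraicGeometry Opposite Groth.Agent.Weighting

namespace Groth.Agent.EtSite.Specialize

variable {X : Scheme.{u}} {Ω : Type u} [Field Ω] [IsSepClosed Ω]

theorem finite_fibre_gen {U V : Scheme.{u}} (π : U ⟶ V) [Etale π] (x : U) (q : V) :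
    (π ⁻¹' {q} ∩ {z | z ⤳ x}).Finite := by
  by_cases hne : ∃ z, π z = q ∧ z ⤳ x
  · obtain ⟨A, hA, hxA, -⟩ := exists_isAffineOpen_mem_and_subset (x := π x) (U := ⊤) trivial
    obtain ⟨B, hB, hxB, hBA⟩ := exists_isAffineOpen_mem_and_subset (x := x) (U := π ⁻¹ᵁ A) hxA
    obtain ⟨z₀, hz₀, hzx₀⟩ := hne
    have hqA : q ∈ A := hz₀ ▸ hBA (hzx₀.mem_open B.2 hxB)
    have : IsAffine B.toScheme := hB
    have : IsAffine A.toScheme := hA
    let r := π.resLE A B hBA
    have : Etale r := inferInstance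
    refine ((r.finite_preimage_singleton ⟨q, hqA⟩).image B.ι).subset ?_
    rintro z ⟨hz, hzx⟩
    refine ⟨⟨z, hzx.mem_open B.2 hxB⟩, ?_, rfl⟩
    refine Subtype.ext ?_
    refine Eq.trans ?_ hz
    exact congrArg (fun m : B.toScheme ⟶ V => m ⟨z, hzx.mem_open B.2 hxB⟩)
      (Scheme.Hom.resLE_comp_ι π hBA)
  · exact Set.Finite.subset Set.finite_empty fun z hz => (hne ⟨z, hz.1, hz.2⟩).elim

variable (ξ : Spec (CommRingCat.of Ω) ⟶ X) (q : X)

/-- The geometric points at `q` of `V` which generize the point of an element of the fibre at `ξ`. -/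
noncomputable def genLifts : (Scheme.pointSmallEtale ξ).fiber.Elements ⥤ Type u where
  obj e := geoFib e.1.hom (geoPt X q)
    {z | z ⤳ (let vl : Spec (CommRingCat.of Ω) ⟶ e.1.left := e.2.left; vl default)}
  map {e e'} f := ↾fun φ => ⟨φ.1 ≫ f.1.left, by
    refine ⟨?_, ?_⟩
    · have hw : f.1.left ≫ e'.1.hom = e.1.hom := Over.w f.1.toCommaMorphism
      rw [Category.assoc, hw]
      exact φ.2.1
    · let vl : Spec (CommRingCat.of Ω) ⟶ e.1.left := e.2.left
      let vl' : Spec (CommRingCat.of Ω) ⟶ e'.1.left := e'.2.left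
      have h2 : vl ≫ f.1.left = vl' := congrArg CommaMorphism.left f.2
      change pt (φ.1 ≫ f.1.left) ⤳ vl' default
      rw [pt_comp, ← h2, Scheme.Hom.comp_apply]
      exact φ.2.2.map f.1.left.continuous⟩
  map_id e := by ext φ; exact Category.comp_id _
  map_comp f g := by ext φ; exact (Category.assoc _ _ _).symm

variable {ξ q}

theorem exists_genSection (h : q ⤳ ξ default) : (genLifts ξ q).sections.Nonempty := by
  have hE : ∀ e : (Scheme.pointSmallEtale ξ).fiber.Elements, Etale e.1.hom := fun e => e.1.prop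
  have : ∀ e, Finite ((genLifts ξ q).obj e) := fun e => by
    refine Set.Finite.to_subtype (finite_geoFib e.1.hom (geoPt X q) _ ?_)
    rw [pt_geoPt]
    exact finite_fibre_gen e.1.hom _ q
  have : ∀ e, Nonempty ((genLifts ξ q).obj e) := fun e => by
    let vl : Spec (CommRingCat.of Ω) ⟶ e.1.left := e.2.left
    have hv : e.1.hom (vl default) = ξ default := (Scheme.Hom.comp_apply _ _ _).symm.trans
      (congrArg (fun m : Spec (CommRingCat.of Ω) ⟶ X => m default) (Over.w e.2))
    obtain ⟨z, hz, hzq⟩ := Flat.generalizingMap e.1.hom (hv.symm ▸ h)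
    obtain ⟨φ, hφ, hφz⟩ := (finite_geoFib_singleton e.1.hom (geoPt X q) z
      (hzq.trans (pt_geoPt X q).symm)).2.1
    exact ⟨⟨φ, hφ, (show pt φ = z from hφz) ▸ hz⟩⟩
  exact nonempty_sections_of_finite_cofiltered_system _

theorem nonempty_pointHom_geoPt (h : q ⤳ ξ default) :
    Nonempty (Scheme.pointSmallEtale (geoPt X q) ⟶ Scheme.pointSmallEtale ξ) := by
  obtain ⟨s, hs⟩ := exists_genSection h
  exact ⟨⟨{ app := fun V => ↾fun v => Over.homMk (s ⟨V, v⟩).1 (s ⟨V, v⟩).2.1
            naturality := fun V V' f => by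
              ext v
              refine Over.OverMorphism.ext ?_
              exact (congrArg Subtype.val (hs (CategoryOfElements.homMk
                (⟨V, v⟩ : (Scheme.pointSmallEtale ξ).fiber.Elements)
                ⟨V', (Scheme.pointSmallEtale ξ).fiber.map f v⟩ f rfl))).symm }⟩⟩

theorem nonempty_fiber_iso {Ω' : Type u} [Field Ω'] [IsSepClosed Ω']
    (ξ' : Spec (CommRingCat.of Ω') ⟶ X) :
    Nonempty (Scheme.pointSmallEtale ξ' ≅ Scheme.pointSmallEtale (geoPt X (ξ' default))) := by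
  obtain ⟨e⟩ := SamePoint.nonempty_fiber_iso_geom (Scheme.pointSmallEtale ξ')
  have e' : (Scheme.pointSmallEtale ξ').fiber ≅ (Scheme.pointSmallEtale (geoPt X (ξ' default))).fiber := by
    refine e ≪≫ eqToIso ?_
    unfold AllPoints.geom
    rw [SamePoint.basePt_pointSmallEtale ξ']
  exact ⟨{ hom := ⟨e'.inv⟩
           inv := ⟨e'.hom⟩
           hom_inv_id := GrothendieckTopology.Point.hom_ext e'.hom_inv_id
           inv_hom_id := GrothendieckTopology.Point.hom_ext e'.inv_hom_id }⟩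

/-- A specialization of points gives an arrow between geometric points. -/
theorem nonempty_pointHom {Ω' : Type u} [Field Ω'] [IsSepClosed Ω']
    (ξ' : Spec (CommRingCat.of Ω') ⟶ X) (h : ξ' default ⤳ ξ default) :
    Nonempty (Scheme.pointSmallEtale ξ' ⟶ Scheme.pointSmallEtale ξ) := by
  obtain ⟨e⟩ := nonempty_fiber_iso ξ'
  obtain ⟨φ⟩ := nonempty_pointHom_geoPt h
  exact ⟨e.hom ≫ φ⟩

theorem sheafFiber_germ {Ω' : Type u} [Field Ω'] [IsSepClosed Ω']
    {ξ' : Spec (CommRingCat.of Ω') ⟶ X}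
    (φ : Scheme.pointSmallEtale ξ' ⟶ Scheme.pointSmallEtale ξ) (F : EtCoh.Ab X) (V : X.Etale)
    (t : (Scheme.pointSmallEtale ξ).fiber.obj V) (z : EtCoh.sect F V) :
    (GrothendieckTopology.Point.Hom.sheafFiber (A := AddCommGrpCat.{u + 1}) φ).app F
        ((Scheme.pointSmallEtale ξ).toPresheafFiber V t F.obj z) =
      (Scheme.pointSmallEtale ξ').toPresheafFiber V (φ.hom.app V t) F.obj z :=
  ConcreteCategory.congr_hom (toPresheafFiber_pointHom φ V t F.obj) z

/-- An arrow between geometric points of `W`, pushed to `X` along `f`. -/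
noncomputable def pushHom {W : Scheme.{u}} (f : W ⟶ X) {Ω₁ Ω₂ : Type u} [Field Ω₁] [IsSepClosed Ω₁]
    [Field Ω₂] [IsSepClosed Ω₂] {η₁ : Spec (CommRingCat.of Ω₁) ⟶ W}
    {η₂ : Spec (CommRingCat.of Ω₂) ⟶ W}
    (φ : Scheme.pointSmallEtale η₁ ⟶ Scheme.pointSmallEtale η₂) :
    Scheme.pointSmallEtale (η₁ ≫ f) ⟶ Scheme.pointSmallEtale (η₂ ≫ f) :=
  ⟨(fiberBcIso f η₂).hom ≫ Functor.whiskerLeft (EtCoh.bc f) φ.hom ≫ (fiberBcIso f η₁).inv⟩

theorem sheafFiber_pull_comm {W : Scheme.{u}} (f : W ⟶ X) (F : EtCoh.Ab X) {Ω₁ Ω₂ : Type u}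
    [Field Ω₁] [IsSepClosed Ω₁] [Field Ω₂] [IsSepClosed Ω₂] {η₁ : Spec (CommRingCat.of Ω₁) ⟶ W}
    {η₂ : Spec (CommRingCat.of Ω₂) ⟶ W}
    (φ : Scheme.pointSmallEtale η₁ ⟶ Scheme.pointSmallEtale η₂) :
    ((stalkPullIso f η₂).app F).hom ≫
        (GrothendieckTopology.Point.Hom.sheafFiber (A := AddCommGrpCat.{u + 1}) φ).app
          ((EtCoh.pull f).obj F) =
      (GrothendieckTopology.Point.Hom.sheafFiber (A := AddCommGrpCat.{u + 1})
        (pushHom f φ)).app F ≫ ((stalkPullIso f η₁).app F).hom := by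
  let a := ((stalkPullIso f η₁).app F)
  let b := ((stalkPullIso f η₂).app F)
  refine (Scheme.pointSmallEtale (η₂ ≫ f)).presheafFiber_hom_ext fun V t => ?_
  ext z
  change (GrothendieckTopology.Point.Hom.sheafFiber (A := AddCommGrpCat.{u + 1}) φ).app _
      (b.hom ((Scheme.pointSmallEtale (η₂ ≫ f)).toPresheafFiber V t F.obj z)) =
    a.hom ((GrothendieckTopology.Point.Hom.sheafFiber (A := AddCommGrpCat.{u + 1})
      (pushHom f φ)).app F ((Scheme.pointSmallEtale (η₂ ≫ f)).toPresheafFiber V t F.obj z))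
  refine (congrArg _ (ConcreteCategory.congr_hom (toPresheafFiber_stalkPullIso_hom f η₂ F V t) z)).trans ?_
  refine (sheafFiber_germ φ _ _ _ _).trans ?_
  refine Eq.trans ?_ (congrArg a.hom (sheafFiber_germ (pushHom f φ) F V t z)).symm
  refine Eq.trans ?_ (ConcreteCategory.congr_hom (toPresheafFiber_stalkPullIso_hom f η₁ F V _) z).symm
  refine congrArg (fun y => (Scheme.pointSmallEtale η₁).toPresheafFiber ((EtCoh.bc f).obj V) y
    ((EtCoh.pull f).obj F).obj (((EtCoh.pullPushAdj f).unit.app F).hom.app (op V) z)) ?_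
  exact (ConcreteCategory.congr_hom ((fiberBcIso f η₁).inv_hom_id_app V)
    (φ.hom.app ((EtCoh.bc f).obj V) (bcPt f η₂ V t))).symm

theorem sheafFiber_pull_injective {W : Scheme.{u}} (f : W ⟶ X) (F : EtCoh.Ab X) {Ω₁ Ω₂ : Type u}
    [Field Ω₁] [IsSepClosed Ω₁] [Field Ω₂] [IsSepClosed Ω₂] {η₁ : Spec (CommRingCat.of Ω₁) ⟶ W}
    {η₂ : Spec (CommRingCat.of Ω₂) ⟶ W}
    (φ : Scheme.pointSmallEtale η₁ ⟶ Scheme.pointSmallEtale η₂)
    (h : Function.Injective ((GrothendieckTopology.Point.Hom.sheafFiber (A := AddCommGrpCat.{u + 1})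
      (pushHom f φ)).app F)) :
    Function.Injective ((GrothendieckTopology.Point.Hom.sheafFiber (A := AddCommGrpCat.{u + 1})
      φ).app ((EtCoh.pull f).obj F)) := by
  let a := ((stalkPullIso f η₁).app F)
  let b := ((stalkPullIso f η₂).app F)
  have h2 : Function.Injective ((GrothendieckTopology.Point.Hom.sheafFiber (A := AddCommGrpCat.{u + 1})
      (pushHom f φ)).app F ≫ a.hom) :=
    ((ConcreteCategory.isIso_iff_bijective a.hom).1 inferInstance).1.comp h
  rw [← sheafFiber_pull_comm f F φ] at h2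
  exact (Function.Injective.of_comp_iff' _
    ((ConcreteCategory.isIso_iff_bijective b.hom).1 inferInstance)).1 h2

theorem sheafFiber_pull_bijective {W : Scheme.{u}} (f : W ⟶ X) (F : EtCoh.Ab X) {Ω₁ Ω₂ : Type u}
    [Field Ω₁] [IsSepClosed Ω₁] [Field Ω₂] [IsSepClosed Ω₂] {η₁ : Spec (CommRingCat.of Ω₁) ⟶ W}
    {η₂ : Spec (CommRingCat.of Ω₂) ⟶ W}
    (φ : Scheme.pointSmallEtale η₁ ⟶ Scheme.pointSmallEtale η₂)
    (h : Function.Bijective ((GrothendieckTopology.Point.Hom.sheafFiber (A := AddCommGrpCat.{u + 1})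
      (pushHom f φ)).app F)) :
    Function.Bijective ((GrothendieckTopology.Point.Hom.sheafFiber (A := AddCommGrpCat.{u + 1})
      φ).app ((EtCoh.pull f).obj F)) := by
  let a := ((stalkPullIso f η₁).app F)
  let b := ((stalkPullIso f η₂).app F)
  have h2 : Function.Bijective ((GrothendieckTopology.Point.Hom.sheafFiber (A := AddCommGrpCat.{u + 1})
      (pushHom f φ)).app F ≫ a.hom) :=
    ((ConcreteCategory.isIso_iff_bijective a.hom).1 inferInstance).comp h
  rw [← sheafFiber_pull_comm f F φ] at h2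
  exact (Function.Bijective.of_comp_iff _
    ((ConcreteCategory.isIso_iff_bijective b.hom).1 inferInstance)).1 h2

end Groth.Agent.EtSite.Specialize
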