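import Groth.Prelude.Def_PBC
import Groth.Prelude.Def_EtCore
import Groth.Agent.EtSite.FLCBasic
import Groth.Agent.ConstrBasics.Basic
import Mathlib.AlgebraicGeometry.IdealSheaf.Functorial

/-!
# Stratifications adapted to a sheaf
-/

set_option autoImplicit false
universe u

open CategoryTheory CategoryTheory.Limits AlgebraicGeometry Opposite Topology

namespace Groth.Agent.EtSite.Strata

open FLCBasic

variable {X : Scheme.{u}}

/-- A locally closed subset is the range of an immersion. -/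
theorem exists_immersion {L : Set X} (hL : IsLocallyClosed L) :
    ∃ (T : Scheme.{u}) (g : T ⟶ X), IsImmersion g ∧ Set.range g = L := by
  obtain ⟨O, K, hO, hK, rfl⟩ := hL
  let U : X.Opens := ⟨O, hO⟩
  let Z : TopologicalSpace.Closeds U := ⟨U.ι ⁻¹' K, hK.preimage U.ι.continuous⟩
  let I := Scheme.IdealSheafData.vanishingIdeal Z
  refine ⟨I.subscheme, I.subschemeι ≫ U.ι, inferInstance, ?_⟩
  rw [Scheme.Hom.comp_base, TopCat.coe_comp, Set.range_comp, Scheme.IdealSheafData.range_subschemeι,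
    Scheme.IdealSheafData.coe_support_vanishingIdeal]
  ext x
  simp only [Set.mem_image, Set.mem_inter_iff]
  constructor
  · rintro ⟨y, hy, rfl⟩
    exact ⟨y.2, hy⟩
  · rintro ⟨hxO, hxK⟩
    exact ⟨⟨x, hxO⟩, hxK, rfl⟩

/-- `Z` lies in the range of an immersion along which `F` becomes finite locally constant. -/
def FLCOn (F : EtCoh.Ab X) (Z : Set X) : Prop :=
  ∃ (T : Scheme.{u}) (g : T ⟶ X), IsImmersion g ∧ Z ⊆ Set.range g ∧
    EtCoh.IsFiniteLocallyConstant ((EtCoh.pull g).obj F)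

theorem FLCOn.mono {F : EtCoh.Ab X} {Z Z' : Set X} (h : FLCOn F Z) (hZ : Z' ⊆ Z) : FLCOn F Z' := by
  obtain ⟨T, g, hg, hr, hF⟩ := h
  exact ⟨T, g, hg, hZ.trans hr, hF⟩

theorem isFLC_pull_of_eq_comp {T T' : Scheme.{u}} {F : EtCoh.Ab X} (h : T' ⟶ T) (g : T ⟶ X)
    (g' : T' ⟶ X) (e : g' = h ≫ g) (hF : EtCoh.IsFiniteLocallyConstant ((EtCoh.pull g).obj F)) :
    EtCoh.IsFiniteLocallyConstant ((EtCoh.pull g').obj F) := by
  subst e
  exact isFLC_of_iso ((EtCore.pullComp h g).app F).symm (isFLC_pull h hF)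

theorem isFLC_of_isEmpty {T : Scheme.{u}} [IsEmpty T] (F : EtCoh.Ab T) :
    EtCoh.IsFiniteLocallyConstant F :=
  isFLC_of_forall_point fun x => isEmptyElim x

theorem flcOn_empty (F : EtCoh.Ab X) : FLCOn F ∅ := by
  obtain ⟨T, g, hg, hr⟩ := exists_immersion (X := X) (L := ∅)
    ⟨∅, ∅, isOpen_empty, isClosed_empty, (Set.inter_self _).symm⟩
  have : IsEmpty T := ⟨fun t => (hr.le ⟨t, rfl⟩ : g t ∈ (∅ : Set X)).elim⟩
  exact ⟨T, g, hg, Set.empty_subset _, isFLC_of_isEmpty _⟩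

theorem exists_exact {F : EtCoh.Ab X} {L : Set X} (h : FLCOn F L) (hL : IsLocallyClosed L) :
    ∃ (T : Scheme.{u}) (g : T ⟶ X), IsImmersion g ∧ Set.range g = L ∧
      EtCoh.IsFiniteLocallyConstant ((EtCoh.pull g).obj F) := by
  obtain ⟨T, g, hg, hr, hF⟩ := h
  obtain ⟨T', k, hk, hk'⟩ := exists_immersion (hL.preimage g.continuous)
  refine ⟨T', k ≫ g, inferInstance, ?_, isFLC_pull_of_eq_comp k g _ rfl hF⟩
  rw [Scheme.Hom.comp_base, TopCat.coe_comp, Set.range_comp, hk', Set.image_preimage_eq_of_subset hr]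

/-- A finite cover by constructible subsets of the open `S` on which `F` is finite locally constant
gives an adapted stratification. -/
theorem adapted_of_cover {F : EtCoh.Ab X} {S : Set X} (hS : IsOpen S) {ι : Type*} [Finite ι]
    (Z : ι → Set X) (hc : ∀ i, IsConstructible ((Subtype.val : S → X) ⁻¹' Z i))
    (hF : ∀ i, FLCOn F (S ∩ Z i)) (hcov : S ⊆ ⋃ i, Z i) : EtPBC.AdaptedStrata F S := by
  classical
  cases nonempty_fintype ι
  choose T hT hTeq using fun i => ConstrBasics.exists_sdiff (hc i)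
  let 𝒲 : Finset (Set S) := Finset.univ.biUnion fun i => (T i).image Prod.fst ∪ (T i).image Prod.snd
  have h𝒲 : ∀ w ∈ 𝒲, IsOpen w ∧ IsRetrocompact w := by
    intro w hw
    simp only [𝒲, Finset.mem_biUnion, Finset.mem_union, Finset.mem_image] at hw
    obtain ⟨i, -, ⟨p, hp, rfl⟩ | ⟨p, hp, rfl⟩⟩ := hw
    · exact ⟨(hT i p hp).1, (hT i p hp).2.1⟩
    · exact ⟨(hT i p hp).2.2.1, (hT i p hp).2.2.2⟩
  let J := {A : Finset (Set S) // A ∈ 𝒲.powerset}
  let at' : J → Set S := fun A => {x | ∀ w ∈ 𝒲, x ∈ w ↔ w ∈ A.1}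
  have hat : ∀ A : J, at' A = (⋂ w ∈ A.1, w) ∩ ⋂ w ∈ 𝒲 \ A.1, wᶜ := by
    intro A
    have hA := Finset.mem_powerset.1 A.2
    ext x
    simp only [at', Set.mem_inter_iff, Set.mem_iInter, Finset.mem_sdiff, Set.mem_compl_iff]
    exact ⟨fun h => ⟨fun w hw => (h w (hA hw)).2 hw, fun w hw hx => hw.2 ((h w hw.1).1 hx)⟩,
      fun h w hw => ⟨fun hx => by_contra fun hwA => h.2 w ⟨hw, hwA⟩ hx, fun hwA => h.1 w hwA⟩⟩
  have hmem : ∀ (A : J) (w), w ∈ A.1 → w ∈ 𝒲 := fun A w hw => Finset.mem_powerset.1 A.2 hw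
  have hatc : ∀ A : J, IsConstructible (at' A) := fun A => by
    rw [hat A]
    exact (IsConstructible.biInter (A.1.finite_toSet) fun w hw =>
        (h𝒲 w (hmem A w hw)).2.isConstructible (h𝒲 w (hmem A w hw)).1).inter
      (IsConstructible.biInter (𝒲 \ A.1).finite_toSet fun w hw =>
        ((h𝒲 w (Finset.mem_sdiff.1 hw).1).2.isConstructible (h𝒲 w (Finset.mem_sdiff.1 hw).1).1).compl)
  let im : J → Set X := fun A => Subtype.val '' at' A
  have hlc : ∀ A : J, IsLocallyClosed (im A) := fun A => by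
    refine IsLocallyClosed.image ?_ IsInducing.subtypeVal (by
      rw [Subtype.range_coe]; exact hS.isLocallyClosed)
    rw [hat A]
    exact ⟨_, _, isOpen_biInter_finset fun w hw => (h𝒲 w (hmem A w hw)).1,
      isClosed_biInter fun w hw => (h𝒲 w (Finset.mem_sdiff.1 hw).1).1.isClosed_compl, rfl⟩
  have hgood : ∀ A : J, FLCOn F (im A) := fun A => by
    rcases (at' A).eq_empty_or_nonempty with h | ⟨x, hx⟩
    · exact (flcOn_empty F).mono (by simp [im, h])
    obtain ⟨i, hi⟩ := Set.mem_iUnion.1 (hcov x.2)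
    have hxT : x ∈ ⋃ p ∈ T i, p.1 \ p.2 := (hTeq i).le hi
    obtain ⟨p, hp, hp1, hp2⟩ := Set.mem_iUnion₂.1 hxT
    refine (hF i).mono ?_
    rintro _ ⟨y, hy, rfl⟩
    have h1 : p.1 ∈ 𝒲 := Finset.mem_biUnion.2 ⟨i, Finset.mem_univ _,
      Finset.mem_union_left _ (Finset.mem_image_of_mem _ hp)⟩
    have h2 : p.2 ∈ 𝒲 := Finset.mem_biUnion.2 ⟨i, Finset.mem_univ _,
      Finset.mem_union_right _ (Finset.mem_image_of_mem _ hp)⟩
    refine ⟨y.2, (hTeq i).ge (Set.mem_iUnion₂.2 ⟨p, hp, ?_, ?_⟩)⟩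
    · exact (hy _ h1).2 ((hx _ h1).1 hp1)
    · exact fun hy2 => hp2 ((hx _ h2).2 ((hy _ h2).1 hy2))
  choose T' g hg hr hFg using fun A : J => exists_exact (hgood A) (hlc A)
  let e : J ≃ Fin (Fintype.card J) := Fintype.equivFin J
  refine ⟨_, fun k => T' (e.symm k), fun k => g (e.symm k), fun k => hg _, fun k => ?_, ?_, ?_,
    fun k => hFg _⟩
  · rw [hr, Set.preimage_image_eq _ Subtype.val_injective]
    exact hatc _
  · intro j k hjk
    change Disjoint (Set.range _) (Set.range _)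
    rw [hr, hr, Set.disjoint_image_iff Subtype.val_injective, Set.disjoint_left]
    intro x hxj hxk
    refine hjk (e.symm.injective (Subtype.ext (Finset.ext fun w => ?_)))
    exact ⟨fun hw => (hxk w (hmem _ w hw)).1 ((hxj w (hmem _ w hw)).2 hw),
      fun hw => (hxj w (hmem _ w hw)).1 ((hxk w (hmem _ w hw)).2 hw)⟩
  · simp only [hr]
    refine Set.Subset.antisymm (Set.iUnion_subset fun k => ?_) fun x hx => ?_
    · rintro _ ⟨y, -, rfl⟩; exact y.2
    · let A : J := ⟨𝒲.filter fun w => (⟨x, hx⟩ : S) ∈ w, Finset.mem_powerset.2 (Finset.filter_subset _ _)⟩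
      refine Set.mem_iUnion.2 ⟨e A, ⟨x, hx⟩, ?_, rfl⟩
      rw [e.symm_apply_apply]
      intro w hw
      simp [A, hw]

theorem exists_cover_of_adapted {F : EtCoh.Ab X} {S : Set X} (h : EtPBC.AdaptedStrata F S) :
    ∃ (n : ℕ) (Z : Fin n → Set X), (∀ i, IsConstructible ((Subtype.val : S → X) ⁻¹' Z i)) ∧
      (∀ i, FLCOn F (Z i)) ∧ ⋃ i, Z i = S := by
  obtain ⟨n, T, g, hg, hc, -, hu, hF⟩ := h
  exact ⟨n, fun i => Set.range (g i), hc, fun i => ⟨T i, g i, hg i, subset_rfl, hF i⟩, hu⟩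

theorem FLCOn.preimage {Y : Scheme.{u}} (f : X ⟶ Y) {F : EtCoh.Ab Y} {Z : Set Y} (h : FLCOn F Z) :
    FLCOn ((EtCoh.pull f).obj F) (f ⁻¹' Z) := by
  obtain ⟨T, g, hg, hr, hF⟩ := h
  refine ⟨pullback f g, pullback.fst f g, inferInstance, ?_, ?_⟩
  · rw [Scheme.Pullback.range_fst]
    exact Set.preimage_mono hr
  · exact isFLC_of_iso ((EtCore.pullComp (pullback.fst f g) f).app F)
      (isFLC_pull_of_eq_comp (pullback.snd f g) g _ pullback.condition hF)

theorem FLCOn.of_isOpenImmersion {U : Scheme.{u}} (j : U ⟶ X) [IsImmersion j] {F : EtCoh.Ab X}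
    {Z : Set U} (h : FLCOn ((EtCoh.pull j).obj F) Z) : FLCOn F (j '' Z) := by
  obtain ⟨T, g, hg, hr, hF⟩ := h
  refine ⟨T, g ≫ j, inferInstance, ?_, isFLC_of_iso ((EtCore.pullComp g j).app F).symm hF⟩
  rw [Scheme.Hom.comp_base, TopCat.coe_comp, Set.range_comp]
  exact Set.image_mono hr

end Groth.Agent.EtSite.Strata
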