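import Groth.Agent.EtSite.Sect
import Groth.Agent.EtSite.PullStalk
import Groth.Agent.EtSite.Henselian

/-!
# Sections of inverse images along submersions with connected fibres
-/

set_option autoImplicit false
universe u

open CategoryTheory CategoryTheory.Limits AlgebraicGeometry Opposite TopologicalSpace

namespace Groth.Agent.EtSite.SubmersiveSections

open FLCOps

section eqLocus

variable {X : Scheme.{u}} (G : EtCoh.Ab X) {W : X.Etale}

/-- The points near which two sections agree. -/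
def eqLocus (a b : EtCoh.sect G W) : Set W.left :=
  {z | ∃ (V : X.Etale) (g : V ⟶ W), z ∈ Set.range g.left.base ∧ G.obj.map g.op a = G.obj.map g.op b}

theorem isOpen_eqLocus (a b : EtCoh.sect G W) : IsOpen (eqLocus G a b) :=
  isOpen_iff_forall_mem_open.2 fun _ ⟨V, g, hz, hg⟩ =>
    ⟨_, fun _ hw => ⟨V, g, hw, hg⟩, Sect.isOpen_range g, hz⟩

theorem pt_mem_eqLocus_iff {Ω : Type u} [Field Ω] [IsSepClosed Ω]
    {ξ : Spec (CommRingCat.of Ω) ⟶ X} (t : (Scheme.pointSmallEtale ξ).fiber.obj W)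
    (a b : EtCoh.sect G W) : Sect.pt t ∈ eqLocus G a b ↔ gm ξ G W t a = gm ξ G W t b := by
  constructor
  · rintro ⟨V, g, hz, hg⟩
    obtain ⟨s, hs⟩ := Sect.exists_pt g t hz
    rw [← gm_res G g hs a, ← gm_res G g hs b, hg]
  · intro h
    obtain ⟨V, g, v, hv, hg⟩ := ((Scheme.pointSmallEtale ξ).toPresheafFiber_eq_iff' W t a b).1 h
    refine ⟨V, g, ⟨Sect.pt v, ?_⟩, hg⟩
    have hl : v.left ≫ g.left = t.left := congrArg CommaMorphism.left hv
    exact (Scheme.Hom.comp_apply _ _ _).symm.trans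
      (congrArg (fun m : Spec (CommRingCat.of Ω) ⟶ W.left => m.base default) hl)

theorem pt_tautPt (z : W.left) : Sect.pt (tautPt W z) = z := gpt_apply z _

theorem pt_map {Ω : Type u} [Field Ω] [IsSepClosed Ω] {ξ : Spec (CommRingCat.of Ω) ⟶ X}
    {W' : X.Etale} (g : W' ⟶ W) (t : (Scheme.pointSmallEtale ξ).fiber.obj W') :
    Sect.pt ((Scheme.pointSmallEtale ξ).fiber.map g t) = g.left.base (Sect.pt t) :=
  Scheme.Hom.comp_apply _ _ _

theorem mem_eqLocus_map {W' : X.Etale} (g : W' ⟶ W) (z : W'.left) (a b : EtCoh.sect G W) :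
    z ∈ eqLocus G (G.obj.map g.op a) (G.obj.map g.op b) ↔ g.left.base z ∈ eqLocus G a b := by
  let ξ := gpt z ≫ W'.hom
  let t : (Scheme.pointSmallEtale ξ).fiber.obj W' := tautPt W' z
  have h1 : Sect.pt t = z := pt_tautPt z
  rw [← h1, ← pt_map g t, pt_mem_eqLocus_iff, pt_mem_eqLocus_iff, gm_res G g rfl a, gm_res G g rfl b]

theorem eq_of_eqLocus {a b : EtCoh.sect G W} (h : ∀ z, z ∈ eqLocus G a b) : a = b := by
  choose V g hz hg using h
  exact Sect.ext_of_cover G (g := g) (mem_smallEtaleTopology_of_points _ _ fun z => by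
    obtain ⟨v, hv⟩ := hz z
    exact ⟨V z, g z, v, Sieve.ofArrows_mk _ _ z, hv⟩) hg

end eqLocus

variable {X S : Scheme.{u}} (f : X ⟶ S) (F : EtCoh.Ab S)

/-- Pullback of sections. -/
noncomputable abbrev eta (V : S.Etale) (a : EtCoh.sect F V) :
    EtCoh.sect ((EtCoh.pull f).obj F) ((EtCoh.bc f).obj V) :=
  ((EtCoh.pullPushAdj f).unit.app F).hom.app (op V) a

theorem eta_map {V V' : S.Etale} (g : V' ⟶ V) (a : EtCoh.sect F V) :
    ((EtCoh.pull f).obj F).obj.map ((EtCoh.bc f).map g).op (eta f F V a) = eta f F V' (F.obj.map g.op a) :=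
  (NatTrans.naturality_apply ((EtCoh.pullPushAdj f).unit.app F).hom g.op a).symm

theorem gm_eta {Ω : Type u} [Field Ω] [IsSepClosed Ω] (ξ : Spec (CommRingCat.of Ω) ⟶ X) (V : S.Etale)
    (t : (Scheme.pointSmallEtale (ξ ≫ f)).fiber.obj V) (a : EtCoh.sect F V) :
    gm ξ ((EtCoh.pull f).obj F) ((EtCoh.bc f).obj V) (bcPt f ξ V t) (eta f F V a) =
      (stalkPullIso f ξ).hom.app F (gm (ξ ≫ f) F V t a) :=
  (ConcreteCategory.congr_hom (toPresheafFiber_stalkPullIso_hom f ξ F V t) a).symm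

theorem mem_eqLocus_eta {V : S.Etale} (a b : EtCoh.sect F V) (z : ((EtCoh.bc f).obj V).left) :
    z ∈ eqLocus ((EtCoh.pull f).obj F) (eta f F V a) (eta f F V b) ↔
      (pullback.fst V.hom f).base z ∈ eqLocus F a b := by
  let ξ := gpt z ≫ ((EtCoh.bc f).obj V).hom
  let t := tautPt ((EtCoh.bc f).obj V) z
  have h1 : Sect.pt t = z := pt_tautPt z
  have h2 : Sect.pt (unbcPt f ξ V t) = (pullback.fst V.hom f).base z := by
    refine (Scheme.Hom.comp_apply _ _ _).trans ?_
    exact congrArg _ h1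
  have h3 : Function.Injective ((stalkPullIso f ξ).hom.app F) :=
    ((ConcreteCategory.isIso_iff_bijective _).1 inferInstance).1
  rw [← h2, pt_mem_eqLocus_iff, ← h3.eq_iff, ← gm_eta, ← gm_eta, bcPt_unbcPt, ← pt_mem_eqLocus_iff, h1]

theorem eta_injective (V : S.Etale) (hV : Function.Surjective (pullback.fst V.hom f).base)
    {a b : EtCoh.sect F V} (h : eta f F V a = eta f F V b) : a = b := by
  refine eq_of_eqLocus F fun v => ?_
  obtain ⟨z, rfl⟩ := hV v
  rw [← mem_eqLocus_eta, h]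
  exact ⟨_, 𝟙 _, ⟨z, rfl⟩, rfl⟩

/-- The map to the final object. -/
noncomputable abbrev toTop (V : S.Etale) : V ⟶ EtCoh.top S := (topTerminal S).from V

variable (s : EtCoh.sect ((EtCoh.pull f).obj F) ((EtCoh.bc f).obj (EtCoh.top S)))

/-- The points where `s` is the pullback of `a`. -/
def locus (V : S.Etale) (a : EtCoh.sect F V) : Set ((EtCoh.bc f).obj V).left :=
  eqLocus _ (((EtCoh.pull f).obj F).obj.map ((EtCoh.bc f).map (toTop V)).op s) (eta f F V a)

theorem mem_locus_map {V V' : S.Etale} (g : V' ⟶ V) (a : EtCoh.sect F V) (w : ((EtCoh.bc f).obj V').left) :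
    w ∈ locus f F s V' (F.obj.map g.op a) ↔ ((EtCoh.bc f).map g).left.base w ∈ locus f F s V a := by
  have e : (EtCoh.bc f).map (toTop V') = (EtCoh.bc f).map g ≫ (EtCoh.bc f).map (toTop V) := by
    rw [← Functor.map_comp, (topTerminal S).hom_ext (toTop V') (g ≫ toTop V)]
  rw [locus, locus, ← mem_eqLocus_map, eta_map, e, op_comp, Functor.map_comp, ConcreteCategory.comp_apply]

theorem exists_mem_locus (z₀ : ((EtCoh.bc f).obj (EtCoh.top S)).left) :
    ∃ (V : S.Etale) (a : EtCoh.sect F V), ∃ z ∈ locus f F s V a,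
      ((EtCoh.bc f).map (toTop V)).left.base z = z₀ := by
  let T := (EtCoh.bc f).obj (EtCoh.top S)
  let ξ := gpt z₀ ≫ T.hom
  let t₀ := tautPt T z₀
  obtain ⟨p, hp⟩ := ((ConcreteCategory.isIso_iff_bijective ((stalkPullIso f ξ).hom.app F)).1
    inferInstance).2 (gm ξ _ T t₀ s)
  obtain ⟨V, t, a, -, rfl⟩ := Sect.exists_gm F _ p
  refine ⟨V, a, Sect.pt (bcPt f ξ V t), ?_, ?_⟩
  · have e : (Scheme.pointSmallEtale ξ).fiber.map ((EtCoh.bc f).map (toTop V)) (bcPt f ξ V t) = t₀ := by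
      rw [bc_map_bcPt, ← bcPt_unbcPt f ξ (EtCoh.top S) t₀]
      congr 1
      exact Over.OverMorphism.ext ((Category.comp_id _).symm.trans ((Over.w _).trans
        ((Over.w (unbcPt f ξ (EtCoh.top S) t₀)).symm.trans (Category.comp_id _))))
    rw [locus, pt_mem_eqLocus_iff, gm_res _ _ e s, gm_eta]
    exact hp.symm
  · rw [← pt_map]
    have e : (Scheme.pointSmallEtale ξ).fiber.map ((EtCoh.bc f).map (toTop V)) (bcPt f ξ V t) = t₀ := by
      rw [bc_map_bcPt, ← bcPt_unbcPt f ξ (EtCoh.top S) t₀]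
      congr 1
      exact Over.OverMorphism.ext ((Category.comp_id _).symm.trans ((Over.w _).trans
        ((Over.w (unbcPt f ξ (EtCoh.top S) t₀)).symm.trans (Category.comp_id _))))
    rw [e]
    exact pt_tautPt z₀

/-- `locus` is closed in the fibres. -/
theorem exists_open_disjoint (V : S.Etale) (a : EtCoh.sect F V) (z : ((EtCoh.bc f).obj V).left)
    (hz : z ∉ locus f F s V a) : ∃ N : Set ((EtCoh.bc f).obj V).left, IsOpen N ∧ z ∈ N ∧
      ∀ z' ∈ N, (pullback.fst V.hom f).base z' = (pullback.fst V.hom f).base z →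
        z' ∉ locus f F s V a := by
  obtain ⟨V₁, a₁, z₁, hz₁, hx⟩ := exists_mem_locus f F s (((EtCoh.bc f).map (toTop V)).left.base z)
  obtain ⟨P, p, q, -, ⟨eP⟩, hl⟩ := Sect.exists_overlap ((EtCoh.bc f).map (toTop V)) ((EtCoh.bc f).map (toTop V₁))
  obtain ⟨V₂, p₂, q₂, -, -, hl₂⟩ := Sect.exists_overlap (toTop V) (toTop V₁)
  have key : ∃ w : ((EtCoh.bc f).obj V₂).left,
      ((EtCoh.bc f).map p₂).left.base w = z ∧ ((EtCoh.bc f).map q₂).left.base w = z₁ := by
    obtain ⟨Ω, _, _, ξ, hξ⟩ : ∃ (Ω : Type u) (_ : Field Ω) (_ : IsSepClosed Ω)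
        (ξ : Spec (CommRingCat.of Ω) ⟶ X), ξ default = (((EtCoh.bc f).obj V).hom.base z) :=
      ⟨_, inferInstance, inferInstance, gpt _, gpt_apply _ _⟩
    have hz1' : ξ default = ((EtCoh.bc f).obj V₁).hom.base z₁ := by
      rw [hξ]
      have h1 := congrArg (fun y => ((EtCoh.bc f).obj (EtCoh.top S)).hom.base y) hx
      have hw : ∀ (W : S.Etale) (y : ((EtCoh.bc f).obj W).left),
          ((EtCoh.bc f).obj (EtCoh.top S)).hom.base (((EtCoh.bc f).map (toTop W)).left.base y) =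
            ((EtCoh.bc f).obj W).hom.base y := fun W y =>
        (Scheme.Hom.comp_apply _ _ _).symm.trans
          (congrArg (fun m : _ ⟶ X => m.base y) (Over.w ((EtCoh.bc f).map (toTop W)).toCommaMorphism))
      exact (hw V z).symm.trans (h1.symm.trans (hw V₁ z₁))
    obtain ⟨l, hl', hlz⟩ := Scheme.exists_fac_of_etale_of_isSepClosed ((EtCoh.bc f).obj V).hom ξ z hξ.symm
    obtain ⟨l₁, hl₁', hlz₁⟩ := Scheme.exists_fac_of_etale_of_isSepClosed ((EtCoh.bc f).obj V₁).hom ξ z₁ hz1'.symm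
    let t : (Scheme.pointSmallEtale ξ).fiber.obj ((EtCoh.bc f).obj V) := Over.homMk l hl'
    let t₁ : (Scheme.pointSmallEtale ξ).fiber.obj ((EtCoh.bc f).obj V₁) := Over.homMk l₁ hl₁'
    let u := unbcPt f ξ V t
    let u₁ := unbcPt f ξ V₁ t₁
    obtain ⟨⟨W, w⟩, c, d, -⟩ := IsCofilteredOrEmpty.cone_objs
      (C := (Scheme.pointSmallEtale (ξ ≫ f)).fiber.Elements) ⟨V, u⟩ ⟨V₁, u₁⟩
    obtain ⟨m, hm, hm₁⟩ := hl₂ W c.1 d.1 ((topTerminal S).hom_ext _ _)
    let t₂ := bcPt f ξ V₂ ((Scheme.pointSmallEtale (ξ ≫ f)).fiber.map m w)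
    refine ⟨Sect.pt t₂, ?_, ?_⟩
    · rw [← pt_map, bc_map_bcPt, ← Functor.map_comp_apply, hm, c.2, bcPt_unbcPt]
      exact hlz
    · rw [← pt_map, bc_map_bcPt, ← Functor.map_comp_apply, hm₁, d.2, bcPt_unbcPt]
      exact hlz₁
  obtain ⟨w, hw, hw₁⟩ := key
  let pr := (pullback.fst V₂.hom f).base
  let D := eqLocus F (F.obj.map p₂.op a) (F.obj.map q₂.op a₁)
  have hD : pr w ∉ D := fun h => hz <| by
    have h2 := (mem_eqLocus_eta f F _ _ w).2 h
    rw [← hw₁, ← mem_locus_map] at hz₁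
    rw [← hw, ← mem_locus_map]
    let ξ := gpt w ≫ ((EtCoh.bc f).obj V₂).hom
    rw [locus, ← pt_tautPt w, pt_mem_eqLocus_iff] at hz₁ ⊢
    rw [← pt_tautPt w, pt_mem_eqLocus_iff] at h2
    exact hz₁.trans h2.symm
  have : Etale p₂.left := (inferInstance : EtCoh.etaleMP p₂.left)
  have hdisc := p₂.left.isDiscrete_preimage_singleton ((pullback.fst V.hom f).base z)
  have hfst : ∀ y, p₂.left.base (pr y) = (pullback.fst V.hom f).base (((EtCoh.bc f).map p₂).left.base y) := fun y =>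
    (Scheme.Hom.comp_apply _ _ _).symm.trans ((congrArg (fun m : _ ⟶ V.left => m.base y) (bc_map_left_fst f p₂).symm).trans
      (Scheme.Hom.comp_apply _ _ _))
  have hd : pr w ∈ p₂.left.base ⁻¹' {(pullback.fst V.hom f).base z} := by
    rw [Set.mem_preimage, hfst, hw]; rfl
  obtain ⟨O, hO, hO'⟩ := isOpen_induced_iff.1 ((discreteTopology_iff_isOpen_singleton.1
    hdisc.to_subtype) (⟨pr w, hd⟩ : p₂.left.base ⁻¹' {(pullback.fst V.hom f).base z}))
  have hb : Etale ((EtCoh.bc f).map p₂).left := (inferInstance : EtCoh.etaleMP ((EtCoh.bc f).map p₂).left)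
  refine ⟨((EtCoh.bc f).map p₂).left.base '' ((((EtCoh.bc f).map q₂).left.base ⁻¹' locus f F s V₁ a₁) ∩ pr ⁻¹' O),
    ((EtCoh.bc f).map p₂).left.isOpenMap _ (((isOpen_eqLocus _ _ _).preimage
      ((EtCoh.bc f).map q₂).left.continuous).inter (hO.preimage (pullback.fst V₂.hom f).continuous)),
    ⟨w, ⟨by rw [Set.mem_preimage, hw₁]; exact hz₁, ?_⟩, hw⟩, ?_⟩
  · exact (hO'.symm.le (Set.mem_singleton _) :)
  rintro _ ⟨w', ⟨hq, hwO⟩, rfl⟩ hv hin
  have hd' : pr w' ∈ p₂.left.base ⁻¹' {(pullback.fst V.hom f).base z} := by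
    rw [Set.mem_preimage, hfst, hv]; rfl
  have he : pr w' = pr w := congrArg Subtype.val
    (hO'.le (show (⟨pr w', hd'⟩ : p₂.left.base ⁻¹' {(pullback.fst V.hom f).base z}) ∈ Subtype.val ⁻¹' O from hwO))
  apply hD
  rw [← he]
  refine (mem_eqLocus_eta f F _ _ w').1 ?_
  rw [Set.mem_preimage, ← mem_locus_map, locus, ← pt_tautPt w', pt_mem_eqLocus_iff] at hq
  rw [← mem_locus_map, locus, ← pt_tautPt w', pt_mem_eqLocus_iff] at hin
  rw [← pt_tautPt w', pt_mem_eqLocus_iff]
  exact hin.symm.trans hq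

theorem bijective_of_connected
    (hsub : ∀ (S' : Scheme.{u}) (g : S' ⟶ S), Topology.IsQuotientMap (pullback.snd f g).base)
    (hc : ∀ (Ω : Type u) [Field Ω] [IsAlgClosed Ω] (σ : Spec (CommRingCat.of Ω) ⟶ S),
      ConnectedSpace ↥(pullback f σ)) :
    Function.Bijective (eta f F (EtCoh.top S)) := by
  have hq : ∀ V : S.Etale, Topology.IsQuotientMap (pullback.fst V.hom f).base := fun V => by
    have h := (hsub V.left V.hom).comp (pullbackSymmetry V.hom f).hom.homeomorph.isQuotientMap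
    have e : ((pullback.snd f V.hom).base ∘ (pullbackSymmetry V.hom f).hom.base) =
        (pullback.fst V.hom f).base := by
      rw [← pullbackSymmetry_hom_comp_snd]; rfl
    exact e ▸ h
  have hsurj : ∀ V : S.Etale, Function.Surjective (pullback.fst V.hom f).base := fun V => (hq V).surjective
  refine ⟨fun a b h => eta_injective f F _ (hsurj _) h, fun s => ?_⟩
  have hfib : ∀ (V : S.Etale) (v : V.left), _root_.IsPreconnected ((pullback.fst V.hom f).base ⁻¹' {v}) := by
    intro V v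
    obtain ⟨σ, hσ⟩ : ∃ σ : Spec (CommRingCat.of (AlgebraicClosure (V.left.residueField v))) ⟶ V.left,
        ∀ p, σ.base p = v :=
      ⟨Spec.map (CommRingCat.ofHom (algebraMap (V.left.residueField v) (AlgebraicClosure (V.left.residueField v)))) ≫
        V.left.fromSpecResidueField v, fun _ => Scheme.fromSpecResidueField_apply v _⟩
    have := hc _ (σ ≫ V.hom)
    let m : pullback f (σ ≫ V.hom) ⟶ pullback V.hom f :=
      pullback.lift (pullback.snd _ _ ≫ σ) (pullback.fst _ _) (by rw [Category.assoc, ← pullback.condition])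
    have hm : Set.range m.base = (pullback.fst V.hom f).base ⁻¹' {v} := by
      refine le_antisymm ?_ fun z hz => ?_
      · rintro _ ⟨y, rfl⟩
        rw [Set.mem_preimage, ← Scheme.Hom.comp_apply]
        simp only [m, pullback.lift_fst]
        exact hσ _
      · obtain ⟨y, hy₁, hy₂⟩ := Scheme.Pullback.exists_preimage_pullback (f := pullback.fst V.hom f) (g := σ) z default
          (hz.trans (hσ _).symm)
        let l : pullback (pullback.fst V.hom f) σ ⟶ pullback f (σ ≫ V.hom) :=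
          pullback.lift (pullback.fst _ _ ≫ pullback.snd _ _) (pullback.snd _ _) (by
            rw [Category.assoc, ← pullback.condition, ← pullback.condition_assoc])
        refine ⟨l.base y, ?_⟩
        rw [← Scheme.Hom.comp_apply]
        have : l ≫ m = pullback.fst (pullback.fst V.hom f) σ := by
          apply pullback.hom_ext
          · rw [Category.assoc, pullback.lift_fst, pullback.lift_snd_assoc, pullback.condition]
          · rw [Category.assoc, pullback.lift_snd, pullback.lift_fst]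
        rw [this]
        exact hy₁
    rw [← hm, ← Set.image_univ]
    exact isPreconnected_univ.image _ m.continuous.continuousOn
  have hloc : ∀ x : S, ∃ (A : S.Etale) (a : EtCoh.sect F A), x ∈ Set.range A.hom.base ∧
      ((EtCoh.pull f).obj F).obj.map ((EtCoh.bc f).map (toTop A)).op s = eta f F A a := by
    intro x
    obtain ⟨z₀, hz₀⟩ := hsurj (EtCoh.top S) x
    obtain ⟨V, a, z, hz, hzz⟩ := exists_mem_locus f F s z₀
    let pr := (pullback.fst V.hom f).base
    let E := locus f F s V a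
    have hE : ∀ y ∈ E, ∀ y', pr y' = pr y → y' ∈ E := by
      intro y hy y' hy'
      by_contra hn
      let B := ⋃ (w) (_ : w ∉ E ∧ pr w = pr y), Classical.epsilon fun N : Set ((EtCoh.bc f).obj V).left =>
        IsOpen N ∧ w ∈ N ∧ ∀ z' ∈ N, pr z' = pr w → z' ∉ E
      have hB := fun (w : ((EtCoh.bc f).obj V).left) (hw : w ∉ E ∧ pr w = pr y) =>
        Classical.epsilon_spec (exists_open_disjoint f F s V a w hw.1)
      obtain ⟨u, hu₁, hu₂, hu₃⟩ := hfib V (pr y) E B (isOpen_eqLocus _ _ _)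
        (isOpen_biUnion fun w hw => (hB w hw).1)
        (fun w hw => (Classical.em (w ∈ E)).imp id fun h => Set.mem_biUnion ⟨h, hw⟩ (hB w ⟨h, hw⟩).2.1)
        ⟨y, rfl, hy⟩ ⟨y', hy', Set.mem_biUnion ⟨hn, hy'⟩ (hB y' ⟨hn, hy'⟩).2.1⟩
      obtain ⟨w, hw, huw⟩ := Set.mem_iUnion₂.1 hu₃
      exact (hB w hw).2.2 u huw (hu₁.trans hw.2.symm) hu₂
    have hopen : IsOpen (pr '' E) := by
      rw [← (hq V).isOpen_preimage]
      have : pr ⁻¹' (pr '' E) = E := Set.Subset.antisymm (fun y' ⟨y, hy, e⟩ => hE y hy y' e.symm) (Set.subset_preimage_image _ _)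
      rw [this]
      exact isOpen_eqLocus _ _ _
    let A := AllPoints.res V ⟨_, hopen⟩
    let i : A ⟶ V := AllPoints.resι V ⟨_, hopen⟩
    refine ⟨A, F.obj.map i.op a, ?_, ?_⟩
    · have hv : pr z ∈ Set.range i.left.base := (AllPoints.range_resι V ⟨_, hopen⟩).ge ⟨z, hz, rfl⟩
      obtain ⟨y, hy⟩ := hv
      refine ⟨y, ?_⟩
      rw [← hz₀, ← hzz]
      have e1 : A.hom.base y = V.hom.base (i.left.base y) := Scheme.Hom.comp_apply _ _ _
      rw [e1, hy]
      exact (Scheme.Hom.comp_apply _ _ _).symm.trans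
        ((congrArg (fun m : _ ⟶ S => m.base z) (by
          have h1 := bc_map_left_fst f (toTop V)
          have h2 : (toTop V).left ≫ (EtCoh.top S).hom = V.hom := Over.w (toTop V).toCommaMorphism
          exact (congrArg (fun m => pullback.fst V.hom f ≫ m) ((h2.symm.trans (Category.comp_id _)))).trans h1.symm)).trans
          (Scheme.Hom.comp_apply _ _ _))
    · refine eq_of_eqLocus _ fun w => ?_
      change w ∈ locus f F s A (F.obj.map i.op a)
      rw [mem_locus_map]
      obtain ⟨y, hy, e⟩ : pr (((EtCoh.bc f).map i).left.base w) ∈ pr '' E := by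
        refine (AllPoints.range_resι V ⟨_, hopen⟩).le ⟨(pullback.fst A.hom f).base w, ?_⟩
        exact (Scheme.Hom.comp_apply _ _ _).symm.trans ((congrArg (fun m : _ ⟶ V.left => m.base w) (bc_map_left_fst f i).symm).trans
          (Scheme.Hom.comp_apply _ _ _))
      exact hE y hy _ e.symm
  choose A a hA ha using hloc
  have hcov : Sieve.ofArrows A (fun x => toTop (A x)) ∈ S.smallEtaleTopology (EtCoh.top S) := by
    refine mem_smallEtaleTopology_of_points _ _ fun x => ?_
    obtain ⟨y, hy⟩ := hA x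
    refine ⟨A x, toTop (A x), y, Sieve.ofArrows_mk _ _ x, ?_⟩
    refine Eq.trans ?_ hy
    have h2 : (toTop (A x)).left ≫ (EtCoh.top S).hom = (A x).hom := Over.w (toTop (A x)).toCommaMorphism
    rw [← h2]; rfl
  obtain ⟨g, hg⟩ := Sect.glue F hcov a fun i l Z b c hbc => by
    refine eta_injective f F Z (hsurj Z) ?_
    rw [← eta_map, ← eta_map, ← ha, ← ha, ← ConcreteCategory.comp_apply, ← ConcreteCategory.comp_apply,
      ← Functor.map_comp, ← Functor.map_comp, ← op_comp, ← op_comp, ← Functor.map_comp, ← Functor.map_comp, hbc]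
  refine ⟨g, eq_of_eqLocus _ fun z => ?_⟩
  let v := (pullback.fst (EtCoh.top S).hom f).base z
  obtain ⟨y, hy⟩ := hA v
  have hy' : (toTop (A v)).left.base y = v := by
    refine Eq.trans ?_ hy
    have h2 : (toTop (A v)).left ≫ (EtCoh.top S).hom = (A v).hom := Over.w (toTop (A v)).toCommaMorphism
    rw [← h2]; rfl
  have sq := EtCoh.isPullback_bc_map f (toTop (A v))
  obtain ⟨z', hz', -⟩ := Scheme.Pullback.exists_preimage_pullback
    (f := (pullback.fst (EtCoh.top S).hom f : ((EtCoh.bc f).obj (EtCoh.top S)).left ⟶ (EtCoh.top S).left))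
    (g := (toTop (A v)).left) z y hy'.symm
  obtain ⟨w, hw⟩ : z ∈ Set.range ((EtCoh.bc f).map (toTop (A v))).left.base :=
    ⟨sq.isoPullback.inv z', by rw [← Scheme.Hom.comp_apply, sq.isoPullback_inv_fst]; exact hz'⟩
  rw [← hw, ← mem_eqLocus_map, eta_map, hg, ← ha]
  exact ⟨_, 𝟙 _, ⟨w, rfl⟩, rfl⟩

end Groth.Agent.EtSite.SubmersiveSections
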