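import Groth.Agent.EtSite.PullStalk
import Groth.Prelude.Def_EtDual

/-!
# Sections with support form a left exact functor
-/

set_option autoImplicit false
universe u

open CategoryTheory CategoryTheory.Limits AlgebraicGeometry Opposite

namespace Groth.Agent.EtSite

variable {X U : Scheme.{u}} (j : U ⟶ X)

instance secSupp_preservesFiniteLimits : PreservesFiniteLimits (EtDual.secSupp j) := by
  rw [Functor.preservesFiniteLimits_iff_forall_exact_map_and_mono]
  intro S hS
  have := hS.mono_f
  have : PreservesLimitsOfSize.{0, 0} (EtCoh.push j) := (EtCoh.pullPushAdj j).rightAdjoint_preservesLimits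
  have : Mono ((EtCoh.push j).map ((EtCoh.pull j).map S.f)) := by
    have := pull_mono j S.f
    infer_instance
  have hm : Mono ((EtDual.secSupp j).map S.f) := by
    have : Mono ((EtDual.secSupp j).map S.f ≫ kernel.ι (EtDual.unitApp j S.X₂)) := by
      simp only [EtDual.secSupp, kernel.lift_ι]
      exact mono_comp _ _
    exact mono_of_mono _ (kernel.ι (EtDual.unitApp j S.X₂))
  have : Mono (S.map (EtDual.secSupp j)).f := hm
  refine ⟨?_, hm⟩
  have hn : ∀ {F G : EtCoh.Ab X} (a : F ⟶ G),
      (EtDual.secSupp j).map a ≫ kernel.ι (EtDual.unitApp j G) = kernel.ι (EtDual.unitApp j F) ≫ a :=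
    fun a => kernel.lift_ι _ _ _
  refine ShortComplex.exact_of_f_is_kernel _ (KernelFork.IsLimit.ofι' _ _ fun {A} x hx => ?_)
  let x' : A ⟶ kernel (EtDual.unitApp j S.X₂) := x
  let y := x' ≫ kernel.ι (EtDual.unitApp j S.X₂)
  have hy : y ≫ S.g = 0 :=
    (Category.assoc _ _ _).trans ((congrArg (x' ≫ ·) (hn S.g)).symm.trans
      ((Category.assoc _ _ _).symm.trans
        ((congrArg (· ≫ kernel.ι (EtDual.unitApp j S.X₃)) hx).trans zero_comp)))
  let z := hS.exact.lift y hy
  have hz : z ≫ S.f = y := hS.exact.lift_f y hy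
  have hz0 : z ≫ EtDual.unitApp j S.X₁ = 0 := by
    refine (cancel_mono ((EtCoh.push j).map ((EtCoh.pull j).map S.f))).1 ?_
    refine ((Category.assoc _ _ _).trans ((congrArg (z ≫ ·)
      ((EtCoh.pullPushAdj j).unit.naturality S.f).symm).trans (Category.assoc _ _ _).symm)).trans ?_
    refine (congrArg (· ≫ EtDual.unitApp j S.X₂) hz).trans ?_
    exact (Category.assoc _ _ _).trans ((congrArg (x' ≫ ·) (kernel.condition _)).trans
      (comp_zero.trans zero_comp.symm))
  refine ⟨kernel.lift _ z hz0, (cancel_mono (kernel.ι (EtDual.unitApp j S.X₂))).1 ?_⟩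
  exact (Category.assoc _ _ _).trans ((congrArg (kernel.lift _ z hz0 ≫ ·) (hn S.f)).trans
    ((Category.assoc _ _ _).symm.trans ((congrArg (· ≫ S.f) (kernel.lift_ι _ _ _)).trans hz)))

end Groth.Agent.EtSite
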