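import Groth.Agent.EtSite.SuppPull
import Groth.Agent.EtSite.SuppLex
import Groth.Agent.EtMV.Cohomology
import Groth.Agent.KerDerived.ExtNat

/-!
# Local cohomology groups as `Ext` groups
-/

set_option autoImplicit false
set_option backward.isDefEq.respectTransparency.types false
universe u

open CategoryTheory CategoryTheory.Limits AlgebraicGeometry Opposite CategoryTheory.Abelian

namespace Groth.Agent.EtSite.SuppExt

open Groth.Agent.EtMV

variable {X U : Scheme.{u}} (j : U ⟶ X) [IsOpenImmersion j]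

/-- `ℤ_X / j_! ℤ_U`. -/
noncomputable abbrev Q : EtCoh.Ab X := cokernel (cz j)

/-- The map `ℤ_X ⟶ G` of a global section. -/
noncomputable def phi (G : EtCoh.Ab X) (s : EtCoh.sect G (EtCoh.top X)) : zs X ⟶ G :=
  ((EtCore.constAdj X).homEquiv _ _).symm
    (AddCommGrpCat.ofHom (((zmultiplesHom _) s).comp AddEquiv.ulift.toAddMonoidHom))

theorem homEquiv_phi (G : EtCoh.Ab X) (s : EtCoh.sect G (EtCoh.top X)) :
    ((EtCore.constAdj X).homEquiv _ _ (phi G s)).hom (ULift.up 1) = s := by
  rw [phi, Equiv.apply_symm_apply]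
  exact one_zsmul s

theorem eq_phi {G : EtCoh.Ab X} (φ : zs X ⟶ G) :
    φ = phi G (((EtCore.constAdj X).homEquiv _ _ φ).hom (ULift.up 1)) := by
  apply ((EtCore.constAdj X).homEquiv _ _).injective
  rw [phi, Equiv.apply_symm_apply]
  refine AddCommGrpCat.hom_ext (AddMonoidHom.ext fun ⟨m⟩ => ?_)
  change _ = m • ((EtCore.constAdj X).homEquiv _ _ φ).hom (ULift.up (1 : ℤ))
  rw [← map_zsmul]
  exact congrArg _ (ULift.ext _ _ (by simp))

theorem phi_comp {G H : EtCoh.Ab X} (a : G ⟶ H) (s : EtCoh.sect G (EtCoh.top X)) :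
    phi G s ≫ a = phi H (a.hom.app (op (EtCoh.top X)) s) := by
  conv_lhs => rw [eq_phi (phi G s ≫ a)]
  congr 1
  refine (ConcreteCategory.congr_hom ((EtCore.constAdj X).homEquiv_naturality_right (phi G s) a)
    (ULift.up 1)).trans ?_
  exact congrArg (a.hom.app (op (EtCoh.top X))) (homEquiv_phi G s)

theorem phi_add (G : EtCoh.Ab X) (s t : EtCoh.sect G (EtCoh.top X)) :
    phi G (s + t) = phi G s + phi G t := by
  conv_rhs => rw [eq_phi (phi G s + phi G t)]
  congr 1
  have : (EtCore.gsec X).Additive :=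
    inferInstanceAs (sheafToPresheaf X.smallEtaleTopology AddCommGrpCat.{u + 1} ⋙
      (evaluation _ _).obj (op (EtCoh.top X))).Additive
  rw [Adjunction.homEquiv_unit, Functor.map_add, Preadditive.comp_add]
  refine Eq.trans ?_ (AddMonoidHom.add_apply _ _ _).symm
  rw [← Adjunction.homEquiv_unit, ← Adjunction.homEquiv_unit]
  exact congrArg₂ (· + ·) (homEquiv_phi G s).symm (homEquiv_phi G t).symm

theorem cz_comp_eq_zero_iff [PreservesFiniteLimits (EtCoh.pull j)] (G : EtCoh.Ab X)
    (φ : zs X ⟶ G) : cz j ≫ φ = 0 ↔ φ ≫ EtDual.unitApp j G = 0 := by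
  rw [cz, ← Adjunction.homEquiv_naturality_right_symm]
  have h0 : ∀ {A : EtCoh.Ab U} (b : A ⟶ (EtCoh.pull j).obj G),
      ((shriekAdj j).homEquiv _ _).symm b = 0 ↔ b = 0 := fun b => by
    constructor
    · intro h
      have := congrArg ((shriekAdj j).homEquiv _ _) h
      rw [Equiv.apply_symm_apply, Adjunction.homEquiv_unit, Functor.map_zero, comp_zero] at this
      exact this
    · rintro rfl
      apply ((shriekAdj j).homEquiv _ _).injective
      rw [Equiv.apply_symm_apply, Adjunction.homEquiv_unit, Functor.map_zero, comp_zero]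
  rw [h0]
  constructor
  · intro h
    refine SuppPull.map_comp_unit j φ ((cancel_epi (EtCore.pullConst j ℤ).inv).1 ?_)
    rw [comp_zero]; exact h
  · intro h
    rw [SuppPull.pull_map_eq_zero j φ h, comp_zero]

variable [PreservesFiniteLimits (EtCoh.pull j)]

theorem cz_phi_sect (G : EtCoh.Ab X) (k : (EtDual.gammaSupp j).obj G) :
    cz j ≫ phi G ((kernel.ι (EtDual.unitApp j G)).hom.app (op (EtCoh.top X)) k) = 0 := by
  rw [cz_comp_eq_zero_iff, ← phi_comp]
  rw [Category.assoc, kernel.condition, comp_zero]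

/-- A section with support gives a map out of `Q`. -/
noncomputable def toHom (G : EtCoh.Ab X) (k : (EtDual.gammaSupp j).obj G) : Q j ⟶ G :=
  cokernel.desc _ _ (cz_phi_sect j G k)

theorem π_toHom (G : EtCoh.Ab X) (k : (EtDual.gammaSupp j).obj G) :
    cokernel.π (cz j) ≫ toHom j G k = phi G ((kernel.ι (EtDual.unitApp j G)).hom.app (op (EtCoh.top X)) k) :=
  cokernel.π_desc _ _ _

theorem toHom_bijective (G : EtCoh.Ab X) : Function.Bijective (toHom j G) := by
  constructor
  · intro k k' h
    have h1 := congrArg (fun a => ((EtCore.constAdj X).homEquiv _ _ (cokernel.π (cz j) ≫ a)).hom (ULift.up 1)) h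
    simp only [π_toHom] at h1
    replace h1 := (homEquiv_phi G _).symm.trans (h1.trans (homEquiv_phi G _))
    have : Mono ((kernel.ι (EtDual.unitApp j G)).hom.app (op (EtCoh.top X))) :=
      inferInstanceAs (Mono ((sheafToPresheaf _ _ ⋙ (evaluation _ _).obj (op (EtCoh.top X))).map
        (kernel.ι (EtDual.unitApp j G))))
    exact (AddCommGrpCat.mono_iff_injective _).1 this h1
  · intro b
    let φ := cokernel.π (cz j) ≫ b
    let s := ((EtCore.constAdj X).homEquiv _ _ φ).hom (ULift.up 1)
    have hφ : φ = phi G s := eq_phi φ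
    have h0 : φ ≫ EtDual.unitApp j G = 0 := (cz_comp_eq_zero_iff j G φ).1 (by
      rw [← Category.assoc, cokernel.condition, zero_comp])
    have hs : (EtDual.unitApp j G).hom.app (op (EtCoh.top X)) s = 0 := by
      rw [hφ, phi_comp] at h0
      have := congrArg (fun a => ((EtCore.constAdj X).homEquiv _ _ a).hom (ULift.up (1 : ℤ))) h0
      refine (homEquiv_phi _ _).symm.trans (this.trans ?_)
      rw [Adjunction.homEquiv_unit, Functor.map_zero, comp_zero]
      rfl
    let S := ShortComplex.mk (kernel.ι (EtDual.unitApp j G)) (EtDual.unitApp j G) (kernel.condition _)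
    have hS : S.Exact := ShortComplex.exact_of_f_is_kernel S (kernelIsKernel _)
    have : Mono S.f := (inferInstance : Mono (kernel.ι (EtDual.unitApp j G)))
    obtain ⟨k, hk⟩ := (ShortComplex.ab_exact_iff _).1 (hS.map_of_mono_of_preservesKernel
      (sheafToPresheaf _ _ ⋙ (evaluation _ _).obj (op (EtCoh.top X))) inferInstance inferInstance) s hs
    refine ⟨k, (cancel_epi (cokernel.π (cz j))).1 ?_⟩
    rw [π_toHom]
    exact (congrArg (phi G) hk).trans hφ.symm

/-- Local cohomology groups are `Ext` groups out of `Q`. -/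
theorem nonempty_HY_iso_ext (n : ℕ) :
    Nonempty ((EtDual.gammaSupp j).rightDerived n ≅ extFunctorObj (Q j) n) := by
  have : PreservesFiniteLimits (EtDual.gammaSupp j) := by
    unfold EtDual.gammaSupp
    infer_instance
  let θ : ∀ G, (EtDual.gammaSupp j).obj G ⟶ (extFunctorObj (Q j) 0).obj G := fun G =>
    AddCommGrpCat.ofHom (AddMonoidHom.mk' (fun k => Ext.mk₀ (toHom j G k)) fun a b => by
      rw [← Ext.mk₀_add]
      congr 1
      rw [← cancel_epi (cokernel.π (cz j)), Preadditive.comp_add, π_toHom, π_toHom, π_toHom, ← phi_add]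
      exact congrArg (phi G) (map_add ((kernel.ι (EtDual.unitApp j G)).hom.app (op (EtCoh.top X))).hom a b))
  have hθ : ∀ G, IsIso (θ G) := fun G => (ConcreteCategory.isIso_iff_bijective _).2
    ((Ext.mk₀_bijective _ _).comp (toHom_bijective j G))
  let e₀ : EtDual.gammaSupp j ≅ extFunctorObj (Q j) 0 :=
    NatIso.ofComponents (fun G => @asIso _ _ _ _ (θ G) (hθ G)) fun {G H} f => by
      refine AddCommGrpCat.hom_ext (AddMonoidHom.ext fun k => ?_)
      change Ext.mk₀ (toHom j H ((EtDual.gammaSupp j).map f k)) =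
        (Ext.mk₀ (toHom j G k)).comp (Ext.mk₀ f) (add_zero 0)
      rw [Ext.mk₀_comp_mk₀]
      congr 1
      rw [← cancel_epi (cokernel.π (cz j)), ← Category.assoc, π_toHom, π_toHom, phi_comp]
      congr 1
      exact ConcreteCategory.congr_hom (congrArg (fun a => a.hom.app (op (EtCoh.top X)))
        (kernel.lift_ι (EtDual.unitApp j H) (kernel.ι (EtDual.unitApp j G) ≫ f) _)) k
  exact Groth.Agent.KerDerived.nonempty_rightDerived_iso_ext _ _ e₀ n

/-- Vanishing of `H_Y` below `n` in terms of restriction maps. -/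
theorem isZero_HY_iff (F : EtCoh.Ab X) (n : ℕ) :
    (∀ p, p < n → IsZero (((EtDual.gammaSupp j).rightDerived p).obj F)) ↔
      ((∀ p : ℕ, p + 1 < n → Function.Bijective (EtCore.Hpull j F p)) ∧
        (∀ p : ℕ, p + 1 = n → Function.Injective (EtCore.Hpull j F p))) := by
  let S := ShortComplex.mk (cz j) (cokernel.π (cz j)) (cokernel.condition _)
  have hS : S.ShortExact := { exact := ShortComplex.exact_cokernel _ }
  let r : ∀ p, Ext (zs X) F p →+ Ext ((shriek j).obj (zs U)) F p :=
    fun p => (Ext.mk₀ (cz j)).precomp F (zero_add p)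
  have hr : ∀ p, (Ψ j F p) ∘ (r p) = EtCore.Hpull j F p := fun p => funext (Ψ_cz j F p)
  have hb : ∀ p, Function.Bijective (EtCore.Hpull j F p) ↔ Function.Bijective (r p) := fun p => by
    rw [← hr p]
    exact ⟨fun h => (Function.Bijective.of_comp_iff' (Ψ_bijective j F p) _).1 h,
      fun h => (Ψ_bijective j F p).comp h⟩
  have hi : ∀ p, Function.Injective (EtCore.Hpull j F p) ↔ Function.Injective (r p) := fun p => by
    rw [← hr p]
    exact ⟨fun h => h.of_comp, fun h => (Ψ_bijective j F p).1.comp h⟩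
  have hz : ∀ p, IsZero (((EtDual.gammaSupp j).rightDerived p).obj F) ↔
      ∀ x : Ext (Q j) F p, x = 0 := fun p => by
    obtain ⟨e⟩ := nonempty_HY_iso_ext j p
    refine ⟨fun h x => ?_, fun h => ?_⟩
    · have := AddCommGrpCat.subsingleton_of_isZero (h.of_iso (e.app F).symm)
      exact Subsingleton.elim (α := (extFunctorObj (Q j) p).obj F) x 0
    · have : Subsingleton ((extFunctorObj (Q j) p).obj F) := ⟨fun a b => (h a).trans (h b).symm⟩
      exact (AddCommGrpCat.isZero_of_subsingleton _).of_iso (e.app F)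
  simp only [hb, hi, hz]
  have π0 : ∀ x : Ext (Q j) F 0, (Ext.mk₀ S.g).comp x (zero_add 0) = 0 → x = 0 := fun x hx => by
    obtain ⟨f, rfl⟩ := (Ext.mk₀_bijective _ _).2 x
    rw [Ext.mk₀_comp_mk₀] at hx
    have : S.g ≫ f = 0 := by
      apply (Ext.mk₀_bijective _ _).1
      rw [hx, Ext.mk₀_zero]
    rw [(cancel_epi (cokernel.π (cz j))).1 (this.trans comp_zero.symm), Ext.mk₀_zero]
  constructor
  · intro h
    have inj : ∀ p, p + 1 ≤ n → Function.Injective (r p) := fun p hp =>
      (injective_iff_map_eq_zero (r p)).2 fun x hx => by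
        obtain ⟨y, rfl⟩ := Ext.contravariant_sequence_exact₂ hS F x hx
        rw [h p (by omega) y, Ext.comp_zero]
    refine ⟨fun p hp => ⟨inj p (by omega), fun x => ?_⟩, fun p hp => inj p (by omega)⟩
    exact Ext.contravariant_sequence_exact₁ hS F x (show 1 + p = p + 1 by omega) (h (p + 1) hp _)
  · rintro ⟨hbij, hinj⟩ p hp x
    have inj : ∀ q, q + 1 ≤ n → Function.Injective (r q) := fun q hq =>
      (Nat.lt_or_eq_of_le hq).elim (fun h => (hbij q h).1) (hinj q)
    have hx : (Ext.mk₀ S.g).comp x (zero_add p) = 0 := by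
      refine inj p (by omega) ?_
      rw [map_zero]
      refine (Ext.mk₀_comp_mk₀_assoc S.f S.g x).trans ?_
      rw [S.zero, Ext.mk₀_zero, Ext.zero_comp]
    rcases p with _ | q
    · exact π0 x hx
    · obtain ⟨y, rfl⟩ := Ext.contravariant_sequence_exact₃ hS F x hx (show 1 + q = q + 1 by omega)
      obtain ⟨z, rfl⟩ := (hbij q (by omega)).2 y
      exact hS.extClass_comp_assoc z

end Groth.Agent.EtSite.SuppExt
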