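import Groth.Agent.EtSite.PullStalk
import Groth.Prelude.Def_EtDual
import Groth.Prelude.Def_EtCore
import Mathlib.CategoryTheory.Preadditive.Injective.Preserves
import Mathlib.CategoryTheory.Abelian.RightDerived

/-!
# Local cohomology sheaves commute with restriction along étale morphisms
-/

set_option autoImplicit false
universe v u v' u'

open CategoryTheory CategoryTheory.Limits AlgebraicGeometry Opposite

namespace Groth.Agent.EtSite.SuppPull

section derived

variable {C D : Type*} [Category C] [Category D] [Abelian C] [Abelian D]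

/-- The image of an injective resolution under an exact functor preserving injectives. -/
noncomputable def mapResolution (G : C ⥤ D) [G.Additive] [PreservesFiniteLimits G]
    [PreservesFiniteColimits G] [G.PreservesInjectiveObjects] {F : C} (R : InjectiveResolution F) :
    InjectiveResolution (G.obj F) where
  cocomplex := (G.mapHomologicalComplex _).obj R.cocomplex
  injective n := G.injective_obj_of_injective (R.injective n)
  hasHomology := inferInstance
  ι := ((HomologicalComplex.singleMapHomologicalComplex G (ComplexShape.up ℕ) 0).app F).inv ≫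
    (G.mapHomologicalComplex _).map R.ι
  quasiIso := inferInstance

theorem isZero_rightDerived_of_comm [EnoughInjectives C] [EnoughInjectives D]
    (G : C ⥤ D) [G.Additive] [PreservesFiniteLimits G] [PreservesFiniteColimits G]
    [G.PreservesInjectiveObjects] (S : C ⥤ C) [S.Additive] (S' : D ⥤ D) [S'.Additive]
    (e : S ⋙ G ≅ G ⋙ S') (F : C) (p : ℕ) (h : IsZero ((S.rightDerived p).obj F)) :
    IsZero ((S'.rightDerived p).obj (G.obj F)) := by
  let R := InjectiveResolution.of F
  let H := HomologicalComplex.homologyFunctor C (ComplexShape.up ℕ) p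
  have h1 : ((S.mapHomologicalComplex _).obj R.cocomplex).ExactAt p := by
    rw [HomologicalComplex.exactAt_iff_isZero_homology]
    exact h.of_iso (R.isoRightDerivedObj S p).symm
  refine IsZero.of_iso ?_ ((mapResolution G R).isoRightDerivedObj S' p)
  refine (HomologicalComplex.exactAt_iff_isZero_homology _ _).1 ?_
  have h2 : ((G.mapHomologicalComplex _).obj ((S.mapHomologicalComplex _).obj R.cocomplex)).ExactAt p :=
    ShortComplex.Exact.map h1 G
  rw [HomologicalComplex.exactAt_iff] at h2 ⊢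
  exact ShortComplex.exact_of_iso ((HomologicalComplex.shortComplexFunctor D _ p).mapIso
    ((NatIso.mapHomologicalComplex e (ComplexShape.up ℕ)).app R.cocomplex)) h2

theorem isZero_obj_rightDerived_of_comm [EnoughInjectives C] [EnoughInjectives D]
    (G : C ⥤ D) [G.Additive] [PreservesFiniteLimits G] [PreservesFiniteColimits G]
    [G.PreservesInjectiveObjects] (S : C ⥤ C) [S.Additive] (S' : D ⥤ D) [S'.Additive]
    (e : S ⋙ G ≅ G ⋙ S') (F : C) (p : ℕ) (h : IsZero ((S'.rightDerived p).obj (G.obj F))) :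
    IsZero (G.obj ((S.rightDerived p).obj F)) := by
  let R := InjectiveResolution.of F
  let K := (S.mapHomologicalComplex (ComplexShape.up ℕ)).obj R.cocomplex
  have h1 : ((S'.mapHomologicalComplex _).obj (mapResolution G R).cocomplex).ExactAt p := by
    rw [HomologicalComplex.exactAt_iff_isZero_homology]
    exact h.of_iso ((mapResolution G R).isoRightDerivedObj S' p).symm
  have h2 : ((G.mapHomologicalComplex _).obj K).ExactAt p := by
    rw [HomologicalComplex.exactAt_iff] at h1 ⊢
    exact ShortComplex.exact_of_iso ((HomologicalComplex.shortComplexFunctor D _ p).mapIso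
      ((NatIso.mapHomologicalComplex e (ComplexShape.up ℕ)).app R.cocomplex).symm) h1
  refine IsZero.of_iso ?_ (G.mapIso (R.isoRightDerivedObj S p))
  refine IsZero.of_iso ?_ ((K.sc p).mapHomologyIso G).symm
  exact (ShortComplex.exact_iff_isZero_homology _).1 h2

end derived

variable {X : Scheme.{u}}

/-- A section all of whose germs vanish is zero. -/
theorem sect_eq_zero (F : EtCoh.Ab X) (W : X.Etale) (s : EtCoh.sect F W)
    (h : ∀ (Ω : Type u) [Field Ω] [IsSepClosed Ω] (ξ : Spec (CommRingCat.of Ω) ⟶ X)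
      (t : (Scheme.pointSmallEtale ξ).fiber.obj W),
      (Scheme.pointSmallEtale ξ).toPresheafFiber W t F.obj s = 0) : s = 0 := by
  have hs : Presieve.IsSheaf X.smallEtaleTopology (F.obj ⋙ forget AddCommGrpCat.{u + 1}) :=
    (Presheaf.isSheaf_iff_isSheaf_forget _ _ (forget _)).1 F.property |> (isSheaf_iff_isSheaf_of_type _ _).1
  refine (hs.isSeparated (Presheaf.equalizerSieve (F := F.obj) s (0 : EtCoh.sect F W))
    (mem_smallEtaleTopology_of_points W _ fun x => ?_)).ext fun V g hg => hg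
  let Φ := Scheme.pointSmallEtale (gpt x ≫ W.hom)
  have e : Φ.toPresheafFiber W (tautPt W x) F.obj s = Φ.toPresheafFiber W (tautPt W x) F.obj 0 :=
    (h _ _ _).trans (map_zero _).symm
  obtain ⟨V, g, v, hv, hg⟩ := (Φ.toPresheafFiber_eq_iff' _ _ _ _).1 e
  refine ⟨V, g, v.left (default : Spec (CommRingCat.of (SeparableClosure (W.left.residueField x)))),
    hg, ?_⟩
  have hl : v.left ≫ g.left = gpt x := congrArg CommaMorphism.left hv
  exact (Scheme.Hom.comp_apply _ _ _).symm.trans
    ((congrArg (fun m : _ ⟶ W.left => m.base _) hl).trans (gpt_apply x _))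

variable {U : Scheme.{u}}

/-- A map killed by the unit pulls back to zero. -/
theorem pull_map_eq_zero (j : U ⟶ X) {A B : EtCoh.Ab X} (a : A ⟶ B)
    (h : a ≫ EtDual.unitApp j B = 0) : (EtCoh.pull j).map a = 0 := by
  apply ((EtCoh.pullPushAdj j).homEquiv _ _).injective
  rw [Adjunction.homEquiv_unit, Adjunction.homEquiv_unit, Functor.map_zero, comp_zero]
  exact ((EtCoh.pullPushAdj j).unit.naturality a).symm.trans h

theorem map_comp_unit (j : U ⟶ X) {A B : EtCoh.Ab X} (a : A ⟶ B)
    (h : (EtCoh.pull j).map a = 0) : a ≫ EtDual.unitApp j B = 0 := by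
  refine ((EtCoh.pullPushAdj j).unit.naturality a).trans ?_
  simp only [Functor.comp_map]
  rw [h, Functor.map_zero, comp_zero]

/-- A section is supported off `U` iff its germs at the points over `U` vanish. -/
theorem unit_eq_zero_iff (j : U ⟶ X) (F : EtCoh.Ab X) (W : X.Etale) (s : EtCoh.sect F W) :
    (EtDual.unitApp j F).hom.app (op W) s = 0 ↔
      ∀ (Ω : Type u) [Field Ω] [IsSepClosed Ω] (ξ : Spec (CommRingCat.of Ω) ⟶ U)
        (t : (Scheme.pointSmallEtale (ξ ≫ j)).fiber.obj W),
        (Scheme.pointSmallEtale (ξ ≫ j)).toPresheafFiber W t F.obj s = 0 := by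
  constructor
  · intro h Ω _ _ ξ t
    refine ((ConcreteCategory.isIso_iff_bijective ((stalkPullIso j ξ).hom.app F)).1 inferInstance).1 ?_
    refine (ConcreteCategory.congr_hom (toPresheafFiber_stalkPullIso_hom j ξ F W t) s).trans ?_
    refine Eq.trans ?_ (map_zero _).symm
    exact (congrArg ((Scheme.pointSmallEtale ξ).toPresheafFiber ((EtCoh.bc j).obj W) (bcPt j ξ W t)
      ((EtCoh.pull j).obj F).obj).hom h).trans
      (map_zero ((Scheme.pointSmallEtale ξ).toPresheafFiber ((EtCoh.bc j).obj W) (bcPt j ξ W t)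
      ((EtCoh.pull j).obj F).obj).hom)
  · intro h
    refine sect_eq_zero ((EtCoh.pull j).obj F) ((EtCoh.bc j).obj W) _ fun Ω _ _ ξ t' => ?_
    obtain ⟨t, rfl⟩ : ∃ t, bcPt j ξ W t = t' := ⟨unbcPt j ξ W t', bcPt_unbcPt j ξ W t'⟩
    exact (ConcreteCategory.congr_hom (toPresheafFiber_stalkPullIso_hom j ξ F W t) s).symm.trans
      ((congrArg ((stalkPullIso j ξ).hom.app F).hom (h Ω ξ t)).trans
        (map_zero ((stalkPullIso j ξ).hom.app F).hom))

variable {V U' : Scheme.{u}} (j : U ⟶ X) (g : V ⟶ X) [Etale g] (j' : U' ⟶ V) (g' : U' ⟶ U)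
  (sq : IsPullback g' j' j g)

include sq in
theorem pull_ι_comp (F : EtCoh.Ab X) :
    (EtCoh.pull g).map (kernel.ι (EtDual.unitApp j F)) ≫
      EtDual.unitApp j' ((EtCoh.pull g).obj F) = 0 := by
  apply map_comp_unit
  let nat := (EtCore.pullComp j' g).symm ≪≫ EtCore.pullCongr sq.w.symm ≪≫ EtCore.pullComp g' j
  have h := nat.hom.naturality (kernel.ι (EtDual.unitApp j F))
  simp only [Functor.comp_map] at h
  rw [pull_map_eq_zero j _ (kernel.condition _), Functor.map_zero, comp_zero] at h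
  exact (cancel_mono (nat.hom.app F)).1 (h.trans zero_comp.symm)

include sq in
theorem kerι_comp_pull (F : EtCoh.Ab X) :
    kernel.ι (EtDual.unitApp j' ((EtCoh.pull g).obj F)) ≫
      (EtCoh.pull g).map (EtDual.unitApp j F) = 0 := by
  ext W k
  obtain ⟨W⟩ := W
  let G := (EtCoh.pull g).obj F
  let s := (kernel.ι (EtDual.unitApp j' G)).hom.app (op W) k
  have hs : (EtDual.unitApp j' G).hom.app (op W) s = 0 :=
    ConcreteCategory.congr_hom (congrArg (fun a => a.hom.app (op W)) (kernel.condition (EtDual.unitApp j' G))) k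
  change ((EtCoh.pull g).map (EtDual.unitApp j F)).hom.app (op W) s = 0
  refine sect_eq_zero _ W _ fun Ω _ _ ξ t => ?_
  let Φ := Scheme.pointSmallEtale ξ
  let Ψ := Scheme.pointSmallEtale (ξ ≫ g)
  let σ := stalkPullIso g ξ
  obtain ⟨x, hx⟩ := ((ConcreteCategory.isIso_iff_bijective (σ.hom.app F)).1 inferInstance).2
    (Φ.toPresheafFiber W t G.obj s)
  obtain ⟨W₀, t₀, s₀, rfl⟩ := Ψ.toPresheafFiber_jointly_surjective x
  have hx' : Φ.toPresheafFiber ((EtCoh.bc g).obj W₀) (bcPt g ξ W₀ t₀) G.obj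
      (((EtCoh.pullPushAdj g).unit.app F).hom.app (op W₀) s₀) = Φ.toPresheafFiber W t G.obj s :=
    (ConcreteCategory.congr_hom (toPresheafFiber_stalkPullIso_hom g ξ F W₀ t₀) s₀).symm.trans hx
  obtain ⟨⟨T, τ⟩, a, b, -⟩ := IsCofilteredOrEmpty.cone_objs (C := Φ.fiber.Elements)
    ⟨(EtCoh.bc g).obj W₀, bcPt g ξ W₀ t₀⟩ ⟨W, t⟩
  have ha : Φ.fiber.map a.1 τ = bcPt g ξ W₀ t₀ := a.2
  have hb : Φ.fiber.map b.1 τ = t := b.2
  rw [← ha, ← hb, ← Φ.toPresheafFiber_w_apply, ← Φ.toPresheafFiber_w_apply] at hx'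
  obtain ⟨T', c, τ', hc, he⟩ := (Φ.toPresheafFiber_eq_iff' _ _ _ _).1 hx'
  -- the neighbourhood `T'` seen over `X`
  let W₃ : X.Etale := @Scheme.Etale.mk X T'.left (T'.hom ≫ g)
    (MorphismProperty.comp_mem (W := EtCoh.etaleMP) _ _ T'.prop (inferInstance : Etale g))
  let m : W₃ ⟶ W₀ := MorphismProperty.Over.homMk ((c ≫ a.1).left ≫ pullback.fst W₀.hom g)
    ((Category.assoc _ _ _).trans ((congrArg (CategoryStruct.comp _) pullback.condition).trans
      ((Category.assoc _ _ _).symm.trans (congrArg (· ≫ g) (MorphismProperty.Over.w (c ≫ a.1)))))) trivial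
  let τ₃ : Ψ.fiber.obj W₃ := Over.homMk τ'.left
    ((Category.assoc _ _ _).symm.trans (congrArg (· ≫ g) (Over.w τ')))
  have hm : Ψ.fiber.map m τ₃ = t₀ := by
    apply Over.OverMorphism.ext
    change τ'.left ≫ (c.left ≫ a.1.left) ≫ pullback.fst W₀.hom g = t₀.left
    have h1 : τ'.left ≫ c.left = τ.left := congrArg CommaMorphism.left hc
    have h2 : τ.left ≫ a.1.left = (bcPt g ξ W₀ t₀).left := congrArg CommaMorphism.left ha
    erw [← Category.assoc, ← Category.assoc, h1, h2]
    exact bcPt_left_fst g ξ W₀ t₀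
  have h3 : (EtDual.unitApp j F).hom.app (op W₃) (F.obj.map m.op s₀) = 0 := by
    refine (unit_eq_zero_iff j F W₃ _).2 fun Ω₁ _ _ ξ₀ q => ?_
    -- `q` lifts to a point of `U'`
    let l : Spec (CommRingCat.of Ω₁) ⟶ V := q.left ≫ T'.hom
    have hl : l ≫ g = ξ₀ ≫ j := (Category.assoc _ _ _).trans (Over.w q)
    let ξ₁ : Spec (CommRingCat.of Ω₁) ⟶ U' := sq.lift ξ₀ l hl.symm
    have hξ₁ : ξ₁ ≫ j' = l := sq.lift_snd _ _ _
    have hξg : (ξ₁ ≫ j') ≫ g = ξ₀ ≫ j := by rw [hξ₁]; exact hl
    let q' : (Scheme.pointSmallEtale (ξ₁ ≫ j')).fiber.obj T' := Over.homMk q.left hξ₁.symm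
    have hz : (Scheme.pointSmallEtale (ξ₁ ≫ j')).toPresheafFiber T' q' G.obj
        (G.obj.map (c ≫ b.1).op s) = 0 :=
      (unit_eq_zero_iff j' G T' _).1 ((NatTrans.naturality_apply (EtDual.unitApp j' G).hom
        (c ≫ b.1).op s).trans ((congrArg _ hs).trans (map_zero _))) Ω₁ ξ₁ q'
    let A := (EtCoh.pullPushAdj g).unit.app F
    have e' : G.obj.map (c ≫ a.1).op (A.hom.app (op W₀) s₀) = G.obj.map (c ≫ b.1).op s :=
      (Functor.map_comp_apply G.obj a.1.op c.op _).trans
        (he.trans (Functor.map_comp_apply G.obj b.1.op c.op s).symm)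
    let η₁ : Spec (CommRingCat.of Ω₁) ⟶ V := ξ₁ ≫ j'
    let Φ₁ := Scheme.pointSmallEtale η₁
    let q₀ : (Scheme.pointSmallEtale (η₁ ≫ g)).fiber.obj W₀ :=
      Over.homMk (q.left ≫ m.left) ((Category.assoc _ _ _).trans
        ((congrArg (CategoryStruct.comp q.left) (MorphismProperty.Over.w m)).trans
          ((Over.w q).trans hξg.symm)))
    have hq₀ : Φ₁.fiber.map (c ≫ a.1) q' = bcPt g η₁ W₀ q₀ := by
      apply Over.OverMorphism.ext
      refine pullback.hom_ext ?_ ?_
      · exact (Category.assoc _ _ _).trans (bcPt_left_fst g η₁ W₀ q₀).symm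
      · refine Eq.trans ?_ (bcPt_left_snd g η₁ W₀ q₀).symm
        exact (Category.assoc _ _ _).trans ((congrArg (CategoryStruct.comp q.left)
          (MorphismProperty.Over.w (c ≫ a.1))).trans hξ₁.symm)
    rw [← e', Φ₁.toPresheafFiber_w_apply] at hz
    have hz' : (stalkPullIso g η₁).hom.app F
        ((Scheme.pointSmallEtale (η₁ ≫ g)).toPresheafFiber W₀ q₀ F.obj s₀) = 0 :=
      (ConcreteCategory.congr_hom (toPresheafFiber_stalkPullIso_hom g η₁ F W₀ q₀) s₀).trans
        ((congrArg (fun y => Φ₁.toPresheafFiber _ y G.obj (A.hom.app (op W₀) s₀)) hq₀).symm.trans hz)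
    have hz'' : (Scheme.pointSmallEtale (η₁ ≫ g)).toPresheafFiber W₀ q₀ F.obj s₀ = 0 :=
      ((ConcreteCategory.isIso_iff_bijective ((stalkPullIso g η₁).hom.app F)).1 inferInstance).1
        (hz'.trans (map_zero _).symm)
    have key : ∀ {η : Spec (CommRingCat.of Ω₁) ⟶ X} (e : η = ξ₀ ≫ j)
        (r : (Scheme.pointSmallEtale η).fiber.obj W₀) (hr : r.left = q.left ≫ m.left),
        (Scheme.pointSmallEtale η).toPresheafFiber W₀ r F.obj s₀ = 0 →
        (Scheme.pointSmallEtale (ξ₀ ≫ j)).toPresheafFiber W₃ q F.obj (F.obj.map m.op s₀) = 0 := by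
      intro η e r hr h0
      subst e
      rw [(Scheme.pointSmallEtale (ξ₀ ≫ j)).toPresheafFiber_w_apply]
      exact (congrArg (fun y => (Scheme.pointSmallEtale (ξ₀ ≫ j)).toPresheafFiber W₀ y F.obj s₀)
        (Over.OverMorphism.ext hr.symm)).trans h0
    exact key hξg q₀ rfl hz''
  -- conclude on germs at `ξ`
  have hF : (EtCoh.stalk (ξ ≫ g)).map (EtDual.unitApp j F) (Ψ.toPresheafFiber W₀ t₀ F.obj s₀) = 0 := by
    rw [← hm, ← Ψ.toPresheafFiber_w_apply]
    refine (Ψ.toPresheafFiber_naturality_apply _ _ _ _).trans ?_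
    exact (congrArg (Ψ.toPresheafFiber W₃ τ₃ ((EtCoh.push j).obj ((EtCoh.pull j).obj F)).obj).hom h3).trans
      (map_zero (Ψ.toPresheafFiber W₃ τ₃ ((EtCoh.push j).obj ((EtCoh.pull j).obj F)).obj).hom)
  refine (Φ.toPresheafFiber_naturality_apply ((EtCoh.pull g).map (EtDual.unitApp j F)).hom W t s).symm.trans ?_
  refine (congrArg ((EtCoh.stalk ξ).map ((EtCoh.pull g).map (EtDual.unitApp j F))) hx.symm).trans ?_
  exact (ConcreteCategory.congr_hom (σ.hom.naturality (EtDual.unitApp j F)) _).symm.trans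
    ((congrArg (σ.hom.app ((EtCoh.push j).obj ((EtCoh.pull j).obj F))).hom hF).trans
      (map_zero (σ.hom.app ((EtCoh.push j).obj ((EtCoh.pull j).obj F))).hom))

include sq in
/-- Sections with support commute with étale restriction. -/
theorem nonempty_secSupp_pull :
    Nonempty (EtDual.secSupp j ⋙ EtCoh.pull g ≅ EtCoh.pull g ⋙ EtDual.secSupp j') := by
  have hm : ∀ F, Mono ((EtCoh.pull g).map (kernel.ι (EtDual.unitApp j F))) := fun F =>
    pull_mono g _
  let K : ∀ F, KernelFork ((EtCoh.pull g).map (EtDual.unitApp j F)) := fun F =>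
    KernelFork.ofι ((EtCoh.pull g).map (kernel.ι (EtDual.unitApp j F)))
      (by rw [← Functor.map_comp, kernel.condition, Functor.map_zero])
  let hK : ∀ F, IsLimit (K F) := fun F =>
    isLimitForkMapOfIsLimit' (EtCoh.pull g) (kernel.condition _) (kernelIsKernel _)
  refine ⟨NatIso.ofComponents (fun F => ⟨kernel.lift _ _ (pull_ι_comp j g j' g' sq F),
    (hK F).lift (KernelFork.ofι _ (kerι_comp_pull j g j' g' sq F)), ?_, ?_⟩) fun {F G} a => ?_⟩
  · refine (cancel_mono ((EtCoh.pull g).map (kernel.ι (EtDual.unitApp j F)))).1 ?_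
    rw [Category.assoc]
    erw [(hK F).fac _ WalkingParallelPair.zero]
    exact (kernel.lift_ι _ _ _).trans (Category.id_comp _).symm
  · refine (cancel_mono (kernel.ι (EtDual.unitApp j' ((EtCoh.pull g).obj F)))).1 ?_
    rw [Category.assoc, kernel.lift_ι]
    erw [(hK F).fac _ WalkingParallelPair.zero]
    exact (Category.id_comp _).symm
  · refine (cancel_mono (kernel.ι (EtDual.unitApp j' ((EtCoh.pull g).obj G)))).1 ?_
    dsimp only [Functor.comp_map, EtDual.secSupp]
    simp only [Category.assoc, kernel.lift_ι, kernel.lift_ι_assoc, ← Functor.map_comp]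

include sq in
/-- Vanishing of local cohomology sheaves is inherited by étale schemes over `X`. -/
theorem isZero_locCoh_pull (F : EtCoh.Ab X) (p : ℕ) (h : IsZero ((EtDual.locCoh j p).obj F))
    (hinj : (EtCoh.pull g).PreservesInjectiveObjects) :
    IsZero ((EtDual.locCoh j' p).obj ((EtCoh.pull g).obj F)) :=
  isZero_rightDerived_of_comm (EtCoh.pull g) (EtDual.secSupp j) (EtDual.secSupp j')
    (nonempty_secSupp_pull j g j' g' sq).some F p h

include sq in
/-- Vanishing of local cohomology sheaves can be tested on étale schemes over `X`. -/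
theorem isZero_pull_locCoh (F : EtCoh.Ab X) (p : ℕ)
    (h : IsZero ((EtDual.locCoh j' p).obj ((EtCoh.pull g).obj F)))
    (hinj : (EtCoh.pull g).PreservesInjectiveObjects) :
    IsZero ((EtCoh.pull g).obj ((EtDual.locCoh j p).obj F)) :=
  isZero_obj_rightDerived_of_comm (EtCoh.pull g) (EtDual.secSupp j) (EtDual.secSupp j')
    (nonempty_secSupp_pull j g j' g' sq).some F p h

end Groth.Agent.EtSite.SuppPull
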