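import Groth.Agent.EtMV.Complement
import Groth.Agent.EtSite.SuppPull

/-!
# Sections with support off an open subscheme preserve injective sheaves
-/

set_option autoImplicit false
universe u

open CategoryTheory CategoryTheory.Limits AlgebraicGeometry Opposite

namespace Groth.Agent.EtSite.SuppInjective

open Groth.Agent.EtMV

variable {X U : Scheme.{u}} (j : U ⟶ X) [IsOpenImmersion j]

/-- A geometric point lying over `U` factors through `j`. -/
theorem exists_lift {Ω : Type u} [Field Ω] [IsSepClosed Ω] (ξ : Spec (CommRingCat.of Ω) ⟶ X)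
    (hp : ξ.base default ∈ Set.range j.base) : ∃ ζ : Spec (CommRingCat.of Ω) ⟶ U, ζ ≫ j = ξ := by
  have hr : Set.range ξ.base ⊆ Set.range j.base := by
    rintro _ ⟨p, rfl⟩
    rwa [Subsingleton.elim p default]
  exact ⟨IsOpenImmersion.lift j ξ hr, IsOpenImmersion.lift_fac j ξ hr⟩

theorem stalk_eq_zero_of_pull {A B : EtCoh.Ab X} (a : A ⟶ B) (h : (EtCoh.pull j).map a = 0)
    {Ω : Type u} [Field Ω] [IsSepClosed Ω] (ξ : Spec (CommRingCat.of Ω) ⟶ X)
    (hp : ξ.base default ∈ Set.range j.base) : (EtCoh.stalk ξ).map a = 0 := by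
  obtain ⟨ζ, rfl⟩ := exists_lift j ξ hp
  rw [← cancel_mono ((stalkPullIso j ζ).hom.app B), zero_comp]
  refine ((stalkPullIso j ζ).hom.naturality a).trans ?_
  rw [Functor.comp_map, h, Functor.map_zero, comp_zero]

theorem pull_map_eq_zero_of_stalk {A B : EtCoh.Ab X} (a : A ⟶ B)
    (h : ∀ (Ω : Type u) [Field Ω] [IsSepClosed Ω] (ξ : Spec (CommRingCat.of Ω) ⟶ X),
      ξ.base default ∈ Set.range j.base → (EtCoh.stalk ξ).map a = 0) :
    (EtCoh.pull j).map a = 0 := by
  refine eq_zero_of_stalks _ fun Ω _ _ ζ => ?_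
  rw [← cancel_epi ((stalkPullIso j ζ).hom.app A), comp_zero]
  refine ((stalkPullIso j ζ).hom.naturality a).symm.trans ?_
  rw [h Ω (ζ ≫ j) ⟨ζ.base default, (Scheme.Hom.comp_apply _ _ _).symm⟩, zero_comp]

theorem secSupp_preservesInjective : (EtDual.secSupp j).PreservesInjectiveObjects := ⟨fun {I} hI =>
  ⟨fun {A B} a m _ => by
    let a' : A ⟶ I := a ≫ kernel.ι (EtDual.unitApp j I)
    have ha : (EtCoh.pull j).map a' = 0 := SuppPull.pull_map_eq_zero j a'
      ((Category.assoc _ _ _).trans ((congrArg (a ≫ ·) (kernel.condition _)).trans comp_zero))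
    let q := m ≫ cokernel.π (kS j B)
    have hk : kernel.ι q ≫ a' = 0 := eq_zero_of_stalks _ fun Ω _ _ ξ => by
      rw [Functor.map_comp]
      by_cases hp : ξ.base default ∈ Set.range j.base
      · rw [stalk_eq_zero_of_pull j a' ha ξ hp, comp_zero]
      · have hπ : Mono ((EtCoh.stalk ξ).map (cokernel.π (kS j B))) := by
          let S := ShortComplex.mk (kS j B) (cokernel.π (kS j B)) (cokernel.condition _)
          have hS : S.Exact := ShortComplex.exact_of_g_is_cokernel S (cokernelIsCokernel _)
          exact (hS.map (EtCoh.stalk ξ)).mono_g ((isZero_stalk_shriek j B ξ hp).eq_of_src _ _)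
        have h0 := congrArg (EtCoh.stalk ξ).map (kernel.condition q)
        rw [Functor.map_zero, Functor.map_comp, Functor.map_comp] at h0
        have h1 : (EtCoh.stalk ξ).map (kernel.ι q) ≫ (EtCoh.stalk ξ).map m = 0 :=
          (cancel_mono ((EtCoh.stalk ξ).map (cokernel.π (kS j B)))).1
            ((Category.assoc _ _ _).trans (h0.trans zero_comp.symm))
        have hm := pull_mono (𝟙 X) m
        have : Mono ((EtCoh.stalk ξ).map m) := inferInstance
        rw [(cancel_mono ((EtCoh.stalk ξ).map m)).1 (h1.trans zero_comp.symm), zero_comp]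
    let e := Abelian.factorThruImage q
    have hek : kernel.ι e ≫ q = 0 :=
      (congrArg (kernel.ι e ≫ ·) (Abelian.image.fac q).symm).trans
        ((Category.assoc _ _ _).symm.trans ((congrArg (· ≫ Abelian.image.ι q) (kernel.condition e)).trans
          zero_comp))
    have hke : kernel.ι e ≫ a' = 0 :=
      (congrArg (· ≫ a') (kernel.lift_ι q _ hek).symm).trans
        ((Category.assoc _ _ _).trans ((congrArg (kernel.lift q _ hek ≫ ·) hk).trans comp_zero))
    let S := ShortComplex.mk (kernel.ι e) e (kernel.condition e)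
    have hS : S.Exact := ShortComplex.exact_of_f_is_kernel S (kernelIsKernel e)
    have : Epi S.g := (inferInstance : Epi (Abelian.factorThruImage q))
    let d : Abelian.image q ⟶ I := hS.desc a' hke
    have hd : e ≫ d = a' := hS.g_desc a' hke
    let d' : cokernel (kS j B) ⟶ I := Injective.factorThru d (Abelian.image.ι q)
    let b : B ⟶ I := cokernel.π (kS j B) ≫ d'
    have hb : (EtCoh.pull j).map b = 0 := pull_map_eq_zero_of_stalk j b fun Ω _ _ ξ hp => by
      have : Epi ((EtCoh.stalk ξ).map (kS j B)) :=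
        (AddCommGrpCat.epi_iff_surjective _).2 (stalk_kS_surjective j B ξ hp)
      rw [← cancel_epi ((EtCoh.stalk ξ).map (kS j B)), comp_zero, ← Functor.map_comp,
        ← Category.assoc, cokernel.condition, zero_comp, Functor.map_zero]
    have hmb : m ≫ b = a' :=
      (Category.assoc _ _ _).symm.trans ((congrArg (· ≫ d') (Abelian.image.fac q).symm).trans
        ((Category.assoc _ _ _).trans
          ((congrArg (e ≫ ·) (Injective.comp_factorThru d (Abelian.image.ι q))).trans hd)))
    refine ⟨kernel.lift _ b (SuppPull.map_comp_unit j b hb),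
      (cancel_mono (kernel.ι (EtDual.unitApp j I))).1 ?_⟩
    rw [Category.assoc, kernel.lift_ι]
    exact hmb⟩⟩

end Groth.Agent.EtSite.SuppInjective
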