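import Groth.Agent.EtSite.SuppPull
import Groth.Agent.EtSite.SuppLex
import Groth.Agent.EtSite.SuppInjective
import Groth.Agent.EtMV.EtaleRestr
import Groth.Agent.EtMV.Flasque
import Mathlib.Algebra.Homology.HomologySequence
import Mathlib.Algebra.Homology.HomologicalComplexAbelian

/-!
# Changing the closed support: the sequence of a triple
-/

set_option autoImplicit false
universe u

open CategoryTheory CategoryTheory.Limits AlgebraicGeometry Opposite EtShriek

namespace Groth.Agent.EtSite.SuppTriple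

variable {X X' U : Scheme.{u}}

/-- Sections over the top object. -/
noncomputable abbrev Γs (X : Scheme.{u}) : EtCoh.Ab X ⥤ AddCommGrpCat.{u + 1} :=
  sheafToPresheaf X.smallEtaleTopology AddCommGrpCat.{u + 1} ⋙
    (evaluation X.Etaleᵒᵖ AddCommGrpCat.{u + 1}).obj (op (EtCoh.top X))

variable (k : X' ⟶ X) [IsOpenImmersion k] [JCont k]

/-- `X'` as an object over `X`. -/
noncomputable def tMap : (compEtale k).obj (EtCoh.top X') ⟶ EtCoh.top X :=
  MorphismProperty.Over.homMk k ((Category.comp_id _).trans (Category.id_comp _).symm) trivial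

/-- Restriction of global sections. -/
noncomputable def ρ : Γs X ⟶ restrAlong k ⋙ Γs X' where
  app F := F.obj.map (tMap k).op
  naturality F G a := (a.hom.naturality (tMap k).op).symm

theorem res_eq_zero_iff (F : EtCoh.Ab X) (s : EtCoh.sect F (EtCoh.top X)) :
    F.obj.map (tMap k).op s = 0 ↔ (EtDual.unitApp k F).hom.app (op (EtCoh.top X)) s = 0 := by
  rw [SuppPull.unit_eq_zero_iff]
  constructor
  · intro h Ω _ _ ξ t
    let Φ := Scheme.pointSmallEtale (ξ ≫ k)
    let t' : Φ.fiber.obj ((compEtale k).obj (EtCoh.top X')) :=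
      Over.homMk ξ (congrArg (ξ ≫ ·) (Category.id_comp k))
    have ht : Φ.fiber.map (tMap k) t' = t := Over.OverMorphism.ext
      ((Over.w t).symm.trans (Category.comp_id _))
    rw [← ht, ← Φ.toPresheafFiber_w_apply]
    exact (congrArg (Φ.toPresheafFiber _ t' F.obj).hom h).trans (map_zero (Φ.toPresheafFiber _ t' F.obj).hom)
  · intro h
    refine SuppPull.sect_eq_zero F _ _ fun Ω _ _ ξ t => ?_
    have key : ∀ (η : Spec (CommRingCat.of Ω) ⟶ X) (_ : η = ξ)
        (t₀ : (Scheme.pointSmallEtale η).fiber.obj (EtCoh.top X)),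
        (Scheme.pointSmallEtale η).toPresheafFiber _ t₀ F.obj s = 0 →
        (Scheme.pointSmallEtale ξ).toPresheafFiber _ t F.obj (F.obj.map (tMap k).op s) = 0 := by
      intro η e t₀ h0
      subst e
      rw [(Scheme.pointSmallEtale η).toPresheafFiber_w_apply]
      exact (congrArg (fun y => (Scheme.pointSmallEtale η).toPresheafFiber _ y F.obj s)
        (Over.OverMorphism.ext ((Category.comp_id _).symm.trans ((Over.w _).trans
          ((Over.w t₀).symm.trans (Category.comp_id _)))))).trans h0
    have e : t.left ≫ k = ξ := (congrArg (t.left ≫ ·) (Category.id_comp k).symm).trans (Over.w t)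
    exact key _ e (Over.homMk (t.left ≫ k) (Category.comp_id _))
      (h Ω t.left (Over.homMk (t.left ≫ k) (Category.comp_id _)))

theorem ι_ρ (F : EtCoh.Ab X) :
    (Γs X).map (kernel.ι (EtDual.unitApp k F)) ≫ (ρ k).app F = 0 := by
  refine AddCommGrpCat.hom_ext (AddMonoidHom.ext fun s => ?_)
  refine (res_eq_zero_iff k F ((kernel.ι (EtDual.unitApp k F)).hom.app (op (EtCoh.top X)) s)).2 ?_
  exact ConcreteCategory.congr_hom
    (congrArg (fun a => a.hom.app (op (EtCoh.top X))) (kernel.condition (EtDual.unitApp k F))) s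

theorem triple_shortExact (I : EtCoh.Ab X) [Injective I] :
    (ShortComplex.mk _ _ (ι_ρ k I)).ShortExact where
  exact := by
    refine (ShortComplex.ab_exact_iff _).2 fun s hs => ?_
    let S := ShortComplex.mk (kernel.ι (EtDual.unitApp k I)) (EtDual.unitApp k I) (kernel.condition _)
    have hS : S.Exact := ShortComplex.exact_of_f_is_kernel S (kernelIsKernel _)
    have : Mono S.f := (inferInstance : Mono (kernel.ι (EtDual.unitApp k I)))
    have : PreservesFiniteLimits (Γs X) := inferInstance
    obtain ⟨y, hy⟩ := (ShortComplex.ab_exact_iff _).1 (hS.map_of_mono_of_preservesKernel (Γs X)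
      inferInstance inferInstance) s ((res_eq_zero_iff k I s).1 hs)
    exact ⟨y, hy⟩
  mono_f := (inferInstance : Mono ((Γs X).map (kernel.ι (EtDual.unitApp k I))))
  epi_g := by
    refine (AddCommGrpCat.epi_iff_surjective _).2 ?_
    have : Mono (tMap k) := ⟨fun a b h => MorphismProperty.Over.Hom.ext
      ((cancel_mono k).1 (congrArg (fun m => m.left) h))⟩
    exact Groth.Agent.EtMV.injective_restrict_surjective I (tMap k)

variable (j : U ⟶ X) [IsOpenImmersion j] (j' : U ⟶ X') [IsOpenImmersion j'] (hfac : j' ≫ k = j)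

include hfac in
theorem ι_unit (F : EtCoh.Ab X) : kernel.ι (EtDual.unitApp k F) ≫ EtDual.unitApp j F = 0 := by
  apply SuppPull.map_comp_unit
  let nat := (EtCore.pullComp j' k).symm ≪≫ EtCore.pullCongr hfac
  have h := nat.hom.naturality (kernel.ι (EtDual.unitApp k F))
  simp only [Functor.comp_map] at h
  rw [SuppPull.pull_map_eq_zero k _ (kernel.condition _), Functor.map_zero, zero_comp] at h
  exact (cancel_epi (nat.hom.app _)).1 (h.symm.trans comp_zero.symm)

include hfac in
/-- Taking supports twice. -/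
theorem nonempty_secSupp_comp :
    Nonempty (EtDual.secSupp j ⋙ EtDual.secSupp k ≅ EtDual.secSupp k) := by
  have hs : ∀ {F G : EtCoh.Ab X} (a : F ⟶ G),
      (EtDual.secSupp k).map a ≫ kernel.ι (EtDual.unitApp k G) = kernel.ι (EtDual.unitApp k F) ≫ a :=
    fun a => kernel.lift_ι _ _ _
  have hj : ∀ {F G : EtCoh.Ab X} (a : F ⟶ G),
      (EtDual.secSupp j).map a ≫ kernel.ι (EtDual.unitApp j G) = kernel.ι (EtDual.unitApp j F) ≫ a :=
    fun a => kernel.lift_ι _ _ _
  let down : ∀ F, kernel (EtDual.unitApp k F) ⟶ kernel (EtDual.unitApp j F) :=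
    fun F => kernel.lift _ _ (ι_unit k j j' hfac F)
  have hd : ∀ F, down F ≫ EtDual.unitApp k (kernel (EtDual.unitApp j F)) = 0 := fun F => by
    refine SuppPull.map_comp_unit k _ ?_
    have h1 : (EtCoh.pull k).map (down F ≫ kernel.ι (EtDual.unitApp j F)) = 0 := by
      rw [kernel.lift_ι]
      exact SuppPull.pull_map_eq_zero k _ (kernel.condition _)
    have := pull_mono k (kernel.ι (EtDual.unitApp j F))
    rw [Functor.map_comp] at h1
    exact (cancel_mono ((EtCoh.pull k).map (kernel.ι (EtDual.unitApp j F)))).1 (h1.trans zero_comp.symm)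
  let u : ∀ F, (EtDual.secSupp k).obj ((EtDual.secSupp j).obj F) ⟶ (EtDual.secSupp k).obj F :=
    fun F => (EtDual.secSupp k).map (kernel.ι (EtDual.unitApp j F))
  let v : ∀ F, (EtDual.secSupp k).obj F ⟶ (EtDual.secSupp k).obj ((EtDual.secSupp j).obj F) :=
    fun F => kernel.lift _ (down F) (hd F)
  have hu : ∀ F, u F ≫ kernel.ι (EtDual.unitApp k F) =
      kernel.ι (EtDual.unitApp k (kernel (EtDual.unitApp j F))) ≫ kernel.ι (EtDual.unitApp j F) :=
    fun F => hs _
  have hv : ∀ F, v F ≫ kernel.ι (EtDual.unitApp k (kernel (EtDual.unitApp j F))) = down F :=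
    fun F => kernel.lift_ι _ _ _
  have hdown : ∀ F, down F ≫ kernel.ι (EtDual.unitApp j F) = kernel.ι (EtDual.unitApp k F) :=
    fun F => kernel.lift_ι _ _ _
  refine ⟨NatIso.ofComponents (fun F => ⟨u F, v F, ?_, ?_⟩) fun {F G} a => ?_⟩
  · refine (cancel_mono (kernel.ι (EtDual.unitApp k (kernel (EtDual.unitApp j F))))).1 ?_
    refine (cancel_mono (kernel.ι (EtDual.unitApp j F))).1 ?_
    refine (congrArg (· ≫ kernel.ι (EtDual.unitApp j F))
      ((Category.assoc _ _ _).trans (congrArg (u F ≫ ·) (hv F)))).trans ?_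
    refine ((Category.assoc _ _ _).trans ((congrArg (u F ≫ ·) (hdown F)).trans (hu F))).trans ?_
    exact congrArg (· ≫ kernel.ι (EtDual.unitApp j F)) (Category.id_comp _).symm
  · refine (cancel_mono (kernel.ι (EtDual.unitApp k F))).1 ?_
    refine ((Category.assoc _ _ _).trans (congrArg (v F ≫ ·) (hu F))).trans ?_
    refine ((Category.assoc _ _ _).symm.trans ((congrArg (· ≫ kernel.ι (EtDual.unitApp j F)) (hv F)).trans
      (hdown F))).trans ?_
    exact (Category.id_comp _).symm
  · change (EtDual.secSupp k).map ((EtDual.secSupp j).map a) ≫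
        (EtDual.secSupp k).map (kernel.ι (EtDual.unitApp j G)) =
      (EtDual.secSupp k).map (kernel.ι (EtDual.unitApp j F)) ≫ (EtDual.secSupp k).map a
    rw [← (EtDual.secSupp k).map_comp, ← (EtDual.secSupp k).map_comp, hj a]

include hfac in
/-- If `Γ_Z` is cohomologically trivial in degrees `q, q + 1`, then `H^q_Y(X) ≅ H^q_V(X')`. -/
theorem nonempty_HY_iso (F : EtCoh.Ab X) (q : ℕ)
    (h0 : IsZero (((EtDual.gammaSupp k).rightDerived q).obj F))
    (h1 : IsZero (((EtDual.gammaSupp k).rightDerived (q + 1)).obj F)) :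
    Nonempty (((EtDual.gammaSupp j).rightDerived q).obj F ≅
      ((EtDual.gammaSupp j').rightDerived q).obj ((restrAlong k).obj F)) := by
  let R := injectiveResolution F
  have := SuppInjective.secSupp_preservesInjective j
  have hinj := Groth.Agent.EtMV.pull_preservesInjectiveObjects k
  let σ := Groth.Agent.EtMV.σEt k
  have : (restrAlong k).Additive := Functor.additive_of_iso σ
  have : PreservesFiniteLimits (restrAlong k) := preservesFiniteLimits_of_natIso σ
  have : PreservesFiniteColimits (restrAlong k) := preservesFiniteColimits_of_natIso σ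
  have : (restrAlong k).PreservesInjectiveObjects :=
    ⟨fun {I} hI => Injective.of_iso (σ.app I) (hinj.injective_obj hI)⟩
  obtain ⟨eS⟩ := nonempty_secSupp_comp k j j' hfac
  have sq : IsPullback (𝟙 U) j' j k := by
    refine ⟨⟨(Category.id_comp j).trans hfac.symm⟩, ⟨PullbackCone.IsLimit.mk _ (fun s => s.fst)
      (fun s => Category.comp_id _) (fun s => ?_) fun s m h _ => (Category.comp_id m).symm.trans h⟩⟩
    rw [← cancel_mono k, Category.assoc, hfac]
    exact s.condition
  obtain ⟨eP⟩ := SuppPull.nonempty_secSupp_pull j k j' (𝟙 U) sq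
  let Φ₁ := EtDual.secSupp j ⋙ (EtDual.secSupp k ⋙ Γs X)
  let Φ₂ := EtDual.secSupp j ⋙ Γs X
  let Φ₃ := EtDual.secSupp j ⋙ (restrAlong k ⋙ Γs X')
  let a : EtDual.secSupp k ⋙ Γs X ⟶ Γs X :=
    { app := fun G => (Γs X).map (kernel.ι (EtDual.unitApp k G))
      naturality := fun G H f => ((Γs X).map_comp _ _).symm.trans
        ((congrArg (Γs X).map (kernel.lift_ι _ _ _)).trans ((Γs X).map_comp _ _)) }
  let A : Φ₁ ⟶ Φ₂ := Functor.whiskerLeft (EtDual.secSupp j) a
  let B : Φ₂ ⟶ Φ₃ := Functor.whiskerLeft (EtDual.secSupp j) (ρ k)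
  let c := ComplexShape.up ℕ
  let S : ShortComplex (CochainComplex AddCommGrpCat.{u + 1} ℕ) :=
    ShortComplex.mk ((NatTrans.mapHomologicalComplex A c).app R.cocomplex)
      ((NatTrans.mapHomologicalComplex B c).app R.cocomplex) (by
        ext i : 1
        exact ι_ρ k ((EtDual.secSupp j).obj (R.cocomplex.X i)))
  have hS : S.ShortExact := HomologicalComplex.shortExact_of_degreewise_shortExact S fun i => by
    have : Injective ((EtDual.secSupp j).obj (R.cocomplex.X i)) :=
      (EtDual.secSupp j).injective_obj_of_injective (R.injective i)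
    exact triple_shortExact k ((EtDual.secSupp j).obj (R.cocomplex.X i))
  let H := HomologicalComplex.homologyFunctor AddCommGrpCat.{u + 1} c
  have hA : ∀ r, IsZero (((EtDual.gammaSupp k).rightDerived r).obj F) → IsZero (S.X₁.homology r) :=
    fun r h => (h.of_iso (R.isoRightDerivedObj (EtDual.gammaSupp k) r).symm).of_iso
      ((H r).mapIso ((NatIso.mapHomologicalComplex
        ((Functor.associator _ _ _).symm ≪≫ Functor.isoWhiskerRight eS (Γs X)) c).app R.cocomplex))
  have : Mono (HomologicalComplex.homologyMap S.g q) :=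
    (hS.homology_exact₂ q).mono_g ((hA q h0).eq_of_src _ _)
  have : Epi (HomologicalComplex.homologyMap S.g q) :=
    (hS.homology_exact₃ q (q + 1) rfl).epi_f ((hA (q + 1) h1).eq_of_tgt _ _)
  have hiso : IsIso (HomologicalComplex.homologyMap S.g q) := isIso_of_mono_of_epi _
  let e₃ : Φ₃ ≅ restrAlong k ⋙ EtDual.secSupp j' ⋙ Γs X' :=
    Functor.isoWhiskerRight (Functor.isoWhiskerLeft (EtDual.secSupp j) σ.symm ≪≫ eP ≪≫
      Functor.isoWhiskerRight σ (EtDual.secSupp j')) (Γs X')
  let e₃' := (NatIso.mapHomologicalComplex e₃ c).app R.cocomplex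
  exact ⟨R.isoRightDerivedObj (EtDual.gammaSupp j) q ≪≫ (@asIso _ _ _ _ _ hiso) ≪≫
    (H q).mapIso e₃' ≪≫
    ((SuppPull.mapResolution (restrAlong k) R).isoRightDerivedObj (EtDual.gammaSupp j') q).symm⟩

end Groth.Agent.EtSite.SuppTriple
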