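import Groth.Agent.EtSite.TateLocal
import Groth.Agent.EtSite.SuppPull
import Groth.Agent.EtSite.ConstSheafIso
import Groth.Agent.EtMV.EtaleRestr

/-!
# Depth of Tate twists
-/

set_option autoImplicit false
universe u

open CategoryTheory CategoryTheory.Limits AlgebraicGeometry Opposite

namespace Groth.Agent.EtSite.TateDepth

open LocConst

variable {X U : Scheme.{u}} {n : ℕ}

theorem pos_of_point (hu : IsUnit (n : Γ(X, ⊤))) {Ω : Type u} [Field Ω]
    (ξ : Spec (CommRingCat.of Ω) ⟶ X) : 0 < n := by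
  rcases Nat.eq_zero_or_pos n with rfl | h
  · let φ := (ξ.appTop ≫ (Scheme.ΓSpecIso (CommRingCat.of Ω)).hom).hom
    have := hu.map φ
    rw [Nat.cast_zero, map_zero] at this
    exact absurd this not_isUnit_zero
  · exact h

/-- A sheaf locally isomorphic to `ℤ/n` has vanishing local cohomology where `ℤ/n` does. -/
theorem isZero_locCoh_tate (j : U ⟶ X) (hu : IsUnit (n : Γ(X, ⊤))) (d p : ℕ)
    (h : IsZero ((EtDual.locCoh j p).obj (EtCoh.const X (ZMod n)))) :
    IsZero ((EtDual.locCoh j p).obj (EtDual.tate X n d)) := by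
  refine isZero_of_stalks _ fun Ω _ _ ξ => ?_
  obtain ⟨U₀, t, z, hz, hφ⟩ := TateLocal.gen_tate (pos_of_point hu ξ) hu d Ω ξ
  let g := U₀.hom
  have : Etale g := U₀.prop
  have hinj := Groth.Agent.EtMV.pull_preservesInjectiveObjects g
  let j' := pullback.snd j g
  have sq := IsPullback.of_hasPullback j g
  have hV : IsZero ((EtDual.locCoh j' p).obj (EtCoh.const U₀.left (ZMod n))) := IsZero.of_iso
    (SuppPull.isZero_locCoh_pull j g j' (pullback.fst j g) sq _ p h hinj)
    ((EtDual.locCoh j' p).mapIso (EtCore.pullConst g (ZMod n)).symm)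
  let dg : EtCoh.top U₀.left ⟶ (EtCoh.bc g).obj U₀ :=
    MorphismProperty.Over.homMk (pullback.lift (𝟙 _) (𝟙 _) rfl) (pullback.lift_snd _ _ _) trivial
  obtain ⟨e⟩ := ConstSheafIso.nonempty_iso ((FLCBasic.germBij_pull g hφ).map dg)
  have hz' : IsZero ((EtDual.locCoh j' p).obj ((EtCoh.pull g).obj (EtDual.tate X n d))) :=
    hV.of_iso ((EtDual.locCoh j' p).mapIso e)
  have h2 := SuppPull.isZero_pull_locCoh j g j' (pullback.fst j g) sq _ p hz' hinj
  have ht : t.left ≫ g = ξ := Over.w t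
  rw [← ht]
  exact IsZero.of_iso ((EtCoh.stalk t.left).map_isZero h2) ((stalkPullIso g t.left).app _)

end Groth.Agent.EtSite.TateDepth
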