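import Groth.Agent.EtSite.MuLocal
import Groth.Prelude.Def_EtDual

/-!
# Tate twists of `ℤ/n` are locally generated by one section
-/

set_option autoImplicit false
universe u

open CategoryTheory CategoryTheory.Limits AlgebraicGeometry Opposite
open scoped TensorProduct

namespace Groth.Agent.EtSite.TateLocal

open FLCOps LocConst MuLocal

variable {X : Scheme.{u}} {n : ℕ}

/-- `G` is generated near `ξ` by one section of order `n`. -/
def Gen (n : ℕ) (G : EtCoh.Ab X) : Prop :=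
  ∀ (Ω : Type u) [Field Ω] [IsSepClosed Ω] (ξ : Spec (CommRingCat.of Ω) ⟶ X),
    ∃ (U : X.Etale) (_ : (Scheme.pointSmallEtale ξ).fiber.obj U) (z : EtCoh.sect G U) (hz : n • z = 0),
      GermBij G U (mulHom n z hz)

theorem mulHom_map {M N : Type (u + 1)} [AddCommGroup M] [AddCommGroup N] (hn : 0 < n) (f : M →+ N)
    (z : M) (hz : n • z = 0) (hz' : n • f z = 0) (m : ULift.{u + 1} (ZMod n)) :
    f (mulHom n z hz m) = mulHom n (f z) hz' m := by
  obtain ⟨i, rfl⟩ := exists_nat hn m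
  rw [mulHom_natCast, mulHom_natCast, map_nsmul]

theorem nsmul_tmul {A B : Type (u + 1)} [AddCommGroup A] [AddCommGroup B] (a : A) (b : B) (i j : ℕ) :
    (i * j) • (a ⊗ₜ[ℤ] b) = (i • a) ⊗ₜ[ℤ] (j • b) := by
  rw [TensorProduct.tmul_smul, ← TensorProduct.smul_tmul', smul_smul, mul_comm]

theorem gen_tensor (hn : 0 < n) {T M : EtCoh.Ab X} {U : X.Etale} (z : EtCoh.sect T U) (hz : n • z = 0)
    (hT : GermBij T U (mulHom n z hz)) (w : EtCoh.sect M U) (hw : n • w = 0)
    (hM : GermBij M U (mulHom n w hw)) :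
    ∃ (v : EtCoh.sect (EtDual.tensorAb T M) U) (hv : n • v = 0),
      GermBij (EtDual.tensorAb T M) U (mulHom n v hv) := by
  let P := EtDual.tensorPre T M
  let η := toSheafify X.smallEtaleTopology P
  let p : (P.obj (op U) : AddCommGrpCat.{u + 1}) := z ⊗ₜ[ℤ] w
  have hp : n • p = 0 := by
    change n • (z ⊗ₜ[ℤ] w) = 0
    rw [TensorProduct.smul_tmul', hz, TensorProduct.zero_tmul]
  let v : EtCoh.sect (EtDual.tensorAb T M) U := η.app (op U) p
  have hv : n • v = 0 := (map_nsmul (η.app (op U)).hom n p).symm.trans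
    ((congrArg _ hp).trans (map_zero (η.app (op U)).hom))
  refine ⟨v, hv, fun Ω _ _ ξ t => ?_⟩
  let Φ := Scheme.pointSmallEtale ξ
  have hb := Φ.toPresheafFiber_map_bijective η
  suffices h : Function.Bijective
      (fun m : ULift.{u + 1} (ZMod n) => Φ.toPresheafFiber U t P (mulHom n p hp m)) by
    refine Eq.subst (motive := Function.Bijective) (funext fun m => ?_) (hb.comp h)
    refine (Φ.toPresheafFiber_naturality_apply η U t _).trans ?_
    exact congrArg (Φ.toPresheafFiber U t (EtDual.tensorAb T M).obj)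
      (mulHom_map hn (η.app (op U)).hom p hp hv m)
  refine ⟨(injective_iff_map_eq_zero ((Φ.toPresheafFiber U t P).hom.comp (mulHom n p hp))).2
    fun m hm => ?_, fun x => ?_⟩
  · obtain ⟨i, rfl⟩ := exists_nat hn m
    obtain ⟨V, g, τ, -, hg⟩ := (Φ.toPresheafFiber_eq_iff' U t
      (mulHom n p hp ⟨(i : ZMod n)⟩) 0).1 (hm.trans (map_zero (Φ.toPresheafFiber U t P).hom).symm)
    rw [map_zero, mulHom_natCast] at hg
    let eT := Equiv.ofBijective _ (hT.map g Ω ξ τ)
    let eM := Equiv.ofBijective _ (hM.map g Ω ξ τ)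
    let φT : ULift.{u + 1} (ZMod n) ≃+ _ := { eT with
      map_add' := fun a b => map_add ((gm ξ T V τ).comp ((T.obj.map g.op).hom.comp (mulHom n z hz))) a b }
    let φM : ULift.{u + 1} (ZMod n) ≃+ _ := { eM with
      map_add' := fun a b => map_add ((gm ξ M V τ).comp ((M.obj.map g.op).hom.comp (mulHom n w hw))) a b }
    let θT : EtCoh.sect T V →+ ZMod n :=
      AddEquiv.ulift.toAddMonoidHom.comp (φT.symm.toAddMonoidHom.comp (gm ξ T V τ))
    let θM : EtCoh.sect M V →+ ZMod n :=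
      AddEquiv.ulift.toAddMonoidHom.comp (φM.symm.toAddMonoidHom.comp (gm ξ M V τ))
    have h1 : θT (T.obj.map g.op z) = 1 := by
      have e : φT ⟨((1 : ℕ) : ZMod n)⟩ = gm ξ T V τ (T.obj.map g.op z) := by
        change gm ξ T V τ (T.obj.map g.op (mulHom n z hz ⟨((1 : ℕ) : ZMod n)⟩)) = _
        rw [mulHom_natCast, one_nsmul]
      change AddEquiv.ulift (φT.symm (gm ξ T V τ (T.obj.map g.op z))) = 1
      rw [← e, AddEquiv.symm_apply_apply]
      exact Nat.cast_one
    have h2 : θM (M.obj.map g.op w) = 1 := by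
      have e : φM ⟨((1 : ℕ) : ZMod n)⟩ = gm ξ M V τ (M.obj.map g.op w) := by
        change gm ξ M V τ (M.obj.map g.op (mulHom n w hw ⟨((1 : ℕ) : ZMod n)⟩)) = _
        rw [mulHom_natCast, one_nsmul]
      change AddEquiv.ulift (φM.symm (gm ξ M V τ (M.obj.map g.op w))) = 1
      rw [← e, AddEquiv.symm_apply_apply]
      exact Nat.cast_one
    let B : EtCoh.sect T V ⊗[ℤ] EtCoh.sect M V →ₗ[ℤ] ZMod n :=
      TensorProduct.lift (((LinearMap.mul ℤ (ZMod n)).compl₂ θM.toIntLinearMap).comp θT.toIntLinearMap)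
    have e2 : P.map g.op p = (T.obj.map g.op z) ⊗ₜ[ℤ] (M.obj.map g.op w) := rfl
    have hg' : i • ((T.obj.map g.op z) ⊗ₜ[ℤ] (M.obj.map g.op w) :
        EtCoh.sect T V ⊗[ℤ] EtCoh.sect M V) = 0 :=
      ((congrArg (fun q => i • q) e2).symm.trans (map_nsmul (P.map g.op).hom i p).symm).trans hg
    have h3 : i • B ((T.obj.map g.op z) ⊗ₜ[ℤ] (M.obj.map g.op w)) = 0 := by
      rw [← map_nsmul, hg', map_zero]
    have h4 : B ((T.obj.map g.op z) ⊗ₜ[ℤ] (M.obj.map g.op w)) = 1 := by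
      change θT (T.obj.map g.op z) * θM (M.obj.map g.op w) = 1
      rw [h1, h2, one_mul]
    rw [h4, nsmul_one] at h3
    exact ULift.ext _ _ h3
  · obtain ⟨A, a, x, rfl⟩ := Φ.toPresheafFiber_jointly_surjective x
    have : ∀ y : EtCoh.sect T A ⊗[ℤ] EtCoh.sect M A,
        ∃ m, Φ.toPresheafFiber U t P (mulHom n p hp m) = Φ.toPresheafFiber A a P y := by
      intro y
      induction y using TensorProduct.induction_on with
      | zero =>
        exact ⟨0, (congrArg (Φ.toPresheafFiber U t P) (map_zero (mulHom n p hp))).trans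
          ((map_zero (Φ.toPresheafFiber U t P).hom).trans (map_zero (Φ.toPresheafFiber A a P).hom).symm)⟩
      | add y₁ y₂ h₁ h₂ =>
        obtain ⟨m₁, h₁⟩ := h₁
        obtain ⟨m₂, h₂⟩ := h₂
        exact ⟨m₁ + m₂, (congrArg (Φ.toPresheafFiber U t P) (map_add (mulHom n p hp) m₁ m₂)).trans
          ((map_add (Φ.toPresheafFiber U t P).hom _ _).trans ((congrArg₂ (· + ·) h₁ h₂).trans
            (map_add (Φ.toPresheafFiber A a P).hom y₁ y₂).symm))⟩
      | tmul s r =>
        obtain ⟨ms, hs⟩ := (hT Ω ξ t).2 (Φ.toPresheafFiber A a T.obj s)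
        obtain ⟨mr, hr⟩ := (hM Ω ξ t).2 (Φ.toPresheafFiber A a M.obj r)
        obtain ⟨i, rfl⟩ := exists_nat hn ms
        obtain ⟨j, rfl⟩ := exists_nat hn mr
        simp only [mulHom_natCast] at hs hr
        obtain ⟨⟨W, ω⟩, cA, cU, -⟩ := IsCofilteredOrEmpty.cone_objs (C := Φ.fiber.Elements) ⟨A, a⟩ ⟨U, t⟩
        have hA : Φ.fiber.map cA.1 ω = a := cA.2
        have hU : Φ.fiber.map cU.1 ω = t := cU.2
        have kA : ∀ (G : X.Etaleᵒᵖ ⥤ AddCommGrpCat.{u + 1}) (q : G.obj (op A)),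
            Φ.toPresheafFiber W ω G (G.map cA.1.op q) = Φ.toPresheafFiber A a G q := fun G q =>
          (Φ.toPresheafFiber_w_apply _ _ G q).trans (congrArg (fun y => Φ.toPresheafFiber A y G q) hA)
        have kU : ∀ (G : X.Etaleᵒᵖ ⥤ AddCommGrpCat.{u + 1}) (q : G.obj (op U)),
            Φ.toPresheafFiber W ω G (G.map cU.1.op q) = Φ.toPresheafFiber U t G q := fun G q =>
          (Φ.toPresheafFiber_w_apply _ _ G q).trans (congrArg (fun y => Φ.toPresheafFiber U y G q) hU)
        obtain ⟨W₁, c₁, ω₁, hω₁, hs'⟩ := (Φ.toPresheafFiber_eq_iff' _ _ _ _).1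
          ((kU _ _).trans (hs.trans (kA _ _).symm))
        have k1 : ∀ (G : X.Etaleᵒᵖ ⥤ AddCommGrpCat.{u + 1}) (q : G.obj (op W)),
            Φ.toPresheafFiber W₁ ω₁ G (G.map c₁.op q) = Φ.toPresheafFiber W ω G q := fun G q =>
          (Φ.toPresheafFiber_w_apply _ _ G q).trans (congrArg (fun y => Φ.toPresheafFiber W y G q) hω₁)
        obtain ⟨W₂, c₂, ω₂, hω₂, hr'⟩ := (Φ.toPresheafFiber_eq_iff' _ _ _ _).1
          ((k1 _ _).trans ((kU _ _).trans (hr.trans ((kA _ _).symm.trans (k1 _ _).symm))))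
        have k2 : ∀ (G : X.Etaleᵒᵖ ⥤ AddCommGrpCat.{u + 1}) (q : G.obj (op W₁)),
            Φ.toPresheafFiber W₂ ω₂ G (G.map c₂.op q) = Φ.toPresheafFiber W₁ ω₁ G q := fun G q =>
          (Φ.toPresheafFiber_w_apply _ _ G q).trans (congrArg (fun y => Φ.toPresheafFiber W₁ y G q) hω₂)
        refine ⟨⟨((i * j : ℕ) : ZMod n)⟩, ?_⟩
        rw [mulHom_natCast]
        refine ((kU P _).symm.trans ((k1 P _).symm.trans (k2 P _).symm)).trans
          (Eq.trans ?_ ((k2 P _).trans ((k1 P _).trans (kA P _))))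
        congr 1
        have e1 : T.obj.map c₂.op (T.obj.map c₁.op (T.obj.map cA.1.op s)) =
            i • T.obj.map c₂.op (T.obj.map c₁.op (T.obj.map cU.1.op z)) := by
          rw [← hs', map_nsmul, map_nsmul, map_nsmul]
        have e2 : M.obj.map c₂.op (M.obj.map c₁.op (M.obj.map cA.1.op r)) =
            j • M.obj.map c₂.op (M.obj.map c₁.op (M.obj.map cU.1.op w)) := by
          rw [← hr', map_nsmul, map_nsmul, map_nsmul]
        rw [map_nsmul, map_nsmul, map_nsmul]
        change (i * j) • (T.obj.map c₂.op (T.obj.map c₁.op (T.obj.map cU.1.op z)) ⊗ₜ[ℤ]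
          M.obj.map c₂.op (M.obj.map c₁.op (M.obj.map cU.1.op w))) =
          T.obj.map c₂.op (T.obj.map c₁.op (T.obj.map cA.1.op s)) ⊗ₜ[ℤ]
            M.obj.map c₂.op (M.obj.map c₁.op (M.obj.map cA.1.op r))
        rw [e1, e2]
        exact nsmul_tmul _ _ i j
    exact this x

theorem gen_tate (hn : 0 < n) (hu : IsUnit (n : Γ(X, ⊤))) : ∀ d : ℕ, Gen n (EtDual.tate X n d) := by
  intro d
  induction d with
  | zero =>
    intro Ω _ _ ξ
    let A : AddCommGrpCat.{u + 1} := AddCommGrpCat.of (ULift.{u + 1} (ZMod n))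
    let f : A →+ EtCoh.sect (EtDual.tate X n 0) (EtCoh.top X) :=
      ((ConstFLC.unitMap X A).app (op (EtCoh.top X))).hom
    let one : A := ⟨((1 : ℕ) : ZMod n)⟩
    have hz : n • f one = 0 := by
      rw [← map_nsmul, show n • one = 0 from ULift.ext _ _ (by simp [one]), map_zero]
    refine ⟨EtCoh.top X, Over.homMk ξ (Category.comp_id _), f one, hz, ?_⟩
    have hf : mulHom n (f one) hz = f := by
      ext m
      obtain ⟨i, rfl⟩ := exists_nat hn m
      rw [mulHom_natCast, ← map_nsmul]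
      exact congrArg f (ULift.ext _ _ (by simp [one]; rfl))
    rw [hf]
    exact ConstFLC.germBij_const X A
  | succ d ih =>
    intro Ω _ _ ξ
    let Φ := Scheme.pointSmallEtale ξ
    obtain ⟨U₁, t₁, z, hz, hT⟩ := ih Ω ξ
    obtain ⟨U₂, t₂, w, hw, hM⟩ := MuLocal.exists_gen (X := X) hn hu ξ
    obtain ⟨⟨U, t⟩, a, b, -⟩ := IsCofilteredOrEmpty.cone_objs (C := Φ.fiber.Elements) ⟨U₁, t₁⟩ ⟨U₂, t₂⟩
    have hza : n • (EtDual.tate X n d).obj.map a.1.op z = 0 := by
      rw [← map_nsmul, hz, map_zero]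
    have hwb : n • (EtCoh.mu X n).obj.map b.1.op w = 0 := by
      rw [← map_nsmul, hw, map_zero]
    have hT' : GermBij (EtDual.tate X n d) U (mulHom n _ hza) := by
      have e : mulHom n _ hza = ((EtDual.tate X n d).obj.map a.1.op).hom.comp (mulHom n z hz) :=
        AddMonoidHom.ext fun m => (mulHom_map hn ((EtDual.tate X n d).obj.map a.1.op).hom z hz hza m).symm
      exact e ▸ hT.map a.1
    have hM' : GermBij (EtCoh.mu X n) U (mulHom n _ hwb) := by
      have e : mulHom n _ hwb = ((EtCoh.mu X n).obj.map b.1.op).hom.comp (mulHom n w hw) :=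
        AddMonoidHom.ext fun m => (mulHom_map hn ((EtCoh.mu X n).obj.map b.1.op).hom w hw hwb m).symm
      exact e ▸ hM.map b.1
    obtain ⟨v, hv, hb⟩ := gen_tensor hn _ hza hT' _ hwb hM'
    exact ⟨U, t, v, hv, hb⟩

end Groth.Agent.EtSite.TateLocal
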