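import Groth.Agent.EtMV.EtaleRestr
import Groth.Agent.EtSite.Points
import Groth.Agent.EtSite.PushEpi
import Groth.Prelude.Def_EtDual
import Groth.Prelude.Def_EtGm
import Mathlib.CategoryTheory.Sites.CoverLifting

/-!
# Tate twists commute with étale restriction
-/

set_option autoImplicit false
set_option backward.isDefEq.respectTransparency.types false
universe u

open CategoryTheory CategoryTheory.Limits AlgebraicGeometry Opposite EtShriek
open scoped TensorProduct

namespace Groth.Agent.EtSite.TateRestr

variable {X V : Scheme.{u}}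

/-- Functoriality of the presheaf tensor product. -/
noncomputable def tensorMap {T T' M M' : EtCoh.Ab X} (a : T ⟶ T') (b : M ⟶ M') :
    EtDual.tensorPre T M ⟶ EtDual.tensorPre T' M' where
  app W := AddCommGrpCat.ofHom
    (TensorProduct.map (a.hom.app W).hom.toIntLinearMap (b.hom.app W).hom.toIntLinearMap).toAddMonoidHom
  naturality W W' f := by
    refine AddCommGrpCat.hom_ext (AddMonoidHom.ext fun x => ?_)
    induction x using TensorProduct.induction_on with
    | zero => exact (map_zero _).trans (map_zero _).symm
    | add x y hx hy => exact (map_add _ x y).trans ((congrArg₂ (· + ·) hx hy).trans (map_add _ x y).symm)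
    | tmul s r =>
      change (a.hom.app W') (T.obj.map f s) ⊗ₜ[ℤ] (b.hom.app W') (M.obj.map f r) =
        T'.obj.map f (a.hom.app W s) ⊗ₜ[ℤ] M'.obj.map f (b.hom.app W r)
      rw [NatTrans.naturality_apply a.hom, NatTrans.naturality_apply b.hom]

theorem tensorMap_comp {T T' T'' M M' M'' : EtCoh.Ab X} (a : T ⟶ T') (a' : T' ⟶ T'') (b : M ⟶ M')
    (b' : M' ⟶ M'') : tensorMap (a ≫ a') (b ≫ b') = tensorMap a b ≫ tensorMap a' b' := by
  refine NatTrans.ext (funext fun W => AddCommGrpCat.hom_ext (AddMonoidHom.ext fun x => ?_))
  induction x using TensorProduct.induction_on with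
  | zero => exact (map_zero _).trans (map_zero _).symm
  | add x y hx hy => exact (map_add _ x y).trans ((congrArg₂ (· + ·) hx hy).trans (map_add _ x y).symm)
  | tmul s r => rfl

theorem tensorMap_id (T M : EtCoh.Ab X) : tensorMap (𝟙 T) (𝟙 M) = 𝟙 _ := by
  refine NatTrans.ext (funext fun W => AddCommGrpCat.hom_ext (AddMonoidHom.ext fun x => ?_))
  induction x using TensorProduct.induction_on with
  | zero => exact (map_zero _).trans (map_zero _).symm
  | add x y hx hy => exact (map_add _ x y).trans ((congrArg₂ (· + ·) hx hy).trans (map_add _ x y).symm)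
  | tmul s r => rfl

/-- Isomorphic factors give isomorphic tensor products. -/
noncomputable def tensorIso {T T' M M' : EtCoh.Ab X} (a : T ≅ T') (b : M ≅ M') :
    EtDual.tensorPre T M ≅ EtDual.tensorPre T' M' where
  hom := tensorMap a.hom b.hom
  inv := tensorMap a.inv b.inv
  hom_inv_id := by rw [← tensorMap_comp, a.hom_inv_id, b.hom_inv_id, tensorMap_id]
  inv_hom_id := by rw [← tensorMap_comp, a.inv_hom_id, b.inv_hom_id, tensorMap_id]

variable (g : V ⟶ X) [Etale g]

/-- Covers of an étale `X`-scheme over `V` come from covers over `V`. -/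
theorem cocontinuous : (compEtale g).IsCocontinuous V.smallEtaleTopology X.smallEtaleTopology where
  cover_lift {W R} hR := by
    refine mem_smallEtaleTopology_of_points W _ fun x => ?_
    obtain ⟨T, f, t, hf, -, ht⟩ := exists_mem_of_mem_smallEtaleTopology hR x
    let h : T.left ⟶ V := f.left ≫ W.hom
    have hw : h ≫ g = T.hom := (Category.assoc _ _ _).trans (MorphismProperty.Over.w f)
    have he : EtCoh.etaleMP h := EtCoh.etaleMP.of_postcomp (W' := EtCoh.etaleMP) h g ‹Etale g› (by
      rw [hw]; exact T.prop)
    let W' : V.Etale := MorphismProperty.Over.mk ⊤ h he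
    let f' : W' ⟶ W := MorphismProperty.Over.homMk f.left rfl trivial
    let e : (compEtale g).obj W' ⟶ T := MorphismProperty.Over.homMk (𝟙 T.left)
      ((Category.id_comp _).trans hw.symm) trivial
    refine ⟨W', f', t, ?_, ht⟩
    change R ((compEtale g).map f')
    have : (compEtale g).map f' = e ≫ f :=
      MorphismProperty.Over.Hom.ext (Category.id_comp _).symm
    rw [this]
    exact R.downward_closed hf e

variable [JCont g]

/-- `μ_n` commutes with étale restriction. -/
theorem nonempty_mu (n : ℕ) : Nonempty ((restrAlong g).obj (EtCoh.mu X n) ≅ EtCoh.mu V n) := by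
  have : PreservesFiniteLimits (restrAlong g) :=
    preservesFiniteLimits_of_natIso (Groth.Agent.EtMV.σEt g)
  have : (restrAlong g).Additive := Functor.additive_of_iso (Groth.Agent.EtMV.σEt g)
  let e : (restrAlong g).obj (EtCoh.Gm X) ≅ EtCoh.Gm V :=
    ObjectProperty.isoMk _ (NatIso.ofComponents (fun W => Iso.refl _) fun {W W'} f => by ext x; rfl)
  refine ⟨PreservesKernel.iso (restrAlong g) (EtCoh.powMap X n) ≪≫ kernel.mapIso _ _ e e ?_⟩
  rw [EtCoh.powMap, EtCoh.powMap, Functor.map_nsmul, CategoryTheory.Functor.map_id,
    Preadditive.nsmul_comp, Preadditive.comp_nsmul, Category.id_comp, Category.comp_id]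

/-- Tate twists commute with étale restriction. -/
theorem nonempty_tate (n : ℕ) : ∀ d : ℕ,
    Nonempty ((restrAlong g).obj (EtDual.tate X n d) ≅ EtDual.tate V n d) := by
  intro d
  induction d with
  | zero => exact ⟨(Groth.Agent.EtMV.σEt g).symm.app _ ≪≫ EtCore.pullConst g (ZMod n)⟩
  | succ d ih =>
    obtain ⟨eT⟩ := ih
    obtain ⟨eM⟩ := nonempty_mu g n
    have := cocontinuous g
    let c := (compEtale g).pushforwardContinuousSheafificationCompatibility AddCommGrpCat.{u + 1}
      V.smallEtaleTopology X.smallEtaleTopology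
    let e₀ : (compEtale g).op ⋙ EtDual.tensorPre (EtDual.tate X n d) (EtCoh.mu X n) ≅
        EtDual.tensorPre ((restrAlong g).obj (EtDual.tate X n d)) ((restrAlong g).obj (EtCoh.mu X n)) :=
      NatIso.ofComponents (fun W => Iso.refl _) fun {W W'} f => by
        refine AddCommGrpCat.hom_ext (AddMonoidHom.ext fun x => ?_)
        induction x using TensorProduct.induction_on with
        | zero => exact (map_zero _).trans (map_zero _).symm
        | add x y hx hy => exact (map_add _ x y).trans ((congrArg₂ (· + ·) hx hy).trans (map_add _ x y).symm)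
        | tmul s r => rfl
    exact ⟨(c.app (EtDual.tensorPre (EtDual.tate X n d) (EtCoh.mu X n))).symm ≪≫
      (presheafToSheaf V.smallEtaleTopology AddCommGrpCat.{u + 1}).mapIso (e₀ ≪≫ tensorIso eT eM)⟩

end Groth.Agent.EtSite.TateRestr
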