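import Groth.Agent.EtSite.RepGlobal
import Groth.Agent.EtSite.LocSetOf
import Groth.Agent.EtMV.EtaleRestr

/-!
# A finite locally constant sheaf on a connected scheme becomes constant on a finite étale covering
-/

set_option autoImplicit false
universe u

open CategoryTheory CategoryTheory.Limits AlgebraicGeometry Opposite EtShriek

namespace Groth.Agent.EtSite.Trivialize

open LocConst RepFinite

variable {X : Scheme.{u}} (F : EtCoh.Ab X) (A : Type (u + 1)) [AddCommGroup A]

theorem germBij_local {Z : X.Etale} {R : Sieve Z} (hR : R ∈ X.smallEtaleTopology Z)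
    (φ : A →+ EtCoh.sect F Z)
    (h : ∀ ⦃W : X.Etale⦄ (g : W ⟶ Z), R g → GermBij F W ((F.obj.map g.op).hom.comp φ)) :
    GermBij F Z φ := fun Ω _ _ ξ t => by
  let Φ := Scheme.pointSmallEtale ξ
  obtain ⟨W, g, hg, w, hw⟩ := Φ.jointly_surjective R hR t
  subst hw
  convert h g hg Ω ξ w using 2 with m
  exact (Φ.toPresheafFiber_w_apply g w F.obj (φ m)).symm

/-- Trivializations. -/
noncomputable def isomPresheaf : X.Etaleᵒᵖ ⥤ Type (u + 1) where
  obj W := {φ : A →+ EtCoh.sect F W.unop // GermBij F W.unop φ}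
  map {W W'} g := TypeCat.ofHom fun φ => ⟨(F.obj.map g).hom.comp φ.1, φ.2.map g.unop⟩
  map_id W := by
    ext φ m
    change F.obj.map (𝟙 W) (φ.1 m) = φ.1 m
    simp
  map_comp {W W' W''} g h := by
    ext φ m
    change F.obj.map (g ≫ h) (φ.1 m) = F.obj.map h (F.obj.map g (φ.1 m))
    exact Functor.map_comp_apply F.obj g h (φ.1 m)

theorem isSheaf_isomPresheaf : Presieve.IsSheaf X.smallEtaleTopology (isomPresheaf F A) := by
  intro Z R hR x hx
  have hF := ((isSheaf_iff_isSheaf_of_type _ _).1 (LocSetOf.underlying F).property) R hR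
  let y : A → Presieve.FamilyOfElements (LocSetOf.underlying F).obj R.arrows := fun m W g hg => (x g hg).1 m
  have hy : ∀ m, (y m).Compatible := fun m W W' U g g' f f' hf hf' e =>
    congrArg (fun φ => φ.1 m) (hx g g' hf hf' e)
  choose w₀ hw huniq using fun m => hF (y m) (hy m)
  let w : A → EtCoh.sect F Z := w₀
  have hw' : ∀ m ⦃W : X.Etale⦄ (g : W ⟶ Z) (hg : R g), F.obj.map g.op (w m) = (x g hg).1 m :=
    fun m W g hg => hw m g hg
  let φ : A →+ EtCoh.sect F Z := AddMonoidHom.mk' w fun m n => hF.isSeparatedFor.ext fun W g hg => by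
    change F.obj.map g.op (w (m + n)) = F.obj.map g.op (w m + w n)
    rw [map_add, hw' _ g hg, hw' _ g hg, hw' _ g hg, map_add]
  have hφ : GermBij F Z φ := germBij_local F A hR φ fun W g hg => by
    have e : (F.obj.map g.op).hom.comp φ = (x g hg).1 := AddMonoidHom.ext fun m => hw' m g hg
    rw [e]
    exact (x g hg).2
  exact ⟨⟨φ, hφ⟩, fun W g hg => Subtype.ext (AddMonoidHom.ext fun m => hw' m g hg),
    fun v hv => Subtype.ext (AddMonoidHom.ext fun m => huniq m (v.1 m) fun W g hg =>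
      congrArg (fun φ => φ.1 m) (hv g hg))⟩

/-- Trivializations, as a sheaf. -/
noncomputable def isomSheaf : EtDesc.Sh X :=
  ⟨isomPresheaf F A, (isSheaf_iff_isSheaf_of_type _ _).2 (isSheaf_isomPresheaf F A)⟩

theorem setBij_isom [Finite A] {U : X.Etale} {φ : A →+ EtCoh.sect F U} (hφ : GermBij F U φ) :
    SetBij (isomSheaf F A) U fun σ : A ≃+ A => ⟨φ.comp σ.toAddMonoidHom, fun Ω _ _ ξ t =>
      (hφ Ω ξ t).comp σ.bijective⟩ := fun Ω _ _ ξ t => by
  let Φ := Scheme.pointSmallEtale ξ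
  constructor
  · intro σ σ' e
    obtain ⟨T, k, r, hk, hs⟩ := (Φ.toPresheafFiber_eq_iff' (P := (isomSheaf F A).obj) U t _ _).1 e
    refine AddEquiv.ext fun m => (hφ.map k Ω ξ r).1 ?_
    exact congrArg _ (congrArg (fun ψ => ψ.1 m) hs)
  · intro p
    obtain ⟨V, v, a, rfl⟩ := Φ.toPresheafFiber_jointly_surjective (P := (isomSheaf F A).obj) p
    obtain ⟨⟨W, w⟩, ⟨f₁, hf₁⟩, ⟨f₂, hf₂⟩, -⟩ := IsCofilteredOrEmpty.cone_objs
      (C := Φ.fiber.Elements) ⟨V, v⟩ ⟨U, t⟩
    dsimp only at f₁ f₂ hf₁ hf₂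
    let ψ : A →+ EtCoh.sect F W := (F.obj.map f₁.op).hom.comp a.1
    let φ' : A →+ EtCoh.sect F W := (F.obj.map f₂.op).hom.comp φ
    have hψ : GermBij F W ψ := a.2.map f₁
    have hφ' : GermBij F W φ' := hφ.map f₂
    let eψ := AddEquiv.ofBijective ((Φ.toPresheafFiber W w F.obj).hom.comp ψ) (hψ Ω ξ w)
    let eφ := AddEquiv.ofBijective ((Φ.toPresheafFiber W w F.obj).hom.comp φ') (hφ' Ω ξ w)
    let σ : A ≃+ A := eψ.trans eφ.symm
    have hσ : ∀ m, Φ.toPresheafFiber W w F.obj (φ' (σ m)) = Φ.toPresheafFiber W w F.obj (ψ m) := fun m =>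
      eφ.apply_symm_apply (eψ m)
    obtain ⟨T, r, k, hk, hs⟩ := FLCBasic.exists_equalize F W w (fun m => φ' (σ m)) ψ hσ
    refine ⟨σ, ?_⟩
    rw [← hf₁, ← hf₂]
    refine (Φ.toPresheafFiber_w_apply f₂ w (isomSheaf F A).obj _).symm.trans
      (Eq.trans ?_ (Φ.toPresheafFiber_w_apply f₁ w (isomSheaf F A).obj a))
    exact (Φ.toPresheafFiber_eq_iff' (P := (isomSheaf F A).obj) W w _ _).2
      ⟨T, k, r, hk, Subtype.ext (AddMonoidHom.ext hs)⟩

/-- On a connected scheme the value is constant. -/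
theorem exists_value [ConnectedSpace X] (hF : EtCoh.IsFiniteLocallyConstant F) :
    ∃ (M : Type) (_ : AddCommGroup M) (_ : Finite M), ∀ x : X, ∃ (U : X.Etale) (y : U.left)
      (φ : ULift.{u + 1} M →+ EtCoh.sect F U), U.hom.base y = x ∧ GermBij F U φ := by
  obtain ⟨ι, V, hV, hM⟩ := hF
  have key : ∀ i, ∃ (M : Type) (_ : AddCommGroup M) (_ : Finite M)
      (φ : ULift.{u + 1} M →+ EtCoh.sect F (V i)), GermBij F (V i) φ := fun i => by
    obtain ⟨M, _, _, ⟨e⟩⟩ := hM i
    obtain ⟨φ, hφ⟩ := exists_germBij_of_iso e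
    exact ⟨M, inferInstance, inferInstance, φ, hφ⟩
  choose M hMg hMf φ hφ using key
  obtain ⟨x₀⟩ : Nonempty X := inferInstance
  obtain ⟨i₀, y₀, hy₀⟩ := hV x₀
  refine ⟨M i₀, hMg i₀, hMf i₀, ?_⟩
  let S : Set X := {x | ∃ (U : X.Etale) (y : U.left) (ψ : ULift.{u + 1} (M i₀) →+ EtCoh.sect F U),
    U.hom.base y = x ∧ GermBij F U ψ}
  have hS : IsClopen S := by
    refine ⟨⟨isOpen_iff_forall_mem_open.2 fun x hx => ?_⟩, isOpen_iff_forall_mem_open.2 fun x hx => ?_⟩
    · obtain ⟨i, y, hy⟩ := hV x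
      have : Etale (V i).hom := (V i).prop
      refine ⟨Set.range (V i).hom.base, ?_, (V i).hom.isOpenMap.isOpen_range, y, hy⟩
      rintro _ ⟨z, rfl⟩ ⟨U, z', ψ, hz', hψ⟩
      apply hx
      let Φ := Scheme.pointSmallEtale (gpt ((V i).hom.base z))
      obtain ⟨t⟩ := FLCBasic.nonempty_fiber (ξ := gpt ((V i).hom.base z)) z (gpt_apply _ _).symm
      obtain ⟨t'⟩ := FLCBasic.nonempty_fiber (ξ := gpt ((V i).hom.base z)) z' (hz'.trans (gpt_apply _ _).symm)
      let e := (AddEquiv.ofBijective ((Φ.toPresheafFiber U t' F.obj).hom.comp ψ) (hψ _ _ t')).trans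
        (AddEquiv.ofBijective ((Φ.toPresheafFiber (V i) t F.obj).hom.comp (φ i)) (hφ i _ _ t)).symm
      exact ⟨V i, y, (φ i).comp e.toAddMonoidHom, hy, fun Ω _ _ ξ s => (hφ i Ω ξ s).comp e.bijective⟩
    · obtain ⟨U, y, ψ, hy, hψ⟩ := hx
      have : Etale U.hom := U.prop
      exact ⟨Set.range U.hom.base, fun _ ⟨z, hz⟩ => ⟨U, z, ψ, hz, hψ⟩, U.hom.isOpenMap.isOpen_range, y, hy⟩
  have := hS.eq_univ ⟨x₀, V i₀, y₀, φ i₀, hy₀, hφ i₀⟩
  intro x
  exact (this ▸ Set.mem_univ x : x ∈ S)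

/-- The tautological point of the composite. -/
theorem germBij_restrict {U : X.Etale} [Etale U.hom] {φ : A →+ EtCoh.sect F U} (hφ : GermBij F U φ)
    (V : U.left.Etale) :
    GermBij F ((compEtale U.hom).obj V)
      ((F.obj.map (MorphismProperty.Over.homMk V.hom rfl trivial : (compEtale U.hom).obj V ⟶ U).op).hom.comp φ) :=
  hφ.map _

/-- On a scheme where a trivialization is given, the pullback is constant. -/
theorem nonempty_iso_const {U : X.Etale} {M : Type} [AddCommGroup M]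
    (φ : ULift.{u + 1} M →+ EtCoh.sect F U) (hφ : GermBij F U φ) :
    Nonempty ((EtCoh.pull U.hom).obj F ≅ EtCoh.const U.left M) := by
  have : Etale U.hom := U.prop
  have := EtMV.jCont U.hom
  let G := (restrAlong U.hom).obj F
  let J := U.left.smallEtaleTopology
  let st : ∀ V : U.left.Etale, (compEtale U.hom).obj V ⟶ U := fun V =>
    MorphismProperty.Over.homMk V.hom rfl trivial
  let ν : (Functor.const U.left.Etaleᵒᵖ).obj (AddCommGrpCat.of (ULift.{u + 1} M)) ⟶ G.obj :=
    { app := fun V => AddCommGrpCat.ofHom ((F.obj.map (st V.unop).op).hom.comp φ)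
      naturality := fun V W k => by
        ext m
        change F.obj.map (st W.unop).op (φ m) =
          F.obj.map ((compEtale U.hom).map k.unop).op (F.obj.map (st V.unop).op (φ m))
        rw [← Functor.map_comp_apply]
        exact congrArg (fun h : (compEtale U.hom).obj W.unop ⟶ U => F.obj.map h.op (φ m))
          (MorphismProperty.Over.Hom.ext (MorphismProperty.Over.w k.unop).symm :
            st W.unop = (compEtale U.hom).map k.unop ≫ st V.unop) }
  have hi : Presheaf.IsLocallyInjective J ν := ⟨fun {V} m m' hm =>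
    mem_smallEtaleTopology_of_points _ _ fun x => ⟨V.unop, 𝟙 _, x, by
      change m = m'
      exact (germBij_restrict F _ hφ V.unop _ _ (tautPt ((compEtale U.hom).obj V.unop) x)).1 (congrArg _ hm), rfl⟩⟩
  have hs : Presheaf.IsLocallySurjective J ν := ⟨fun {V} s =>
    mem_smallEtaleTopology_of_points _ _ fun x => by
      let V' := (compEtale U.hom).obj V
      let Φ := Scheme.pointSmallEtale (gpt x ≫ V'.hom)
      obtain ⟨m, hm⟩ := (germBij_restrict F _ hφ V _ _ (tautPt V' x)).2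
        (Φ.toPresheafFiber V' (tautPt V' x) F.obj s)
      obtain ⟨W, g, w, hw, hg⟩ := (Φ.toPresheafFiber_eq_iff' (P := F.obj) _ _ _ _).1 hm
      have hW : EtCoh.etaleMP (g.left ≫ V.hom) :=
        MorphismProperty.comp_mem _ _ _ (inferInstance : EtCoh.etaleMP g.left) V.prop
      let W₀ : U.left.Etale := MorphismProperty.Over.mk ⊤ (g.left ≫ V.hom) hW
      let g₀ : W₀ ⟶ V := MorphismProperty.Over.homMk g.left rfl trivial
      let ε : (compEtale U.hom).obj W₀ ⟶ W := MorphismProperty.Over.homMk (𝟙 _)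
        ((Category.id_comp _).trans ((MorphismProperty.Over.w g).symm.trans (Category.assoc _ _ _).symm)) trivial
      refine ⟨W₀, g₀, w.left (default : Spec (CommRingCat.of (SeparableClosure (V'.left.residueField x)))),
        ⟨m, ?_⟩, ?_⟩
      · change F.obj.map (st W₀).op (φ m) = F.obj.map ((compEtale U.hom).map g₀).op s
        have e1 : st W₀ = ε ≫ g ≫ st V := MorphismProperty.Over.Hom.ext (Category.id_comp _).symm
        have e2 : (compEtale U.hom).map g₀ = ε ≫ g := MorphismProperty.Over.Hom.ext (Category.id_comp _).symm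
        rw [e1, e2]
        simp only [op_comp, Functor.map_comp_apply]
        exact congrArg _ hg
      · have hl : w.left ≫ g.left = gpt x := congrArg CommaMorphism.left hw
        exact (Scheme.Hom.comp_apply _ _ _).symm.trans
          ((congrArg (fun m : _ ⟶ V'.left => m.base _) hl).trans (gpt_apply x _))⟩
  have : IsIso ((presheafToSheaf J AddCommGrpCat.{u + 1}).map ν) := (J.W_iff _).1 (J.W_of_isLocallyBijective _)
  exact ⟨(EtMV.σEt U.hom).app F ≪≫ sheafificationIso G ≪≫
    (asIso ((presheafToSheaf J AddCommGrpCat.{u + 1}).map ν)).symm⟩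

/-- A finite locally constant sheaf on a connected scheme becomes constant on a finite étale covering. -/
theorem exists_trivializing [ConnectedSpace X] (hF : EtCoh.IsFiniteLocallyConstant F) :
    ∃ (U : X.Etale) (_ : IsFinite U.hom) (_ : Surjective U.hom) (M : Type) (_ : AddCommGroup M)
      (_ : Finite M) (φ : ULift.{u + 1} M →+ EtCoh.sect F U), GermBij F U φ ∧
      Nonempty ((EtCoh.pull U.hom).obj F ≅ EtCoh.const U.left M) := by
  obtain ⟨M, hMg, hMf, hM⟩ := exists_value F hF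
  have : Finite (ULift.{u + 1} M ≃+ ULift.{u + 1} M) :=
    Finite.of_injective (fun σ => (σ : ULift.{u + 1} M → ULift.{u + 1} M)) DFunLike.coe_injective
  obtain ⟨U, hU, sU, hbij⟩ := RepGlobal.exists_rep (F := isomSheaf F (ULift.{u + 1} M)) fun x => by
    obtain ⟨V, y, φ, hy, hφ⟩ := hM x
    exact ⟨V, y, _, inferInstance, _, hy, setBij_isom F _ hφ⟩
  have hsurj : Surjective U.hom := ⟨fun x => by
    obtain ⟨V, y, φ, hy, hφ⟩ := hM x
    obtain ⟨a, -⟩ := (hbij V).2 ⟨φ, hφ⟩
    refine ⟨a.left.base y, ?_⟩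
    rw [← Scheme.Hom.comp_apply, MorphismProperty.Over.w a]
    exact hy⟩
  exact ⟨U, hU, hsurj, M, hMg, hMf, sU.1, sU.2, nonempty_iso_const F sU.1 sU.2⟩

end Groth.Agent.EtSite.Trivialize
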