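import Groth.Agent.EtSite.FLCBasic
import Groth.Agent.EtMV.OpenShriek
import Groth.Prelude.Def_EtCore

/-!
# Filtrations with constant successive quotients
-/

set_option autoImplicit false
universe u

open CategoryTheory CategoryTheory.Limits AlgebraicGeometry Opposite

namespace Groth.Agent.EtSite.UnipFilt

variable {𝒜 : Type*} [Category 𝒜] [Abelian 𝒜] (C : 𝒜)

/-- A filtration of length `n` with quotients `C`. -/
def UnipN : ℕ → 𝒜 → Prop
  | 0, G => IsZero G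
  | n + 1, G => ∃ (G' : 𝒜) (a : G' ⟶ G) (_ : Mono a), Nonempty (cokernel a ≅ C) ∧ UnipN n G'

variable {C}

theorem unipN_iso : ∀ {n : ℕ} {G H : 𝒜}, (G ≅ H) → UnipN C n G → UnipN C n H
  | 0, _, _, e, h => h.of_iso e.symm
  | n + 1, G, H, e, ⟨G', a, _, ⟨c⟩, h⟩ =>
    ⟨G', a ≫ e.hom, inferInstance, ⟨cokernelCompIsIso a e.hom ≪≫ c⟩, h⟩

theorem unipN_ext : ∀ {n : ℕ} {K G Q : 𝒜} (f : K ⟶ G) (π : G ⟶ Q) (w : f ≫ π = 0),
    (ShortComplex.mk f π w).ShortExact → Nonempty (K ≅ C) → UnipN C n Q → UnipN C (n + 1) G := by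
  intro n
  induction n with
  | zero =>
    intro K G Q f π w hS ⟨e⟩ hQ
    have : IsIso f := hS.isIso_f_iff.2 hQ
    obtain ⟨Z, hZ⟩ : ∃ Z : 𝒜, IsZero Z := ⟨Q, hQ⟩
    exact ⟨Z, 0, ⟨fun _ _ _ => hZ.eq_of_tgt _ _⟩, ⟨cokernelZeroIsoTarget ≪≫ (asIso f).symm ≪≫ e⟩, hZ⟩
  | succ n ih =>
    intro K G Q f π w hS hK ⟨Q', a, hm, ⟨c⟩, hQ'⟩
    have := hS.mono_f
    have := hS.epi_g
    have : Epi π := hS.epi_g
    have hz : pullback.fst π a ≫ π ≫ cokernel.π a = 0 := by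
      rw [← Category.assoc, pullback.condition, Category.assoc, cokernel.condition, comp_zero]
    have hker : IsLimit (KernelFork.ofι (pullback.fst π a) hz) :=
      KernelFork.IsLimit.ofι' _ hz fun {T} k hk => by
        have hk' : (k ≫ π) ≫ cokernel.π a = 0 := by rwa [Category.assoc]
        exact ⟨pullback.lift k (Abelian.monoLift a (k ≫ π) hk') (Abelian.monoLift_comp a _ hk').symm,
          pullback.lift_fst _ _ _⟩
    have : Epi (π ≫ cokernel.π a) := inferInstance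
    let e₁ : cokernel (pullback.fst π a) ≅ cokernel a :=
      (cokernelIsCokernel (pullback.fst π a)).coconePointUniqueUpToIso
        (Abelian.epiIsCokernelOfKernel _ hker)
    let l : K ⟶ pullback π a := pullback.lift f 0 (by rw [w, zero_comp])
    have hl : l ≫ pullback.snd π a = 0 := pullback.lift_snd _ _ _
    have : Mono l := mono_of_mono_fac (pullback.lift_fst (f := π) (g := a) f 0 (by rw [w, zero_comp]))
    have hlker : IsLimit (KernelFork.ofι l hl) :=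
      KernelFork.IsLimit.ofι' _ hl fun {T} k hk => by
        have hk' : (k ≫ pullback.fst π a) ≫ π = 0 := by
          rw [Category.assoc, pullback.condition, ← Category.assoc, hk, zero_comp]
        obtain ⟨m, hm'⟩ := KernelFork.IsLimit.lift' hS.fIsKernel _ hk'
        refine ⟨m, pullback.hom_ext ?_ ?_⟩
        · rw [Category.assoc, pullback.lift_fst]; exact hm'
        · rw [Category.assoc, hl, comp_zero, hk]
    exact ⟨pullback π a, pullback.fst π a, inferInstance, ⟨e₁ ≪≫ c⟩,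
      ih l (pullback.snd π a) hl
        { exact := ShortComplex.exact_of_f_is_kernel _ hlker
          mono_f := ‹Mono l›
          epi_g := inferInstanceAs (Epi (pullback.snd π a)) } hK hQ'⟩

theorem unipN_map {ℬ : Type*} [Category ℬ] [Abelian ℬ] (P : 𝒜 ⥤ ℬ) [P.Additive] [PreservesFiniteLimits P]
    [PreservesFiniteColimits P] {C' : ℬ} (e : P.obj C ≅ C') :
    ∀ {n : ℕ} {G : 𝒜}, UnipN C n G → UnipN C' n (P.obj G)
  | 0, _, h => P.map_isZero h
  | n + 1, G, ⟨G', a, _, ⟨c⟩, h⟩ =>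
    ⟨P.obj G', P.map a, inferInstance, ⟨(PreservesCokernel.iso P a).symm ≪≫ P.mapIso c ≪≫ e⟩, unipN_map P e h⟩

/-- The filtration as a chain. -/
theorem exists_chain : ∀ {n : ℕ} {G : 𝒜}, UnipN C n G → ∃ (H : ℕ → 𝒜) (φ : ∀ i, H i ⟶ H (i + 1)),
    IsZero (H 0) ∧ Nonempty (H n ≅ G) ∧ ∀ i, i < n → Mono (φ i) ∧ Nonempty (cokernel (φ i) ≅ C)
  | 0, G, h => ⟨fun _ => G, fun _ => 𝟙 G, h, ⟨Iso.refl _⟩, fun _ hi => absurd hi (Nat.not_lt_zero _)⟩
  | n + 1, G, ⟨G', a, _, ⟨c⟩, h⟩ => by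
    obtain ⟨H, φ, h0, ⟨e⟩, hφ⟩ := exists_chain h
    let K : ℕ → 𝒜 := fun i => if i ≤ n then H i else G
    have k₁ : ∀ i, i ≤ n → K i = H i := fun i hi => if_pos hi
    have k₂ : ∀ i, n < i → K i = G := fun i hi => if_neg (Nat.not_le.2 hi)
    let ψ : ∀ i, K i ⟶ K (i + 1) := fun i =>
      if hi : i < n then eqToHom (k₁ i hi.le) ≫ φ i ≫ eqToHom (k₁ (i + 1) hi).symm
      else if hi' : i = n then eqToHom (k₁ i hi'.le) ≫ eqToHom (congrArg H hi') ≫ e.hom ≫ a ≫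
        eqToHom (k₂ (i + 1) (by omega)).symm
      else eqToHom (k₂ i (by omega)) ≫ eqToHom (k₂ (i + 1) (by omega)).symm
    refine ⟨K, ψ, (k₁ 0 (Nat.zero_le _)).symm ▸ h0, ⟨eqToIso (k₂ (n + 1) (Nat.lt_succ_self n))⟩, fun i hi => ?_⟩
    by_cases hin : i < n
    · simp only [ψ, dif_pos hin]
      obtain ⟨hm, ⟨c'⟩⟩ := hφ i hin
      exact ⟨inferInstance, ⟨cokernelEpiComp _ _ ≪≫ cokernelCompIsIso _ _ ≪≫ c'⟩⟩
    · have hin' : i = n := by omega
      simp only [ψ, dif_neg hin, dif_pos hin']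
      exact ⟨inferInstance, ⟨cokernelEpiComp _ _ ≪≫ cokernelEpiComp _ _ ≪≫ cokernelEpiComp _ _ ≪≫
        cokernelCompIsIso _ _ ≪≫ c⟩⟩

end Groth.Agent.EtSite.UnipFilt
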