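import Groth.Agent.EtSite.UnipFilt
import Groth.Agent.EtSite.Trivialize
import Groth.Agent.EtSite.ConstFLC
import Groth.Agent.EtMV.OpenShriek
import Mathlib.RingTheory.Finiteness.Cardinality

/-!
# Sheaves killed by a prime become unipotent on a covering of degree prime to it
-/

set_option autoImplicit false
universe u

open CategoryTheory CategoryTheory.Limits AlgebraicGeometry Opposite

namespace Groth.Agent.EtSite.Unipotent

open LocConst RepFinite

variable (ℓ : ℕ) [Fact ℓ.Prime]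

/-- The model of rank `r`. -/
abbrev Mod' (r : ℕ) : Type (u + 1) := ULift.{u + 1} (Fin r → ZMod ℓ)

variable {X : Scheme.{u}}

/-- Locally constant of rank `r`. -/
def Rank (r : ℕ) (F : EtCoh.Ab X) : Prop :=
  ∀ x : X, ∃ (U : X.Etale) (y : U.left) (φ : Mod'.{u} ℓ r →+ EtCoh.sect F U),
    U.hom.base y = x ∧ GermBij F U φ

variable {ℓ}

theorem sect_ext (F : EtCoh.Ab X) {Z : X.Etale} (s t : EtCoh.sect F Z)
    (h : ∀ (Ω : Type u) [Field Ω] [IsSepClosed Ω] (ξ : Spec (CommRingCat.of Ω) ⟶ X)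
      (p : (Scheme.pointSmallEtale ξ).fiber.obj Z),
      (Scheme.pointSmallEtale ξ).toPresheafFiber Z p F.obj s = (Scheme.pointSmallEtale ξ).toPresheafFiber Z p F.obj t) :
    s = t := by
  let R : Sieve Z :=
    { arrows := fun {W} g => F.obj.map g.op s = F.obj.map g.op t
      downward_closed := fun {W W'} g hg k => by
        simp only [op_comp, Functor.map_comp_apply, hg] }
  refine sect_ext_of_cover (LocSetOf.underlying F) (R := R) (mem_smallEtaleTopology_of_points _ _ fun z => ?_)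
    fun W g hg => hg
  let Φ := Scheme.pointSmallEtale (gpt z ≫ Z.hom)
  obtain ⟨W, g, w, hw, hg⟩ := (Φ.toPresheafFiber_eq_iff' (P := F.obj) _ _ _ _).1 (h _ _ (tautPt Z z))
  refine ⟨W, g, w.left (default : Spec (CommRingCat.of (SeparableClosure (Z.left.residueField z)))), hg, ?_⟩
  have hl : w.left ≫ g.left = gpt z := congrArg CommaMorphism.left hw
  exact (Scheme.Hom.comp_apply _ _ _).symm.trans
    ((congrArg (fun m : _ ⟶ Z.left => m.base _) hl).trans (gpt_apply z _))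

theorem exists_nbhd {r : ℕ} {F : EtCoh.Ab X} (h : Rank ℓ r F) {Ω : Type u} [Field Ω] [IsSepClosed Ω]
    (ξ : Spec (CommRingCat.of Ω) ⟶ X) :
    ∃ (U : X.Etale) (_ : (Scheme.pointSmallEtale ξ).fiber.obj U) (φ : Mod'.{u} ℓ r →+ EtCoh.sect F U),
      GermBij F U φ := by
  obtain ⟨U, y, φ, hy, hφ⟩ := h (ξ.base default)
  obtain ⟨t⟩ := FLCBasic.nonempty_fiber (ξ := ξ) y hy
  exact ⟨U, t, φ, hφ⟩

theorem nsmul_eq_zero {r : ℕ} {F : EtCoh.Ab X} (h : Rank ℓ r F) {Z : X.Etale} (s : EtCoh.sect F Z) :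
    ℓ • s = 0 := sect_ext F _ _ fun Ω _ _ ξ p => by
  let Φ := Scheme.pointSmallEtale ξ
  obtain ⟨U, t, φ, hφ⟩ := exists_nbhd h ξ
  obtain ⟨m, hm⟩ := (hφ Ω ξ t).2 (Φ.toPresheafFiber Z p F.obj s)
  have h0 : ℓ • m = 0 := by
    refine ULift.ext _ _ (funext fun i => ?_)
    change ℓ • m.down i = 0
    rw [nsmul_eq_mul, ZMod.natCast_self, zero_mul]
  rw [map_nsmul, map_zero, ← hm, ← map_nsmul, ← map_nsmul, h0, map_zero, map_zero]

theorem isZero_of_rank_zero {F : EtCoh.Ab X} (h : Rank ℓ 0 F) : IsZero F := by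
  rw [IsZero.iff_id_eq_zero]
  ext Z s
  exact sect_ext F _ _ fun Ω _ _ ξ p => by
    obtain ⟨U, t, φ, hφ⟩ := exists_nbhd h ξ
    obtain ⟨m, hm⟩ := (hφ Ω ξ t).2 ((Scheme.pointSmallEtale ξ).toPresheafFiber Z.unop p F.obj s)
    refine Eq.trans ?_ (map_zero _).symm
    refine hm.symm.trans ?_
    simp only [show m = 0 from ULift.ext _ _ (funext fun i => i.elim0), map_zero]

theorem rank_pull {Y : Scheme.{u}} (f : Y ⟶ X) {r : ℕ} {F : EtCoh.Ab X} (h : Rank ℓ r F) :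
    Rank ℓ r ((EtCoh.pull f).obj F) := fun y => by
  obtain ⟨U, z, φ, hz, hφ⟩ := h (f.base y)
  obtain ⟨w, -, hw⟩ := Scheme.Pullback.exists_preimage_pullback z y hz
  exact ⟨(EtCoh.bc f).obj U, w, _, hw, FLCBasic.germBij_pull f hφ⟩

/-- Nowhere vanishing sections. -/
def NowhereZero (F : EtCoh.Ab X) (Z : X.Etale) (s : EtCoh.sect F Z) : Prop :=
  ∀ (Ω : Type u) [Field Ω] [IsSepClosed Ω] (ξ : Spec (CommRingCat.of Ω) ⟶ X)
    (p : (Scheme.pointSmallEtale ξ).fiber.obj Z), (Scheme.pointSmallEtale ξ).toPresheafFiber Z p F.obj s ≠ 0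

theorem NowhereZero.map {F : EtCoh.Ab X} {Z W : X.Etale} {s : EtCoh.sect F Z} (h : NowhereZero F Z s)
    (g : W ⟶ Z) : NowhereZero F W (F.obj.map g.op s) := fun Ω _ _ ξ p => by
  rw [(Scheme.pointSmallEtale ξ).toPresheafFiber_w_apply]
  exact h Ω ξ _

/-- The presheaf of nowhere vanishing sections. -/
noncomputable def nzPresheaf (F : EtCoh.Ab X) : X.Etaleᵒᵖ ⥤ Type (u + 1) where
  obj W := {s : EtCoh.sect F W.unop // NowhereZero F W.unop s}
  map {W W'} g := TypeCat.ofHom fun s => ⟨F.obj.map g s.1, s.2.map g.unop⟩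
  map_id W := by
    ext s
    change F.obj.map (𝟙 W) s.1 = s.1
    simp
  map_comp {W W' W''} g h := by
    ext s
    change F.obj.map (g ≫ h) s.1 = F.obj.map h (F.obj.map g s.1)
    exact Functor.map_comp_apply F.obj g h s.1

theorem isSheaf_nzPresheaf (F : EtCoh.Ab X) : Presieve.IsSheaf X.smallEtaleTopology (nzPresheaf F) := by
  intro Z R hR x hx
  have hF := ((isSheaf_iff_isSheaf_of_type _ _).1 (LocSetOf.underlying F).property) R hR
  let y : Presieve.FamilyOfElements (LocSetOf.underlying F).obj R.arrows := fun W g hg => (x g hg).1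
  have hy : y.Compatible := fun W W' U g g' f f' hf hf' e => congrArg Subtype.val (hx g g' hf hf' e)
  obtain ⟨w, hw, huniq⟩ := hF y hy
  have hnz : NowhereZero F Z w := fun Ω _ _ ξ p => by
    obtain ⟨W, g, hg, q, hq⟩ := (Scheme.pointSmallEtale ξ).jointly_surjective R hR p
    subst hq
    have hh := (x g hg).2 Ω ξ q
    rw [show (x g hg).1 = F.obj.map g.op w from (hw g hg).symm,
      (Scheme.pointSmallEtale ξ).toPresheafFiber_w_apply] at hh
    exact hh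
  exact ⟨⟨w, hnz⟩, fun W g hg => Subtype.ext (hw g hg),
    fun v hv => Subtype.ext (huniq v.1 fun W g hg => congrArg Subtype.val (hv g hg))⟩

/-- The sheaf of nowhere vanishing sections. -/
noncomputable def nzSheaf (F : EtCoh.Ab X) : EtDesc.Sh X :=
  ⟨nzPresheaf F, (isSheaf_iff_isSheaf_of_type _ _).2 (isSheaf_nzPresheaf F)⟩

/-- The nowhere vanishing section given by a nonzero value. -/
noncomputable def nzOf {r : ℕ} {F : EtCoh.Ab X} {U : X.Etale} {φ : Mod'.{u} ℓ r →+ EtCoh.sect F U}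
    (hφ : GermBij F U φ) (m : {m : Mod'.{u} ℓ r // m ≠ 0}) : (nzSheaf F).obj.obj (op U) :=
  ⟨φ m.1, fun Ω _ _ ξ p h => m.2 ((hφ Ω ξ p).1 (h.trans (by simp only [map_zero])))⟩

theorem setBij_nz {r : ℕ} {F : EtCoh.Ab X} {U : X.Etale} {φ : Mod'.{u} ℓ r →+ EtCoh.sect F U}
    (hφ : GermBij F U φ) : SetBij (nzSheaf F) U (nzOf hφ) := fun Ω _ _ ξ t => by
  let Φ := Scheme.pointSmallEtale ξ
  constructor
  · intro m m' e
    obtain ⟨T, k, q, hk, hs⟩ := (Φ.toPresheafFiber_eq_iff' (P := (nzSheaf F).obj) U t _ _).1 e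
    exact Subtype.ext ((hφ Ω ξ t).1 ((Φ.toPresheafFiber_eq_iff' (P := F.obj) U t (φ m.1) (φ m'.1)).2
      ⟨T, k, q, hk, congrArg Subtype.val hs⟩))
  · intro p
    obtain ⟨V, v, a, rfl⟩ := Φ.toPresheafFiber_jointly_surjective (P := (nzSheaf F).obj) p
    obtain ⟨m, hm⟩ := (hφ Ω ξ t).2 (Φ.toPresheafFiber V v F.obj a.1)
    have hm0 : m ≠ 0 := fun h0 => a.2 Ω ξ v (hm.symm.trans (by simp only [h0, map_zero]))
    refine ⟨⟨m, hm0⟩, ?_⟩
    obtain ⟨⟨W, w⟩, ⟨f₁, hf₁⟩, ⟨f₂, hf₂⟩, -⟩ := IsCofilteredOrEmpty.cone_objs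
      (C := Φ.fiber.Elements) ⟨V, v⟩ ⟨U, t⟩
    dsimp only at f₁ f₂ hf₁ hf₂
    have e : Φ.toPresheafFiber W w F.obj (F.obj.map f₂.op (φ m)) =
        Φ.toPresheafFiber W w F.obj (F.obj.map f₁.op a.1) := by
      rw [Φ.toPresheafFiber_w_apply, Φ.toPresheafFiber_w_apply, hf₁, hf₂]
      exact hm
    obtain ⟨W₂, g, w₂, hg, hs⟩ := (Φ.toPresheafFiber_eq_iff' _ _ _ _).1 e
    rw [← hf₁, ← hf₂]
    refine (Φ.toPresheafFiber_w_apply f₂ w (nzSheaf F).obj _).symm.trans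
      (Eq.trans ?_ (Φ.toPresheafFiber_w_apply f₁ w (nzSheaf F).obj a))
    exact (Φ.toPresheafFiber_eq_iff' (P := (nzSheaf F).obj) W w _ _).2 ⟨W₂, g, w₂, hg, Subtype.ext hs⟩

theorem exists_nz_cover {r : ℕ} {F : EtCoh.Ab X} (h : Rank ℓ r F) :
    ∃ (U : X.Etale) (_ : IsFinite U.hom) (s : EtCoh.sect F U), NowhereZero F U s ∧
      ∀ (Ω : Type u) [Field Ω] [IsAlgClosed Ω] (η : Spec (CommRingCat.of Ω) ⟶ X),
        Nat.card {t : Spec (CommRingCat.of Ω) ⟶ U.left // t ≫ U.hom = η} = ℓ ^ r - 1 := by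
  obtain ⟨U, hU, sU, hbij⟩ := RepGlobal.exists_rep (F := nzSheaf F) fun x => by
    obtain ⟨V, y, φ, hy, hφ⟩ := h x
    exact ⟨V, y, _, Finite.of_injective Subtype.val Subtype.val_injective, nzOf hφ, hy, setBij_nz hφ⟩
  refine ⟨U, hU, sU.1, sU.2, ?_⟩
  intro Ω _ _ η
  let Φ := Scheme.pointSmallEtale η
  obtain ⟨V, tv, φ, hφ⟩ := exists_nbhd h η
  choose a ha using fun m => (hbij V).2 (nzOf hφ m)
  let pt : {m : Mod'.{u} ℓ r // m ≠ 0} → Φ.fiber.obj U := fun m => Φ.fiber.map (a m) tv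
  have hpt : ∀ m, Φ.toPresheafFiber U (pt m) (nzSheaf F).obj sU =
      Φ.toPresheafFiber V tv (nzSheaf F).obj (nzOf hφ m) := fun m => by
    rw [← ha m]
    exact (Φ.toPresheafFiber_w_apply (a m) tv (nzSheaf F).obj sU).symm
  have hinj : ∀ p q : Φ.fiber.obj U, Φ.toPresheafFiber U p (nzSheaf F).obj sU =
      Φ.toPresheafFiber U q (nzSheaf F).obj sU → p = q := fun p q e => by
    obtain ⟨⟨W, w⟩, ⟨f₁, hf₁⟩, ⟨f₂, hf₂⟩, -⟩ := IsCofilteredOrEmpty.cone_objs
      (C := Φ.fiber.Elements) ⟨U, p⟩ ⟨U, q⟩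
    dsimp only at f₁ f₂ hf₁ hf₂
    rw [← hf₁, ← hf₂, ← Φ.toPresheafFiber_w_apply, ← Φ.toPresheafFiber_w_apply] at e
    obtain ⟨W₂, g, w₂, hg, hs⟩ := (Φ.toPresheafFiber_eq_iff' _ _ _ _).1 e
    have hgf : g ≫ f₁ = g ≫ f₂ := (hbij W₂).1 (by
      change (nzSheaf F).obj.map (g ≫ f₁).op sU = (nzSheaf F).obj.map (g ≫ f₂).op sU
      simp only [op_comp, Functor.map_comp_apply]
      exact hs)
    rw [← hf₁, ← hf₂, ← hg, ← Functor.map_comp_apply, ← Functor.map_comp_apply, hgf]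
  have hb : Function.Bijective pt := by
    refine ⟨fun m m' e => (setBij_nz hφ Ω η tv).1 ?_, fun p => ?_⟩
    · exact (hpt m).symm.trans ((congrArg (fun p => Φ.toPresheafFiber U p (nzSheaf F).obj sU) e).trans (hpt m'))
    · obtain ⟨m, hm⟩ := (setBij_nz hφ Ω η tv).2 (Φ.toPresheafFiber U p (nzSheaf F).obj sU)
      exact ⟨m, hinj _ _ ((hpt m).trans hm)⟩
  let e : {t : Spec (CommRingCat.of Ω) ⟶ U.left // t ≫ U.hom = η} ≃ Φ.fiber.obj U :=
    { toFun := fun t => Over.homMk t.1 t.2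
      invFun := fun t => ⟨t.left, Over.w t⟩
      left_inv := fun t => Subtype.ext rfl
      right_inv := fun t => Over.OverMorphism.ext rfl }
  have : Fintype (Mod'.{u} ℓ r) := Fintype.ofFinite _
  rw [Nat.card_congr (e.trans (Equiv.ofBijective pt hb).symm), Nat.card_eq_fintype_card,
    Fintype.card_subtype_compl, Fintype.card_subtype_eq, ← Nat.card_eq_fintype_card,
    Nat.card_congr Equiv.ulift, Nat.card_fun, Nat.card_zmod, Nat.card_fin]

theorem exists_equiv_pi (M : Type) [AddCommGroup M] [Finite M] (h : ∀ m : M, ℓ • m = 0) :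
    ∃ r, Nonempty (M ≃+ (Fin r → ZMod ℓ)) := by
  let inst : Module (ZMod ℓ) M := AddCommGroup.zmodModule (n := ℓ) h
  have hfin : @Module.Finite (ZMod ℓ) M _ _ inst := @Module.Finite.of_finite (ZMod ℓ) M _ _ inst _
  let b := @Module.finBasis (ZMod ℓ) M _ _ inst _ _ hfin
  exact ⟨_, ⟨b.equivFun.toAddEquiv⟩⟩

theorem exists_complement {r : ℕ} (v : Fin (r + 1) → ZMod ℓ) (hv : v ≠ 0) :
    ∃ ι : (Fin r → ZMod ℓ) →+ (Fin (r + 1) → ZMod ℓ),
      (∀ a (k : ℤ), ι a = k • v → a = 0) ∧ ∀ w, ∃ a, ∃ k : ℤ, w = ι a + k • v := by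
  obtain ⟨C, hC⟩ := Submodule.exists_isCompl (Submodule.span (ZMod ℓ) {v})
  have hr : Module.finrank (ZMod ℓ) C = r := by
    have h1 := Submodule.finrank_add_eq_of_isCompl hC
    rw [finrank_span_singleton hv, Module.finrank_fin_fun] at h1
    omega
  let e : (Fin r → ZMod ℓ) ≃ₗ[ZMod ℓ] C := (Module.finBasisOfFinrankEq (ZMod ℓ) C hr).equivFun.symm
  refine ⟨(C.subtype ∘ₗ e.toLinearMap).toAddMonoidHom, fun a k ha => ?_, fun w => ?_⟩
  · have hmem : (e a : Fin (r + 1) → ZMod ℓ) ∈ Submodule.span (ZMod ℓ) {v} := by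
      have ha' : (e a : Fin (r + 1) → ZMod ℓ) = k • v := ha
      rw [ha']
      exact zsmul_mem (Submodule.mem_span_singleton_self v) k
    have h0 : (e a : Fin (r + 1) → ZMod ℓ) = 0 :=
      Submodule.disjoint_def.1 hC.disjoint _ hmem (e a).2
    exact e.map_eq_zero_iff.1 (Subtype.ext h0)
  · obtain ⟨y, hy, z, hz, rfl⟩ := Submodule.mem_sup.1 (hC.sup_eq_top ▸ Submodule.mem_top (x := w) :
      w ∈ Submodule.span (ZMod ℓ) {v} ⊔ C)
    obtain ⟨c, rfl⟩ := Submodule.mem_span_singleton.1 hy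
    refine ⟨e.symm ⟨z, hz⟩, (c.val : ℤ), ?_⟩
    change c • v + z = ((e (e.symm ⟨z, hz⟩)) : Fin (r + 1) → ZMod ℓ) + ((c.val : ℤ)) • v
    rw [e.apply_symm_apply, natCast_zsmul]
    funext i
    simp only [Pi.add_apply, Pi.smul_apply, smul_eq_mul, nsmul_eq_mul, Pi.mul_apply, Pi.natCast_apply,
      ZMod.natCast_zmod_val]
    ring

theorem exists_split {Y : Scheme.{u}} {r : ℕ} {G : EtCoh.Ab Y} (h : Rank ℓ (r + 1) G)
    (s : EtCoh.sect G (EtCoh.top Y)) (hs : NowhereZero G (EtCoh.top Y) s) :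
    ∃ (Q : EtCoh.Ab Y) (f : EtCoh.const Y (ZMod ℓ) ⟶ G) (π : G ⟶ Q) (w : f ≫ π = 0),
      (ShortComplex.mk f π w).ShortExact ∧ Rank ℓ r Q := by
  have hℓ : zmultiplesHom _ s (ℓ : ℤ) = 0 := by
    simp only [zmultiplesHom_apply, natCast_zsmul]
    exact nsmul_eq_zero h s
  let h₀ : ULift.{u + 1} (ZMod ℓ) →+ EtCoh.sect G (EtCoh.top Y) :=
    (ZMod.lift ℓ ⟨zmultiplesHom _ s, hℓ⟩).comp AddEquiv.ulift.toAddMonoidHom
  have h₀v : ∀ k : ℤ, h₀ ⟨(k : ZMod ℓ)⟩ = k • s := fun k => by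
    change ZMod.lift ℓ ⟨zmultiplesHom _ s, hℓ⟩ ((k : ZMod ℓ)) = _
    exact ZMod.lift_coe ℓ _ k
  let f : EtCoh.const Y (ZMod ℓ) ⟶ G :=
    ((EtCore.constAdj Y).homEquiv _ _).symm (AddCommGrpCat.ofHom h₀)
  let η := (ConstFLC.unitMap Y (AddCommGrpCat.of (ULift.{u + 1} (ZMod ℓ)))).app (op (EtCoh.top Y))
  have hf : ∀ m, f.hom.app (op (EtCoh.top Y)) (η m) = h₀ m := fun m => by
    have e1 : (EtCore.constAdj Y).homEquiv _ _ f = AddCommGrpCat.ofHom h₀ := Equiv.apply_symm_apply _ _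
    rw [Adjunction.homEquiv_unit] at e1
    refine Eq.trans ?_ (ConcreteCategory.congr_hom e1 m)
    erw [ConcreteCategory.comp_apply]
  have hst : ∀ (Ω : Type u) [Field Ω] [IsSepClosed Ω] (ξ : Spec (CommRingCat.of Ω) ⟶ Y)
      (p : (EtCoh.stalk ξ).obj (EtCoh.const Y (ZMod ℓ))) (t : (Scheme.pointSmallEtale ξ).fiber.obj (EtCoh.top Y)),
      ∃ k : ℤ, (EtCoh.stalk ξ).map f p = k • (Scheme.pointSmallEtale ξ).toPresheafFiber (EtCoh.top Y) t G.obj s ∧
        ((k : ZMod ℓ) = 0 → p = 0) := by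
    intro Ω _ _ ξ p t
    obtain ⟨⟨c⟩, hc⟩ := (ConstFLC.germBij_const Y (AddCommGrpCat.of (ULift.{u + 1} (ZMod ℓ))) Ω ξ t).2 p
    obtain ⟨k, rfl⟩ := ZMod.intCast_surjective c
    refine ⟨k, ?_, fun hk => ?_⟩
    · rw [← hc]
      refine (FLCBasic.germ_map f ξ t _).trans ?_
      erw [hf]
      rw [h₀v]
      exact map_zsmul _ k s
    · rw [← hc]
      change (Scheme.pointSmallEtale ξ).toPresheafFiber (EtCoh.top Y) t (EtCoh.const Y (ZMod ℓ)).obj (η ⟨(k : ZMod ℓ)⟩) = 0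
      rw [hk, show (⟨0⟩ : ULift.{u + 1} (ZMod ℓ)) = 0 from rfl, map_zero, map_zero]
  have htop : ∀ (Ω : Type u) [Field Ω] (ξ : Spec (CommRingCat.of Ω) ⟶ Y) [IsSepClosed Ω],
      Nonempty ((Scheme.pointSmallEtale ξ).fiber.obj (EtCoh.top Y)) := fun Ω _ ξ _ =>
    ⟨Over.homMk ξ (Category.comp_id _)⟩
  have horder : ∀ (Ω : Type u) [Field Ω] [IsSepClosed Ω] (ξ : Spec (CommRingCat.of Ω) ⟶ Y)
      (t : (Scheme.pointSmallEtale ξ).fiber.obj (EtCoh.top Y)) (k : ℤ),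
      k • (Scheme.pointSmallEtale ξ).toPresheafFiber (EtCoh.top Y) t G.obj s = 0 → (k : ZMod ℓ) = 0 := by
    intro Ω _ _ ξ t k hk
    obtain ⟨V, tv, φ, hφ⟩ := exists_nbhd h ξ
    obtain ⟨m, hm⟩ := (hφ Ω ξ tv).2 ((Scheme.pointSmallEtale ξ).toPresheafFiber (EtCoh.top Y) t G.obj s)
    have hm0 : m ≠ 0 := fun h0 => hs Ω ξ t (hm.symm.trans (by simp only [h0, map_zero]))
    have hk0 : k • m = 0 := (hφ Ω ξ tv).1 (by
      simp only [map_zsmul, map_zero]
      exact (congrArg (k • ·) hm).trans hk)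
    by_contra hkne
    apply hm0
    refine ULift.ext _ _ (funext fun i => ?_)
    have h1 : (k : ZMod ℓ) * m.down i = 0 := by
      rw [← zsmul_eq_mul]
      exact congrFun (congrArg ULift.down hk0) i
    exact (mul_eq_zero.1 h1).resolve_left hkne
  have : Mono f := (mono_iff_stalks f).2 fun Ω _ _ ξ => (injective_iff_map_eq_zero _).2 fun p hp => by
    obtain ⟨t⟩ := htop Ω ξ
    obtain ⟨k, hk, hk0⟩ := hst Ω ξ p t
    exact hk0 (horder Ω ξ t k (hk.symm.trans hp))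
  let S := ShortComplex.mk f (cokernel.π f) (cokernel.condition f)
  have hS : S.ShortExact := { exact := ShortComplex.exact_of_g_is_cokernel _ (cokernelIsCokernel _) }
  refine ⟨cokernel f, f, cokernel.π f, cokernel.condition f, hS, fun y => ?_⟩
  obtain ⟨V, tv, φ, hφ⟩ := exists_nbhd h (gpt y)
  let Φ := Scheme.pointSmallEtale (gpt y)
  let sV := G.obj.map ((EtCore.topIsTerminal Y).from V).op s
  obtain ⟨v, hv⟩ := (hφ _ _ tv).2 (Φ.toPresheafFiber V tv G.obj sV)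
  obtain ⟨W, w, g, -, hg⟩ := FLCBasic.exists_equalize G V tv (fun _ : Unit => φ v) (fun _ => sV) fun _ => hv
  have hv0 : v.down ≠ 0 := fun h0 => (hs.map ((EtCore.topIsTerminal Y).from V)) _ _ tv
    (hv.symm.trans (by simp only [show v = 0 from ULift.ext _ _ h0, map_zero]))
  obtain ⟨ι, hι₁, hι₂⟩ := exists_complement v.down hv0
  let φW : Mod'.{u} ℓ (r + 1) →+ EtCoh.sect G W := (G.obj.map g.op).hom.comp φ
  have hφW : GermBij G W φW := hφ.map g
  have hvs : φW v = G.obj.map ((EtCore.topIsTerminal Y).from W).op s := by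
    refine (hg ()).trans ?_
    rw [← Functor.map_comp_apply]
    exact congrArg (fun k : W ⟶ EtCoh.top Y => G.obj.map k.op s)
      ((EtCore.topIsTerminal Y).hom_ext (g ≫ (EtCore.topIsTerminal Y).from V) _)
  let ι' : Mod'.{u} ℓ r →+ Mod'.{u} ℓ (r + 1) :=
    (AddEquiv.ulift.symm.toAddMonoidHom.comp ι).comp AddEquiv.ulift.toAddMonoidHom
  refine ⟨W, w.left (default : Spec (CommRingCat.of (SeparableClosure (Y.residueField y)))),
    FLCBasic.push (cokernel.π f) (φW.comp ι'), ?_, fun Ω _ _ ξ t => ?_⟩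
  · exact (Scheme.Hom.comp_apply _ _ _).symm.trans
      ((congrArg (fun m : Spec (CommRingCat.of (SeparableClosure (Y.residueField y))) ⟶ Y => m.base _)
        (Over.w w)).trans (gpt_apply y _))
  let Ψ := Scheme.pointSmallEtale ξ
  let tt := Ψ.fiber.map ((EtCore.topIsTerminal Y).from W) t
  have hex := (ShortComplex.ab_exact_iff _).1 (hS.exact.map (EtCoh.stalk ξ))
  have hsW : Ψ.toPresheafFiber W t G.obj (φW v) = Ψ.toPresheafFiber (EtCoh.top Y) tt G.obj s := by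
    rw [hvs]
    exact Ψ.toPresheafFiber_w_apply _ t G.obj s
  let γ : Mod'.{u} ℓ (r + 1) →+ ((EtCoh.stalk ξ).obj G : AddCommGrpCat.{u + 1}) :=
    (show EtCoh.sect G W →+ ((EtCoh.stalk ξ).obj G : AddCommGrpCat.{u + 1}) from
      (Ψ.toPresheafFiber W t G.obj).hom).comp φW
  let P : Mod'.{u} ℓ (r + 1) →+ ((EtCoh.stalk ξ).obj (cokernel f) : AddCommGrpCat.{u + 1}) :=
    ((EtCoh.stalk ξ).map (cokernel.π f)).hom.comp γ
  have hP : ∀ a, Ψ.toPresheafFiber W t (cokernel f).obj (FLCBasic.push (cokernel.π f) (φW.comp ι') a) = P (ι' a) :=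
    fun a => (FLCBasic.germ_map (cokernel.π f) ξ t (φW (ι' a))).symm
  have hPv : P v = 0 := by
    have e1 : (EtCoh.stalk ξ).map f (Ψ.toPresheafFiber (EtCoh.top Y) tt (EtCoh.const Y (ZMod ℓ)).obj (η ⟨1⟩)) =
        Ψ.toPresheafFiber (EtCoh.top Y) tt G.obj s := by
      refine (FLCBasic.germ_map f ξ tt _).trans ?_
      erw [hf]
      rw [show (⟨1⟩ : ULift.{u + 1} (ZMod ℓ)) = ⟨((1 : ℤ) : ZMod ℓ)⟩ by rw [Int.cast_one], h₀v, one_zsmul]
    change (EtCoh.stalk ξ).map (cokernel.π f) (Ψ.toPresheafFiber W t G.obj (φW v)) = 0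
    refine (congrArg ((EtCoh.stalk ξ).map (cokernel.π f)) (hsW.trans e1.symm)).trans ?_
    erw [← ConcreteCategory.comp_apply]
    rw [← Functor.map_comp, cokernel.condition, Functor.map_zero]
    rfl
  constructor
  · intro a a' e
    apply sub_eq_zero.1
    have e0 : P (ι' (a - a')) = 0 := by
      rw [map_sub ι', map_sub P, sub_eq_zero]
      exact (hP a).symm.trans (e.trans (hP a'))
    obtain ⟨p, hp⟩ := hex _ e0
    obtain ⟨k, hk, -⟩ := hst Ω ξ p tt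
    have e2 : γ (ι' (a - a')) = γ (k • v) := by
      rw [map_zsmul γ]
      exact hp.symm.trans (hk.trans (congrArg (k • ·) hsW.symm))
    exact ULift.ext _ _ (hι₁ (a - a').down k (congrArg ULift.down ((hφW Ω ξ t).1 e2)))
  · intro q
    obtain ⟨p, rfl⟩ := (AddCommGrpCat.epi_iff_surjective _).1
      (inferInstance : Epi ((EtCoh.stalk ξ).map (cokernel.π f))) q
    obtain ⟨m, rfl⟩ := (hφW Ω ξ t).2 p
    obtain ⟨a, k, hm⟩ := hι₂ m.down
    refine ⟨⟨a⟩, ?_⟩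
    have hm' : m = ι' ⟨a⟩ + k • v := ULift.ext _ _ hm
    refine (hP ⟨a⟩).trans ?_
    change P (ι' ⟨a⟩) = P m
    rw [hm', map_add P, map_zsmul P, hPv, smul_zero, add_zero]

theorem exists_unip : ∀ (r : ℕ) (X : Scheme.{u}) (F : EtCoh.Ab X), Rank ℓ r F →
    ∃ (T : Scheme.{u}) (f : T ⟶ X) (_ : IsFinite f) (_ : Etale f) (d : ℕ), ℓ.Coprime d ∧
      (∀ (Ω : Type u) [Field Ω] [IsAlgClosed Ω] (η : Spec (CommRingCat.of Ω) ⟶ X),
        Nat.card {t : Spec (CommRingCat.of Ω) ⟶ T // t ≫ f = η} = d) ∧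
      UnipFilt.UnipN (EtCoh.const T (ZMod ℓ)) r ((EtCoh.pull f).obj F) := by
  intro r
  induction r with
  | zero =>
    intro X F h
    refine ⟨X, 𝟙 X, inferInstance, inferInstance, 1, Nat.coprime_one_right ℓ, fun Ω _ _ η => ?_,
      Functor.map_isZero _ (isZero_of_rank_zero h)⟩
    have : Unique {t : Spec (CommRingCat.of Ω) ⟶ X // t ≫ 𝟙 X = η} :=
      { default := ⟨η, Category.comp_id η⟩
        uniq := fun t => Subtype.ext ((Category.comp_id _).symm.trans t.2) }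
    exact Nat.card_unique
  | succ r ih =>
    intro X F h
    obtain ⟨U, hU, sU, hsU, hcard⟩ := exists_nz_cover h
    let g := U.hom
    let T₀ := (EtCoh.bc g).obj (EtCoh.top X)
    let p : T₀.left ⟶ U.left := pullback.snd (EtCoh.top X).hom g
    let δ : T₀ ⟶ (EtCoh.bc g).obj U := MorphismProperty.Over.homMk
      (pullback.lift p p rfl) (pullback.lift_snd _ _ _) trivial
    let G := (EtCoh.pull g).obj F
    let us := ((EtCoh.pullPushAdj g).unit.app F).hom.app (op U) sU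
    let ŝ : EtCoh.sect G (EtCoh.top U.left) :=
      G.obj.map ((EtCore.bcTopIsTerminal g).from (EtCoh.top U.left) ≫ δ).op us
    have hunz : NowhereZero G ((EtCoh.bc g).obj U) us := fun Ω _ _ ξ q => by
      obtain ⟨t, rfl⟩ : ∃ t, bcPt g ξ U t = q := ⟨unbcPt g ξ U q, bcPt_unbcPt g ξ U q⟩
      have e := ConcreteCategory.congr_hom (toPresheafFiber_stalkPullIso_hom g ξ F U t) sU
      intro h0
      refine hsU Ω (ξ ≫ g) t (((ConcreteCategory.isIso_iff_bijective ((stalkPullIso g ξ).hom.app F)).1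
        inferInstance).1 ?_)
      exact (e.trans h0).trans (map_zero _).symm
    obtain ⟨Q, f₁, π, w, hS, hQ⟩ := exists_split (Y := U.left) (rank_pull g h) ŝ (hunz.map _)
    obtain ⟨T, f', hf', hf'e, d, hd, hcard', hUn⟩ := ih U.left Q hQ
    have : Etale g := U.prop
    have : IsFinite g := hU
    refine ⟨T, f' ≫ g, inferInstance, inferInstance, d * (ℓ ^ (r + 1) - 1), ?_, fun Ω _ _ η => ?_, ?_⟩
    · refine hd.mul_right (((Fact.out : ℓ.Prime).coprime_iff_not_dvd).2 fun hdvd => ?_)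
      have h1 : 1 ≤ ℓ ^ (r + 1) := Nat.one_le_pow _ _ (Fact.out : ℓ.Prime).pos
      have h2 : ℓ ∣ ℓ ^ (r + 1) - (ℓ ^ (r + 1) - 1) := Nat.dvd_sub (dvd_pow_self ℓ (Nat.succ_ne_zero r)) hdvd
      rw [Nat.sub_sub_self h1] at h2
      exact (Fact.out : ℓ.Prime).not_dvd_one h2
    · let A := {p : Spec (CommRingCat.of Ω) ⟶ U.left // p ≫ g = η}
      let e : {t : Spec (CommRingCat.of Ω) ⟶ T // t ≫ f' ≫ g = η} ≃
          Σ p : A, {t : Spec (CommRingCat.of Ω) ⟶ T // t ≫ f' = p.1} :=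
        { toFun := fun t => ⟨⟨t.1 ≫ f', (Category.assoc _ _ _).trans t.2⟩, ⟨t.1, rfl⟩⟩
          invFun := fun x => ⟨x.2.1, (Category.assoc _ _ _).symm.trans
            ((congrArg (· ≫ g) x.2.2).trans x.1.2)⟩
          left_inv := fun _ => rfl
          right_inv := fun ⟨⟨p, hp⟩, ⟨t, ht⟩⟩ => by
            cases ht
            rfl }
      have hA : Nat.card A = ℓ ^ (r + 1) - 1 := hcard Ω η
      have hpos : 0 < ℓ ^ (r + 1) - 1 :=
        Nat.sub_pos_of_lt (Nat.one_lt_pow (Nat.succ_ne_zero r) (Fact.out : ℓ.Prime).one_lt)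
      have : Finite A := Nat.finite_of_card_ne_zero (hA.trans_ne hpos.ne')
      have := Fintype.ofFinite A
      have hd0 : d ≠ 0 := fun h0 => by
        rw [h0, Nat.coprime_zero_right] at hd
        exact (Fact.out : ℓ.Prime).ne_one hd
      have : ∀ p : A, Finite {t : Spec (CommRingCat.of Ω) ⟶ T // t ≫ f' = p.1} := fun p =>
        Nat.finite_of_card_ne_zero ((hcard' Ω p.1).trans_ne hd0)
      rw [Nat.card_congr e, Nat.card_sigma, Finset.sum_congr rfl fun p _ => hcard' Ω p.1, Finset.sum_const,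
        Finset.card_univ, ← Nat.card_eq_fintype_card, hA, smul_eq_mul, mul_comm]
    · have : PreservesFiniteColimits (EtCoh.pull f') := inferInstance
      refine UnipFilt.unipN_iso ((EtCore.pullComp f' g).app F).symm ?_
      refine UnipFilt.unipN_ext ((EtCoh.pull f').map f₁) ((EtCoh.pull f').map π)
        (by rw [← Functor.map_comp, w, Functor.map_zero]) (hS.map_of_exact (EtCoh.pull f')) ?_ hUn
      exact ⟨(EtCore.pullConst f' (ZMod ℓ))⟩

end Groth.Agent.EtSite.Unipotent
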