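import Groth.Prelude.Def_EtZar
import Groth.Agent.EtSite.PullStalk
import Groth.Agent.EtMV.Flasque
import Groth.Agent.EtMV.Cohomology
import Mathlib.CategoryTheory.Sites.Pullback
import Mathlib.Algebra.Homology.DerivedCategory.Ext.EnoughInjectives
import Mathlib.Algebra.Homology.DerivedCategory.Ext.ExactSequences

/-!
# Restriction of acyclic étale sheaves to the Zariski site
-/

set_option autoImplicit false
set_option backward.isDefEq.respectTransparency.types false

universe u

open CategoryTheory CategoryTheory.Limits AlgebraicGeometry Opposite TopologicalSpace CategoryTheory.Abelian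

namespace Groth.Agent.EtSite.ZarRestr

variable {X : Scheme.{u}}

instance : RepresentablyFlat (EtZar.zarToEt X) := ⟨fun W => by
  let O : X.Opens := ⊤
  let Wh : W.left ⟶ X := W.hom
  have hO : Set.range W.hom.base ⊆ Set.range O.ι.base := by
    rw [Scheme.Opens.range_ι]; exact Set.subset_univ _
  let lO : W.left ⟶ (O : Scheme.{u}) := IsOpenImmersion.lift O.ι Wh hO
  have hlO : lO ≫ O.ι = Wh := IsOpenImmersion.lift_fac _ _ _
  have : Nonempty (StructuredArrow W (EtZar.zarToEt X)) := ⟨StructuredArrow.mk (Y := O)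
    (MorphismProperty.Over.homMk lO hlO trivial)⟩
  have hd : ∀ {A B : StructuredArrow W (EtZar.zarToEt X)} (f g : A ⟶ B), f = g := fun f g =>
    StructuredArrow.hom_ext _ _ (Subsingleton.elim _ _)
  exact { cone_objs := fun A B => by
            let U : X.Opens := A.right ⊓ B.right
            have hr : Set.range W.hom.base ⊆ Set.range U.ι.base := by
              rw [Scheme.Opens.range_ι]
              rintro _ ⟨w, rfl⟩
              have ha : A.hom.left ≫ A.right.ι = W.hom := MorphismProperty.Over.w A.hom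
              have hb : B.hom.left ≫ B.right.ι = W.hom := MorphismProperty.Over.w B.hom
              exact ⟨by rw [← ha]; exact (A.hom.left.base w).2, by rw [← hb]; exact (B.hom.left.base w).2⟩
            let Wh : W.left ⟶ X := W.hom
            let lU : W.left ⟶ (U : Scheme.{u}) := IsOpenImmersion.lift U.ι Wh hr
            have hlU : lU ≫ U.ι = Wh := IsOpenImmersion.lift_fac _ _ _
            let h : W ⟶ (EtZar.zarToEt X).obj U := MorphismProperty.Over.homMk lU hlU trivial
            have hu : ∀ (C : StructuredArrow W (EtZar.zarToEt X)) (k : W ⟶ (EtZar.zarToEt X).obj C.right),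
                k = C.hom := fun C k => MorphismProperty.Over.Hom.ext ((cancel_mono C.right.ι).1
                  ((MorphismProperty.Over.w k).trans (MorphismProperty.Over.w C.hom).symm))
            exact ⟨StructuredArrow.mk h, StructuredArrow.homMk (homOfLE inf_le_left) (hu A _),
              StructuredArrow.homMk (homOfLE inf_le_right) (hu B _), trivial⟩
          cone_maps := fun A B f g => ⟨A, 𝟙 A, by rw [hd f g]⟩
          nonempty := this }⟩

theorem coverPreserving :
    CoverPreserving (Opens.grothendieckTopology X) X.smallEtaleTopology (EtZar.zarToEt X) := ⟨fun {U} S hS =>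
  mem_smallEtaleTopology_of_points _ _ fun x => by
    obtain ⟨V, i, hi, hxV⟩ := hS x.1 x.2
    refine ⟨(EtZar.zarToEt X).obj V, (EtZar.zarToEt X).map i, ⟨x.1, hxV⟩,
      Sieve.image_mem_functorPushforward _ _ hi, Subtype.ext ?_⟩
    exact (Scheme.Hom.comp_apply _ _ _).symm.trans
      (congrArg (fun m : (V : Scheme.{u}) ⟶ X => m.base ⟨x.1, hxV⟩) (MorphismProperty.Over.w ((EtZar.zarToEt X).map i)))⟩

variable [EtZar.ZarCont X]

theorem injective_resZar (I : EtCoh.Ab X) [Injective I] : Injective ((EtZar.resZar X).obj I) := by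
  let L := (EtZar.zarToEt X).sheafPullback AddCommGrpCat.{u + 1} (Opens.grothendieckTopology X) X.smallEtaleTopology
  have : L.PreservesMonomorphisms := ⟨fun {A B} a _ => by
    refine mono_of_stalks _ fun Ω _ _ ξ => (AddCommGrpCat.mono_iff_injective _).1 ?_
    let Φ := Scheme.pointSmallEtale ξ
    have : EssentiallySmall.{u} (EtZar.zarToEt X ⋙ Φ.fiber).Elements :=
      essentiallySmall_of_small_of_locallySmall _
    have : InitiallySmall.{u} (EtZar.zarToEt X ⋙ Φ.fiber).Elements :=
      initiallySmall_of_essentiallySmall _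
    have := Functor.PreservesMonomorphisms.of_iso
      (Φ.sheafFiberComapIso (EtZar.zarToEt X) coverPreserving AddCommGrpCat.{u + 1})
    exact (inferInstance : Mono ((L ⋙ EtCoh.stalk ξ).map a))⟩
  exact Injective.injective_of_adjoint
    ((EtZar.zarToEt X).sheafAdjunctionContinuous AddCommGrpCat.{u + 1} _ _) I

/-- Acyclicity on the affine opens. -/
def Acyclic (G : EtCoh.Ab X) : Prop :=
  ∀ V : X.Opens, IsAffineOpen V → ∀ n : ℕ,
    Subsingleton (EtCoh.H (V : Scheme.{u}) ((EtCoh.pull V.ι).obj G) (n + 1))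

theorem subsingleton_H_pull_injective (I : EtCoh.Ab X) [Injective I] (V : X.Opens) (n : ℕ) :
    Subsingleton (EtCoh.H (V : Scheme.{u}) ((EtCoh.pull V.ι).obj I) (n + 1)) := by
  refine subsingleton_of_forall_eq 0 fun x => ?_
  obtain ⟨y, rfl⟩ := (EtMV.Ψ_bijective V.ι I (n + 1)).2 x
  rw [Ext.eq_zero_of_injective y, map_zero]

theorem surjective_app {S : ShortComplex (EtCoh.Ab X)} (hS : S.ShortExact) (h : Acyclic S.X₁)
    {V : X.Opens} (hV : IsAffineOpen V) :
    Function.Surjective (S.g.hom.app (op ((EtZar.zarToEt X).obj V))).hom := by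
  have : Subsingleton (EtCoh.H ((EtZar.zarToEt X).obj V).left
      ((EtCoh.pull ((EtZar.zarToEt X).obj V).hom).obj S.X₁) 1) := h V hV 0
  exact EtMV.sections_surjective hS _

theorem acyclic_X₃ {S : ShortComplex (EtCoh.Ab X)} (hS : S.ShortExact) [Injective S.X₂]
    (h : Acyclic S.X₁) : Acyclic S.X₃ := fun V hV n => by
  refine subsingleton_of_forall_eq 0 fun x => ?_
  have hT := hS.map_of_exact (EtCoh.pull V.ι)
  have := h V hV (n + 1)
  have := subsingleton_H_pull_injective S.X₂ V n
  obtain ⟨y, rfl⟩ := Ext.covariant_sequence_exact₃ _ hT x rfl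
    (Subsingleton.elim (α := EtCoh.H (V : Scheme.{u}) ((EtCoh.pull V.ι).obj S.X₁) (n + 1 + 1)) _ _)
  rw [Subsingleton.elim (α := EtCoh.H (V : Scheme.{u}) ((EtCoh.pull V.ι).obj S.X₂) (n + 1)) y 0]
  exact Ext.zero_comp ..

theorem shortExact_resZar {S : ShortComplex (EtCoh.Ab X)} (hS : S.ShortExact) (h : Acyclic S.X₁)
    [(EtZar.resZar X).PreservesZeroMorphisms] : (S.map (EtZar.resZar X)).ShortExact := by
  let R := EtZar.resZar X
  have : R.IsRightAdjoint :=
    ((EtZar.zarToEt X).sheafAdjunctionContinuous AddCommGrpCat.{u + 1} _ _).isRightAdjoint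
  have : PreservesFiniteLimits R := inferInstance
  have hloc : Sheaf.IsLocallySurjective (R.map S.g) := by
    refine ⟨fun {U} s x hx => ?_⟩
    obtain ⟨V, hV, hxV, hVU⟩ := exists_isAffineOpen_mem_and_subset (X := X) (x := x) (U := U) hx
    obtain ⟨t, ht⟩ := surjective_app hS h hV (S.X₃.obj.map ((EtZar.zarToEt X).map (homOfLE hVU)).op s)
    exact ⟨V, homOfLE hVU, ⟨t, ht⟩, hxV⟩
  have : Epi (R.map S.g) := inferInstance
  have : Mono S.f := hS.mono_f
  exact { exact := hS.exact.map_of_mono_of_preservesKernel R inferInstance inferInstance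
          mono_f := inferInstanceAs (Mono (R.map S.f))
          epi_g := ‹Epi (R.map S.g)› }

theorem subsingleton_H [IsAffine X] : ∀ (n : ℕ) (G : EtCoh.Ab X), Acyclic G →
    Subsingleton (EtZar.H ((EtZar.resZar X).obj G) (n + 1)) := by
  intro n
  let R := EtZar.resZar X
  have : R.IsRightAdjoint :=
    ((EtZar.zarToEt X).sheafAdjunctionContinuous AddCommGrpCat.{u + 1} _ _).isRightAdjoint
  induction n with
  | zero =>
    intro G hG
    let S := ShortComplex.mk (Injective.ι G) (cokernel.π (Injective.ι G)) (cokernel.condition _)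
    have hS : S.ShortExact := { exact := ShortComplex.exact_of_g_is_cokernel _ (cokernelIsCokernel _) }
    have hR := shortExact_resZar hS hG
    have : Injective (S.map R).X₂ := injective_resZar S.X₂
    refine subsingleton_of_forall_eq 0 fun x => ?_
    obtain ⟨y, rfl⟩ := Ext.covariant_sequence_exact₁ _ hR x (Ext.eq_zero_of_injective _) (zero_add 1)
    obtain ⟨φ, rfl⟩ := (Ext.mk₀_bijective _ _).2 y
    let adjZ : constantSheaf (Opens.grothendieckTopology X) AddCommGrpCat.{u + 1} ⊣
        (sheafSections (Opens.grothendieckTopology X) AddCommGrpCat.{u + 1}).obj (op (⊤ : X.Opens)) :=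
      constantSheafAdj _ _ isTerminalTop
    obtain ⟨t, ht⟩ := surjective_app hS hG (isAffineOpen_top X) (adjZ.homEquiv _ _ φ (ULift.up 1))
    let ψ₀ : AddCommGrpCat.of (ULift.{u + 1} ℤ) ⟶ (R.obj S.X₂).obj.obj (op (⊤ : X.Opens)) :=
      AddCommGrpCat.ofHom ((zmultiplesHom _ t).comp AddEquiv.ulift.toAddMonoidHom)
    have hψ : (adjZ.homEquiv _ _).symm ψ₀ ≫ (S.map R).g = φ := by
      apply (adjZ.homEquiv _ _).injective
      rw [Adjunction.homEquiv_naturality_right, Equiv.apply_symm_apply]
      refine AddCommGrpCat.ext fun ⟨k⟩ => ?_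
      refine (map_zsmul (((R.map S.g).hom.app (op (⊤ : X.Opens))).hom) k t).trans ?_
      refine ((congrArg (k • ·) ht).trans (map_zsmul (adjZ.homEquiv _ _ φ).hom k (ULift.up 1)).symm).trans ?_
      exact congrArg (adjZ.homEquiv _ _ φ).hom (ULift.ext _ _ (by simp))
    rw [← hψ, ← Ext.mk₀_comp_mk₀]
    exact (Ext.comp_assoc _ _ _ (zero_add 0) (zero_add 1) (by omega)).trans
      (by rw [hR.comp_extClass, Ext.comp_zero]; rfl)
  | succ n ih =>
    intro G hG
    let S := ShortComplex.mk (Injective.ι G) (cokernel.π (Injective.ι G)) (cokernel.condition _)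
    have hS : S.ShortExact := { exact := ShortComplex.exact_of_g_is_cokernel _ (cokernelIsCokernel _) }
    have hR := shortExact_resZar hS hG
    have : Injective (S.map R).X₂ := injective_resZar S.X₂
    refine subsingleton_of_forall_eq 0 fun x => ?_
    obtain ⟨y, rfl⟩ := Ext.covariant_sequence_exact₁ _ hR x (Ext.eq_zero_of_injective _) rfl
    have := ih S.X₃ (acyclic_X₃ hS hG)
    rw [Subsingleton.elim (α := EtZar.H ((EtZar.resZar X).obj S.X₃) (n + 1)) y 0]
    exact Ext.zero_comp ..

end Groth.Agent.EtSite.ZarRestr
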