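import Groth.Prelude.Def_EtZar
import Groth.Agent.EtSite.ZariskiSection
import Mathlib.CategoryTheory.Sites.DenseSubsite.SheafEquiv
import Mathlib.Algebra.Homology.DerivedCategory.Ext.MapBijective

/-!
# Étale and Zariski sheaves on schemes with strictly henselian local rings
-/

set_option autoImplicit false
set_option backward.isDefEq.respectTransparency.types false

universe u

open CategoryTheory CategoryTheory.Limits AlgebraicGeometry Opposite TopologicalSpace CategoryTheory.Abelian

namespace Groth.Agent.EtSite.ZariskiEquiv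

theorem henselianLocalRing_of_equiv {A B : Type u} [CommRing A] [CommRing B] [HenselianLocalRing A]
    [IsLocalRing B] (e : A ≃+* B) : HenselianLocalRing B where
  is_henselian f hf a₀ h1 h2 := by
    have hm : ∀ a : A, e a ∈ IsLocalRing.maximalIdeal B ↔ a ∈ IsLocalRing.maximalIdeal A := fun a => by
      simp only [IsLocalRing.mem_maximalIdeal, mem_nonunits_iff]
      exact not_congr (isUnit_map_iff e a)
    have hb : ∀ (p : Polynomial B) (b : B), (p.map e.symm.toRingHom).eval (e.symm b) = e.symm (p.eval b) :=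
      fun p b => Polynomial.eval_map_apply e.symm.toRingHom b
    obtain ⟨a, ha, ha'⟩ := HenselianLocalRing.is_henselian (f.map e.symm.toRingHom) (hf.map _) (e.symm a₀)
      (by rw [← hm, hb, e.apply_symm_apply]; exact h1)
      (by rw [Polynomial.derivative_map, hb]; exact h2.map e.symm)
    refine ⟨e a, ?_, ?_⟩
    · have := hb f (e a)
      rw [e.symm_apply_apply] at this
      rw [Polynomial.IsRoot, ← e.apply_symm_apply (f.eval (e a)), ← this, ha, map_zero]
    · have := (hm _).2 ha'
      rwa [map_sub, e.apply_symm_apply] at this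

theorem isSepClosed_of_equiv {K L : Type u} [Field K] [Field L] [IsSepClosed K] (e : K ≃+* L) : IsSepClosed L :=
  IsSepClosed.of_exists_root _ fun p _ hp hs => by
    obtain ⟨x, hx⟩ := IsSepClosed.exists_root (p.map e.symm.toRingHom) (by
      rw [Polynomial.degree_map]; exact hp.degree_pos.ne') (hs.map)
    refine ⟨e x, ?_⟩
    have h2 : (p.map e.symm.toRingHom).eval (e.symm (e x)) = e.symm (p.eval (e x)) :=
      Polynomial.eval_map_apply e.symm.toRingHom (e x)
    rw [e.symm_apply_apply, hx] at h2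
    rw [← e.apply_symm_apply (p.eval (e x)), ← h2, map_zero]

theorem isStrictlyHenselian_of_equiv {A B : Type u} [CommRing A] [CommRing B] (e : A ≃+* B)
    (h : EtCoh.IsStrictlyHenselianLocalRing A) : EtCoh.IsStrictlyHenselianLocalRing B := by
  obtain ⟨_, hs⟩ := h
  have : IsLocalRing B := e.isLocalRing
  exact ⟨henselianLocalRing_of_equiv e, @isSepClosed_of_equiv _ _ _ _ hs (IsLocalRing.ResidueField.mapEquiv e)⟩

variable {X : Scheme.{u}}

theorem isStrictlyHenselian_localization {V : X.Opens} (hV : IsAffineOpen V) (x : V)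
    (h : EtCoh.IsStrictlyHenselianLocalRing (X.presheaf.stalk x.1)) :
    EtCoh.IsStrictlyHenselianLocalRing (Localization.AtPrime (hV.primeIdealOf x).asIdeal) := by
  let _ : Algebra Γ(X, V) (X.presheaf.stalk x.1) := TopCat.Presheaf.algebra_section_stalk X.presheaf x
  have : IsLocalization.AtPrime (X.presheaf.stalk x.1) (hV.primeIdealOf x).asIdeal := hV.isLocalization_stalk x
  exact isStrictlyHenselian_of_equiv
    (IsLocalization.algEquiv (hV.primeIdealOf x).asIdeal.primeCompl (X.presheaf.stalk x.1)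
      (Localization.AtPrime (hV.primeIdealOf x).asIdeal)).toRingEquiv h

theorem exists_section_scheme (hX : ∀ x : X, EtCoh.IsStrictlyHenselianLocalRing (X.presheaf.stalk x))
    (U : X.Etale) (u : U.left) : ∃ (W : X.Opens) (σ : (W : Scheme.{u}) ⟶ U.left),
      σ ≫ U.hom = W.ι ∧ u ∈ Set.range σ.base := by
  let x : X := U.hom.base u
  obtain ⟨V, hV, hxV, -⟩ : ∃ V : X.Opens, IsAffineOpen V ∧ x ∈ V ∧ True := by
    obtain ⟨V, hV, hxV, -⟩ := exists_isAffineOpen_mem_and_subset (X := X) (x := x) (U := ⊤) trivial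
    exact ⟨V, hV, hxV, trivial⟩
  let p := hV.primeIdealOf ⟨_, hxV⟩
  have hp := isStrictlyHenselian_localization hV ⟨_, hxV⟩ (hX _)
  obtain ⟨u', hu', hu''⟩ := Scheme.Pullback.exists_preimage_pullback (f := U.hom) (g := hV.fromSpec) u p
    (hV.fromSpec_primeIdealOf ⟨_, hxV⟩).symm
  obtain ⟨r, -, σ, hσ, v, hv⟩ := ZariskiSection.exists_section p hp ((EtCoh.bc hV.fromSpec).obj U) u' hu''
  let τ : Spec (CommRingCat.of (Localization.Away r)) ⟶ pullback U.hom hV.fromSpec := σ
  have hτ : τ ≫ pullback.snd U.hom hV.fromSpec =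
      Spec.map (CommRingCat.ofHom (algebraMap Γ(X, V) (Localization.Away r))) := hσ
  let a := Spec.map (CommRingCat.ofHom (algebraMap Γ(X, V) (Localization.Away r))) ≫ hV.fromSpec
  have : IsOpenImmersion (Spec.map (CommRingCat.ofHom (algebraMap Γ(X, V) (Localization.Away r)))) :=
    IsOpenImmersion.of_isLocalization r
  have : IsOpenImmersion a := inferInstance
  refine ⟨a.opensRange, a.isoOpensRange.inv ≫ τ ≫ pullback.fst _ _, ?_, ⟨a.isoOpensRange.hom.base v, ?_⟩⟩
  · rw [Category.assoc, Category.assoc, pullback.condition, reassoc_of% hτ]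
    exact a.isoOpensRange_inv_comp
  · rw [← Scheme.Hom.comp_apply, Iso.hom_inv_id_assoc, Scheme.Hom.comp_apply, ← hu']
    exact congrArg _ hv

variable (hX : ∀ x : X, EtCoh.IsStrictlyHenselianLocalRing (X.presheaf.stalk x))

include hX in
theorem isDenseSubsite :
    (EtZar.zarToEt X).IsDenseSubsite (Opens.grothendieckTopology X) X.smallEtaleTopology := by
  have hle : ∀ {U V : X.Opens}, ((EtZar.zarToEt X).obj U ⟶ (EtZar.zarToEt X).obj V) → U ≤ V := fun {U V} g y hy => by
    let g' : (U : Scheme.{u}) ⟶ V := g.left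
    have hg : g' ≫ V.ι = U.ι := Over.w g.toCommaMorphism
    have h1 : V.ι.base (g'.base (⟨y, hy⟩ : U)) = y := by rw [← Scheme.Hom.comp_apply, hg]; rfl
    exact h1 ▸ (g'.base (⟨y, hy⟩ : U)).2
  have : (EtZar.zarToEt X).Full := ⟨fun {U V} g => ⟨homOfLE (hle g), MorphismProperty.Over.Hom.ext (by
    have hg : g.left ≫ V.ι = U.ι := Over.w g.toCommaMorphism
    change X.homOfLE (hle g) = (show (U : Scheme.{u}) ⟶ V from g.left)
    exact (cancel_mono V.ι).1 ((X.homOfLE_ι (hle g)).trans hg.symm))⟩⟩
  have : (EtZar.zarToEt X).Faithful := ⟨fun {U V} a b _ => Subsingleton.elim a b⟩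
  have : (EtZar.zarToEt X).IsCoverDense X.smallEtaleTopology := ⟨fun U =>
    mem_smallEtaleTopology_of_points _ _ fun u => by
      obtain ⟨W, σ, hσ, w, hw⟩ := exists_section_scheme hX U u
      let g : (EtZar.zarToEt X).obj W ⟶ U := MorphismProperty.Over.homMk σ hσ trivial
      exact ⟨_, g, w, ⟨⟨W, 𝟙 _, g, Category.id_comp g⟩⟩, hw⟩⟩
  refine { functorPushforward_mem_iff := fun {U S} => ⟨fun h => ?_, fun h => ?_⟩ }
  · rw [Opens.mem_grothendieckTopology]
    intro y hy
    have e : X.smallEtaleTopology = (X.smallPretopology (P := EtCoh.etaleMP) (Q := EtCoh.etaleMP)).toGrothendieck :=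
      Scheme.smallGrothendieckTopology_eq_toGrothendieck_smallPretopology X le_rfl
    rw [e] at h
    obtain ⟨V, g, z, hg, -, hz⟩ := (Scheme.mem_toGrothendieck_smallPretopology _ _).1 h (⟨y, hy⟩ : U)
    obtain ⟨W, f, k, hf, rfl⟩ := hg
    let k' : V.left ⟶ (W : Scheme.{u}) := k.left
    refine ⟨W, f, hf, ?_⟩
    let f' : (W : Scheme.{u}) ⟶ U := ((EtZar.zarToEt X).map f).left
    have hf' : f' ≫ (Scheme.Opens.ι U) = (Scheme.Opens.ι W) := Over.w ((EtZar.zarToEt X).map f).toCommaMorphism
    have hz' : f'.base (k'.base z) = (⟨y, hy⟩ : U) := (Scheme.Hom.comp_apply _ _ _).symm.trans hz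
    have h1 : (Scheme.Opens.ι W).base (k'.base z) = y := by
      rw [← hf', Scheme.Hom.comp_apply, hz']; rfl
    exact h1 ▸ (k'.base z).2
  · refine mem_smallEtaleTopology_of_points _ _ fun z => ?_
    let z' : (U : Scheme.{u}) := z
    obtain ⟨W, f, hf, hzW⟩ := ((Opens.mem_grothendieckTopology X).1 h) ((Scheme.Opens.ι U).base z') z'.2
    refine ⟨_, (EtZar.zarToEt X).map f, (⟨_, hzW⟩ : W), Sieve.image_mem_functorPushforward _ _ hf, ?_⟩
    let f' : (W : Scheme.{u}) ⟶ U := ((EtZar.zarToEt X).map f).left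
    have hf' : f' ≫ (Scheme.Opens.ι U) = (Scheme.Opens.ι W) := Over.w ((EtZar.zarToEt X).map f).toCommaMorphism
    refine (Scheme.Opens.ι U).isOpenEmbedding.injective ?_
    exact (Scheme.Hom.comp_apply _ _ _).symm.trans (congrArg (fun m : (W : Scheme.{u}) ⟶ X => m.base (⟨_, hzW⟩ : W)) hf')

include hX in
theorem nonempty_equiv [EtZar.ZarCont X] (F : EtCoh.Ab X) (i : ℕ) :
    Nonempty (EtCoh.H X F i ≃+ EtZar.H ((EtZar.resZar X).obj F) i) := by
  have := isDenseSubsite hX
  let E := EtZar.resZar X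
  have : E.IsEquivalence := inferInstance
  have : E.PreservesInjectiveObjects := ⟨fun {I} hI => (E.asEquivalence.map_injective_iff I).2 hI⟩
  have : PreservesFiniteLimits E := inferInstance
  have : E.Additive := Functor.additive_of_preserves_binary_products E
  have : PreservesFiniteColimits E := inferInstance
  let A := AddCommGrpCat.of (ULift.{u + 1} ℤ)
  let cEt := (constantSheaf X.smallEtaleTopology AddCommGrpCat.{u + 1}).obj A
  let Γe := (sheafSections X.smallEtaleTopology AddCommGrpCat.{u + 1}).obj (op (EtCoh.top X))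
  let Γz := (sheafSections (Opens.grothendieckTopology X) AddCommGrpCat.{u + 1}).obj (op (⊤ : X.Opens))
  let eT : (EtZar.zarToEt X).obj ⊤ ≅ EtCoh.top X :=
    MorphismProperty.Over.isoMk X.topIso (by simp [EtZar.zarToEt]; rfl)
  let η : E ⋙ Γz ≅ Γe := NatIso.ofComponents (fun G => G.obj.mapIso eT.symm.op) fun k => (k.hom.naturality eT.inv.op).symm
  let adjE : constantSheaf X.smallEtaleTopology AddCommGrpCat.{u + 1} ⊣ Γe := constantSheafAdj _ _ (topTerminal X)
  let adjZ : constantSheaf (Opens.grothendieckTopology X) AddCommGrpCat.{u + 1} ⊣ Γz :=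
    constantSheafAdj _ _ isTerminalTop
  let adj' : constantSheaf (Opens.grothendieckTopology X) AddCommGrpCat.{u + 1} ⋙ E.inv ⊣ Γe :=
    (adjZ.comp E.asEquivalence.symm.toAdjunction).ofNatIsoRight η
  let c : E.obj cEt ≅ (constantSheaf (Opens.grothendieckTopology X) AddCommGrpCat.{u + 1}).obj A :=
    E.mapIso ((adjE.leftAdjointUniq adj').app A) ≪≫ E.asEquivalence.counitIso.app _
  have h1 : Function.Bijective (fun x : EtCoh.H X F i => E.mapExtAddHom _ _ i x) :=
    E.mapExt_bijective_of_preservesInjectiveObjects _ _ i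
  let φ : EtCoh.H X F i →+ EtZar.H (E.obj F) i :=
    ((Ext.mk₀ c.inv).precomp (E.obj F) (zero_add i)).comp (E.mapExtAddHom _ _ i)
  refine ⟨AddEquiv.ofBijective φ (Function.Bijective.comp (g := fun x => (Ext.mk₀ c.inv).comp x (zero_add i)) ?_ h1)⟩
  refine Function.bijective_iff_has_inverse.2
    ⟨fun x => (Ext.mk₀ c.hom).comp x (zero_add i), fun x => ?_, fun x => ?_⟩
  · simp
  · simp

end Groth.Agent.EtSite.ZariskiEquiv
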